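import Cfsg.Agent.GW66.Defs
import Cfsg.Agent.Lib.CharCore.Complete
import Cfsg.Agent.Lib.CharCore.Virtual
import Cfsg.Agent.Lib.CharCore.Linear
import Cfsg.Agent.Lib.CharInd.Basic
import Cfsg.Agent.Lib.CharInd.Char

/-!
# The induced class functions of the twisted section `u K`
-/

set_option autoImplicit false

namespace Cfsg.Agent.GW66

open Subgroup
open scoped ComplexConjugate

universe v

variable {G : Type v} [Group G] [Fintype G]

/-- `u` is an involution centralising the group `K` of odd order. -/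
structure Sect (u : G) (K : Subgroup G) : Prop where
  two : orderOf u = 2
  comm : ∀ k ∈ K, Commute u k
  odd : Odd (Nat.card K)

/-- A linear character on `K`. -/
structure IsLinOn (K : Subgroup G) (μ : G → ℂ) : Prop where
  one : μ 1 = 1
  mul : ∀ x ∈ K, ∀ y ∈ K, μ (x * y) = μ x * μ y

/-- `μ (u⁻¹ h)` on the coset `u K`. -/
noncomputable def cosetFun (u : G) (K : Subgroup G) (μ : G → ℂ) : G → ℂ :=
  Set.indicator {h : G | u⁻¹ * h ∈ K} fun h => μ (u⁻¹ * h)

/-- The class function spread from `cosetFun`. -/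
noncomputable def sectFun (u : G) (K : Subgroup G) (μ : G → ℂ) : G → ℂ :=
  fun g => (Nat.card K : ℂ)⁻¹ * ∑ x : G, cosetFun u K μ (x⁻¹ * g * x)

/-- `|K|⁻¹ ∑ χ(u k) conj μ(k)`. -/
noncomputable def delta (u : G) (K : Subgroup G) (μ χ : G → ℂ) : ℂ :=
  (Nat.card K : ℂ)⁻¹ * ∑ᶠ k : K, χ (u * k) * conj (μ k)

variable {u : G} {K : Subgroup G} {μ ν : G → ℂ}

omit [Fintype G] in
theorem cosetFun_mul {k : G} (hk : k ∈ K) : cosetFun u K μ (u * k) = μ k := by
  rw [cosetFun, Set.indicator_of_mem (by simpa using hk), inv_mul_cancel_left]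

omit [Fintype G] in
theorem cosetFun_notMem {h : G} (hh : u⁻¹ * h ∉ K) : cosetFun u K μ h = 0 :=
  Set.indicator_of_notMem (by simpa using hh) _

theorem sum_cosetFun (F : G → ℂ) :
    ∑ h, F h * conj (cosetFun u K μ h) = ∑ᶠ k : K, F (u * k) * conj (μ k) := by
  classical
  rw [finsum_eq_sum_of_fintype]
  rw [← Finset.sum_subset (Finset.subset_univ (Finset.univ.filter fun h : G => u⁻¹ * h ∈ K))
    (fun h _ hh => by rw [cosetFun_notMem (by simpa using hh), map_zero, mul_zero])]
  symm
  refine Finset.sum_bij (fun (k : K) _ => u * (k : G))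
    (fun k _ => by simp [k.2]) (fun a _ b _ h => Subtype.ext (mul_left_cancel h))
    (fun h hh => ⟨⟨u⁻¹ * h, by simpa using hh⟩, Finset.mem_univ _, by simp⟩)
    (fun k _ => by rw [cosetFun_mul k.2])

theorem isClassFunction_sectFun : Cfsg.IsClassFunction G (sectFun u K μ) := by
  intro g h
  simp only [sectFun]
  congr 1
  exact Fintype.sum_equiv (Equiv.mulLeft h⁻¹) _ _ fun x => by
    simp only [Equiv.coe_mulLeft, mul_inv_rev, inv_inv, mul_assoc]

theorem classInner_sectFun {F : G → ℂ} (hF : Cfsg.IsClassFunction G F) :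
    Cfsg.classInner F (sectFun u K μ) = delta u K μ F := by
  have hN : (Nat.card G : ℂ) ≠ 0 := Nat.cast_ne_zero.mpr Nat.card_pos.ne'
  have hx : ∀ x : G, ∑ g, F g * conj (cosetFun u K μ (x⁻¹ * g * x)) =
      ∑ᶠ k : K, F (u * k) * conj (μ k) := by
    intro x
    rw [← sum_cosetFun F]
    refine Fintype.sum_equiv (MulAut.conj x⁻¹).toEquiv _ _ fun g => ?_
    simp only [MulEquiv.toEquiv_eq_coe, EquivLike.coe_coe, MulAut.conj_apply, inv_inv]
    have := hF g x⁻¹
    rw [inv_inv] at this
    rw [this]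
  rw [CharCore.classInner_def, delta]
  simp only [sectFun, map_mul, map_inv₀, Complex.conj_natCast, map_sum, Finset.mul_sum]
  rw [Finset.sum_comm]
  have : ∀ x : G, ∑ g, (Nat.card G : ℂ)⁻¹ *
      (F g * ((Nat.card K : ℂ)⁻¹ * conj (cosetFun u K μ (x⁻¹ * g * x)))) =
      (Nat.card G : ℂ)⁻¹ * ((Nat.card K : ℂ)⁻¹ * ∑ᶠ k : K, F (u * k) * conj (μ k)) := by
    intro x
    rw [← hx x, Finset.mul_sum, Finset.mul_sum]
    exact Finset.sum_congr rfl fun g _ => by ring
  rw [Finset.sum_congr rfl fun x _ => this x, Finset.sum_const, nsmul_eq_mul, Finset.card_univ,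
    ← Nat.card_eq_fintype_card, mul_inv_cancel_left₀ hN]

omit [Fintype G] in
theorem Sect.pow_card (h : Sect u K) {k : G} (hk : k ∈ K) : (u * k) ^ Nat.card K = u := by
  rw [(h.comm k hk).mul_pow, orderOf_dvd_iff_pow_eq_one.mp (Subgroup.orderOf_dvd_natCard K hk), mul_one]
  obtain ⟨n, hn⟩ := h.odd
  rw [hn, pow_succ, pow_mul, ← h.two, pow_orderOf_eq_one, one_pow, one_mul]

omit [Fintype G] in
theorem Sect.mem_cent (h : Sect u K) {k k' x : G} (hk : k ∈ K) (hk' : k' ∈ K)
    (he : x⁻¹ * (u * k) * x = u * k') : x ∈ centralizer ({u} : Set G) := by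
  have := congrArg (· ^ Nat.card K) he
  rw [show x⁻¹ * (u * k) * x = x⁻¹ * (u * k) * x⁻¹⁻¹ by rw [inv_inv], conj_pow, inv_inv,
    h.pow_card hk, h.pow_card hk'] at this
  rw [mem_centralizer_singleton_iff]
  calc x * u = x * (x⁻¹ * u * x) := by rw [this]
    _ = u * x := by group

omit [Fintype G] in
/-- The spread function vanishes off the section. -/
theorem sectFun_eq_zero [Fintype G] (h : Sect u K) {g : G}
    (hg : ¬ IsConj u (g ^ Nat.card K)) : sectFun u K μ g = 0 := by
  rw [sectFun, Finset.sum_eq_zero fun x _ => cosetFun_notMem fun hx => hg ?_, mul_zero]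
  have := h.pow_card hx
  rw [mul_inv_cancel_left, show x⁻¹ * g * x = x⁻¹ * g * x⁻¹⁻¹ by rw [inv_inv], conj_pow,
    inv_inv] at this
  exact isConj_iff.mpr ⟨x, by rw [← this]; group⟩

theorem sectFun_eq_zero_of_odd (h : Sect u K) {g : G} (hg : Odd (orderOf g)) :
    sectFun u K μ g = 0 := by
  refine sectFun_eq_zero h fun hc => ?_
  have h2 : orderOf (g ^ Nat.card K) = 2 := by
    obtain ⟨c, hc⟩ := isConj_iff.mp hc
    rw [← hc, ← h.two]
    exact (MulEquiv.orderOf_eq (MulAut.conj c) u)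
  have := orderOf_pow_dvd (x := g) (Nat.card K)
  rw [h2] at this
  exact Nat.not_even_iff_odd.mpr hg (even_iff_two_dvd.mpr this)

/-- The value on the section. -/
theorem sectFun_mul (h : Sect u K) (hN : centralizer ({u} : Set G) ≤ normalizer (K : Set G))
    (hinv : ∀ c ∈ centralizer ({u} : Set G), ∀ k ∈ K, μ (c * k * c⁻¹) = μ k) {k : G} (hk : k ∈ K) :
    sectFun u K μ (u * k) =
      (Nat.card K : ℂ)⁻¹ * ((Nat.card (centralizer ({u} : Set G)) : ℂ) * μ k) := by
  classical
  rw [sectFun]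
  congr 1
  have key : ∀ x : G, cosetFun u K μ (x⁻¹ * (u * k) * x) =
      if x ∈ centralizer ({u} : Set G) then μ k else 0 := by
    intro x
    split_ifs with hx
    · have hxi := inv_mem hx
      have hk' : x⁻¹ * k * x ∈ K := by
        have := (mem_normalizer_iff.mp (hN hxi) k).mp hk
        rwa [inv_inv] at this
      have he : x⁻¹ * (u * k) * x = u * (x⁻¹ * k * x) := by
        have := mem_centralizer_singleton_iff.mp hxi
        calc x⁻¹ * (u * k) * x = x⁻¹ * u * k * x := by group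
          _ = _ := by rw [this]; group
      rw [he, cosetFun_mul hk']
      have := hinv x⁻¹ hxi k hk
      rwa [inv_inv] at this
    · refine cosetFun_notMem fun hm => hx ?_
      exact h.mem_cent hk hm (mul_inv_cancel_left u _).symm
  rw [Finset.sum_congr rfl fun x _ => key x, ← Finset.sum_filter, Finset.sum_const, nsmul_eq_mul,
    Nat.card_eq_fintype_card, Fintype.card_subtype]

/-- The norm relations, for `|C(u)| = 4 |K|`. -/
theorem classInner_sectFun_sectFun (h : Sect u K)
    (hN : centralizer ({u} : Set G) ≤ normalizer (K : Set G))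
    (hC : Nat.card (centralizer ({u} : Set G)) = 4 * Nat.card K)
    (hinv : ∀ c ∈ centralizer ({u} : Set G), ∀ k ∈ K, μ (c * k * c⁻¹) = μ k) :
    Cfsg.classInner (sectFun u K μ) (sectFun u K ν) =
      4 * ((Nat.card K : ℂ)⁻¹ * ∑ᶠ k : K, μ k * conj (ν k)) := by
  classical
  have hK : (Nat.card K : ℂ) ≠ 0 := Nat.cast_ne_zero.mpr Nat.card_pos.ne'
  rw [classInner_sectFun isClassFunction_sectFun, delta, finsum_eq_sum_of_fintype,
    finsum_eq_sum_of_fintype, Finset.mul_sum, Finset.mul_sum, Finset.mul_sum]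
  refine Finset.sum_congr rfl fun k _ => ?_
  rw [sectFun_mul h hN hinv k.2, hC]
  push_cast
  field_simp

omit [Fintype G] in
theorem IsLinOn.map_inv (hμ : IsLinOn K μ) {x : G} (hx : x ∈ K) : μ x⁻¹ = (μ x)⁻¹ := by
  have := hμ.mul x hx x⁻¹ (inv_mem hx)
  rw [mul_inv_cancel, hμ.one] at this
  exact eq_inv_of_mul_eq_one_right this.symm

/-- The homomorphism given by a linear character on `K`. -/
noncomputable def IsLinOn.hom (hμ : IsLinOn K μ) : K →* ℂˣ :=
  MonoidHom.toHomUnits
    { toFun := fun k => μ k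
      map_one' := hμ.one
      map_mul' := fun x y => hμ.mul x x.2 y y.2 }

omit [Fintype G] in
theorem IsLinOn.hom_apply (hμ : IsLinOn K μ) (k : K) : ((hμ.hom k : ℂˣ) : ℂ) = μ k := rfl

theorem IsLinOn.sum_mul_conj (hμ : IsLinOn K μ) (hν : IsLinOn K ν) :
    (Nat.card K : ℂ)⁻¹ * ∑ᶠ k : K, μ k * conj (ν k) =
      open scoped Classical in if ∀ k ∈ K, μ k = ν k then 1 else 0 := by
  classical
  let α : Cfsg.IrrCharacter K := ⟨_, CharCore.isIrrCharacter_hom hμ.hom⟩
  let β : Cfsg.IrrCharacter K := ⟨_, CharCore.isIrrCharacter_hom hν.hom⟩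
  have h := CharCore.classInner_irr α β
  rw [CharCore.classInner_def] at h
  simp only [α, β, IsLinOn.hom_apply] at h
  rw [finsum_eq_sum_of_fintype, h]
  refine if_congr ⟨fun he k hk => ?_, fun he => ?_⟩ rfl rfl
  · exact congrFun (congrArg Subtype.val he) ⟨k, hk⟩
  · exact Subtype.ext (funext fun k => he k k.2)

omit [Fintype G] in
theorem Sect.sq (h : Sect u K) : u * u = 1 := by
  rw [← pow_two, ← h.two, pow_orderOf_eq_one]

omit [Fintype G] in
theorem Sect.notMem (h : Sect u K) : u ∉ K := fun hu => by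
  have := Subgroup.orderOf_dvd_natCard K hu
  rw [h.two] at this
  exact Nat.not_even_iff_odd.mpr h.odd (even_iff_two_dvd.mpr this)

/-- `K × ⟨u⟩`. -/
def Sect.sub (h : Sect u K) : Subgroup G where
  carrier := {x | x ∈ K ∨ u⁻¹ * x ∈ K}
  one_mem' := Or.inl K.one_mem
  mul_mem' := by
    rintro x y (hx | hx) (hy | hy)
    · exact Or.inl (mul_mem hx hy)
    · refine Or.inr ?_
      have := mul_mem hx hy
      rwa [← mul_assoc, ← ((h.comm x hx).inv_left).eq, mul_assoc] at this
    · refine Or.inr ?_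
      have := mul_mem hx hy
      rwa [mul_assoc] at this
    · refine Or.inl ?_
      have := mul_mem hx hy
      rwa [← mul_assoc, ← ((h.comm _ hx).inv_left).eq, ← mul_assoc u⁻¹ u⁻¹ x, ← mul_inv_rev, h.sq,
        inv_one, one_mul] at this
  inv_mem' := by
    rintro x (hx | hx)
    · exact Or.inl (inv_mem hx)
    · refine Or.inr ?_
      have hc := (h.comm _ (inv_mem hx)).eq
      rw [mul_inv_rev, inv_inv] at hc
      have e : u⁻¹ * x⁻¹ = (u⁻¹ * x)⁻¹ := by
        rw [mul_inv_rev, inv_inv, inv_eq_of_mul_eq_one_right h.sq]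
        calc u * x⁻¹ = u * (x⁻¹ * u) * u⁻¹ := by group
          _ = x⁻¹ * u := by rw [hc]; group
      rw [e]
      exact inv_mem hx

omit [Fintype G] in
theorem Sect.mem_sub (h : Sect u K) {x : G} : x ∈ h.sub ↔ x ∈ K ∨ u⁻¹ * x ∈ K := Iff.rfl

theorem Sect.card_sub (h : Sect u K) : Nat.card h.sub = 2 * Nat.card K := by
  classical
  have : (h.sub : Set G) = (K : Set G) ∪ (fun k => u * k) '' (K : Set G) := by
    ext x
    simp only [SetLike.mem_coe, h.mem_sub, Set.mem_union, Set.mem_image]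
    exact or_congr Iff.rfl ⟨fun hx => ⟨_, hx, mul_inv_cancel_left _ _⟩,
      fun ⟨k, hk, he⟩ => by rw [← he, inv_mul_cancel_left]; exact hk⟩
  have hd : Disjoint (K : Set G) ((fun k => u * k) '' (K : Set G)) := by
    rw [Set.disjoint_left]
    rintro x hx ⟨k, hk, rfl⟩
    exact h.notMem ((Subgroup.mul_mem_cancel_right K hk).mp hx)
  change Nat.card ↥(h.sub : Set G) = _
  rw [this, Nat.card_coe_set_eq, Set.ncard_union_eq hd (Set.toFinite _) (Set.toFinite _),
    Set.ncard_image_of_injective _ (mul_right_injective u), ← Nat.card_coe_set_eq]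
  exact (two_mul _).symm

omit [Fintype G] in
theorem Sect.mul_mem_iff (h : Sect u K) {x y : G} (hx : x ∈ K) : x * (u * y) = u * (x * y) := by
  rw [← mul_assoc, ← (h.comm x hx).eq, mul_assoc]

/-- The extension of `μ` to `K × ⟨u⟩` trivial on `u`. -/
noncomputable def Sect.lift (h : Sect u K) (hμ : IsLinOn K μ) : h.sub →* ℂˣ :=
  open scoped Classical in
  MonoidHom.toHomUnits
    { toFun := fun x => if (x : G) ∈ K then μ x else μ (u⁻¹ * x)
      map_one' := by simp [hμ.one]
      map_mul' := by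
        rintro ⟨x, hx⟩ ⟨y, hy⟩
        have hn : ∀ {z : G}, u⁻¹ * z ∈ K → z ∉ K := fun {z} hz hzK =>
          h.notMem (by simpa using mul_mem hzK (inv_mem hz))
        rcases hx with hx | hx <;> rcases hy with hy | hy
        · simp only [Subgroup.coe_mul, if_pos hx, if_pos hy, if_pos (mul_mem hx hy)]
          exact hμ.mul x hx y hy
        · have e : u⁻¹ * (x * y) = x * (u⁻¹ * y) := by
            rw [← mul_assoc, ((h.comm x hx).inv_left).eq, mul_assoc]
          simp only [Subgroup.coe_mul, if_pos hx, if_neg (hn hy),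
            if_neg (hn (show u⁻¹ * (x * y) ∈ K by rw [e]; exact mul_mem hx hy)), e]
          exact hμ.mul x hx _ hy
        · have e : u⁻¹ * (x * y) = (u⁻¹ * x) * y := (mul_assoc _ _ _).symm
          simp only [Subgroup.coe_mul, if_neg (hn hx), if_pos hy,
            if_neg (hn (show u⁻¹ * (x * y) ∈ K by rw [e]; exact mul_mem hx hy)), e]
          exact hμ.mul _ hx y hy
        · have e : x * y = (u⁻¹ * x) * (u⁻¹ * y) := by
            have hc := ((h.comm _ hx).inv_left).eq
            rw [← mul_assoc, ← hc]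
            simp only [← mul_assoc, ← mul_inv_rev, h.sq, inv_one, one_mul]
          simp only [Subgroup.coe_mul, if_neg (hn hx), if_neg (hn hy),
            if_pos (show x * y ∈ K by rw [e]; exact mul_mem hx hy)]
          rw [e]
          exact hμ.mul _ hx _ hy }

theorem sectFun_eq_ind (h : Sect u K) (hμ : IsLinOn K μ) :
    sectFun u K μ = (Cfsg.indFun h.sub fun x => ((h.lift hμ x : ℂˣ) : ℂ)) +
      (Cfsg.indFun h.sub fun x => ((h.lift hμ x : ℂˣ) : ℂ)) -
      Cfsg.indFun K fun k => ((hμ.hom k : ℂˣ) : ℂ) := by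
  classical
  funext g
  have hK : (Nat.card K : ℂ) ≠ 0 := Nat.cast_ne_zero.mpr Nat.card_pos.ne'
  simp only [Pi.add_apply, Pi.sub_apply, CharInd.indFun_apply, h.card_sub, sectFun]
  push_cast
  rw [← add_mul, show (2 * (Nat.card K : ℂ))⁻¹ + (2 * (Nat.card K : ℂ))⁻¹ = (Nat.card K : ℂ)⁻¹ by
    field_simp; ring, ← mul_sub, ← Finset.sum_sub_distrib]
  congr 1
  refine Finset.sum_congr rfl fun x _ => ?_
  generalize x⁻¹ * g * x = z
  by_cases hz : z ∈ K
  · have h1 : u⁻¹ * z ∉ K := fun h' => h.notMem (by simpa using mul_mem hz (inv_mem h'))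
    rw [cosetFun_notMem h1, CharInd.extendByZero_mem _ (h.mem_sub.mpr (Or.inl hz)),
      CharInd.extendByZero_mem _ hz]
    simp [Sect.lift, IsLinOn.hom, hz]
  · rw [CharInd.extendByZero_notMem _ hz, sub_zero]
    by_cases h1 : u⁻¹ * z ∈ K
    · rw [CharInd.extendByZero_mem _ (h.mem_sub.mpr (Or.inr h1))]
      conv_lhs => rw [← mul_inv_cancel_left u z, cosetFun_mul h1]
      simp [Sect.lift, hz]
    · rw [cosetFun_notMem h1, CharInd.extendByZero_notMem _ fun h2 => (h.mem_sub.mp h2).elim hz h1]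

theorem isGeneralized_sectFun (h : Sect u K) (hμ : IsLinOn K μ) :
    Cfsg.IsGeneralizedCharacter G (sectFun u K μ) := by
  rw [sectFun_eq_ind h hμ]
  have hA := CharCore.IsCharacter.isGeneralized (CharInd.isCharacter_indFun h.sub
    (CharCore.IsIrrCharacter.isCharacter (CharCore.isIrrCharacter_hom (h.lift hμ))))
  exact CharCore.isGeneralized_sub (CharCore.isGeneralized_add hA hA)
    (CharCore.IsCharacter.isGeneralized (CharInd.isCharacter_indFun K
      (CharCore.IsIrrCharacter.isCharacter (CharCore.isIrrCharacter_hom hμ.hom))))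

/-- The multiplicities are integers. -/
theorem exists_delta_eq_intCast (h : Sect u K) (hμ : IsLinOn K μ) (χ : Cfsg.IrrCharacter G) :
    ∃ z : ℤ, delta u K μ (χ : G → ℂ) = z := by
  rw [← classInner_sectFun (CharCore.irr_isClassFunction χ)]
  exact CharCore.IsGeneralizedCharacter.exists_classInner_eq_intCast
    (CharCore.irr_isGeneralized χ) (isGeneralized_sectFun h hμ)

/-- The expansion of the spread function. -/
theorem sum_delta_mul (h : Sect u K) (hμ : IsLinOn K μ) (g : G) :
    ∑ χ : Cfsg.IrrCharacter G, delta u K μ (χ : G → ℂ) * (χ : G → ℂ) g = sectFun u K μ g := by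
  conv_rhs => rw [CharCore.eq_sum_classInner (isClassFunction_sectFun (u := u) (K := K) (μ := μ)),
    Finset.sum_apply]
  refine Finset.sum_congr rfl fun χ _ => ?_
  obtain ⟨z, hz⟩ := exists_delta_eq_intCast h hμ χ
  rw [Pi.smul_apply, smul_eq_mul, ← CharCore.conj_classInner (χ : G → ℂ) (sectFun u K μ),
    classInner_sectFun (CharCore.irr_isClassFunction χ), hz, map_intCast]

/-- The degree relation. -/
theorem sum_delta_mul_eq_zero (h : Sect u K) (hμ : IsLinOn K μ) {g : G} (hg : Odd (orderOf g)) :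
    ∑ χ : Cfsg.IrrCharacter G, delta u K μ (χ : G → ℂ) * (χ : G → ℂ) g = 0 := by
  rw [sum_delta_mul h hμ, sectFun_eq_zero_of_odd h hg]

/-- Orthogonality of the multiplicities. -/
theorem sum_delta_mul_delta (h : Sect u K) (hμ : IsLinOn K μ) (hν : IsLinOn K ν)
    (hN : centralizer ({u} : Set G) ≤ normalizer (K : Set G))
    (hC : Nat.card (centralizer ({u} : Set G)) = 4 * Nat.card K)
    (hinv : ∀ c ∈ centralizer ({u} : Set G), ∀ k ∈ K, μ (c * k * c⁻¹) = μ k) :
    ∑ χ : Cfsg.IrrCharacter G, delta u K μ (χ : G → ℂ) * delta u K ν (χ : G → ℂ) =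
      open scoped Classical in if ∀ k ∈ K, μ k = ν k then 4 else 0 := by
  classical
  have h1 := classInner_sectFun_sectFun (ν := ν) h hN hC hinv
  rw [hμ.sum_mul_conj hν, CharCore.classInner_eq_sum isClassFunction_sectFun
    isClassFunction_sectFun] at h1
  rw [show (if ∀ k ∈ K, μ k = ν k then (4 : ℂ) else 0) =
    4 * if ∀ k ∈ K, μ k = ν k then 1 else 0 by split_ifs <;> norm_num, ← h1]
  refine Finset.sum_congr rfl fun χ _ => ?_
  obtain ⟨z, hz⟩ := exists_delta_eq_intCast h hμ χ
  rw [← CharCore.conj_classInner (χ : G → ℂ) (sectFun u K μ),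
    ← CharCore.conj_classInner (χ : G → ℂ) (sectFun u K ν),
    classInner_sectFun (CharCore.irr_isClassFunction χ),
    classInner_sectFun (CharCore.irr_isClassFunction χ), starRingEnd_self_apply, hz, map_intCast]

end Cfsg.Agent.GW66
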