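import Cfsg.Agent.GW66.Basic
import Cfsg.Agent.GW66.Phi
import Cfsg.Agent.Lib.BlocksCore.WeakOrth

/-!
# The class sum formula of the twisted section
-/

set_option autoImplicit false

namespace Cfsg.Agent.GW66

open Subgroup
open scoped ComplexConjugate

universe v

variable {G : Type v} [Group G] [Fintype G] {V : Subgroup G} {a b : G} {μ : G → ℂ}

section Basic

variable (hV : IsKleinFour V) (hodd : Odd V.index)

include hV hodd

omit [Fintype G] in
theorem sect_coreK [Finite G] (ha : a ∈ V) (h1 : a ≠ 1) : Sect a (coreK a) :=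
  ⟨klein_orderOf hV ha h1, fun _ hk => (mem_centralizer_singleton_iff.mp (coreO_le _ hk)).symm,
    odd_card_coreK a⟩

omit [Fintype G] in
theorem eq_one_of_mem_coreK [Finite G] {v : G} (hv : v ∈ V) (hk : v ∈ coreK a) : v = 1 := by
  by_contra h
  have := orderOf_dvd_natCard _ hk
  rw [klein_orderOf hV hv h] at this
  exact Nat.not_even_iff_odd.mpr (odd_card_coreK a) (even_iff_two_dvd.mpr this)

omit [Fintype G] in
theorem card_cent [Finite G] (ha : a ∈ V) (h1 : a ≠ 1) :
    Nat.card (centralizer ({a} : Set G)) = 4 * Nat.card (coreK a) := by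
  let f : ↥(coreK a) × ↥V → ↥(centralizer ({a} : Set G)) := fun p =>
    ⟨(p.1 : G) * p.2, mul_mem (coreO_le _ p.1.2) (le_centralizer_of_mem hV ha p.2.2)⟩
  have hinj : Function.Injective f := by
    rintro ⟨k, x⟩ ⟨k', x'⟩ h
    have h' : (k : G) * x = k' * x' := congrArg Subtype.val h
    have h2 : (x : G) * (x' : G)⁻¹ = (k : G)⁻¹ * k' := by
      calc (x : G) * (x' : G)⁻¹ = (k : G)⁻¹ * (k * x) * (x' : G)⁻¹ := by group
        _ = (k : G)⁻¹ * k' := by rw [h']; group
    have h3 := eq_one_of_mem_coreK hV hodd (a := a) (mul_mem x.2 (inv_mem x'.2))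
      (by rw [h2]; exact mul_mem (inv_mem k.2) k'.2)
    have hx : (x : G) = x' := mul_inv_eq_one.mp h3
    rw [hx] at h'
    exact Prod.ext (Subtype.ext (mul_right_cancel h')) (Subtype.ext hx)
  have hsurj : Function.Surjective f := fun x => by
    obtain ⟨k, hk, w, hw, he⟩ := centralizer_decomp hV hodd ha h1
      (mem_centralizer_singleton_iff.mp x.2)
    exact ⟨⟨⟨k, hk⟩, ⟨w, hw⟩⟩, Subtype.ext he.symm⟩
  rw [← Nat.card_congr (Equiv.ofBijective f ⟨hinj, hsurj⟩), Nat.card_prod, hV.card_four, mul_comm]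

omit [Fintype G] in
theorem centralizer_le_normalizer_coreK [Finite G] (a : G) :
    centralizer ({a} : Set G) ≤ normalizer (coreK a : Set G) := le_normalizer_coreO _

omit [Fintype G] in
/-- A linear character fixed by `b` is fixed by the whole centraliser. -/
theorem lin_invariant [Finite G] (hp : Pair V a b) (hμ : IsLinOn (coreK a) μ)
    (hb : ∀ k ∈ coreK a, μ (b * k * b⁻¹) = μ k) :
    ∀ c ∈ centralizer ({a} : Set G), ∀ k ∈ coreK a, μ (c * k * c⁻¹) = μ k := by
  intro c hc k hk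
  obtain ⟨l, hl, w, hw, rfl⟩ := centralizer_decomp hV hodd hp.ha hp.a1
    (mem_centralizer_singleton_iff.mp hc)
  have hcomm : a * k = k * a := (mem_centralizer_singleton_iff.mp (coreO_le _ hk)).symm
  have hwk : w * k * w⁻¹ ∈ coreK a :=
    (mem_normalizer_iff.mp (le_normalizer_coreK hV hp.ha hw) k).mp hk
  have hwμ : μ (w * k * w⁻¹) = μ k := by
    have hak : a * k * a⁻¹ = k := by rw [hcomm, mul_inv_cancel_right]
    have hbk : b * k * b⁻¹ ∈ coreK a :=
      (mem_normalizer_iff.mp (le_normalizer_coreK hV hp.ha hp.hb) k).mp hk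
    have hbk' : a * (b * k * b⁻¹) = b * k * b⁻¹ * a :=
      (mem_centralizer_singleton_iff.mp (coreO_le _ hbk)).symm
    rcases klein_cases hV hp hw with rfl | rfl | rfl | rfl
    · simp
    · rw [hak]
    · exact hb k hk
    · rw [show a * b * k * (a * b)⁻¹ = a * (b * k * b⁻¹) * a⁻¹ by group, hbk',
        mul_inv_cancel_right]
      exact hb k hk
  rw [show l * w * k * (l * w)⁻¹ = l * (w * k * w⁻¹) * l⁻¹ by group,
    hμ.mul _ (mul_mem hl hwk) _ (inv_mem hl), hμ.mul _ hl _ hwk, hμ.map_inv hl, hwμ]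
  have hne : μ l ≠ 0 := by
    intro h0
    have := hμ.mul l hl l⁻¹ (inv_mem hl)
    rw [mul_inv_cancel, hμ.one, h0, zero_mul] at this
    exact one_ne_zero this
  field_simp

omit [Fintype G] in
theorem exists_conj_eq_mul [Finite G] {k : G} (hk : k ∈ coreK a) (hb : b ∈ V)
    (hs : k * b * (k * b) = 1) : ∃ h ∈ coreK a, h * b * h⁻¹ = k * b := by
  obtain ⟨j, hj⟩ : Odd (orderOf k) := (odd_card_coreK a).of_dvd_nat (orderOf_dvd_natCard _ hk)
  have hsq : (k ^ (j + 1)) ^ 2 = k := by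
    rw [← pow_mul, show (j + 1) * 2 = orderOf k + 1 by omega, pow_succ, pow_orderOf_eq_one, one_mul]
  have hinv : b * k * b⁻¹ = k⁻¹ := by
    rw [klein_inv hV hb]
    exact eq_inv_of_mul_eq_one_right (by rw [← hs]; group)
  refine ⟨k ^ (j + 1), pow_mem hk _, ?_⟩
  have h2 : b * (k ^ (j + 1))⁻¹ = k ^ (j + 1) * b := by
    rw [← inv_pow, show b * k⁻¹ ^ (j + 1) = (b * k⁻¹ ^ (j + 1) * b⁻¹) * b by group, ← conj_pow,
      show b * k⁻¹ * b⁻¹ = (b * k * b⁻¹)⁻¹ by group, hinv, inv_inv]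
  rw [mul_assoc, h2, ← mul_assoc, ← pow_two, hsq]

omit [Fintype G] in
/-- The product of an element of the classes of `b` and of `a * b`. -/
theorem conj_mul_conj [Finite G] (hp : Pair V a b) (hμ : IsLinOn (coreK a) μ)
    (hb : ∀ k ∈ coreK a, μ (b * k * b⁻¹) = μ k) {d e : G} (hde : d * e = a)
    (hd : d = b ∨ d = a * b) (he : e = b ∨ e = a * b) {u w : G} (hu : u ∈ coreK a)
    (hw : w ∈ coreK a) :
    cosetFun a (coreK a) μ (u * d * u⁻¹ * (w * e * w⁻¹)) = 1 := by
  have hdV : d ∈ V := by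
    rcases hd with rfl | rfl
    exacts [hp.hb, mul_mem hp.ha hp.hb]
  have heV : e ∈ V := by
    rcases he with rfl | rfl
    exacts [hp.hb, mul_mem hp.ha hp.hb]
  have hinv := lin_invariant hV hodd hp hμ hb
  have hN := le_normalizer_coreK hV hp.ha
  have hC := le_centralizer_of_mem hV hp.ha
  set k₁ := u * (d * u⁻¹ * d⁻¹) with hk₁
  set k₂ := w * (e * w⁻¹ * e⁻¹) with hk₂
  have hm₁ : d * u⁻¹ * d⁻¹ ∈ coreK a := (mem_normalizer_iff.mp (hN hdV) _).mp (inv_mem hu)
  have hm₂ : e * w⁻¹ * e⁻¹ ∈ coreK a := (mem_normalizer_iff.mp (hN heV) _).mp (inv_mem hw)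
  have hK₁ : k₁ ∈ coreK a := mul_mem hu hm₁
  have hK₂ : k₂ ∈ coreK a := mul_mem hw hm₂
  have hm : d * k₂ * d⁻¹ ∈ coreK a := (mem_normalizer_iff.mp (hN hdV) _).mp hK₂
  have hμ₁ : μ k₁ = 1 := by
    rw [hk₁, hμ.mul _ hu _ hm₁, hinv d (hC hdV) _ (inv_mem hu), ← hμ.mul _ hu _ (inv_mem hu),
      mul_inv_cancel, hμ.one]
  have hμ₂ : μ k₂ = 1 := by
    rw [hk₂, hμ.mul _ hw _ hm₂, hinv e (hC heV) _ (inv_mem hw), ← hμ.mul _ hw _ (inv_mem hw),
      mul_inv_cancel, hμ.one]
  have hac : k₁ * (d * k₂ * d⁻¹) * a = a * (k₁ * (d * k₂ * d⁻¹)) :=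
    mem_centralizer_singleton_iff.mp (coreO_le _ (mul_mem hK₁ hm))
  have hst : u * d * u⁻¹ * (w * e * w⁻¹) = a * (k₁ * (d * k₂ * d⁻¹)) := by
    calc u * d * u⁻¹ * (w * e * w⁻¹) = k₁ * (d * k₂ * d⁻¹) * (d * e) := by
          rw [hk₁, hk₂]; group
      _ = _ := by rw [hde, hac]
  rw [hst, cosetFun_mul (mul_mem hK₁ hm), hμ.mul _ hK₁ _ hm, hinv d (hC hdV) _ hK₂, hμ₁, hμ₂,
    mul_one]

open scoped Classical in
/-- The conjugates of `d` under `O(C(a))`. -/
noncomputable def classK (a d : G) : Finset G :=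
  (Finset.univ.filter fun u : G => u ∈ coreK a).image fun u => u * d * u⁻¹

omit hV hodd in
theorem mem_classK {d s : G} : s ∈ classK a d ↔ ∃ u ∈ coreK a, u * d * u⁻¹ = s := by
  simp [classK]

theorem card_classK (hp : Pair V a b) : (classK a b).card * Nat.card (coreD V) = Nat.card (coreK a) := by
  classical
  set S := Finset.univ.filter fun u : G => u ∈ coreK a with hS
  have hf : ∀ s ∈ classK a b, (S.filter fun u => u * b * u⁻¹ = s).card = Nat.card (coreD V) := by
    intro s hs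
    obtain ⟨u₀, hu₀, rfl⟩ := mem_classK.mp hs
    rw [Nat.card_eq_fintype_card, Fintype.card_subtype]
    refine Finset.card_equiv (Equiv.mulLeft u₀⁻¹) fun u => ?_
    simp only [hS, Finset.mem_filter, Finset.mem_univ, true_and, Equiv.coe_mulLeft,
      mem_coreD_iff_pair hV hodd hp]
    refine ⟨fun ⟨hu, he⟩ => ⟨mul_mem (inv_mem hu₀) hu, ?_⟩, fun ⟨hu, he⟩ => ⟨?_, ?_⟩⟩
    · calc u₀⁻¹ * u * b = u₀⁻¹ * (u * b * u⁻¹) * u := by group
        _ = b * (u₀⁻¹ * u) := by rw [he]; group
    · simpa using mul_mem hu₀ hu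
    · calc u * b * u⁻¹ = u₀ * (u₀⁻¹ * u * b) * u⁻¹ := by group
        _ = u₀ * b * u₀⁻¹ := by rw [he]; group
  have h := Finset.card_eq_sum_card_image (fun u => u * b * u⁻¹) S
  have himg : classK a b = S.image fun u => u * b * u⁻¹ := by
    ext s; simp [mem_classK, hS]
  rw [← himg, Finset.sum_congr rfl fun s hs => hf s hs, Finset.sum_const, smul_eq_mul] at h
  rw [show Nat.card (coreK a) = S.card by rw [Nat.card_eq_fintype_card, Fintype.card_subtype]]
  exact h.symm

omit [Fintype G] hodd in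
theorem conj_orderOf [Finite G] {d u : G} (hd : d ∈ V) (hd1 : d ≠ 1) :
    orderOf (u * d * u⁻¹) = 2 := by
  rw [← klein_orderOf hV hd hd1]
  exact MulEquiv.orderOf_eq (MulAut.conj u) d

theorem cosetFun_pair [DecidableEq G] (hp : Pair V a b) (hμ : IsLinOn (coreK a) μ)
    (hb : ∀ k ∈ coreK a, μ (b * k * b⁻¹) = μ k) {s t : G} (hs : orderOf s = 2)
    (ht : orderOf t = 2) :
    cosetFun a (coreK a) μ (s * t) =
      (if (s, t) ∈ (classK a b ×ˢ classK a (a * b)) ∪ (classK a (a * b) ×ˢ classK a b) then 1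
        else 0) := by
  have hab : a * b = b * a := klein_comm hV hp.ha hp.hb
  split_ifs with h
  · simp only [Finset.mem_union, Finset.mem_product, mem_classK] at h
    rcases h with ⟨⟨u, hu, rfl⟩, ⟨w, hw, rfl⟩⟩ | ⟨⟨u, hu, rfl⟩, ⟨w, hw, rfl⟩⟩
    · exact conj_mul_conj hV hodd hp hμ hb (by rw [hab, ← mul_assoc, klein_sq hV hp.hb, one_mul])
        (Or.inl rfl) (Or.inr rfl) hu hw
    · exact conj_mul_conj hV hodd hp hμ hb (by rw [mul_assoc, klein_sq hV hp.hb, mul_one])
        (Or.inr rfl) (Or.inl rfl) hu hw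
  · refine cosetFun_notMem fun hk => h ?_
    have hss : s * s = 1 := by rw [← pow_two, ← hs, pow_orderOf_eq_one]
    have htt : t * t = 1 := by rw [← pow_two, ← ht, pow_orderOf_eq_one]
    have hsec := sect_coreK hV hodd hp.ha hp.a1
    have hP : (s * t) ^ Nat.card (coreK a) = a := by
      rw [← mul_inv_cancel_left a (s * t)]
      exact hsec.pow_card hk
    have hsa : s * a = a * s := by
      have h1 : s * (s * t) * s⁻¹ = (s * t)⁻¹ := by
        rw [inv_eq_of_mul_eq_one_right hss, mul_inv_rev, inv_eq_of_mul_eq_one_right hss,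
          inv_eq_of_mul_eq_one_right htt, ← mul_assoc s s t, hss, one_mul]
      have h2 := congrArg (· ^ Nat.card (coreK a)) h1
      simp only [conj_pow, inv_pow, hP, klein_inv hV hp.ha] at h2
      exact mul_inv_eq_iff_eq_mul.mp h2
    have hta : t * a = a * t := by
      have hst : s * t * a = a * (s * t) := by
        rw [← hP]
        exact ((Commute.refl (s * t)).pow_right _).eq
      calc t * a = s * (s * t * a) := by simp only [← mul_assoc, hss, one_mul]
        _ = s * (a * (s * t)) := by rw [hst]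
        _ = a * t := by rw [← mul_assoc, hsa, mul_assoc, ← mul_assoc s s t, hss, one_mul]
    obtain ⟨k₁, hk₁, v₁, hv₁, rfl⟩ := centralizer_decomp hV hodd hp.ha hp.a1 hsa
    obtain ⟨k₂, hk₂, v₂, hv₂, rfl⟩ := centralizer_decomp hV hodd hp.ha hp.a1 hta
    have hN := le_normalizer_coreK hV hp.ha
    have hK : v₁ * v₂ * a = 1 := by
      refine eq_one_of_mem_coreK hV hodd (a := a) (mul_mem (mul_mem hv₁ hv₂) hp.ha) ?_
      have h3 : k₁ * (v₁ * k₂ * v₁⁻¹) ∈ coreK a :=
        mul_mem hk₁ ((mem_normalizer_iff.mp (hN hv₁) _).mp hk₂)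
      have h4 := mul_mem (inv_mem h3) ((mem_normalizer_iff.mp (hN hp.ha) _).mp hk)
      convert h4 using 1
      rw [klein_inv hV hp.ha]
      simp only [mul_inv_rev, ← mul_assoc, klein_inv hV hp.ha, klein_sq hV hp.ha, one_mul,
        inv_mul_cancel]
      group
    have hv₁1 : v₁ ≠ 1 := fun e => by
      subst e
      rw [mul_one] at hs
      have := orderOf_dvd_natCard _ hk₁
      rw [hs] at this
      exact Nat.not_even_iff_odd.mpr (odd_card_coreK a) (even_iff_two_dvd.mpr this)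
    have hv₂1 : v₂ ≠ 1 := fun e => by
      subst e
      rw [mul_one] at ht
      have := orderOf_dvd_natCard _ hk₂
      rw [ht] at this
      exact Nat.not_even_iff_odd.mpr (odd_card_coreK a) (even_iff_two_dvd.mpr this)
    have hv₂eq : v₂ = v₁ * a := by
      rw [← klein_inv hV hv₁, ← klein_inv hV hp.ha]
      calc v₂ = v₁⁻¹ * (v₁ * v₂ * a) * a⁻¹ := by group
        _ = _ := by rw [hK, mul_one]
    simp only [Finset.mem_union, Finset.mem_product, mem_classK]
    obtain ⟨u, hu, hu'⟩ := exists_conj_eq_mul hV hodd hk₁ hv₁ hss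
    obtain ⟨w, hw, hw'⟩ := exists_conj_eq_mul hV hodd hk₂ hv₂ htt
    rcases klein_cases hV hp hv₁ with e | e | e | e
    · exact absurd e hv₁1
    · exact absurd (by rw [hv₂eq, e, klein_sq hV hp.ha]) hv₂1
    · refine Or.inl ⟨⟨u, hu, by rw [← hu', e]⟩, ⟨w, hw, ?_⟩⟩
      rw [← hw', hv₂eq, e, hab]
    · refine Or.inr ⟨⟨u, hu, by rw [← hu', e]⟩, ⟨w, hw, ?_⟩⟩
      rw [← hw', hv₂eq, e, hab, mul_assoc b a a, klein_sq hV hp.ha, mul_one]

end Basic

theorem sum_over_class [DecidableEq G] (hconj : ∀ s : G, orderOf s = 2 → IsConj a s)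
    (ha : orderOf a = 2) (F : G → ℂ) :
    ∑ x : G, F (x⁻¹ * a * x) = (Nat.card (centralizer ({a} : Set G)) : ℂ) *
      ∑ s ∈ Finset.univ.filter (fun s : G => orderOf s = 2), F s := by
  classical
  rw [Finset.mul_sum, ← Finset.sum_fiberwise_of_maps_to (g := fun x : G => x⁻¹ * a * x)
    (t := Finset.univ.filter fun s : G => orderOf s = 2) (fun x _ => by
      simp only [Finset.mem_filter, Finset.mem_univ, true_and]
      rw [← ha]
      conv_lhs => rw [show x⁻¹ * a * x = x⁻¹ * a * x⁻¹⁻¹ by rw [inv_inv]]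
      exact MulEquiv.orderOf_eq (MulAut.conj x⁻¹) a)]
  refine Finset.sum_congr rfl fun s hs => ?_
  obtain ⟨c, hc⟩ := isConj_iff.mp (hconj s (Finset.mem_filter.mp hs).2)
  rw [Finset.sum_congr rfl (g := fun _ => F s) fun x hx => by rw [(Finset.mem_filter.mp hx).2],
    Finset.sum_const, nsmul_eq_mul]
  congr 2
  rw [Nat.card_eq_fintype_card, Fintype.card_subtype]
  refine Finset.card_equiv (Equiv.mulRight c) fun x => ?_
  simp only [Finset.mem_filter, Finset.mem_univ, true_and, Equiv.coe_mulRight,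
    mem_centralizer_singleton_iff]
  constructor
  · intro h
    calc x * c * a = x * (c * a * c⁻¹) * c := by group
      _ = a * (x * c) := by rw [hc, ← h]; group
  · intro h
    calc x⁻¹ * a * x = x⁻¹ * (a * (x * c)) * c⁻¹ := by group
      _ = s := by rw [← h, ← hc]; group

/-- **The class sum formula.** -/
theorem sum_formula (hV : IsKleinFour V) (hodd : Odd V.index)
    (hconj : ∀ s t : G, orderOf s = 2 → orderOf t = 2 → IsConj s t) (hp : Pair V a b)
    (hμ : IsLinOn (coreK a) μ) (hb : ∀ k ∈ coreK a, μ (b * k * b⁻¹) = μ k) :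
    (∑ χ : Cfsg.IrrCharacter G, delta a (coreK a) μ (χ : G → ℂ) *
        ((χ : G → ℂ) a ^ 2 / (χ : G → ℂ) 1)) *
      ((Nat.card (coreD V) : ℂ) ^ 2 * (Nat.card G : ℂ)) = 32 * (Nat.card (coreK a) : ℂ) ^ 3 := by
  classical
  have hsec := sect_coreK hV hodd hp.ha hp.a1
  have hG : (Nat.card G : ℂ) ≠ 0 := Nat.cast_ne_zero.mpr Nat.card_pos.ne'
  have hK : (Nat.card (coreK a) : ℂ) ≠ 0 := Nat.cast_ne_zero.mpr Nat.card_pos.ne'
  have hD : (Nat.card (coreD V) : ℂ) ≠ 0 := Nat.cast_ne_zero.mpr Nat.card_pos.ne'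
  have hchar : ∀ χ : Cfsg.IrrCharacter G,
      ∑ x : G, ∑ y : G, (χ : G → ℂ) (x⁻¹ * a * x * (y⁻¹ * a * y)) =
        (Nat.card G : ℂ) ^ 2 * ((χ : G → ℂ) a ^ 2 / (χ : G → ℂ) 1) := by
    intro χ
    rw [Finset.sum_comm]
    simp only [BlocksCore.sum_char_conj_mul χ a]
    rw [← Finset.sum_div, ← Finset.mul_sum]
    have : ∀ y : G, (χ : G → ℂ) (y⁻¹ * a * y) = (χ : G → ℂ) a := fun y => by
      have := CharCore.irr_isClassFunction χ a y⁻¹
      rwa [inv_inv] at this
    rw [Finset.sum_congr rfl fun y _ => this y, Finset.sum_const, nsmul_eq_mul, Finset.card_univ,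
      ← Nat.card_eq_fintype_card]
    ring
  set W : ℂ := ∑ x : G, ∑ y : G, cosetFun a (coreK a) μ (x⁻¹ * a * x * (y⁻¹ * a * y)) with hW
  have h1 : (∑ χ : Cfsg.IrrCharacter G, delta a (coreK a) μ (χ : G → ℂ) *
      ((χ : G → ℂ) a ^ 2 / (χ : G → ℂ) 1)) * (Nat.card G : ℂ) ^ 2 =
      (Nat.card (coreK a) : ℂ)⁻¹ * ((Nat.card G : ℂ) * W) := by
    calc _ = ∑ x : G, ∑ y : G, sectFun a (coreK a) μ (x⁻¹ * a * x * (y⁻¹ * a * y)) := by
          simp only [← sum_delta_mul hsec hμ, Finset.sum_mul]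
          rw [Finset.sum_congr rfl fun x _ => Finset.sum_comm, Finset.sum_comm]
          refine Finset.sum_congr rfl fun χ _ => ?_
          simp only [← Finset.mul_sum]
          rw [hchar χ]
          ring
      _ = (Nat.card (coreK a) : ℂ)⁻¹ * ∑ z : G, W := by
          simp only [sectFun, ← Finset.mul_sum]
          rw [Finset.sum_congr rfl fun x _ => Finset.sum_comm, Finset.sum_comm]
          congr 1
          refine Finset.sum_congr rfl fun z _ => ?_
          rw [hW]
          refine Fintype.sum_equiv (Equiv.mulRight z) _ _ fun x => ?_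
          refine Fintype.sum_equiv (Equiv.mulRight z) _ _ fun y => ?_
          simp only [Equiv.coe_mulRight]
          congr 1
          group
      _ = _ := by rw [Finset.sum_const, nsmul_eq_mul, Finset.card_univ, Nat.card_eq_fintype_card (α := G)]
  have ha2 := klein_orderOf hV hp.ha hp.a1
  have hconj' : ∀ s : G, orderOf s = 2 → IsConj a s := fun s hs => hconj a s ha2 hs
  set I := Finset.univ.filter (fun s : G => orderOf s = 2) with hI
  set n := (classK a b).card with hn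
  have h2 : W = (Nat.card (centralizer ({a} : Set G)) : ℂ) ^ 2 * (2 * (n : ℂ) ^ 2) := by
    rw [hW]
    rw [sum_over_class hconj' ha2 fun s => ∑ y : G, cosetFun a (coreK a) μ (s * (y⁻¹ * a * y)),
      Finset.sum_congr rfl fun s _ =>
        sum_over_class hconj' ha2 fun t => cosetFun a (coreK a) μ (s * t)]
    rw [← hI, ← Finset.mul_sum, ← mul_assoc, ← pow_two]
    congr 1
    rw [← Finset.sum_product']
    rw [Finset.sum_congr rfl (g := fun q : G × G =>
      if q ∈ (classK a b ×ˢ classK a (a * b)) ∪ (classK a (a * b) ×ˢ classK a b) then (1 : ℂ) else 0)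
      fun q hq => cosetFun_pair hV hodd hp hμ hb
        (Finset.mem_filter.mp (Finset.mem_product.mp hq).1).2
        (Finset.mem_filter.mp (Finset.mem_product.mp hq).2).2, Finset.sum_boole]
    set B := classK a b
    set C := classK a (a * b)
    have hsub : ∀ d, d ∈ V → d ≠ 1 → classK a d ⊆ I := fun d hd hd1 s hs => by
      obtain ⟨u, -, rfl⟩ := mem_classK.mp hs
      exact Finset.mem_filter.mpr ⟨Finset.mem_univ _, conj_orderOf hV hd hd1⟩
    have hp' := hp.third hV
    have hBC : Disjoint B C := by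
      rw [Finset.disjoint_left]
      intro s hs hs'
      obtain ⟨u, hu, rfl⟩ := mem_classK.mp hs
      obtain ⟨w, hw, he⟩ := mem_classK.mp hs'
      refine hp.a1 (eq_one_of_mem_coreK hV hodd (a := a) hp.ha ?_)
      have hN := le_normalizer_coreK hV hp.ha hp.hb
      have hy : w⁻¹ * u ∈ coreK a := mul_mem (inv_mem hw) hu
      have h3 := mul_mem hy ((mem_normalizer_iff.mp hN _).mp (inv_mem hy))
      convert h3 using 1
      have : a * b = w⁻¹ * u * b * (w⁻¹ * u)⁻¹ := by
        calc a * b = w⁻¹ * (w * (a * b) * w⁻¹) * w := by group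
          _ = _ := by rw [he]; group
      calc a = a * b * b⁻¹ := by group
        _ = _ := by rw [this]; group
    have hfil : (I ×ˢ I).filter (fun q => q ∈ B ×ˢ C ∪ C ×ˢ B) = B ×ˢ C ∪ C ×ˢ B := by
      rw [Finset.filter_mem_eq_inter, Finset.inter_eq_right]
      exact Finset.union_subset (Finset.product_subset_product (hsub b hp.hb hp.b1)
        (hsub _ hp'.hb hp'.b1)) (Finset.product_subset_product (hsub _ hp'.hb hp'.b1)
          (hsub b hp.hb hp.b1))
    rw [hfil, Finset.card_union_of_disjoint (Finset.disjoint_product.mpr (Or.inl hBC)),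
      Finset.card_product, Finset.card_product]
    have hC : C.card = n := Nat.eq_of_mul_eq_mul_right Nat.card_pos
      ((card_classK hV hodd hp').trans (card_classK hV hodd hp).symm)
    rw [hC]
    push_cast
    ring
  have h3 : (n : ℂ) * (Nat.card (coreD V) : ℂ) = (Nat.card (coreK a) : ℂ) := by
    exact_mod_cast card_classK hV hodd hp
  rw [h2, card_cent hV hodd hp.ha hp.a1] at h1
  push_cast at h1
  set S : ℂ := ∑ χ : Cfsg.IrrCharacter G, delta a (coreK a) μ (χ : G → ℂ) *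
    ((χ : G → ℂ) a ^ 2 / (χ : G → ℂ) 1)
  set k : ℂ := (Nat.card (coreK a) : ℂ)
  set g : ℂ := (Nat.card G : ℂ)
  have h4 : S * g = 32 * k * (n : ℂ) ^ 2 := by
    refine mul_right_cancel₀ hG ?_
    rw [mul_assoc, ← pow_two, h1]
    field_simp
    ring
  calc S * ((Nat.card (coreD V) : ℂ) ^ 2 * g) = (S * g) * (Nat.card (coreD V) : ℂ) ^ 2 := by ring
    _ = 32 * k * ((n : ℂ) * (Nat.card (coreD V) : ℂ)) ^ 2 := by rw [h4]; ring
    _ = 32 * k ^ 3 := by rw [h3]; ring

end Cfsg.Agent.GW66
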