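import Cfsg.Agent.GW66.CharDefs
import Cfsg.Agent.GW66.SumFormula

/-!
# The equations of the multiplicities
-/

set_option autoImplicit false

namespace Cfsg.Agent.GW66

open Subgroup
open scoped ComplexConjugate

universe u

variable {G : Type u} [Group G]

theorem Lin.isLinOn {a : G} {μ : G → ℂ} (h : Lin a μ) : IsLinOn (coreK a) μ := ⟨h.one, h.mul⟩

theorem IsLinOn.mono {K L : Subgroup G} {μ : G → ℂ} (h : IsLinOn K μ) (hle : L ≤ K) :
    IsLinOn L μ := ⟨h.one, fun x hx y hy => h.mul x (hle hx) y (hle hy)⟩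

variable [Fintype G]

theorem IsLinOn.isIntegral_conj {K : Subgroup G} {μ : G → ℂ} (h : IsLinOn K μ) {k : G}
    (hk : k ∈ K) : IsIntegral ℤ (conj (μ k)) := by
  refine IsIntegral.of_pow (n := Nat.card K) Nat.card_pos ?_
  have h1 : μ k ^ Nat.card K = 1 := by
    rw [← h.hom_apply ⟨k, hk⟩, ← Units.val_pow_eq_pow_val, ← map_pow, pow_card_eq_one', map_one,
      Units.val_one]
  rw [← map_pow, h1, map_one]
  exact isIntegral_one

/-- A function fixed by a free involution has an even sum. -/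
theorem exists_sum_eq_two_mul {α : Type*} [DecidableEq α] (f : α → ℂ) (σ : α → α) :
    ∀ S : Finset α, (∀ x ∈ S, σ x ∈ S ∧ σ (σ x) = x ∧ σ x ≠ x ∧ f (σ x) = f x ∧ IsIntegral ℤ (f x)) →
      ∃ w, IsIntegral ℤ w ∧ ∑ x ∈ S, f x = 2 * w := by
  intro S
  induction S using Finset.strongInduction with
  | _ S ih =>
    intro hS
    rcases S.eq_empty_or_nonempty with rfl | ⟨x, hx⟩
    · exact ⟨0, isIntegral_zero, by simp⟩
    · obtain ⟨hσ, hσσ, hne, hf, hint⟩ := hS x hx
      have hx' : σ x ∈ S.erase x := Finset.mem_erase.mpr ⟨hne, hσ⟩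
      obtain ⟨w, hw, hsum⟩ := ih ((S.erase x).erase (σ x))
        (lt_of_le_of_lt (Finset.erase_subset _ _) (Finset.erase_ssubset hx)) (fun y hy => by
          simp only [Finset.mem_erase] at hy ⊢
          obtain ⟨h1, h2, h3, h4, h5⟩ := hS y hy.2.2
          refine ⟨⟨fun e => hy.2.1 ?_, fun e => hy.1 ?_, h1⟩, h2, h3, h4, h5⟩
          · rw [← h2, e, hσσ]
          · rw [← h2, e])
      refine ⟨f x + w, hint.add hw, ?_⟩
      rw [← Finset.add_sum_erase _ _ hx, ← Finset.add_sum_erase _ _ hx', hsum, hf]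
      ring

/-- The sum over `u K` against the sum over `K`. -/
theorem delta_add_inner {u : G} {K : Subgroup G} {μ : G → ℂ} (h : Sect u K) (hμ : IsLinOn K μ)
    (χ : Cfsg.IrrCharacter G) :
    ∃ m : ℤ, delta u K μ (χ : G → ℂ) +
      (Nat.card K : ℂ)⁻¹ * ∑ᶠ k : K, (χ : G → ℂ) k * conj (μ k) = 2 * (m : ℂ) := by
  classical
  have hA := CharCore.IsCharacter.isGeneralized (CharInd.isCharacter_indFun h.sub
    (CharCore.IsIrrCharacter.isCharacter (CharCore.isIrrCharacter_hom (h.lift hμ))))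
  obtain ⟨m, hm⟩ := CharCore.IsGeneralizedCharacter.exists_classInner_eq_intCast
    (CharCore.irr_isGeneralized χ) hA
  refine ⟨m, ?_⟩
  have h1 := classInner_sectFun (u := u) (K := K) (μ := μ) (CharCore.irr_isClassFunction χ)
  rw [sectFun_eq_ind h hμ, CharCore.classInner_sub_right, CharCore.classInner_add_right, hm,
    CharInd.classInner_indFun_right K _ (CharCore.irr_isClassFunction χ), CharCore.classInner_def]
    at h1
  rw [← h1, finsum_eq_sum_of_fintype]
  simp only [IsLinOn.hom_apply]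
  ring

theorem coreD_conj {V : Subgroup G} (hV : IsKleinFour V) (hodd : Odd V.index) {r d : G}
    (hr : r ∈ normalizer (V : Set G)) (hd : d ∈ coreD V) : r * d * r⁻¹ ∈ coreD V := by
  rw [mem_coreD_iff hV hodd] at hd ⊢
  refine ⟨(MulEquiv.orderOf_eq (MulAut.conj r) d).symm ▸ hd.1, mem_centralizer_iff.mpr fun x hx => ?_⟩
  have hx' : r⁻¹ * x * r ∈ V := by
    have := (mem_normalizer_iff.mp (inv_mem hr) x).mp hx
    rwa [inv_inv] at this
  calc x * (r * d * r⁻¹) = r * (r⁻¹ * x * r * d) * r⁻¹ := by group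
    _ = r * (d * (r⁻¹ * x * r)) * r⁻¹ := by rw [mem_centralizer_iff.mp hd.2 _ hx']
    _ = r * d * r⁻¹ * x := by group

/-- `|K| δ ≡ |D| ⟨χ, μ⟩_D` modulo `2`. -/
theorem card_mul_delta {V : Subgroup G} (hV : IsKleinFour V) (hodd : Odd V.index) {a b : G}
    (hp : Pair V a b) {μ : G → ℂ} (hμ : Lin a μ) (χ : Cfsg.IrrCharacter G) :
    ∃ w : ℂ, IsIntegral ℤ w ∧ (Nat.card (coreK a) : ℂ) * delta a (coreK a) μ (χ : G → ℂ) +
      ∑ᶠ d : coreD V, (χ : G → ℂ) d * conj (μ d) = 2 * w := by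
  classical
  set K := coreK a
  set D := coreD V
  have hDK : D ≤ K := coreD_le_coreK hV hodd hp.ha hp.a1
  have hDodd : Odd (Nat.card D) := odd_card_coreD V
  have hsec := sect_coreK hV hodd hp.ha hp.a1
  have hsecD : Sect a D := ⟨hsec.two, fun k hk => hsec.comm k (hDK hk), hDodd⟩
  set f : G → ℂ := fun k => (χ : G → ℂ) (a * k) * conj (μ k) with hf
  set σ : G → G := fun k => b * k * b⁻¹ with hσ
  have hN := le_normalizer_coreK hV hp.ha hp.hb
  have hab : a * b = b * a := klein_comm hV hp.ha hp.hb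
  have hbC : b ∈ centralizer ({a} : Set G) := le_centralizer_of_mem hV hp.ha hp.hb
  obtain ⟨w, hw, hsum⟩ := exists_sum_eq_two_mul f σ
    (Finset.univ.filter fun k : G => k ∈ K ∧ k ∉ D) (fun k hk => by
      obtain ⟨hkK, hkD⟩ := (Finset.mem_filter.mp hk).2
      have hσK : σ k ∈ K := (mem_normalizer_iff.mp hN k).mp hkK
      have hσσ : σ (σ k) = k := by
        simp only [hσ, klein_inv hV hp.hb]
        calc b * (b * k * b) * b = b * b * k * (b * b) := by group
          _ = k := by rw [klein_sq hV hp.hb, one_mul, mul_one]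
      have hne : σ k ≠ k := fun e => hkD ((mem_coreD_iff_pair hV hodd hp).mpr
        ⟨hkK, (mul_inv_eq_iff_eq_mul.mp e).symm⟩)
      refine ⟨Finset.mem_filter.mpr ⟨Finset.mem_univ _, hσK, fun hD => hne ?_⟩, hσσ, hne, ?_, ?_⟩
      · have h2 := ((mem_coreD_iff_pair hV hodd hp).mp hD).2
        exact (show σ (σ k) = σ k from mul_inv_eq_iff_eq_mul.mpr h2.symm).symm.trans hσσ
      · simp only [hf, hσ]
        rw [hμ.inv b hbC k hkK, ← mul_assoc a, ← mul_assoc a, hab, mul_assoc b a k,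
          CharCore.irr_isClassFunction χ (a * k) b]
      · exact (CharCore.IsCharacter.isIntegral (CharCore.irr_isCharacter χ) _).mul (hμ.isLinOn.isIntegral_conj hkK))
  obtain ⟨m, hm⟩ := delta_add_inner hsecD (hμ.isLinOn.mono hDK) χ
  refine ⟨w + (Nat.card D : ℂ) * (m : ℂ), hw.add ((isIntegral_algebraMap (R := ℤ) (x := (Nat.card D : ℤ))).mul
    isIntegral_algebraMap) , ?_⟩
  have hK0 : (Nat.card K : ℂ) ≠ 0 := Nat.cast_ne_zero.mpr Nat.card_pos.ne'
  have hD0 : (Nat.card D : ℂ) ≠ 0 := Nat.cast_ne_zero.mpr Nat.card_pos.ne'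
  have hsplit : ∑ᶠ k : K, f k = (∑ k ∈ Finset.univ.filter (fun k : G => k ∈ K ∧ k ∉ D), f k) +
      ∑ᶠ d : D, f d := by
    rw [finsum_eq_sum_of_fintype, finsum_eq_sum_of_fintype,
      ← Finset.sum_subtype (Finset.univ.filter fun k : G => k ∈ K) (by simp) f,
      ← Finset.sum_subtype (Finset.univ.filter fun k : G => k ∈ D) (by simp) f,
      ← Finset.sum_filter_not_add_sum_filter (Finset.univ.filter fun k : G => k ∈ K)
        (fun k : G => k ∈ D) f, Finset.filter_filter, Finset.filter_filter]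
    congr 1
    refine Finset.sum_congr (Finset.filter_congr fun k _ => ?_) fun _ _ => rfl
    exact ⟨fun h => h.2, fun h => ⟨hDK h, h⟩⟩
  simp only [delta] at hm ⊢
  rw [mul_inv_cancel_left₀ hK0, show ∑ᶠ k : K, (χ : G → ℂ) (a * k) * conj (μ k) = ∑ᶠ k : K, f k
    from rfl, hsplit, hsum]
  have hm' := congrArg (fun t => (Nat.card D : ℂ) * t) hm
  simp only [mul_add, mul_inv_cancel_left₀ hD0] at hm'
  simp only [hf] at hm' ⊢
  linear_combination hm'

theorem phiStmt : PhiStmt.{u} := by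
  intro G _ _ V hc a ha ha1
  classical
  haveI := Fintype.ofFinite G
  obtain ⟨b, hp⟩ := exists_pair_of_mem hc.klein ha ha1
  have hsec := sect_coreK hc.klein hc.sylow ha ha1
  have hN := centralizer_le_normalizer_coreK hc.klein hc.sylow a
  have hC := card_cent hc.klein hc.sylow ha ha1
  refine ⟨fun μ hμ χ => exists_delta_eq_intCast hsec hμ.isLinOn χ, fun μ hμ => ?_,
    fun μ ν hμ hν hne => ?_, fun μ hμ => ?_, fun μ hμ => ?_, ?_⟩
  · rw [finsum_eq_sum_of_fintype, sum_delta_mul_delta hsec hμ.isLinOn hμ.isLinOn hN hC hμ.inv,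
      if_pos fun _ _ => rfl]
  · rw [finsum_eq_sum_of_fintype, sum_delta_mul_delta hsec hμ.isLinOn hν.isLinOn hN hC hμ.inv,
      if_neg]
    intro h
    refine hne (funext fun x => ?_)
    by_cases hx : x ∈ coreK a
    · exact h x hx
    · rw [hμ.out x hx, hν.out x hx]
  · rw [finsum_eq_sum_of_fintype,
      sum_delta_mul_eq_zero hsec hμ.isLinOn (g := 1) (by rw [orderOf_one]; exact odd_one)]
  · have h := sum_formula hc.klein hc.sylow (fun s t hs ht => hc.isConj_involution hs ht) hp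
      hμ.isLinOn (fun k hk => hμ.inv b (le_centralizer_of_mem hc.klein ha hp.hb) k hk)
    have hG : (Nat.card G : ℂ) ≠ 0 := Nat.cast_ne_zero.mpr Nat.card_pos.ne'
    have hD : (Nat.card (coreD V) : ℂ) ≠ 0 := Nat.cast_ne_zero.mpr Nat.card_pos.ne'
    rw [finsum_eq_sum_of_fintype, orderRatio]
    push_cast
    rw [eq_div_iff (mul_ne_zero (pow_ne_zero 2 hD) hG), ← h]
    simp only [mul_div_assoc]
  · intro μ ν hμ hν r hr hνd χ z z' hz hz'
    obtain ⟨w, hw, he⟩ := card_mul_delta hc.klein hc.sylow hp hμ χ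
    obtain ⟨w', hw', he'⟩ := card_mul_delta hc.klein hc.sylow hp hν χ
    let e : ↥(coreD V) ≃ ↥(coreD V) :=
      { toFun := fun d => ⟨r * d * r⁻¹, coreD_conj hc.klein hc.sylow hr d.2⟩
        invFun := fun d => ⟨r⁻¹ * d * r⁻¹⁻¹, coreD_conj hc.klein hc.sylow (inv_mem hr) d.2⟩
        left_inv := fun d => Subtype.ext (by simp; group)
        right_inv := fun d => Subtype.ext (by simp; group) }
    have hsum : ∑ᶠ d : coreD V, (χ : G → ℂ) d * conj (ν d) =
        ∑ᶠ d : coreD V, (χ : G → ℂ) d * conj (μ d) := by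
      refine finsum_eq_of_bijective e e.bijective fun d => ?_
      rw [hνd d d.2, ← CharCore.irr_isClassFunction χ d r]
      rfl
    rw [hz] at he
    rw [hz', hsum] at he'
    have hdiff : ((((Nat.card (coreK a) : ℤ) * (z - z') : ℤ) : ℂ)) = 2 * (w - w') := by
      push_cast
      linear_combination he - he'
    have hq : IsIntegral ℤ (((((Nat.card (coreK a) : ℤ) * (z - z') : ℤ) : ℚ) / 2 : ℚ) : ℂ) := by
      have e : (((((Nat.card (coreK a) : ℤ) * (z - z') : ℤ) : ℚ) / 2 : ℚ) : ℂ) = w - w' := by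
        rw [Rat.cast_div, Rat.cast_intCast, hdiff]
        push_cast
        ring
      rw [e]
      exact hw.sub hw'
    have hq' : IsIntegral ℤ ((((Nat.card (coreK a) : ℤ) * (z - z') : ℤ) : ℚ) / 2 : ℚ) :=
      (isIntegral_algebraMap_iff (algebraMap ℚ ℂ).injective).mp hq
    obtain ⟨t, ht⟩ := IsIntegrallyClosed.isIntegral_iff.mp hq'
    have h2 : (2 : ℤ) ∣ (Nat.card (coreK a) : ℤ) * (z - z') := by
      refine ⟨t, ?_⟩
      have : ((((Nat.card (coreK a) : ℤ) * (z - z') : ℤ) : ℚ)) = ((2 * t : ℤ) : ℚ) := by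
        rw [Int.cast_mul 2 t, show ((t : ℤ) : ℚ) = algebraMap ℤ ℚ t from rfl, ht]
        push_cast
        ring
      exact_mod_cast this
    refine (Int.prime_two.dvd_mul.mp h2).resolve_left fun hd => ?_
    have := odd_card_coreK (G := G) a
    rw [Nat.odd_iff] at this
    omega

end Cfsg.Agent.GW66
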