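import Cfsg.Agent.GW66.CharBase
import Cfsg.Agent.GW66.SumFormula
import Cfsg.Agent.ZStar.Klein
import Cfsg.Agent.Blocks88.Modular

/-!
# The principal block equations and the order bound
-/

set_option autoImplicit false

namespace Cfsg.Agent.GW66

open Subgroup

universe u

variable {G : Type u} [Group G] [Finite G] {V : Subgroup G}

theorem ctx_irr_eq_one (hC : Ctx V) (χ : Cfsg.IrrCharacter G) (h : (χ : G → ℂ) 1 = 1) :
    (χ : G → ℂ) = fun _ => 1 := by
  obtain ⟨f, hf⟩ := CharCore.IsCharacter.exists_hom_of_degree_one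
    (CharCore.IsIrrCharacter.isCharacter χ.2) h
  haveI := hC.simple
  rcases (inferInstance : f.ker.Normal).eq_bot_or_eq_top with hk | hk
  · exfalso
    have hinj := (MonoidHom.ker_eq_bot_iff f).mp hk
    refine hC.not_normal ⟨fun v hv g => ?_⟩
    have : g * v = v * g := hinj (by rw [map_mul, map_mul, mul_comm])
    rw [this, mul_inv_cancel_right]
    exact hv
  · rw [hf]
    funext g
    rw [show f g = 1 from MonoidHom.mem_ker.mp (hk ▸ mem_top g)]
    rfl

theorem sectionData_coreK (hV : IsKleinFour V) {a : G} (ha : a ∈ V) (h1 : a ≠ 1) :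
    ZStar.SectionData 2 a (coreK a) :=
  ⟨⟨1, by rw [klein_orderOf hV ha h1, pow_one]⟩, coreK_le a, le_normalizer_coreO _, fun h =>
    Nat.not_even_iff_odd.mpr (odd_card_coreK a) (even_iff_two_dvd.mpr h)⟩

theorem principalStmt : PrincipalStmt.{u} := by
  intro G _ _ V hC a ha h1
  classical
  haveI : Fact (Nat.Prime 2) := ⟨Nat.prime_two⟩
  haveI := Fintype.ofFinite G
  have hV := hC.klein
  have hodd := hC.sylow
  have hconj : ∀ s t : G, orderOf s = 2 → orderOf t = 2 → IsConj s t :=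
    fun s t hs ht => hC.isConj_involution hs ht
  obtain ⟨b, hp⟩ := exists_pair_of_mem hV ha h1
  obtain ⟨M, hM⟩ := Blocks88.exists_isPModular Nat.prime_two
  let P : Sylow 2 G := (IsPGroup.of_card (p := 2) (G := V) (n := 2)
    (by rw [hV.card_four]; rfl)).toSylow (by
      rw [← even_iff_two_dvd]; exact Nat.not_even_iff_odd.mpr hodd)
  obtain ⟨ζ₂, ζ₃, ζ₄, ε, hε, h2one, h3one, h23, h24, h34, hB, hval, hd2, hd3, hd4, hy⟩ :=
    ZStar.klein_principal_block hM P hV hconj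
  have hsd := sectionData_coreK hV ha h1
  have hgen : ∀ c ∈ centralizer ({a} : Set G), ∃ v ∈ centralizer ({a} : Set G),
      ∃ k ∈ coreK a, c = v * k ∧ (∃ n : ℕ, v ^ 2 ^ n = 1) ∧
        ∀ y ∈ centralizer ({a} : Set G), v * y * v⁻¹ * y⁻¹ ∈ coreK a := by
    intro c hc
    obtain ⟨k, hk, v, hv, rfl⟩ := centralizer_decomp hV hodd ha h1
      (mem_centralizer_singleton_iff.mp hc)
    have hvN := le_normalizer_coreK hV ha
    refine ⟨v, le_centralizer_of_mem hV ha hv, v⁻¹ * k * v, ?_, by group,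
      ⟨1, by rw [pow_one, pow_two]; exact klein_sq hV hv⟩, fun y hy => ?_⟩
    · have := (mem_normalizer_iff.mp (hvN (inv_mem hv)) k).mp hk
      rwa [inv_inv] at this
    · obtain ⟨k', hk', w, hw, rfl⟩ := centralizer_decomp hV hodd ha h1
        (mem_centralizer_singleton_iff.mp hy)
      have e : v * (k' * w) * v⁻¹ * (k' * w)⁻¹ = v * k' * v⁻¹ * k'⁻¹ :=
        calc v * (k' * w) * v⁻¹ * (k' * w)⁻¹ = v * k' * ((w * v⁻¹) * w⁻¹) * k'⁻¹ := by group
          _ = v * k' * ((v⁻¹ * w) * w⁻¹) * k'⁻¹ := by rw [klein_comm hV hw (inv_mem hv)]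
          _ = _ := by group
      rw [e]
      exact mul_mem ((mem_normalizer_iff.mp (hvN hv) k').mp hk') (inv_mem hk')
  set μ := linOne a with hμdef
  have hμ := lin_linOne a
  have hμK : ∀ k : ↥(coreK a), μ k = 1 := fun k => Set.indicator_of_mem k.2 _
  have hδ : ∀ χ : Cfsg.IrrCharacter G, delta a (coreK a) μ (χ : G → ℂ) =
      if χ ∈ Cfsg.principalBlock M G then (χ : G → ℂ) a else 0 := by
    intro χ
    rw [delta, finsum_eq_sum_of_fintype]
    simp only [hμK, map_one, mul_one]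
    split_ifs with hχ
    · rw [Finset.sum_congr rfl (fun (k : ↥(coreK a)) _ => ZStar.apply_mul_eq hM hsd hχ k.2),
        Finset.sum_const, Finset.card_univ, ← Nat.card_eq_fintype_card, nsmul_eq_mul,
        inv_mul_cancel_left₀ (Nat.cast_ne_zero.mpr Nat.card_pos.ne')]
    · rw [← finsum_eq_sum_of_fintype, ZStar.sum_eq_zero_of_abelian hM hsd hgen hχ, mul_zero]
  have hsum := sum_formula hV hodd hconj hp hμ.toIsLinOn
    (hμ.inv b (le_centralizer_of_mem hV ha hp.hb))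
  let one : Cfsg.IrrCharacter G := ⟨fun _ => 1, CharCore.isIrrCharacter_one⟩
  have hone' : ∀ χ : Cfsg.IrrCharacter G, (χ : G → ℂ) = (fun _ => 1) ↔ χ = one :=
    fun χ => ⟨fun h => Subtype.ext h, fun h => by rw [h]⟩
  have hBset : Finset.univ.filter (fun χ => χ ∈ Cfsg.principalBlock M G) = {one, ζ₂, ζ₃, ζ₄} := by
    ext χ
    simp only [Finset.mem_filter, Finset.mem_univ, true_and, Finset.mem_insert,
      Finset.mem_singleton, hB, Set.mem_setOf_eq, hone']
  have h4one : (ζ₄ : G → ℂ) ≠ fun _ => 1 := fun e => by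
    have := (hval a (klein_orderOf hV ha h1)).2.2
    rw [e] at this
    norm_num at this
  have ha2 := klein_orderOf hV ha h1
  obtain ⟨hv2, hv3, hv4⟩ := hval a ha2
  have hdeg : ∀ χ : Cfsg.IrrCharacter G, (χ : G → ℂ) ≠ (fun _ => 1) →
      ∃ e : ℤ, 1 < e ∧ (χ : G → ℂ) 1 = e ∧ (Cfsg.charDegree (χ : G → ℂ) : ℤ) = e := by
    intro χ hne
    obtain ⟨f, x, hf, hf1, -, -, hfd⟩ := ZStar.klein_char_data (P := P) hV ha ha2 hconj χ
    refine ⟨f, ?_, hf1, hfd⟩
    rcases (show f = 1 ∨ 1 < f by omega) with hf' | hf'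
    · exact absurd (ctx_irr_eq_one hC χ (by rw [hf1, hf', Int.cast_one])) hne
    · exact hf'
  obtain ⟨e₂, he2, hg2, hh2⟩ := hdeg ζ₂ h2one
  obtain ⟨e₃, he3, hg3, hh3⟩ := hdeg ζ₃ h3one
  obtain ⟨e₄, he4, hg4, hh4⟩ := hdeg ζ₄ h4one
  rw [hh2] at hd2
  rw [hh3] at hd3
  rw [hh4] at hd4
  have hrel : ((1 + e₂ + ε * e₃ - e₄ : ℤ) : ℂ) = 0 := by
    have := hy 1 (by rw [orderOf_one]; exact odd_one)
    rw [hg2, hg3, hg4] at this
    push_cast
    linear_combination this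
  refine ⟨ε, e₂, e₃, e₄, hε, he2, he3, he4, hd2, hd3, hd4, by exact_mod_cast hrel, ?_, ?_⟩
  · have hS : (∑ χ : Cfsg.IrrCharacter G, delta a (coreK a) μ (χ : G → ℂ) *
        ((χ : G → ℂ) a ^ 2 / (χ : G → ℂ) 1)) =
        1 + 1 / (e₂ : ℂ) + (ε : ℂ) / (e₃ : ℂ) - 1 / (e₄ : ℂ) := by
      simp only [hδ, ite_mul, zero_mul]
      rw [← Finset.sum_filter, hBset, Finset.sum_insert (by
          simp only [Finset.mem_insert, Finset.mem_singleton, not_or]
          exact ⟨fun e => h2one ((hone' _).mpr e.symm), fun e => h3one ((hone' _).mpr e.symm),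
            fun e => h4one ((hone' _).mpr e.symm)⟩),
        Finset.sum_insert (by simp [h23, h24]), Finset.sum_pair h34, hv2, hv3, hv4, hg2, hg3, hg4]
      have hε2 : (ε : ℂ) ^ 2 = 1 := by rcases hε with rfl | rfl <;> norm_num
      simp only [one, one_pow, div_one, mul_one, one_mul, hε2]
      ring
    rw [hS] at hsum
    have hq : ((1 + 1 / (e₂ : ℚ) + (ε : ℚ) / (e₃ : ℚ) - 1 / (e₄ : ℚ)) *
        ((Nat.card ↥(coreD V) : ℚ) ^ 2 * (Nat.card G : ℚ))) =
        32 * (Nat.card ↥(coreK a) : ℚ) ^ 3 := by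
      have : (((1 + 1 / (e₂ : ℚ) + (ε : ℚ) / (e₃ : ℚ) - 1 / (e₄ : ℚ)) *
          ((Nat.card ↥(coreD V) : ℚ) ^ 2 * (Nat.card G : ℚ)) : ℚ) : ℂ) =
          ((32 * (Nat.card ↥(coreK a) : ℚ) ^ 3 : ℚ) : ℂ) := by
        push_cast
        exact hsum
      exact_mod_cast this
    rw [orderRatio, ← hq, mul_div_assoc, div_self (mul_ne_zero
      (pow_ne_zero _ (Nat.cast_ne_zero.mpr Nat.card_pos.ne'))
      (Nat.cast_ne_zero.mpr Nat.card_pos.ne')), mul_one]
  · rintro e (rfl | rfl)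
    · exact ⟨ζ₃, hg3⟩
    · exact ⟨ζ₄, hg4⟩

/-- `|G||D|² < 96|K|³`. -/
theorem orderStmt_of (hA : ArithPrincipalStmt) : OrderStmt.{u} := by
  intro G _ _ V hC a ha h1
  obtain ⟨ε, e₂, e₃, e₄, hε, h2, h3, h4, c2, c3, c4, hrel, hs, -⟩ := principalStmt G V hC a ha h1
  have h := (hA ε e₂ e₃ e₄ _ hε h2 h3 h4 c2 c3 c4 hrel hs).1
  rw [orderRatio, lt_div_iff₀ (mul_pos (pow_pos (Nat.cast_pos.mpr Nat.card_pos) _)
    (Nat.cast_pos.mpr Nat.card_pos))] at h
  have h' : (Nat.card G : ℚ) * (Nat.card ↥(coreD V) : ℚ) ^ 2 <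
      96 * (Nat.card ↥(coreK a) : ℚ) ^ 3 := by linarith
  exact_mod_cast h'

end Cfsg.Agent.GW66
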