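import Cfsg.Agent.GW66.CharBase
import Cfsg.Agent.GW66.CharPhi
import Cfsg.Agent.GW66.CharPrincipal
import Cfsg.Agent.ZStar.Blocks

/-!
# Separation of the orbits of linear characters of `O(C(a))`

The idempotent `g = ∑_{ν ∈ O} |K|⁻¹ conj ν` of `C(a)` respects the fusion of `G`, so it is the
restriction of an integral class function `Z` of `G`.  If the block of a character `ξ` of `C(a)`
induces to the block of `χ`, then `ω_ξ(g) ≡ ω_χ(Z)`; one such `ξ` lies over `μ`, so all lie over
the orbit, and `e_B * (1 - g)` vanishes modulo the prime on `C(a)`.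
-/

set_option autoImplicit false

namespace Cfsg.Agent.GW66

open Subgroup
open scoped ComplexConjugate Pointwise

universe u

namespace Sep82

variable {G : Type u} [Group G] {a : G} {μ ν : G → ℂ}

/-- `|K|⁻¹ conj ν`. -/
noncomputable def avgLin (a : G) (ν : G → ℂ) : G → ℂ :=
  fun x => (Nat.card ↥(coreK a) : ℂ)⁻¹ * conj (ν x)

/-- The idempotent of a family of linear characters. -/
noncomputable def orbFun (a : G) (O : Finset (G → ℂ)) : G → ℂ :=
  fun x => ∑ ν ∈ O, avgLin a ν x

variable [Finite G]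

theorem avgLin_notMem (h : Lin a ν) {x : G} (hx : x ∉ coreK a) : avgLin a ν x = 0 := by
  rw [avgLin, h.out x hx, map_zero, mul_zero]

theorem lin_isIntegral (h : Lin a ν) (x : G) : IsIntegral ℤ (ν x) := by
  by_cases hx : x ∈ coreK a
  · refine IsIntegral.of_pow (orderOf_pos x) ?_
    rw [← h.map_pow hx, pow_orderOf_eq_one, h.one]
    exact isIntegral_one
  · rw [h.out x hx]; exact isIntegral_zero

theorem lin_conj (h : Lin a ν) {x : G} (hx : x ∈ coreK a) : conj (ν x) = ν x⁻¹ := by
  rw [h.toIsLinOn.map_inv hx, Complex.inv_eq_conj]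
  exact Complex.norm_eq_one_of_pow_eq_one
    (by rw [← h.map_pow hx, pow_orderOf_eq_one, h.one]) (orderOf_pos x).ne'

theorem avgLin_memLocalRing {M : Ideal Cfsg.AlgInt} (hM : Cfsg.IsPModular 2 M) (h : Lin a ν)
    (x : G) : Cfsg.MemLocalRing M (avgLin a ν x) := by
  have := BlocksCore.isPrime hM
  by_cases hx : x ∈ coreK a
  · refine (BlocksCore.localRing M).mul_mem (BlocksCore.memLocalRing_natCast_inv hM fun h2 =>
      Nat.not_even_iff_odd.mpr (odd_card_coreK a) (even_iff_two_dvd.mpr h2)) ?_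
    rw [lin_conj h hx]
    exact BlocksCore.memLocalRing_of_isIntegral (lin_isIntegral h _)
  · rw [avgLin_notMem h hx]; exact (BlocksCore.localRing M).zero_mem

theorem orbFun_memLocalRing {M : Ideal Cfsg.AlgInt} (hM : Cfsg.IsPModular 2 M)
    {O : Finset (G → ℂ)} (hO : ∀ ν ∈ O, Lin a ν) (x : G) :
    Cfsg.MemLocalRing M (orbFun a O x) := by
  have := BlocksCore.isPrime hM
  exact BlocksCore.memLocalRing_sum fun ν hν => avgLin_memLocalRing hM (hO ν hν) x

theorem orbFun_notMem {O : Finset (G → ℂ)} (hO : ∀ ν ∈ O, Lin a ν) {x : G}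
    (hx : x ∉ coreK a) : orbFun a O x = 0 :=
  Finset.sum_eq_zero fun ν hν => avgLin_notMem (hO ν hν) hx

theorem conj_mem_iff {c : G} (hc : c ∈ centralizer ({a} : Set G)) (x : G) :
    c * x * c⁻¹ ∈ coreK a ↔ x ∈ coreK a :=
  (mem_normalizer_iff.mp (le_normalizer_coreO (centralizer ({a} : Set G)) hc) x).symm

theorem avgLin_conjInv (h : Lin a ν) {c : G} (hc : c ∈ centralizer ({a} : Set G)) :
    ZStar.ConjInv c (avgLin a ν) := by
  intro x
  by_cases hx : x ∈ coreK a
  · simp only [avgLin, h.inv c hc x hx]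
  · rw [avgLin_notMem h hx, avgLin_notMem h (mt (conj_mem_iff hc x).mp hx)]

theorem orbFun_conjInv {O : Finset (G → ℂ)} (hO : ∀ ν ∈ O, Lin a ν) {c : G}
    (hc : c ∈ centralizer ({a} : Set G)) : ZStar.ConjInv c (orbFun a O) := fun x =>
  Finset.sum_congr rfl fun ν hν => avgLin_conjInv (hO ν hν) hc x

/-- Distinct linear characters give orthogonal idempotents. -/
theorem conv_avgLin [Fintype G] [DecidableEq (G → ℂ)] (hμ : Lin a μ) (hν : Lin a ν) :
    BlocksCore.conv (avgLin a μ) (avgLin a ν) = if μ = ν then avgLin a μ else 0 := by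
  classical
  funext x
  rw [BlocksCore.conv_apply]
  by_cases hx : x ∈ coreK a
  · have hsum : ∑ y, avgLin a μ y * avgLin a ν (y⁻¹ * x) =
        (Nat.card ↥(coreK a) : ℂ)⁻¹ * ((Nat.card ↥(coreK a) : ℂ)⁻¹ *
          ∑ᶠ k : ↥(coreK a), ν k * conj (μ k)) * conj (ν x) := by
      rw [finsum_eq_sum_of_fintype, Finset.mul_sum, Finset.mul_sum, Finset.sum_mul,
        ← Finset.sum_subset (Finset.subset_univ (Finset.univ.filter fun y : G => y ∈ coreK a))
          (fun y _ hy => by rw [avgLin_notMem hμ (by simpa using hy), zero_mul]),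
        Finset.sum_subtype _ (p := fun y => y ∈ coreK a) (fun y => by simp)]
      refine Finset.sum_congr rfl fun k _ => ?_
      have e : conj (ν ((k : G)⁻¹ * x)) = ν k * conj (ν x) := by
        rw [hν.mul _ (inv_mem k.2) x hx, map_mul, lin_conj hν (inv_mem k.2), inv_inv]
      simp only [avgLin, e]
      ring
    rw [hsum, hν.toIsLinOn.sum_mul_conj hμ.toIsLinOn]
    by_cases he : μ = ν
    · subst he
      rw [if_pos rfl, if_pos fun k _ => rfl, mul_one]
      rfl
    · rw [if_neg he, if_neg fun hk => he ?_, mul_zero, zero_mul]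
      · rfl
      funext y
      by_cases hy : y ∈ coreK a
      · exact (hk y hy).symm
      · rw [hμ.out y hy, hν.out y hy]
  · rw [Finset.sum_eq_zero fun y _ => ?_]
    · split_ifs
      · exact (avgLin_notMem hμ hx).symm
      · rfl
    by_cases hy : y ∈ coreK a
    · rw [avgLin_notMem hν fun h => hx (by simpa using mul_mem hy h), mul_zero]
    · rw [avgLin_notMem hμ hy, zero_mul]

theorem conv_orbFun [Fintype G] [DecidableEq (G → ℂ)] {O : Finset (G → ℂ)}
    (hO : ∀ ν ∈ O, Lin a ν) (hμO : μ ∈ O) :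
    BlocksCore.conv (avgLin a μ) (orbFun a O) = avgLin a μ := by
  funext x
  rw [BlocksCore.conv_apply]
  simp only [orbFun, Finset.mul_sum]
  rw [Finset.sum_comm]
  rw [Finset.sum_eq_single μ]
  · rw [← BlocksCore.conv_apply, conv_avgLin (hO μ hμO) (hO μ hμO), if_pos rfl]
  · intro ν hν hne
    rw [← BlocksCore.conv_apply, conv_avgLin (hO μ hμO) (hO ν hν), if_neg hne.symm]
    rfl
  · exact fun h => absurd hμO h

theorem conv_orbFun_self [Fintype G] [DecidableEq (G → ℂ)] {O : Finset (G → ℂ)}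
    (hO : ∀ ν ∈ O, Lin a ν) : BlocksCore.conv (orbFun a O) (orbFun a O) = orbFun a O := by
  funext x
  rw [BlocksCore.conv_apply]
  calc ∑ y, orbFun a O y * orbFun a O (y⁻¹ * x)
      = ∑ ν ∈ O, BlocksCore.conv (avgLin a ν) (orbFun a O) x := by
        simp only [BlocksCore.conv_apply]
        rw [Finset.sum_comm]
        refine Finset.sum_congr rfl fun y _ => ?_
        rw [← Finset.sum_mul]
        rfl
    _ = _ := Finset.sum_congr rfl fun ν hν => by rw [conv_orbFun hO hν]

/-- An element of a four-group meeting `V` in `a` is `C(a)`-conjugate into `O(C(V))`. -/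
theorem exists_conj_four {V : Subgroup G} (hV : IsKleinFour V) (hodd : Odd V.index) (ha : a ∈ V)
    (h1 : a ≠ 1) {P : Subgroup G} (hP : Nat.card P = 4) (hcomm : ∀ x ∈ P, ∀ y ∈ P, x * y = y * x)
    (haP : a ∈ P) :
    ∃ k ∈ centralizer ({a} : Set G), ∀ x : G, x ∈ V ↔ k * x * k⁻¹ ∈ P := by
  classical
  haveI : Fact (Nat.Prime 2) := ⟨Nat.prime_two⟩
  set C := centralizer ({a} : Set G) with hC
  have hPC : P ≤ C := fun x hx => mem_centralizer_singleton_iff.mpr (hcomm x hx a haP)
  have hVC : V ≤ C := le_centralizer_of_mem hV ha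
  have hidx : ∀ H : Subgroup G, H ≤ C → Nat.card H = 4 →
      IsPGroup 2 (H.subgroupOf C) ∧ ¬ 2 ∣ (H.subgroupOf C).index := by
    intro H hH hc
    have h4 : Nat.card (H.subgroupOf C) = 4 :=
      (Nat.card_congr (subgroupOfEquivOfLe hH).toEquiv).trans hc
    refine ⟨IsPGroup.of_card (n := 2) (by rw [h4]; rfl), fun h2 => ?_⟩
    have hmul := (H.subgroupOf C).index_mul_card
    rw [h4, centralizer_card hV hodd ha h1] at hmul
    have hi : (H.subgroupOf C).index = Nat.card ↥(coreK a) := by omega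
    rw [hi] at h2
    exact Nat.not_even_iff_odd.mpr (odd_card_coreK a) (even_iff_two_dvd.mpr h2)
  obtain ⟨hP1, hP2⟩ := hidx P hPC hP
  obtain ⟨hV1, hV2⟩ := hidx V hVC hV.card_four
  obtain ⟨k, hk⟩ := MulAction.exists_smul_eq ↥C (hV1.toSylow hV2) (hP1.toSylow hP2)
  refine ⟨k, k.2, fun x => ?_⟩
  have hk' : MulAut.conj k • (V.subgroupOf C) = P.subgroupOf C := by
    have := congrArg (fun S : Sylow 2 ↥C => (S : Subgroup ↥C)) hk
    simpa [Sylow.coe_subgroup_smul] using this
  constructor
  · intro hx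
    have : (MulAut.conj k • (⟨x, hVC hx⟩ : ↥C)) ∈ MulAut.conj k • (V.subgroupOf C) :=
      Subgroup.smul_mem_pointwise_smul _ _ _ (mem_subgroupOf.mpr hx)
    rw [hk', mem_subgroupOf] at this
    simpa using this
  · intro hx
    have hxC : x ∈ C := by
      have := mul_mem (mul_mem (inv_mem k.2) (hPC hx)) k.2
      simpa [mul_assoc] using this
    have : (⟨(k : G) * x * (k : G)⁻¹, hPC hx⟩ : ↥C) ∈ MulAut.conj k • (V.subgroupOf C) := by
      rw [hk']; exact mem_subgroupOf.mpr hx
    rw [Subgroup.mem_pointwise_smul_iff_inv_smul_mem, mem_subgroupOf] at this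
    simpa [mul_assoc] using this

variable {V : Subgroup G} {O : Finset (G → ℂ)}

/-- The orbit function only depends on the `G`-class of an element of `C(a)`. -/
theorem orbFun_fusion (hV : IsKleinFour V) (hodd : Odd V.index) (ha : a ∈ V) (h1 : a ≠ 1)
    (hO : ∀ ν ∈ O, Lin a ν)
    (hclosed : ∀ ν ∈ O, ∀ n ∈ normalizer (V : Set G), ∃ ν' ∈ O,
      ∀ d ∈ coreD V, ν' d = ν (n * d * n⁻¹))
    {c c' : G} (hc : c ∈ centralizer ({a} : Set G)) (hc' : c' ∈ centralizer ({a} : Set G))
    (hconj : IsConj c c') : orbFun a O c = orbFun a O c' := by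
  classical
  haveI : Fact (Nat.Prime 2) := ⟨Nat.prime_two⟩
  obtain ⟨h, hh⟩ := isConj_iff.mp hconj
  have hca := mem_centralizer_singleton_iff.mp hc
  have hca' := mem_centralizer_singleton_iff.mp hc'
  have hord : orderOf c = orderOf c' := by
    rw [← hh]; exact ((MulAut.conj h).orderOf_eq c).symm
  have hiff : c ∈ coreK a ↔ c' ∈ coreK a := by
    rw [mem_coreK_iff hV hodd ha h1, mem_coreK_iff hV hodd ha h1, hord]
    simp [hca, hca']
  by_cases hcK : c ∈ coreK a
  swap
  · rw [orbFun_notMem hO hcK, orbFun_notMem hO (mt hiff.mpr hcK)]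
  have hoc : Odd (orderOf c) := ((mem_coreK_iff hV hodd ha h1).mp hcK).1
  set S := centralizer ({c'} : Set G) with hS
  have haS : a ∈ S := mem_centralizer_singleton_iff.mpr hca'.symm
  have ha'S : h * a * h⁻¹ ∈ S := by
    refine mem_centralizer_singleton_iff.mpr ?_
    rw [← hh]
    calc h * a * h⁻¹ * (h * c * h⁻¹) = h * (a * c) * h⁻¹ := by group
      _ = h * (c * a) * h⁻¹ := by rw [hca]
      _ = _ := by group
  have h2 : orderOf a = 2 := klein_orderOf hV ha h1
  have hpg : ∀ x : G, orderOf x = 2 → IsPGroup 2 (zpowers x) := fun x hx =>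
    IsPGroup.of_card (n := 1) (by rw [Nat.card_zpowers, hx, pow_one])
  obtain ⟨P, hP⟩ := ((hpg a h2).comap_of_injective S.subtype S.subtype_injective).exists_le_sylow
  obtain ⟨P', hP'⟩ := ((hpg (h * a * h⁻¹) (by
    rw [show h * a * h⁻¹ = MulAut.conj h a from rfl, (MulAut.conj h).orderOf_eq, h2])).comap_of_injective
      S.subtype S.subtype_injective).exists_le_sylow
  have haP : (⟨a, haS⟩ : ↥S) ∈ P := hP (show a ∈ zpowers a from mem_zpowers a)
  have ha'P : (⟨h * a * h⁻¹, ha'S⟩ : ↥S) ∈ P' := hP' (show h * a * h⁻¹ ∈ zpowers _ from mem_zpowers _)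
  obtain ⟨k, hk⟩ := MulAction.exists_smul_eq ↥S P' P
  have hkc : (k : G) * c' * (k : G)⁻¹ = c' :=
    mul_inv_eq_iff_eq_mul.mpr (mem_centralizer_singleton_iff.mp k.2)
  set g := (k : G) * h with hg
  have hgc : g * c * g⁻¹ = c' := by
    rw [hg]
    calc (k : G) * h * c * ((k : G) * h)⁻¹ = k * (h * c * h⁻¹) * (k : G)⁻¹ := by group
      _ = _ := by rw [hh, hkc]
  have hgP : (⟨g * a * g⁻¹, by
      have := mul_mem (mul_mem k.2 ha'S) (inv_mem k.2)
      simpa [hg, mul_assoc] using this⟩ : ↥S) ∈ P := by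
    rw [← hk]
    show _ ∈ ((k • P' : Sylow 2 ↥S) : Subgroup ↥S)
    rw [Sylow.coe_subgroup_smul]
    have := Subgroup.smul_mem_pointwise_smul _ (MulAut.conj k) _ ha'P
    convert this using 1
    exact Subtype.ext (by simp [hg, mul_assoc])
  by_cases hga : g * a * g⁻¹ = a
  · rw [← hgc]
    refine (orbFun_conjInv hO ?_ c).symm
    exact mem_centralizer_singleton_iff.mpr (mul_inv_eq_iff_eq_mul.mp hga)
  -- the two conjugates of `a` generate a four-group centralising `c'`
  set Q := (P : Subgroup ↥S).map S.subtype with hQ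
  have haQ : a ∈ Q := ⟨_, haP, rfl⟩
  have hgQ : g * a * g⁻¹ ∈ Q := ⟨_, hgP, rfl⟩
  have hQ4 : Nat.card Q = 4 := by
    obtain ⟨n, hn⟩ := IsPGroup.iff_card.mp (P.2.map S.subtype)
    have hn' : Nat.card Q = 2 ^ n := hn
    have hdvd : 2 ^ n ∣ Nat.card G := hn' ▸ card_subgroup_dvd_card Q
    rw [← V.index_mul_card, hV.card_four] at hdvd
    have hle : n ≤ 2 := by
      by_contra hlt
      have h8 : 8 ∣ V.index * 4 := (pow_dvd_pow 2 (by omega : 3 ≤ n)).trans hdvd
      obtain ⟨j, hj⟩ := hodd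
      omega
    have hne : Nat.card Q ≠ 2 := fun hc2 => by
      haveI : Fintype Q := Fintype.ofFinite Q
      have h3 : ({⟨1, one_mem Q⟩, ⟨a, haQ⟩, ⟨g * a * g⁻¹, hgQ⟩} : Finset Q).card ≤ 2 := by
        rw [← hc2, Nat.card_eq_fintype_card]; exact Finset.card_le_univ _
      rw [Finset.card_insert_of_notMem (by
          simp only [Finset.mem_insert, Finset.mem_singleton, Subtype.ext_iff, not_or]
          exact ⟨fun e => h1 e.symm, fun e => h1 (conj_eq_one_iff.mp e.symm)⟩),
        Finset.card_insert_of_notMem (by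
          simp only [Finset.mem_singleton, Subtype.ext_iff]
          exact fun e => hga e.symm), Finset.card_singleton] at h3
      omega
    have hne1 : Nat.card Q ≠ 1 := fun hc1 => h1 (by
      rw [card_eq_one.mp hc1] at haQ; exact mem_bot.mp haQ)
    rw [hn'] at hne hne1 ⊢
    interval_cases n <;> simp_all
  have hQcomm : ∀ x ∈ Q, ∀ y ∈ Q, x * y = y * x := fun x hx y hy => by
    haveI := IsPGroup.isMulCommutative_of_card_eq_prime_sq (p := 2) (G := Q) (by rw [hQ4]; rfl)
    exact congrArg Subtype.val (mul_comm' (⟨x, hx⟩ : Q) ⟨y, hy⟩)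
  have hQc : ∀ x ∈ Q, x * c' = c' * x := by
    rintro x ⟨y, -, rfl⟩
    exact mem_centralizer_singleton_iff.mp y.2
  obtain ⟨k₁, hk₁, hQ1⟩ := exists_conj_four hV hodd ha h1 hQ4 hQcomm haQ
  -- the four-group above `a` centralising `c`
  set R := Q.map (MulAut.conj g⁻¹).toMonoidHom with hR
  have hRmem : ∀ x, x ∈ R ↔ g * x * g⁻¹ ∈ Q := fun x => by
    rw [hR, mem_map_equiv]
    simp [mul_assoc]
  have haR : a ∈ R := (hRmem a).mpr hgQ
  have hR4 : Nat.card R = 4 :=
    (Nat.card_congr (Q.equivMapOfInjective _ (MulAut.conj g⁻¹).injective).toEquiv).symm.trans hQ4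
  have hRcomm : ∀ x ∈ R, ∀ y ∈ R, x * y = y * x := fun x hx y hy => by
    have := hQcomm _ ((hRmem x).mp hx) _ ((hRmem y).mp hy)
    refine (MulAut.conj g).injective ?_
    simpa [mul_assoc] using this
  obtain ⟨k₂, hk₂, hR1⟩ := exists_conj_four hV hodd ha h1 hR4 hRcomm haR
  -- both elements go into `O(C(V))`
  set d := k₂⁻¹ * c * k₂ with hd
  set d' := k₁⁻¹ * c' * k₁ with hd'
  have hdD : d ∈ coreD V := by
    refine (mem_coreD_iff hV hodd).mpr ⟨?_, mem_centralizer_iff.mpr fun v hv => ?_⟩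
    · rw [hd, show k₂⁻¹ * c * k₂ = MulAut.conj k₂⁻¹ c by simp, (MulAut.conj k₂⁻¹).orderOf_eq]
      exact hoc
    · have h' := hQc _ ((hRmem _).mp ((hR1 v).mp hv))
      rw [← hgc] at h'
      refine (MulAut.conj (g * k₂)).injective ?_
      simpa [hd, mul_assoc] using h'
  have hd'D : d' ∈ coreD V := by
    refine (mem_coreD_iff hV hodd).mpr ⟨?_, mem_centralizer_iff.mpr fun v hv => ?_⟩
    · rw [hd', show k₁⁻¹ * c' * k₁ = MulAut.conj k₁⁻¹ c' by simp, (MulAut.conj k₁⁻¹).orderOf_eq,
        ← hord]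
      exact hoc
    · have h' := hQc _ ((hQ1 v).mp hv)
      refine (MulAut.conj k₁).injective ?_
      simpa [hd', mul_assoc] using h'
  set n := k₁⁻¹ * g * k₂ with hn
  have hnN : n ∈ normalizer (V : Set G) := by
    refine mem_normalizer_iff.mpr fun x => ?_
    rw [hR1 x, hRmem, hQ1]
    simp [hn, mul_assoc]
  have hnd : n * d * n⁻¹ = d' := by
    rw [hn, hd, hd', ← hgc]; group
  have hc_d : orbFun a O c = orbFun a O d := by
    rw [hd, ← inv_inv k₂, ← orbFun_conjInv hO (inv_mem hk₂) c, inv_inv]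
  have hc'_d : orbFun a O c' = orbFun a O d' := by
    rw [hd', ← inv_inv k₁, ← orbFun_conjInv hO (inv_mem hk₁) c', inv_inv]
  rw [hc_d, hc'_d]
  -- `n` permutes the orbit
  choose σ hσO hσ using fun ν : {ν // ν ∈ O} => hclosed ν.1 ν.2 n hnN
  have hinj : Function.Injective fun ν : {ν // ν ∈ O} => (⟨σ ν, hσO ν⟩ : {ν // ν ∈ O}) := by
    intro ν₁ ν₂ he
    have he' : σ ν₁ = σ ν₂ := congrArg Subtype.val he
    refine Subtype.ext (Lin.ext_coreD hV hodd ha h1 (hO _ ν₁.2) (hO _ ν₂.2) fun x hx => ?_)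
    have hy : n⁻¹ * x * n ∈ coreD V := by
      refine (mem_coreD_iff hV hodd).mpr ⟨?_, mem_centralizer_iff.mpr fun v hv => ?_⟩
      · rw [show n⁻¹ * x * n = MulAut.conj n⁻¹ x by simp, (MulAut.conj n⁻¹).orderOf_eq]
        exact ((mem_coreD_iff hV hodd).mp hx).1
      · have hv' := mem_centralizer_iff.mp ((mem_coreD_iff hV hodd).mp hx).2 (n * v * n⁻¹)
          ((mem_normalizer_iff.mp hnN v).mp hv)
        refine (MulAut.conj n).injective ?_
        simpa [mul_assoc] using hv'
    have e1 := hσ ν₁ _ hy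
    have e2 := hσ ν₂ _ hy
    rw [show n * (n⁻¹ * x * n) * n⁻¹ = x by group] at e1 e2
    rw [← e1, ← e2, he']
  have hbij := Finite.injective_iff_bijective.mp hinj
  show ∑ ν ∈ O, avgLin a ν d = ∑ ν ∈ O, avgLin a ν d'
  rw [← Finset.sum_coe_sort O fun ν => avgLin a ν d, ← Finset.sum_coe_sort O fun ν => avgLin a ν d']
  symm
  refine Fintype.sum_bijective _ hbij _ _ fun ν => ?_
  simp only [avgLin, hσ ν d hdD, hnd]

/-- An integral class function of `G` restricting to the orbit function. -/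
theorem exists_extend {M : Ideal Cfsg.AlgInt} (hM : Cfsg.IsPModular 2 M) (hV : IsKleinFour V)
    (hodd : Odd V.index) (ha : a ∈ V) (h1 : a ≠ 1) (hO : ∀ ν ∈ O, Lin a ν)
    (hclosed : ∀ ν ∈ O, ∀ n ∈ normalizer (V : Set G), ∃ ν' ∈ O,
      ∀ d ∈ coreD V, ν' d = ν (n * d * n⁻¹)) :
    ∃ Z : G → ℂ, BlocksCore.IsIntClassFun M Z ∧
      ∀ c : ↥(centralizer ({a} : Set G)), Z (c : G) = orbFun a O (c : G) := by
  classical
  have := BlocksCore.isPrime hM
  have hfus := fun c c' hc hc' hcc =>
    orbFun_fusion hV hodd ha h1 hO hclosed (c := c) (c' := c') hc hc' hcc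
  let Z : G → ℂ := fun x =>
    if h : ∃ c ∈ centralizer ({a} : Set G), IsConj x c then orbFun a O h.choose else 0
  refine ⟨Z, ⟨fun x y => ?_, fun x => ?_⟩, fun c => ?_⟩
  · have hxy : IsConj x (y * x * y⁻¹) := isConj_iff.mpr ⟨y, rfl⟩
    show Z (y * x * y⁻¹) = Z x
    by_cases h : ∃ c ∈ centralizer ({a} : Set G), IsConj x c
    · have h' : ∃ c ∈ centralizer ({a} : Set G), IsConj (y * x * y⁻¹) c :=
        ⟨h.choose, h.choose_spec.1, hxy.symm.trans h.choose_spec.2⟩
      simp only [Z, dif_pos h, dif_pos h']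
      exact hfus _ _ h'.choose_spec.1 h.choose_spec.1
        (h'.choose_spec.2.symm.trans (hxy.symm.trans h.choose_spec.2))
    · have h' : ¬ ∃ c ∈ centralizer ({a} : Set G), IsConj (y * x * y⁻¹) c :=
        fun ⟨c, hc, hcc⟩ => h ⟨c, hc, hxy.trans hcc⟩
      simp only [Z, dif_neg h, dif_neg h']
  · by_cases h : ∃ c ∈ centralizer ({a} : Set G), IsConj x c
    · simp only [Z, dif_pos h]; exact orbFun_memLocalRing hM hO _
    · simp only [Z, dif_neg h]; exact (BlocksCore.localRing M).zero_mem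
  · have h : ∃ c' ∈ centralizer ({a} : Set G), IsConj (c : G) c' := ⟨c, c.2, IsConj.refl _⟩
    simp only [Z, dif_pos h]
    exact hfus _ _ h.choose_spec.1 c.2 h.choose_spec.2.symm

end Sep82

open Sep82

theorem sepStmt : SepStmt.{u} := by
  intro G _ _ V hC a ha h1 O hO hclosed _htr μ hμO χ hδ
  classical
  haveI : Fact (Nat.Prime 2) := ⟨Nat.prime_two⟩
  haveI := Fintype.ofFinite G
  have hV := hC.klein
  have hodd := hC.sylow
  obtain ⟨M, hM⟩ := Blocks88.exists_isPModular Nat.prime_two
  have := BlocksCore.isPrime hM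
  have hsd := sectionData_coreK hV ha h1
  set C := centralizer ({a} : Set G) with hCdef
  haveI := Fintype.ofFinite ↥C
  have hB : Cfsg.IsPBlock M (Cfsg.blockOf M (χ : G → ℂ)) := BlocksCore.isPBlock_blockOf χ
  have hχB : χ ∈ Cfsg.blockOf M (χ : G → ℂ) := BlocksCore.mem_blockOf_self χ
  set B := Cfsg.blockOf M (χ : G → ℂ) with hBdef
  set e := Cfsg.blockCoeff B with hedef
  have he : BlocksCore.IsIntClassFun M e := BlocksCore.isIntClassFun_blockCoeff hM hB
  have hee : BlocksCore.conv e e = e := BlocksCore.conv_blockCoeff_self _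
  have haC : a ∈ C := mem_centralizer_singleton_iff.mpr rfl
  -- vanishing of the pairing against a small idempotent
  have hvanish : ∀ f : G → ℂ, (∀ x, Cfsg.MemLocalRing M (f x)) → (∀ x, x ∉ C → f x = 0) →
      (∀ x ∈ C, ZStar.ConjInv x f) → BlocksCore.conv f f = f →
      (∀ ξ : Cfsg.IrrCharacter ↥C, Cfsg.MemLocalIdeal M (BlocksCore.omega (ξ : _ → ℂ)
        (BlocksDefect.res C e) * BlocksCore.omega (ξ : _ → ℂ) (BlocksDefect.res C f))) →
      ∑ z, f z * (χ : G → ℂ) (a * z) = 0 := by
    intro f hfint hfC hfinv hff hω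
    have hsmall := ZStar.small_on_centralizer hM hsd e f he hee hfint hfC hfinv hff hω
    have hconv : BlocksCore.conv (BlocksCore.conv e f) (BlocksCore.conv e f) =
        BlocksCore.conv e f :=
      calc BlocksCore.conv (BlocksCore.conv e f) (BlocksCore.conv e f)
          = BlocksCore.conv e (BlocksCore.conv (BlocksCore.conv f e) f) := by
            simp only [ZStar.conv_assoc']
        _ = BlocksCore.conv e (BlocksCore.conv (BlocksCore.conv e f) f) := by
            rw [ZStar.conv_comm_class he.1 f]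
        _ = BlocksCore.conv (BlocksCore.conv e e) (BlocksCore.conv f f) := by
            simp only [ZStar.conv_assoc']
        _ = _ := by rw [hee, hff]
    have h0 := ZStar.sum_mul_translate_eq_zero hM (u := a) (y := 1)
      (hsd.pow.imp fun k hk => hk.dvd) (by simp) (Commute.one_right a)
      (ZStar.conv_memLocalRing he.2 hfint) hconv
      (ZStar.conjInv_conv (ZStar.conjInv_of_class he.1 a) (hfinv a haC))
      (ZStar.conjInv_conv (ZStar.conjInv_of_class he.1 1) (hfinv 1 (one_mem C)))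
      hsmall (BlocksCore.irr_class χ)
    rw [hedef, ZStar.sum_conv_blockCoeff_mul, Set.indicator_of_mem hχB, Pi.one_apply, one_mul]
      at h0
    simpa using h0
  -- the sums against `avgLin` are the coefficients
  have hdelta : ∀ ν, Lin a ν → ∑ z, avgLin a ν z * (χ : G → ℂ) (a * z) =
      delta a (coreK a) ν (χ : G → ℂ) := by
    intro ν hν
    rw [delta, finsum_eq_sum_of_fintype, Finset.mul_sum,
      ← Finset.sum_subset (Finset.subset_univ (Finset.univ.filter fun y : G => y ∈ coreK a))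
        (fun y _ hy => by rw [avgLin_notMem hν (by simpa using hy), zero_mul]),
      Finset.sum_subtype _ (p := fun y => y ∈ coreK a) (fun y => by simp)]
    exact Finset.sum_congr rfl fun k _ => by simp only [avgLin]; ring
  have hclass : ∀ f : G → ℂ, (∀ x ∈ C, ZStar.ConjInv x f) →
      Cfsg.IsClassFunction ↥C (BlocksDefect.res C f) := fun f hf x y => hf y y.2 x
  have hgC : ∀ x, x ∉ C → orbFun a O x = 0 := fun x hx =>
    orbFun_notMem hO fun hk => hx (coreK_le a hk)
  have hμ := hO μ hμO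
  obtain ⟨Z, hZ, hres⟩ := exists_extend hM hV hodd ha h1 hO hclosed
  have hresZ : BlocksDefect.res C Z = BlocksDefect.res C (orbFun a O) := funext hres
  -- every block inducing to `B` sees the same value of the orbit function
  have hdich : ∀ ξ : Cfsg.IrrCharacter ↥C,
      Cfsg.MemLocalIdeal M (BlocksCore.omega (ξ : _ → ℂ) (BlocksDefect.res C e)) ∨
      Cfsg.MemLocalIdeal M (BlocksCore.omega (ξ : _ → ℂ) (BlocksDefect.res C (orbFun a O)) -
        BlocksCore.omega (χ : G → ℂ) Z) := by
    intro ξ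
    have hPg : IsPGroup 2 (zpowers a) := IsPGroup.of_card (n := 1)
      (by rw [Nat.card_zpowers, klein_orderOf hV ha h1, pow_one])
    have hcent : centralizer (zpowers a : Set G) = C := by
      rw [hCdef, zpowers_eq_closure, centralizer_closure]
    obtain ⟨B', hind⟩ := BlocksCore.inducedBlockDefined hM hPg (zpowers_le.mpr haC) hcent.le
      (hcent ▸ centralizer_le_normalizer _) (BlocksCore.isPBlock_blockOf ξ)
    obtain ⟨χ', hχ'⟩ := BlocksCore.isPBlock_nonempty hind.2.1
    have hξb := BlocksCore.mem_blockOf_self (M := M) ξ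
    by_cases hmem : χ ∈ B'
    · right
      rw [← hresZ]
      exact BlocksDefect.omega_induced hM hind hξb hmem hZ
    · left
      have hnot : χ' ∉ B := fun h => hmem
        ((BlocksCore.isPBlock_eq_of_mem hind.2.1 hB hχ' h).symm ▸ hχB)
      have h1' := BlocksDefect.omega_induced hM hind hξb hχ' he
      rw [hedef, BlocksCore.omega_blockCoeff, Set.indicator_of_notMem hnot, sub_zero] at h1'
      exact h1'
  have hμint : ∀ x, Cfsg.MemLocalRing M (avgLin a μ x) := avgLin_memLocalRing hM hμ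
  have hμC : ∀ x, x ∉ C → avgLin a μ x = 0 := fun x hx =>
    avgLin_notMem hμ fun hk => hx (coreK_le a hk)
  have hμinv : ∀ x ∈ C, ZStar.ConjInv x (avgLin a μ) := fun x hx => avgLin_conjInv hμ hx
  have hμμ : BlocksCore.conv (avgLin a μ) (avgLin a μ) = avgLin a μ := by
    rw [conv_avgLin hμ hμ, if_pos rfl]
  have hgint := orbFun_memLocalRing hM hO
  have hginv : ∀ x ∈ C, ZStar.ConjInv x (orbFun a O) := fun x hx => orbFun_conjInv hO hx
  have hωone : Cfsg.MemLocalIdeal M (BlocksCore.omega (χ : G → ℂ) Z - 1) := by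
    by_contra hbad
    refine hδ ?_
    rw [← hdelta μ hμ]
    refine hvanish (avgLin a μ) hμint hμC hμinv hμμ fun ξ => ?_
    have hFint : BlocksCore.IsIntClassFun M (BlocksDefect.res C (avgLin a μ)) :=
      ⟨hclass _ hμinv, fun x => hμint x⟩
    rcases hdich ξ with h | h
    · exact BlocksCore.memLocalIdeal_mul_right h (BlocksCore.omega_memLocalRing ξ hFint)
    set z := BlocksCore.omega (ξ : _ → ℂ) (BlocksDefect.res C (avgLin a μ)) with hz
    set w := BlocksCore.omega (ξ : _ → ℂ) (BlocksDefect.res C (orbFun a O)) with hw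
    have hzz : z * z = z := by
      rw [hz, ← BlocksCore.omega_conv ξ hFint.1 hFint.1, ← ZStar.res_conv (coreK_le a) _ _ hμC,
        hμμ]
    have hzw : z * w = z := by
      rw [hz, hw, ← BlocksCore.omega_conv ξ hFint.1 (hclass _ hginv),
        ← ZStar.res_conv (coreK_le a) _ _ hgC, conv_orbFun hO hμO]
    by_cases hz0 : z = 0
    · rw [hz0, mul_zero]; exact BlocksCore.memLocalIdeal_zero
    have hw1 : w = 1 := mul_left_cancel₀ hz0 (hzw.trans (mul_one z).symm)
    rw [hw1] at h
    exact absurd (by simpa using BlocksCore.memLocalIdeal_neg h) hbad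
  set f : G → ℂ := ZStar.delta (1 : G) - orbFun a O with hfdef
  have hfint : ∀ x, Cfsg.MemLocalRing M (f x) := fun x =>
    (BlocksCore.localRing M).sub_mem (ZStar.delta_memLocalRing 1 x) (hgint x)
  have hfC : ∀ x, x ∉ C → f x = 0 := fun x hx => by
    have hx1 : x ≠ 1 := fun h => hx (h ▸ one_mem C)
    simp [f, ZStar.delta, hx1, hgC x hx]
  have hfinv : ∀ x ∈ C, ZStar.ConjInv x f := fun x hx y => by
    simp only [f, Pi.sub_apply, ZStar.delta_one_conjInv x y, hginv x hx y]
  have hff : BlocksCore.conv f f = f := by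
    simp only [f, ZStar.conv_sub_left, ZStar.conv_sub_right, ZStar.conv_delta_one_left,
      ZStar.conv_delta_one_right, conv_orbFun_self hO]
    abel
  have hmain : ∑ z, f z * (χ : G → ℂ) (a * z) = 0 := by
    refine hvanish f hfint hfC hfinv hff fun ξ => ?_
    have hFint : BlocksCore.IsIntClassFun M (BlocksDefect.res C f) :=
      ⟨hclass _ hfinv, fun x => hfint x⟩
    rcases hdich ξ with h | h
    · exact BlocksCore.memLocalIdeal_mul_right h (BlocksCore.omega_memLocalRing ξ hFint)
    have hone : BlocksDefect.res C f =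
        BlocksCore.classInd 1 + -BlocksDefect.res C (orbFun a O) := by
      funext x
      show f (x : G) = BlocksCore.classInd 1 x + -orbFun a O (x : G)
      have hd : ZStar.delta (1 : G) (x : G) = BlocksCore.classInd (1 : ↥C) x := by
        by_cases hx : x = 1
        · subst hx
          rw [BlocksCore.classInd_apply_of_isConj (IsConj.refl _)]
          simp [ZStar.delta]
        · rw [BlocksCore.classInd_apply_of_not_isConj fun hc => hx (isConj_one_right.mp hc)]
          simp [ZStar.delta, hx]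
      simp only [f, Pi.sub_apply, hd]
      exact sub_eq_add_neg _ _
    have he2 : BlocksCore.IsIntClassFun M (BlocksDefect.res C e) :=
      BlocksDefect.isIntClassFun_res C he
    refine BlocksCore.memLocalIdeal_mul_left (BlocksCore.omega_memLocalRing ξ he2) ?_
    rw [hone, BlocksCore.omega_add, BlocksCore.omega_neg, BlocksCore.omega_classInd_one]
    have := BlocksCore.memLocalIdeal_neg (BlocksCore.memLocalIdeal_add h hωone)
    convert this using 1
    ring
  simp only [f, Pi.sub_apply, sub_mul, Finset.sum_sub_distrib] at hmain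
  rw [sub_eq_zero] at hmain
  have hleft : ∑ z, ZStar.delta (1 : G) z * (χ : G → ℂ) (a * z) = (χ : G → ℂ) a := by
    simp [ZStar.delta]
  rw [hleft] at hmain
  rw [hmain]
  simp only [orbFun, Finset.sum_mul]
  rw [Finset.sum_comm]
  exact Finset.sum_congr rfl fun ν hν => hdelta ν (hO ν hν)

end Cfsg.Agent.GW66
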