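import Cfsg.Agent.GW66.Defs
import Cfsg.Agent.BenderCons37.Discharge
import Cfsg.Agent.Bender27.Main
import Cfsg.Agent.Lib.Involution.StronglyEmbedded
import Cfsg.Agent.Lib.Dickson.Tori
import Cfsg.Agent.Lib.Unitary.Center

/-!
# A fused proper subgroup containing the centraliser of an involution

Such a subgroup is strongly embedded, so Bender's theorem makes the group simple of order 60, in
which a four-group is its own centraliser.
-/

set_option autoImplicit false

namespace Cfsg.Agent.GW66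

open Subgroup

universe u

variable {G : Type u} [Group G] [Finite G]

/-- An element normalising a Sylow four-group and fixing one of its involutions centralises it. -/
theorem mem_centralizer_of_fix {V : Subgroup G} (hK : IsKleinFour V) (hS : Odd V.index) {g x : G}
    (hg : g ∈ normalizer (V : Set G)) (hx : x ∈ V) (hx1 : x ≠ 1) (hfix : g * x * g⁻¹ = x) :
    g ∈ centralizer (V : Set G) := by
  have : Fact (Nat.Prime 2) := ⟨Nat.prime_two⟩
  have h4 : Nat.card ↥V = 4 := hK.card_four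
  have hcomm : ∀ y ∈ V, ∀ z ∈ V, y * z = z * y := fun y hy z hz =>
    congrArg Subtype.val (mul_comm_of_exponent_two hK.exponent_two (⟨y, hy⟩ : ↥V) ⟨z, hz⟩)
  -- the square centralises `V`
  have hsq : g ^ 2 ∈ centralizer (V : Set G) := by
    rw [mem_centralizer_iff]
    intro y hy
    have hmem : ∀ z ∈ V, g * z * g⁻¹ ∈ V := fun z hz =>
      (Subgroup.mem_normalizer_iff.1 hg z).1 hz
    have inj : ∀ z w : G, g * z * g⁻¹ = g * w * g⁻¹ → z = w := fun z w h => by simpa using h
    suffices h : g * (g * y * g⁻¹) * g⁻¹ = y by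
      rw [pow_two, eq_comm, ← mul_inv_eq_iff_eq_mul]
      simpa [mul_assoc] using h
    by_contra hne
    have hy1 : y ≠ 1 := by rintro rfl; simp at hne
    have hyx : y ≠ x := by rintro rfl; simp [hfix] at hne
    have hz1 : g * y * g⁻¹ ≠ y := fun h => hne (by rw [h, h])
    have key : ∀ z ∈ V, z ≠ 1 → z ≠ x → z = y ∨ z = g * y * g⁻¹ := by
      intro z hz hz1' hzx
      by_contra hcon
      push Not at hcon
      have hyg1 : g * y * g⁻¹ ≠ 1 := fun h => hy1 (by simpa using h)
      have hygx : g * y * g⁻¹ ≠ x := fun h => hyx (inj y x (h.trans hfix.symm))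
      have hsub : ({1, x, y, g * y * g⁻¹, z} : Set G) ⊆ (V : Set G) := by
        rintro w (rfl | rfl | rfl | rfl | rfl)
        exacts [one_mem V, hx, hy, hmem _ hy, hz]
      have hle := Set.ncard_le_ncard hsub (Set.toFinite _)
      have h5 : ({1, x, y, g * y * g⁻¹, z} : Set G).ncard = 5 := by
        rw [Set.ncard_insert_of_notMem, Set.ncard_insert_of_notMem, Set.ncard_insert_of_notMem,
          Set.ncard_pair hcon.2.symm] <;>
        simp [hx1.symm, hy1.symm, hyg1.symm, hz1'.symm, hyx.symm, hygx.symm, hzx.symm,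
          hz1.symm, hcon.1.symm]
      rw [h5, ← Nat.card_coe_set_eq] at hle
      exact absurd (h4 ▸ hle : 5 ≤ 4) (by omega)
    rcases key _ (hmem _ (hmem _ hy)) (fun h => hy1 (inj y 1 (inj _ _ (by simpa using h))))
      (fun h => hyx (inj y x (inj _ _ (h.trans (hfix.symm.trans
        (congrArg (fun w => g * w * g⁻¹) hfix.symm)))))) with h | h
    · exact hne h
    · exact hz1 (inj _ _ h)
  -- the odd power is a 2-element, hence in `V`
  obtain ⟨k, m, hm, hkm⟩ := Nat.exists_eq_two_pow_mul_odd (orderOf_pos g).ne'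
  set g' := g ^ m with hg'
  have h2 : IsPGroup 2 ↥(zpowers g') := by
    apply IsPGroup.of_card (n := k)
    rw [Nat.card_zpowers, hg', orderOf_pow_of_dvd hm.pos.ne' ⟨2 ^ k, by rw [hkm, mul_comm]⟩, hkm,
      Nat.mul_div_cancel _ hm.pos]
  have hV2 : IsPGroup 2 ↥V := IsPGroup.of_card (n := 2) (by rw [h4]; norm_num)
  have hP : IsPGroup 2 ↥(V ⊔ zpowers g') :=
    hV2.to_sup_of_normal_left' h2 ((zpowers_le).2 (pow_mem hg m))
  obtain ⟨j, hj⟩ := hP.exists_card_eq
  have hrel : V.relIndex (V ⊔ zpowers g') = 1 := by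
    have h1 : V.relIndex (V ⊔ zpowers g') ∣ 2 ^ j := hj ▸ index_dvd_card _
    have h2' : V.relIndex (V ⊔ zpowers g') ∣ V.index := relIndex_dvd_index_of_le le_sup_left
    exact Nat.eq_one_of_dvd_coprimes ((Nat.coprime_two_left.2 hS).pow_left j) h1 h2'
  have hgV : g' ∈ centralizer (V : Set G) := by
    have : g' ∈ V := (relIndex_eq_one.1 hrel) (le_sup_right (a := V) (mem_zpowers g'))
    exact mem_centralizer_iff.2 fun y hy => hcomm y hy g' this
  obtain ⟨i, hi⟩ := hm
  have : g = g' * ((g ^ 2) ^ i)⁻¹ := by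
    rw [hg', hi, ← pow_mul, eq_mul_inv_iff_mul_eq, ← pow_succ']
  rw [this]
  exact mul_mem hgV (inv_mem (pow_mem hsq i))

/-- The conjugates of an involution of `V` by a fusing element cover `V`. -/
theorem exists_conj_eq {V : Subgroup G} (hK : IsKleinFour V) (hS : Odd V.index) {g a x : G}
    (hg : g ∈ normalizer (V : Set G)) (hgC : g ∉ centralizer (V : Set G))
    (ha : a ∈ V) (ha1 : a ≠ 1) (hx : x ∈ V) (hx1 : x ≠ 1) :
    ∃ i : ℕ, g ^ i * a * (g ^ i)⁻¹ = x := by
  have hmem : ∀ z ∈ V, g * z * g⁻¹ ∈ V := fun z hz =>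
    (Subgroup.mem_normalizer_iff.1 hg z).1 hz
  have hmove : ∀ z ∈ V, z ≠ 1 → g * z * g⁻¹ ≠ z := fun z hz hz1 h =>
    hgC (mem_centralizer_of_fix hK hS hg hz hz1 h)
  by_contra hcon
  push Not at hcon
  set b := g * a * g⁻¹ with hb
  set c := g * b * g⁻¹ with hc
  have hb1 : b ≠ 1 := fun h => ha1 (by simpa [hb] using h)
  have hc1 : c ≠ 1 := fun h => hb1 (by simpa [hc] using h)
  have hba : b ≠ a := hmove a ha ha1
  have hcb : c ≠ b := hmove b (hmem a ha) hb1
  have hxa : x ≠ a := fun h => hcon 0 (by simp [h])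
  have hxb : x ≠ b := fun h => hcon 1 (by simp [h, hb])
  have hxc : x ≠ c := fun h => hcon 2 (by simp [h, hb, hc, pow_two, mul_assoc])
  have hca : c ≠ a := by
    intro h
    have h2 : g ^ 2 ∈ normalizer (V : Set G) := pow_mem hg 2
    have hfix : g ^ 2 * a * (g ^ 2)⁻¹ = a := by
      simpa [hb, hc, pow_two, mul_assoc] using h
    have hC := mem_centralizer_of_fix hK hS h2 ha ha1 hfix
    have hgx : g * (g * x * g⁻¹) * g⁻¹ = x := by
      have := mem_centralizer_iff.1 hC x hx
      calc g * (g * x * g⁻¹) * g⁻¹ = g ^ 2 * x * (g ^ 2)⁻¹ := by simp [pow_two, mul_assoc]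
        _ = x := by rw [← this, mul_inv_cancel_right]
    have hy : g * x * g⁻¹ ≠ x := hmove x hx hx1
    have inj : ∀ z w : G, g * z * g⁻¹ = g * w * g⁻¹ → z = w := fun z w h => by simpa using h
    have hsub : ({1, a, b, x, g * x * g⁻¹} : Set G) ⊆ (V : Set G) := by
      rintro w (rfl | rfl | rfl | rfl | rfl)
      exacts [one_mem V, ha, hmem _ ha, hx, hmem _ hx]
    have hle := Set.ncard_le_ncard hsub (Set.toFinite _)
    have hne1 : g * x * g⁻¹ ≠ a := fun e => hxb (inj x b (e.trans h.symm))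
    have hne2 : g * x * g⁻¹ ≠ b := fun e => hxa (inj x a e)
    have hne3 : g * x * g⁻¹ ≠ 1 := fun e => hx1 (by simpa using e)
    have h5 : ({1, a, b, x, g * x * g⁻¹} : Set G).ncard = 5 := by
      rw [Set.ncard_insert_of_notMem, Set.ncard_insert_of_notMem, Set.ncard_insert_of_notMem,
        Set.ncard_pair hy.symm] <;>
      simp [ha1.symm, hb1.symm, hx1.symm, hne3.symm, hba.symm, hxa.symm, hne1.symm, hxb.symm,
        hne2.symm]
    rw [h5, ← Nat.card_coe_set_eq] at hle
    exact absurd ((hK.card_four : Nat.card ↥V = 4) ▸ hle : 5 ≤ 4) (by omega)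
  have hsub : ({1, a, b, c, x} : Set G) ⊆ (V : Set G) := by
    rintro w (rfl | rfl | rfl | rfl | rfl)
    exacts [one_mem V, ha, hmem _ ha, hmem _ (hmem _ ha), hx]
  have hle := Set.ncard_le_ncard hsub (Set.toFinite _)
  have h5 : ({1, a, b, c, x} : Set G).ncard = 5 := by
    rw [Set.ncard_insert_of_notMem, Set.ncard_insert_of_notMem, Set.ncard_insert_of_notMem,
      Set.ncard_pair hxc.symm] <;>
    simp [ha1.symm, hb1.symm, hc1.symm, hx1.symm, hba.symm, hca.symm, hxa.symm, hcb.symm,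
      hxb.symm]
  rw [h5, ← Nat.card_coe_set_eq] at hle
  exact absurd ((hK.card_four : Nat.card ↥V = 4) ▸ hle : 5 ≤ 4) (by omega)

/-- A simple group with a strongly embedded subgroup and a Sylow four-group has order 60. -/
theorem card_eq_sixty [IsSimpleGroup G] {M : Subgroup G} (hM : Cfsg.IsStronglyEmbedded M)
    (h8 : ¬ 8 ∣ Nat.card G) : Nat.card G = 60 := by
  rcases BenderCons37.s0222' Bender27.benderSplit hM with
    ⟨F, _, _, hchar, hq, ⟨e⟩⟩ | hSz | ⟨F, _, _, q, hF, hev, hq, ⟨e⟩⟩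
  · have h2 := FiniteField.card F 2
    obtain ⟨n, -, hn⟩ := h2
    have hgcd : Nat.gcd 2 (Fintype.card F - 1) = 1 := by
      refine Nat.coprime_two_left.2 ?_
      rw [hn]
      exact Nat.Even.sub_odd (Nat.one_le_two_pow)
        ((Nat.even_pow' (PNat.ne_zero n)).2 even_two) odd_one
    have hc := Dickson.card_psl_eq (F := F)
    rw [hgcd, one_mul] at hc
    rw [Nat.card_congr e.toEquiv, hc, hn]
    rcases Nat.lt_or_ge (n : ℕ) 3 with hlt | hge
    · have : (n : ℕ) = 2 := by
        rcases Nat.lt_or_ge (n : ℕ) 2 with h | h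
        · rw [hn] at hq
          interval_cases h' : (n : ℕ) <;> simp_all
        · omega
      rw [this]; norm_num
    · exfalso
      refine h8 ?_
      rw [Nat.card_congr e.toEquiv, hc, hn]
      exact dvd_mul_of_dvd_right (dvd_mul_of_dvd_left
        (Nat.pow_dvd_pow 2 hge) _) _
  · exfalso
    obtain ⟨-, m, hm, hcard⟩ := hSz
    refine h8 (hcard ▸ ?_)
    refine dvd_mul_of_dvd_left (dvd_mul_of_dvd_left ?_ _) _
    rw [← pow_mul]
    exact Nat.pow_dvd_pow 2 (by omega : 3 ≤ (2 * m + 1) * 2)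
  · exfalso
    have h := Unitary.card_PSU hF (n := 3) (by omega)
    have hodd : Odd (Nat.gcd 3 (q + 1) * (q + 1)) :=
      Nat.odd_mul.2 ⟨Odd.of_dvd_nat (by decide) (Nat.gcd_dvd_left _ _), hev.add_one⟩
    have hd : 8 ∣ q ^ (3 * (3 - 1) / 2) * ∏ i ∈ Finset.range 3,
        (if Even i then q ^ (i + 1) + 1 else q ^ (i + 1) - 1) := by
      refine dvd_mul_of_dvd_left ?_ _
      exact pow_dvd_pow_of_dvd (even_iff_two_dvd.1 hev) 3
    rw [← h, ← mul_assoc] at hd
    refine h8 ?_
    rw [Nat.card_congr e.toEquiv]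
    exact (Nat.Coprime.pow_left 3 (Nat.coprime_two_left.2 hodd)).dvd_of_dvd_mul_left hd

/-- The piece `SEKill`. -/
theorem seKill : SEKillStmt.{u} := by
  intro G _ _ V hV M a hM ha ha1 hCa hfus
  have : Fact (Nat.Prime 2) := ⟨Nat.prime_two⟩
  have := hV.simple
  have h4 : Nat.card ↥V = 4 := hV.klein.card_four
  have hcomm : ∀ y ∈ V, ∀ z ∈ V, y * z = z * y := fun y hy z hz =>
    congrArg Subtype.val (mul_comm_of_exponent_two hV.klein.exponent_two (⟨y, hy⟩ : ↥V) ⟨z, hz⟩)
  have hVM : V ≤ M := fun y hy =>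
    hCa (mem_centralizer_singleton_iff.2 (hcomm y hy a ha))
  obtain ⟨g, hgM, hgN, hgC⟩ := hfus
  -- every involution of `M` is `M`-conjugate to `a`
  have hinv : ∀ t ∈ M, orderOf t = 2 → ∃ h ∈ M, h * a * h⁻¹ = t := by
    intro t htM ht
    have hVp : IsPGroup 2 ↥(V.subgroupOf M) :=
      IsPGroup.of_card (n := 2) (by rw [Nat.card_congr (subgroupOfEquivOfLe hVM).toEquiv, h4]; norm_num)
    have hidx : ¬ 2 ∣ (V.subgroupOf M).index := by
      rw [← even_iff_two_dvd, Nat.not_even_iff_odd]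
      exact Odd.of_dvd_nat hV.sylow (relIndex_dvd_index_of_le hVM)
    let P : Sylow 2 ↥M := hVp.toSylow hidx
    have ht2 : IsPGroup 2 ↥(zpowers (⟨t, htM⟩ : ↥M)) :=
      IsPGroup.of_card (n := 1) (by rw [Nat.card_zpowers, ← orderOf_coe, ht, pow_one])
    obtain ⟨Q, hQ⟩ := ht2.exists_le_sylow
    obtain ⟨h, hh⟩ := MulAction.exists_smul_eq ↥M P Q
    have htQ : (⟨t, htM⟩ : ↥M) ∈ ((h • P : Sylow 2 ↥M) : Subgroup ↥M) := hh ▸ hQ (mem_zpowers _)
    rw [Sylow.smul_def, Sylow.pointwise_smul_def, mem_pointwise_smul_iff_inv_smul_mem] at htQ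
    have hx : (h : G)⁻¹ * t * h ∈ V := by
      simpa [P, mem_subgroupOf] using htQ
    have hx1 : (h : G)⁻¹ * t * h ≠ 1 := fun e => by
      have : t = 1 := by simpa [mul_assoc] using congrArg (fun w => (h : G) * w * (h : G)⁻¹) e
      simp [this] at ht
    obtain ⟨i, hi⟩ := exists_conj_eq hV.klein hV.sylow hgN hgC ha ha1 hx hx1
    refine ⟨(h : G) * g ^ i, mul_mem h.2 (pow_mem hgM i), ?_⟩
    calc (h : G) * g ^ i * a * ((h : G) * g ^ i)⁻¹
        = (h : G) * (g ^ i * a * (g ^ i)⁻¹) * (h : G)⁻¹ := by simp [mul_assoc]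
      _ = t := by rw [hi]; simp [mul_assoc]
  have heven : Even (Nat.card ↥M) := even_iff_two_dvd.2
    (dvd_trans (by rw [h4]; norm_num) (card_dvd_of_le hVM))
  have hse : Cfsg.IsStronglyEmbedded M := by
    refine (Involution.stronglyEmbedded_iff_centralizers hM heven).2
      ⟨fun t htM ht => ?_, fun t htM s hsM ht hs _ => ?_⟩
    · obtain ⟨h, hh, rfl⟩ := hinv t htM ht
      intro c hc
      rw [mem_centralizer_singleton_iff] at hc
      have hmem : h⁻¹ * c * h ∈ centralizer ({a} : Set G) := by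
        rw [mem_centralizer_singleton_iff]
        calc h⁻¹ * c * h * a = h⁻¹ * (c * (h * a * h⁻¹)) * h := by simp [mul_assoc]
          _ = h⁻¹ * (h * a * h⁻¹ * c) * h := by rw [hc]
          _ = a * (h⁻¹ * c * h) := by simp [mul_assoc]
      have := mul_mem (mul_mem hh (hCa hmem)) (inv_mem hh)
      simpa [mul_assoc] using this
    · obtain ⟨h, hh, rfl⟩ := hinv t htM ht
      obtain ⟨k, hk, rfl⟩ := hinv s hsM hs
      exact ⟨k * h⁻¹, mul_mem hk (inv_mem hh), by simp [mul_assoc]⟩
  have h8 : ¬ 8 ∣ Nat.card G := by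
    rw [← card_mul_index V, h4, show (8 : ℕ) = 4 * 2 from rfl]
    intro h
    exact Nat.not_even_iff_odd.2 hV.sylow
      (even_iff_two_dvd.2 (Nat.dvd_of_mul_dvd_mul_left (by norm_num) h))
  have h60 := card_eq_sixty hse h8
  -- in a simple group of order 60 the four-group is its own centraliser
  have hVC : V ≤ centralizer (V : Set G) := fun y hy =>
    mem_centralizer_iff.2 fun z hz => hcomm z hz y hy
  have hCN : centralizer (V : Set G) < normalizer (V : Set G) :=
    SetLike.lt_iff_le_and_exists.2 ⟨centralizer_le_normalizer _, g, hgN, hgC⟩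
  have hNtop : normalizer (V : Set G) ≠ ⊤ := by
    intro h
    have : V.Normal := normalizer_eq_top_iff.1 h
    rcases this.eq_bot_or_eq_top with e | e
    · rw [e, card_bot] at h4; omega
    · rw [e, card_top, h60] at h4; omega
  have hNdvd : Nat.card ↥(normalizer (V : Set G)) ∣ 60 := h60 ▸ card_subgroup_dvd_card _
  have hNne : Nat.card ↥(normalizer (V : Set G)) ≠ 60 := fun h =>
    hNtop (eq_top_of_card_eq _ (h.trans h60.symm))
  have hCdvd : Nat.card ↥(centralizer (V : Set G)) ∣ Nat.card ↥(normalizer (V : Set G)) :=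
    card_dvd_of_le hCN.le
  have hCne : Nat.card ↥(centralizer (V : Set G)) ≠ Nat.card ↥(normalizer (V : Set G)) := fun h =>
    hCN.ne (eq_of_le_of_card_ge hCN.le h.ge)
  have hC4 : 4 ∣ Nat.card ↥(centralizer (V : Set G)) := h4 ▸ card_dvd_of_le hVC
  have hC : Nat.card ↥(centralizer (V : Set G)) = 4 := by
    have hNb := Nat.le_of_dvd (by norm_num) hNdvd
    have hCb := Nat.le_of_dvd Nat.card_pos hCdvd
    obtain ⟨r, hr⟩ := hCdvd
    generalize Nat.card ↥(centralizer (V : Set G)) = x at *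
    generalize Nat.card ↥(normalizer (V : Set G)) = y at *
    obtain ⟨s, rfl⟩ := hC4
    have hs : s ≤ 15 := by omega
    interval_cases s <;> interval_cases y <;> omega
  rw [coreD, map_eq_bot_iff_of_injective _ (subtype_injective _), eq_bot_iff_card]
  have h1 := card_subgroup_dvd_card (Cfsg.oddCore ↥(centralizer (V : Set G)))
  rw [hC] at h1
  exact Nat.eq_one_of_dvd_coprimes
    ((Nat.coprime_two_left.2 BenderCons37.oddCore_card_odd).pow_left 2) h1 dvd_rfl

end Cfsg.Agent.GW66
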