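import Cfsg.Agent.GW66.PSLTori

/-!
# The facts about `PSL(2, q)`, `q ≡ 3, 5 (mod 8)`
-/

set_option autoImplicit false
set_option linter.unusedSectionVars false
set_option linter.style.haveILetI false

namespace Cfsg.Agent.GW66.PSL

open Subgroup MulAction OnePoint
open Cfsg.Agent.Dickson

attribute [local instance] Cfsg.Agent.PLocalB.lineAction pslLine pslBar

variable {F : Type} [Field F] [Fintype F]

theorem self_cent (hF : Fintype.card F % 8 = 3 ∨ Fintype.card F % 8 = 5) {V : Subgroup (PSL2 F)}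
    (hV : IsKleinFour V) : centralizer (V : Set (PSL2 F)) = V := by
  have hidx := sylow_two hF hV
  refine le_antisymm (fun x hx => ?_) (le_centralizer_self hV)
  obtain ⟨k, m, hm, hord⟩ := Nat.exists_eq_two_pow_mul_odd (orderOf_pos x).ne'
  have hy : orderOf (x ^ 2 ^ k) = m := by
    rw [orderOf_pow, hord, Nat.gcd_mul_right_left, Nat.mul_div_cancel_left _ (pow_pos two_pos k)]
  have hy1 : x ^ 2 ^ k = 1 := by
    by_contra h1
    obtain ⟨a, ha, a1⟩ : ∃ a ∈ V, a ≠ 1 := by
      by_contra hcon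
      push Not at hcon
      have := hV.card_four
      rw [(eq_bot_iff_forall V).mpr hcon, card_bot] at this
      omega
    obtain ⟨b, hp⟩ := exists_pair_of_mem hV ha a1
    have hc : ∀ v ∈ V, x ^ 2 ^ k * v = v * x ^ 2 ^ k := fun v hv =>
      ((show Commute x v from (mem_centralizer_iff.mp hx v hv).symm).pow_left _).eq
    exact hp.ne (ti hF h1 (hy ▸ hm) (klein_orderOf hV ha a1) (klein_orderOf hV hp.hb hp.b1)
      (hc a ha) (hc b hp.hb))
  exact mem_of_two_elem hV hidx (centralizer_le_normalizer _ hx)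
    (orderOf_dvd_of_pow_eq_one hy1)

theorem mem_normalizer_of_forall {G : Type*} [Group G] [Finite G] {H : Subgroup G} {g : G}
    (h : ∀ v ∈ H, g * v * g⁻¹ ∈ H) : g ∈ normalizer (H : Set G) := by
  have he : H.map (MulAut.conj g).toMonoidHom = H :=
    eq_of_le_of_card_ge (by rintro _ ⟨v, hv, rfl⟩; exact h v hv)
      (card_map_of_injective (MulAut.conj g).injective).ge
  refine mem_normalizer_iff.mpr fun v => ⟨h v, fun hv => ?_⟩
  rw [← he] at hv
  obtain ⟨w, hw, hwv⟩ := hv
  rw [← (MulAut.conj g).injective hwv]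
  exact hw

theorem rot (hF : Fintype.card F % 8 = 3 ∨ Fintype.card F % 8 = 5) {V : Subgroup (PSL2 F)}
    (hV : IsKleinFour V) :
    ∃ r ∈ normalizer (V : Set (PSL2 F)), r ∉ centralizer (V : Set (PSL2 F)) := by
  haveI : Fact (Nat.Prime 2) := ⟨Nat.prime_two⟩
  have hidx := sylow_two hF hV
  obtain ⟨a, ha, a1⟩ : ∃ a ∈ V, a ≠ 1 := by
    by_contra hcon
    push Not at hcon
    have := hV.card_four
    rw [(eq_bot_iff_forall V).mpr hcon, card_bot] at this
    omega
  obtain ⟨b, hp⟩ := exists_pair_of_mem hV ha a1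
  obtain ⟨c, hc⟩ := conj_invol hF (klein_orderOf hV ha a1) (klein_orderOf hV hp.hb hp.b1)
  set C := centralizer ({b} : Set (PSL2 F)) with hC
  set W := V.map (MulAut.conj c).toMonoidHom with hW
  have hVC : V ≤ C := le_centralizer_of_mem hV hp.hb
  have hWC : W ≤ C := by
    rintro _ ⟨v, hv, rfl⟩
    refine mem_centralizer_singleton_iff.mpr ?_
    rw [← hc]
    show MulAut.conj c v * MulAut.conj c a = MulAut.conj c a * MulAut.conj c v
    rw [← map_mul, ← map_mul, klein_comm hV hv ha]
  have hWidx : Odd W.index := by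
    rw [hW, index_map_of_bijective (MulEquiv.bijective _)]; exact hidx
  have hsyl : ∀ U : Subgroup (PSL2 F), U ≤ C → Odd U.index → ¬ 2 ∣ (U.subgroupOf C).index :=
    fun U hUC hU => by
      rw [← even_iff_two_dvd]
      exact Nat.not_even_iff_odd.mpr
        (Nat.Odd.of_mul_left ((relIndex_mul_index hUC).symm ▸ hU) : Odd (U.relIndex C))
  let P : Sylow 2 ↥C :=
    ((Quot.isPGroup_of_klein hV).of_equiv (subgroupOfEquivOfLe hVC).symm).toSylow (hsyl V hVC hidx)
  let Q : Sylow 2 ↥C := (((Quot.isPGroup_of_klein hV).map _ : IsPGroup 2 W).of_equiv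
    (subgroupOfEquivOfLe hWC).symm).toSylow (hsyl W hWC hWidx)
  obtain ⟨d, hd⟩ := MulAction.exists_smul_eq ↥C Q P
  have hmove : ∀ v ∈ V, ((d : PSL2 F) * c) * v * ((d : PSL2 F) * c)⁻¹ ∈ V := fun v hv => by
    have h1 : d * ⟨c * v * c⁻¹, hWC ⟨v, hv, rfl⟩⟩ * d⁻¹ ∈ ((d • Q : Sylow 2 ↥C) : Subgroup ↥C) :=
      ⟨⟨c * v * c⁻¹, hWC ⟨v, hv, rfl⟩⟩, mem_subgroupOf.mpr ⟨v, hv, rfl⟩, rfl⟩
    rw [hd] at h1
    have h2 := mem_subgroupOf.mp h1
    simpa [mul_assoc] using h2
  refine ⟨(d : PSL2 F) * c, mem_normalizer_of_forall hmove, fun hcent => hp.ne ?_⟩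
  have h1 := mem_centralizer_iff.mp hcent a ha
  have h2 : (d : PSL2 F) * b = b * d := mem_centralizer_singleton_iff.mp d.2
  calc a = a * ((d : PSL2 F) * c) * ((d : PSL2 F) * c)⁻¹ := by group
    _ = (d : PSL2 F) * (c * a * c⁻¹) * (d : PSL2 F)⁻¹ := by rw [h1]; group
    _ = b := by rw [hc, h2, mul_inv_cancel_right]

/-- The two bounds for a torus of order at least three. -/
theorem bounds (hF : Fintype.card F % 8 = 3 ∨ Fintype.card F % 8 = 5) {C : Subgroup (PSL2 F)}
    {k : ℕ} (hk : k = half (Fintype.card F)) (hC : Nat.card C = 4 * k) (h3 : 3 ≤ k) :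
    24 * k ^ 3 < Nat.card (PSL2 F) ∧ 6 * k ^ 2 + 1 ≤ C.index := by
  obtain ⟨j, -, hG, e1, e2⟩ := card_psl hF
  obtain ⟨-, hcases⟩ := half_spec hF
  rw [← hk] at hG e1 e2 hcases
  have hidx : C.index = j := by
    have h := C.card_mul_index
    rw [hC, hG] at h
    exact Nat.eq_of_mul_eq_mul_left (by omega) h
  have hj : 6 * k ^ 2 + 1 ≤ j := by
    rcases hcases with e | e
    · rw [e1 e]
      obtain ⟨i, rfl⟩ : ∃ i, k = i + 3 := ⟨k - 3, by omega⟩
      rw [show 2 * (i + 3) - 1 = 2 * i + 5 by omega, show Fintype.card F = 4 * i + 11 by omega]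
      nlinarith
    · rw [e2 e, e]
      nlinarith
  refine ⟨?_, hidx ▸ hj⟩
  rw [hG]
  calc 24 * k ^ 3 < 4 * k * (6 * k ^ 2 + 1) := by nlinarith
    _ ≤ 4 * k * j := Nat.mul_le_mul_left _ hj

theorem index_le_invol {a : PSL2 F} (ha : orderOf a = 2) :
    (centralizer ({a} : Set (PSL2 F))).index ≤ {t : PSL2 F | orderOf t = 2}.ncard := by
  rw [← Nat.card_coe_set_eq]
  have hconj : ∀ n : PSL2 F, orderOf (n * a * n⁻¹) = 2 := fun n => by
    exact (MulEquiv.orderOf_eq (MulAut.conj n) a).trans ha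
  let e : (PSL2 F ⧸ centralizer ({a} : Set (PSL2 F))) → ↥({t : PSL2 F | orderOf t = 2}) :=
    fun q => ⟨q.out * a * q.out⁻¹, hconj q.out⟩
  refine Nat.card_le_card_of_injective e ?_
  intro q q' he
  have he' : q.out * a * q.out⁻¹ = q'.out * a * q'.out⁻¹ := congrArg Subtype.val he
  rw [← Quotient.out_eq q, ← Quotient.out_eq q']
  refine QuotientGroup.eq.mpr (mem_centralizer_singleton_iff.mpr ?_)
  calc q.out⁻¹ * q'.out * a = q.out⁻¹ * (q'.out * a * q'.out⁻¹) * q'.out := by group
    _ = _ := by rw [← he']; group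

/-- An element of odd prime order coprime to the characteristic fixing a point fixes another one. -/
theorem exists_second_fixed (hF : Fintype.card F % 8 = 3 ∨ Fintype.card F % 8 = 5) {g : PSL2 F}
    {r : ℕ} [hr : Fact r.Prime] (hr2 : r ≠ 2) (hg : orderOf g = r) (hrq : r ∣ Fintype.card F - 1)
    (w : OnePoint F) : ∃ w' : OnePoint F, w' ≠ w ∧ g • w' = w' := by
  haveI : Finite (OnePoint F) := inferInstanceAs (Finite (Option F))
  have hp : IsPGroup r (zpowers g) := IsPGroup.of_card (n := 1) (by rw [Nat.card_zpowers, hg, pow_one])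
  have hmod := hp.card_modEq_card_fixedPoints (OnePoint F)
  rw [card_onePoint] at hmod
  by_contra hcon
  push Not at hcon
  have hle : Nat.card (fixedPoints (zpowers g) (OnePoint F)) ≤ 1 := by
    haveI : Subsingleton (fixedPoints (zpowers g) (OnePoint F)) := ⟨fun x y => by
      have hx : (x : OnePoint F) = w := by
        by_contra h
        exact hcon x h (x.2 ⟨g, mem_zpowers g⟩)
      have hy : (y : OnePoint F) = w := by
        by_contra h
        exact hcon y h (y.2 ⟨g, mem_zpowers g⟩)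
      exact Subtype.ext (hx.trans hy.symm)⟩
    exact Finite.card_le_one_iff_subsingleton.mpr inferInstance
  have hq := Fintype.one_lt_card (α := F)
  have h2 : Fintype.card F + 1 ≡ 2 [MOD r] := by
    obtain ⟨c, hc⟩ := hrq
    rw [show Fintype.card F + 1 = 2 + r * c by omega]
    exact Nat.ModEq.symm ((Nat.modEq_iff_dvd' (by omega)).mpr (by simp))
  have h3 : Nat.card (fixedPoints (zpowers g) (OnePoint F)) ≡ 2 [MOD r] := hmod.symm.trans h2
  have hr3 : 3 ≤ r := by have := hr.out.two_le; omega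
  rw [Nat.ModEq, Nat.mod_eq_of_lt (by omega : 2 < r), Nat.mod_eq_of_lt (by omega)] at h3
  omega

theorem borel (hF : Fintype.card F % 8 = 3 ∨ Fintype.card F % 8 = 5) {V : Subgroup (PSL2 F)}
    (hV : IsKleinFour V) {x a : PSL2 F} (x1 : x ≠ 1) (hx : Odd (orderOf x)) (ha : orderOf a = 2)
    (hxa : x * a = a * x) :
    3 * {t : PSL2 F | orderOf t = 2 ∧ ∃ g : PSL2 F, g ≠ 1 ∧ Odd (orderOf g) ∧ g * t = t * g ∧
          ∃ L : Subgroup (PSL2 F), Odd (Nat.card ↥L) ∧ Group.IsSolvable ↥L ∧ x ∈ L ∧ g ∈ L}.ncard ≤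
      {t : PSL2 F | orderOf t = 2}.ncard := by
  classical
  haveI : Finite (OnePoint F) := inferInstanceAs (Finite (Option F))
  set B := {t : PSL2 F | orderOf t = 2 ∧ ∃ g : PSL2 F, g ≠ 1 ∧ Odd (orderOf g) ∧ g * t = t * g ∧
          ∃ L : Subgroup (PSL2 F), Odd (Nat.card ↥L) ∧ Group.IsSolvable ↥L ∧ x ∈ L ∧ g ∈ L} with hB
  obtain ⟨T, -, hTk, hC, hTmem⟩ := torus hF hV ha
  set q := Fintype.card F with hq
  set k := half q with hk
  have hxT : x ∈ T := (hTmem x).mpr ⟨hx, hxa⟩
  have hodk : orderOf x ∣ k := hTk ▸ Subgroup.orderOf_dvd_natCard T hxT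
  have hk3 : 3 ≤ k := by
    have h1 : orderOf x ≠ 1 := fun h => x1 (orderOf_eq_one_iff.mp h)
    have h2 := Nat.le_of_dvd (half_spec hF).1.pos hodk
    obtain ⟨l, hl⟩ := hx
    omega
  rw [hTk] at hC
  obtain ⟨-, hidx⟩ := bounds hF rfl hC hk3
  have hI := hidx.trans (index_le_invol ha)
  set Fix := {w : OnePoint F | x • w = w} with hFix
  set Pairs : Set (OnePoint F × OnePoint F) := {z | z.1 ∈ Fix ∧ z.2 ≠ z.1} with hPairs
  have hnonsplit : ∀ {w : OnePoint F}, q + 1 = 4 * k → x • w = w → False := by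
    intro w e hw
    obtain ⟨p, hp⟩ := CharP.exists F
    obtain ⟨f, hpp, -⟩ := FiniteField.card F p
    haveI := Fact.mk hpp
    have hd := (odd_card hF).2
    obtain ⟨N, n, -, -, hdvd, -, hkind⟩ := torus_of p x1 (by
      refine coprime_char p (F := F) (Or.inl (hodk.trans ?_))
      rw [hd]
      exact ⟨2, by omega⟩)
    rcases hkind with ⟨hn, -⟩ | ⟨-, hno⟩
    · rw [hd] at hn
      obtain ⟨u, hu⟩ := hdvd
      obtain ⟨u', hu'⟩ := hodk
      have h1 : (orderOf x : ℤ) ∣ 2 := ⟨4 * (u' : ℤ) - 2 * u, by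
        have e1 : (q : ℤ) + 1 = 4 * k := by exact_mod_cast e
        have e2 : (2 : ℤ) * n = q - 1 := by
          rw [← Nat.cast_ofNat, ← Nat.cast_mul, hn, Nat.cast_sub (by omega)]
          simp [hq]
        rw [hu] at e2
        have e3 : (k : ℤ) = orderOf x * u' := by exact_mod_cast hu'
        push_cast at e2
        linear_combination e1 + (4 : ℤ) * e3 + e2⟩
      rcases (Nat.dvd_prime Nat.prime_two).mp (by exact_mod_cast h1 : orderOf x ∣ 2) with h | h
      · exact x1 (orderOf_eq_one_iff.mp h)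
      · rw [h] at hx
        exact absurd hx (by decide)
    · exact hno w hw
  -- a bad involution different from `a` gives a pair of points
  have key : ∀ t ∈ B, t ≠ a → ∃ (w w' : OnePoint F) (g : PSL2 F), x • w = w ∧ w' ≠ w ∧
      g ≠ 1 ∧ Odd (orderOf g) ∧ g * t = t * g ∧ g • w = w ∧ g • w' = w' := by
    rintro t ⟨ht, g, g1, hgo, hgt, L, hLo, hLs, hxL, hgL⟩ hne
    rcases odd_fix hF hLo with hcom | ⟨w, hw⟩
    · exfalso
      obtain ⟨hga⟩ : Nonempty (g * a = a * g) := by
        refine ⟨?_⟩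
        have h1 : orderOf (g * a * g⁻¹) = 2 := by
          rw [show g * a * g⁻¹ = MulAut.conj g a from rfl, MulEquiv.orderOf_eq, ha]
        have hxg : Commute x g := hcom x hxL g hgL
        have h2 : x * (g * a * g⁻¹) = g * a * g⁻¹ * x :=
          ((hxg.mul_right (show Commute x a from hxa)).mul_right hxg.inv_right).eq
        exact mul_inv_eq_iff_eq_mul.mp (ti hF x1 hx h1 ha h2 hxa)
      exact hne (ti hF g1 hgo ht ha hgt hga)
    · set o := orderOf g with ho
      have ho1 : o ≠ 1 := fun h => g1 (orderOf_eq_one_iff.mp h)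
      set r := o.minFac with hr
      haveI : Fact r.Prime := ⟨Nat.minFac_prime ho1⟩
      have hro : r ∣ o := Nat.minFac_dvd o
      have hg' : orderOf (g ^ (o / r)) = r := orderOf_pow_orderOf_div (orderOf_pos g).ne' hro
      have hr2 : r ≠ 2 := fun h => by
        rw [h] at hro
        rw [Nat.odd_iff] at hgo
        omega
      -- `r` divides `q - 1`
      obtain ⟨p, hp⟩ := CharP.exists F
      obtain ⟨f, hpp, -⟩ := FiniteField.card F p
      haveI := Fact.mk hpp
      have hgt' : g ^ (o / r) * t = t * g ^ (o / r) :=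
        ((show Commute g t from hgt).pow_left _).eq
      obtain ⟨T', -, hT'k, -, hT'mem⟩ := torus hF hV ht
      have hrk : r ∣ k := by
        rw [← hg', hk, hq, ← hT'k]
        exact Subgroup.orderOf_dvd_natCard T' ((hT'mem _).mpr
          ⟨hg'.symm ▸ (Fact.out : r.Prime).odd_of_ne_two hr2, hgt'⟩)
      have hgw : g ^ (o / r) • w = w := pow_smul_self (hw g hgL) _
      have g'1 : g ^ (o / r) ≠ 1 := fun h => by
        rw [h, orderOf_one] at hg'
        exact (Fact.out : r.Prime).ne_one hg'.symm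
      have hrq : r ∣ q - 1 := by
        obtain ⟨-, hcases⟩ := half_spec hF
        rcases hcases with e | e
        · exact (hnonsplit e (hw x hxL)).elim
        · exact hrk.trans ⟨4, by omega⟩
      obtain ⟨w', hne', hw'⟩ := exists_second_fixed hF hr2 hg' hrq w
      exact ⟨w, w', g ^ (o / r), hw x hxL, hne', fun h => by
          rw [h, orderOf_one] at hg'
          exact (Fact.out : r.Prime).ne_one hg'.symm,
        hg'.symm ▸ (Fact.out : r.Prime).odd_of_ne_two hr2, hgt', hgw, hw'⟩
  choose! W W' Gt hWx hne hG1 hGo hGt hGw hGw' using key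
  have hinj : Set.InjOn (fun t => (W t, W' t)) (B \ {a}) := by
    rintro t ⟨htB, hta⟩ t' ⟨htB', hta'⟩ he
    have e1 : W t = W t' := congrArg Prod.fst he
    have e2 : W' t = W' t' := congrArg Prod.snd he
    have hc : Gt t * Gt t' = Gt t' * Gt t :=
      comm_of_two_fixed (hne t htB hta).symm (hGw t htB hta) (hGw' t htB hta)
        (e1 ▸ hGw t' htB' hta') (e2 ▸ hGw' t' htB' hta')
    have h1 : orderOf (Gt t' * t * (Gt t')⁻¹) = 2 := by
      rw [show Gt t' * t * (Gt t')⁻¹ = MulAut.conj (Gt t') t from rfl, MulEquiv.orderOf_eq, htB.1]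
    have hcc : Commute (Gt t) (Gt t') := hc
    have h2 : Gt t * (Gt t' * t * (Gt t')⁻¹) = Gt t' * t * (Gt t')⁻¹ * Gt t :=
      ((hcc.mul_right (show Commute (Gt t) t from hGt t htB hta)).mul_right hcc.inv_right).eq
    have h3 : Gt t' * t = t * Gt t' := mul_inv_eq_iff_eq_mul.mp
      (ti hF (hG1 t htB hta) (hGo t htB hta) h1 htB.1 h2 (hGt t htB hta))
    exact ti hF (hG1 t' htB' hta') (hGo t' htB' hta') htB.1 htB'.1 h3 (hGt t' htB' hta')
  have hpairs : (B \ {a}).ncard ≤ Pairs.ncard :=
    Set.ncard_le_ncard_of_injOn (fun t => (W t, W' t))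
      (fun t ht => ⟨hWx t ht.1 ht.2, hne t ht.1 ht.2⟩) hinj (Set.toFinite _)
  have hcount : Pairs.ncard ≤ Fix.ncard * q := by
    have hpw : ∀ w : OnePoint F, {w' : OnePoint F | w' ≠ w}.ncard = q := fun w => by
      rw [show {w' : OnePoint F | w' ≠ w} = ({w} : Set (OnePoint F))ᶜ from rfl, Set.ncard_compl,
        Set.ncard_singleton, card_onePoint]
      omega
    calc Pairs.ncard ≤ (⋃ w ∈ (Set.toFinite Fix).toFinset, (fun w' => (w, w')) '' {w' | w' ≠ w}).ncard := by
          refine Set.ncard_le_ncard ?_ (Set.toFinite _)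
          rintro ⟨w, w'⟩ ⟨hw, hw'⟩
          exact Set.mem_biUnion ((Set.toFinite Fix).mem_toFinset.mpr hw) ⟨w', hw', rfl⟩
      _ ≤ ∑ w ∈ (Set.toFinite Fix).toFinset, ((fun w' => (w, w')) '' {w' : OnePoint F | w' ≠ w}).ncard :=
          Finset.set_ncard_biUnion_le _ _
      _ = ∑ w ∈ (Set.toFinite Fix).toFinset, q := Finset.sum_congr rfl fun w _ => by
          rw [Set.ncard_image_of_injective _ (Prod.mk_right_injective w), hpw]
      _ = Fix.ncard * q := by rw [Finset.sum_const, smul_eq_mul, Set.ncard_eq_toFinset_card Fix]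
  have hB1 : B.ncard ≤ (B \ {a}).ncard + 1 := by
    have := Set.le_ncard_sdiff ({a} : Set (PSL2 F)) B (Set.toFinite _)
    rw [Set.ncard_singleton] at this
    omega
  have h2q : Fix.ncard * q ≤ 2 * q := Nat.mul_le_mul_right q (fix_le_two x1)
  obtain ⟨j, -, hG, e1, e2⟩ := card_psl hF
  have hjI : j ≤ {t : PSL2 F | orderOf t = 2}.ncard := by
    refine le_trans (le_of_eq ?_) (index_le_invol ha)
    have h := (centralizer ({a} : Set (PSL2 F))).card_mul_index
    rw [hC, hG] at h
    exact (Nat.eq_of_mul_eq_mul_left (by omega) h).symm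
  have hk9 : 3 * k ≤ k * k := Nat.mul_le_mul_right k hk3
  have hq4 : q ≤ 4 * k + 1 := by
    obtain ⟨-, hcases⟩ := half_spec hF
    rcases hcases with e | e
    · exact (Nat.le_succ q).trans (e.le.trans (Nat.le_succ _))
    · exact e.le
  rcases Set.eq_empty_or_nonempty (B \ {a}) with h0 | ⟨t, ht⟩
  · rw [h0, Set.ncard_empty] at hB1
    replace hI : 6 * (k * k) + 1 ≤ {t : PSL2 F | orderOf t = 2}.ncard := by rw [← pow_two]; exact hI
    omega
  · have hsplit : q = 4 * k + 1 := by
      obtain ⟨-, hcases⟩ := half_spec hF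
      refine hcases.resolve_left fun e => ?_
      exact hnonsplit e (hWx t ht.1 ht.2)
    replace hjI : q * (2 * k + 1) ≤ {t : PSL2 F | orderOf t = 2}.ncard := (e2 hsplit).ge.trans hjI
    have h9 : 6 * q + 3 ≤ q * (2 * k + 1) := by
      have : 7 * q ≤ q * (2 * k + 1) := by rw [mul_comm q]; exact Nat.mul_le_mul_right q (by omega)
      omega
    omega

theorem kleinPSL (hF : Fintype.card F % 8 = 3 ∨ Fintype.card F % 8 = 5) {V : Subgroup (PSL2 F)}
    (hV : IsKleinFour V) : KleinPSL V where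
  sylow := sylow_two hF hV
  self := self_cent hF hV
  rot := rot hF hV
  torus a ha := by
    obtain ⟨T, hcyc, hTk, hC, hmem⟩ := torus hF hV ha
    exact ⟨T, hcyc, hTk ▸ (half_spec hF).1, hC, hmem, fun h3 => bounds hF hTk hC h3⟩
  ti _ _ _ x1 hx ht ht' hc hc' := ti hF x1 hx ht ht' hc hc'
  borel _ _ x1 hx ha hc := borel hF hV x1 hx ha hc

/-- Transport along an isomorphism. -/
theorem transport {N P : Type*} [Group N] [Finite N] [Group P] [Finite P] (e : N ≃* P)
    {V : Subgroup N} (h : KleinPSL (V.map e.toMonoidHom)) : KleinPSL V where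
  sylow := by
    have := h.sylow
    rwa [index_map_of_bijective e.bijective] at this
  self := by
    refine map_injective (f := e.toMonoidHom) e.injective ?_
    rw [← h.self]
    ext y
    constructor
    · rintro ⟨x, hx, rfl⟩
      exact mem_centralizer_iff.mpr fun _ ⟨v, hv, e'⟩ => by
        subst e'
        show e v * e x = e x * e v
        rw [← map_mul, ← map_mul, mem_centralizer_iff.mp hx v hv]
    · intro hy
      refine ⟨e.symm y, mem_centralizer_iff.mpr fun v hv => e.injective ?_, e.apply_symm_apply y⟩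
      rw [map_mul, map_mul, e.apply_symm_apply]
      exact mem_centralizer_iff.mp hy (e v) ⟨v, hv, rfl⟩
  rot := by
    obtain ⟨r, hr, hr'⟩ := h.rot
    refine ⟨e.symm r, mem_normalizer_iff.mpr fun v => ?_, fun hc => hr' ?_⟩
    · have := mem_normalizer_iff.mp hr (e v)
      rw [show r * e v * r⁻¹ = e (e.symm r * v * (e.symm r)⁻¹) by
        rw [map_mul, map_mul, map_inv, e.apply_symm_apply]] at this
      exact (mem_map_iff_mem e.injective).symm.trans (this.trans (mem_map_iff_mem e.injective))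
    · exact mem_centralizer_iff.mpr fun _ ⟨v, hv, e'⟩ => by
        subst e'
        show e v * r = r * e v
        have h2 := congrArg e (mem_centralizer_iff.mp hc v hv)
        rwa [map_mul, map_mul, e.apply_symm_apply] at h2
  torus a ha := by
    obtain ⟨T, hcyc, hodd, hC, hmem, hbd⟩ := h.torus (e a) (by rw [MulEquiv.orderOf_eq]; exact ha)
    have hcen : (centralizer ({a} : Set N)).map e.toMonoidHom = centralizer ({e a} : Set P) := by
      ext y
      constructor
      · rintro ⟨x, hx, rfl⟩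
        exact mem_centralizer_singleton_iff.mpr (by
          show e x * e a = e a * e x
          rw [← map_mul, ← map_mul, mem_centralizer_singleton_iff.mp hx])
      · intro hy
        refine ⟨e.symm y, mem_centralizer_singleton_iff.mpr (e.injective ?_), e.apply_symm_apply y⟩
        rw [map_mul, map_mul, e.apply_symm_apply]
        exact mem_centralizer_singleton_iff.mp hy
    have hcard : Nat.card ↥(T.map e.symm.toMonoidHom) = Nat.card ↥T :=
      card_map_of_injective e.symm.injective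
    refine ⟨T.map e.symm.toMonoidHom, ?_, by rw [hcard]; exact hodd, ?_, fun x => ?_, fun h3 => ?_⟩
    · haveI := hcyc
      exact isCyclic_of_surjective (T.equivMapOfInjective e.symm.toMonoidHom e.symm.injective).toMonoidHom
        (MulEquiv.surjective _)
    · rw [hcard, ← hC, ← hcen, card_map_of_injective e.injective]
    · constructor
      · rintro ⟨y, hy, rfl⟩
        obtain ⟨ho, hc⟩ := (hmem y).mp hy
        refine ⟨by rw [MulEquiv.coe_toMonoidHom, MulEquiv.orderOf_eq]; exact ho, e.injective ?_⟩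
        show e (e.symm y * a) = e (a * e.symm y)
        rw [map_mul, map_mul, e.apply_symm_apply]
        exact hc
      · rintro ⟨ho, hc⟩
        exact ⟨e x, (hmem _).mpr ⟨by rw [MulEquiv.orderOf_eq]; exact ho,
          by rw [← map_mul, ← map_mul, hc]⟩, e.symm_apply_apply x⟩
    · rw [hcard] at h3 ⊢
      obtain ⟨h1, h2⟩ := hbd h3
      rw [← hcen, index_map_of_bijective e.bijective, ← Nat.card_congr e.toEquiv] at *
      exact ⟨h1, h2⟩
  ti x t t' x1 hx ht ht' hc hc' := e.injective (h.ti (e x) (e t) (e t')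
    (fun h0 => x1 (e.injective (h0.trans (map_one e).symm)))
    (by rw [MulEquiv.orderOf_eq]; exact hx) (by rw [MulEquiv.orderOf_eq]; exact ht)
    (by rw [MulEquiv.orderOf_eq]; exact ht') (by rw [← map_mul, ← map_mul, hc])
    (by rw [← map_mul, ← map_mul, hc']))
  borel x a x1 hx ha hc := by
    have hb := h.borel (e x) (e a) (fun h0 => x1 (e.injective (h0.trans (map_one e).symm)))
      (by rw [MulEquiv.orderOf_eq]; exact hx) (by rw [MulEquiv.orderOf_eq]; exact ha)
      (by rw [← map_mul, ← map_mul, hc])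
    have hinv : {t : P | orderOf t = 2} = e '' {t : N | orderOf t = 2} := by
      ext t
      constructor
      · exact fun ht => ⟨e.symm t, by
          show orderOf _ = 2
          rw [MulEquiv.orderOf_eq]; exact ht, e.apply_symm_apply t⟩
      · rintro ⟨u, hu, rfl⟩
        show orderOf _ = 2
        rw [MulEquiv.orderOf_eq]; exact hu
    rw [hinv, Set.ncard_image_of_injective _ e.injective] at hb
    refine le_trans (Nat.mul_le_mul_left 3 ?_) hb
    rw [← Set.ncard_image_of_injective _ e.injective]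
    refine Set.ncard_le_ncard ?_ (Set.toFinite _)
    rintro _ ⟨t, ⟨ht, g, g1, hgo, hgt, L, hLo, hLs, hxL, hgL⟩, rfl⟩
    haveI := hLs
    exact ⟨by rw [MulEquiv.orderOf_eq]; exact ht, e g,
      fun h0 => g1 (e.injective (h0.trans (map_one e).symm)),
      by rw [MulEquiv.orderOf_eq]; exact hgo, by rw [← map_mul, ← map_mul, hgt],
      L.map e.toMonoidHom, by rw [card_map_of_injective e.injective]; exact hLo,
      Group.isSolvable_of_surjective (e.toMonoidHom.subgroupMap_surjective L),
      ⟨x, hxL, rfl⟩, ⟨g, hgL, rfl⟩⟩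

end Cfsg.Agent.GW66.PSL

namespace Cfsg.Agent.GW66

universe u

/-- The facts used by `Quot.lean`. -/
theorem pslFacts : PSLFactsStmt.{u} := by
  intro N _ _ F _ _ hF he V hV
  obtain ⟨e⟩ := he
  refine PSL.transport e (PSL.kleinPSL hF ?_)
  let e' := V.equivMapOfInjective e.toMonoidHom e.injective
  exact ⟨(Nat.card_congr e'.toEquiv).symm.trans hV.card_four,
    (Monoid.exponent_eq_of_mulEquiv e').symm.trans hV.exponent_two⟩

end Cfsg.Agent.GW66
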