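import Cfsg.Agent.GW66.Quot
import Cfsg.Agent.GW66.PSLFacts

/-!
# The passage to the quotient by the core
-/

namespace Cfsg.Agent.GW66

universe u

theorem topStmt : TopStmt.{u} :=
  top_of_facts pslFacts

end Cfsg.Agent.GW66
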