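import Cfsg.Agent.GW66.Wiring
import Cfsg.Agent.GW66.Top
import Cfsg.Agent.GW66.Embedded
import Cfsg.Agent.GW66.CharSep82

/-!
# Gorenstein–Walter for a four-group Sylow 2-subgroup
-/

set_option autoImplicit false

namespace Cfsg.Agent.GW66

universe u

theorem klein : KleinStmt.{u} := klein_of_facts pslFacts seKill sepStmt

end Cfsg.Agent.GW66
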