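import Cfsg.Prelude.Def_Local
import Cfsg.Prelude.Def_CaseTheorems
import Cfsg.Prelude.Def_Involutions
import Mathlib.LinearAlgebra.Matrix.SpecialLinearGroup
import Mathlib.LinearAlgebra.Matrix.ProjectiveSpecialLinearGroup
import Mathlib.GroupTheory.SpecificGroups.KleinFour
import Mathlib.FieldTheory.Finite.Basic

/-!
# Groups with a four-group as Sylow 2-subgroup: interfaces

`PLAN.md` in this folder has the proof; each file proves one of the `*Stmt` propositions.
-/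

set_option autoImplicit false

namespace Cfsg.Agent.GW66

open Subgroup
open scoped commutatorElement

universe u

/-- A normal subgroup of odd index isomorphic to `PSL(2, q)` with `q ≡ 3, 5 (mod 8)` (`q = 3` gives
`A₄`). -/
def IsKleinTop (H : Type*) [Group H] : Prop :=
  ∃ N : Subgroup H, N.Normal ∧ Odd N.index ∧
    ∃ (F : Type) (_ : Field F) (_ : Fintype F),
      (Fintype.card F % 8 = 3 ∨ Fintype.card F % 8 = 5) ∧
        Nonempty (↥N ≃* Matrix.ProjectiveSpecialLinearGroup (Fin 2) F)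

variable {G : Type u} [Group G]

/-- Some element of `M` normalises `V` without centralising it. -/
def Fused (M V : Subgroup G) : Prop :=
  ∃ g ∈ M, g ∈ normalizer (V : Set G) ∧ g ∉ centralizer (V : Set G)

/-- `O(C(a))`. -/
def coreK (a : G) : Subgroup G := Cfsg.centralizerPPrimeCore 2 a

/-- `O(C(V))`. -/
def coreD (V : Subgroup G) : Subgroup G :=
  (Cfsg.oddCore ↥(centralizer (V : Set G))).map (centralizer (V : Set G)).subtype

/-- `[O(C(a)), V]`. -/
def coreU (V : Subgroup G) (a : G) : Subgroup G := ⁅coreK a, V⁆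

/-- `O(M)` as a subgroup of the ambient group. -/
def coreO (M : Subgroup G) : Subgroup G := (Cfsg.oddCore ↥M).map M.subtype

/-- Elements of odd order in `M ∩ C(a)` inverted by `b`. -/
def invSet (M : Subgroup G) (a b : G) : Set G :=
  {x | x ∈ M ∧ Odd (orderOf x) ∧ x * a = a * x ∧ b * x * b⁻¹ = x⁻¹}

/-- `a`, `b` are distinct involutions of `V`. -/
structure Pair (V : Subgroup G) (a b : G) : Prop where
  ha : a ∈ V
  hb : b ∈ V
  a1 : a ≠ 1
  b1 : b ≠ 1
  ne : a ≠ b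

/-- A minimal counterexample. -/
structure Ctx [Finite G] (V : Subgroup G) : Prop where
  simple : IsSimpleGroup G
  klein : IsKleinFour V
  sylow : Odd V.index
  fused : Fused (⊤ : Subgroup G) V
  ind : ∀ M : Subgroup G, M ≠ ⊤ → V ≤ M → Fused M V →
    IsKleinTop (↥M ⧸ Cfsg.oddCore ↥M)

/-- The facts about a proper fused subgroup that follow from `IsKleinTop`. -/
structure Top [Finite G] (M V : Subgroup G) : Prop where
  /-- inverted elements commute modulo the odd core -/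
  comm : ∀ a b, Pair V a b → ∀ x ∈ invSet M a b, ∀ y ∈ invSet M a b, ⁅x, y⁆ ∈ coreO M
  /-- inverted `p`-elements form a chain modulo the odd core -/
  chain : ∀ a b, Pair V a b → ∀ p : ℕ, p.Prime → ∀ x ∈ invSet M a b, ∀ y ∈ invSet M a b,
    (∃ i : ℕ, orderOf x = p ^ i) → (∃ j : ℕ, orderOf y = p ^ j) →
      (∃ n : ℕ, x * (y ^ n)⁻¹ ∈ coreO M) ∨ ∃ n : ℕ, y * (x ^ n)⁻¹ ∈ coreO M
  /-- commuting inverted elements for two involutions -/
  twoInv : ∀ a b, Pair V a b → ∀ x ∈ invSet M a b, ∀ y ∈ invSet M b a, x * y = y * x →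
    x ∈ coreO M ∨ y ∈ coreO M
  /-- the part centralised by `V` acts on the inverted part -/
  fix : ∀ a b, Pair V a b → ∀ w ∈ invSet M a b, ∀ y ∈ M ⊓ centralizer (V : Set G),
    Odd (orderOf y) → b * ⁅y, w⁆ * b⁻¹ * ⁅y, w⁆ ∈ coreO M
  /-- order bound and number of conjugates of inverted elements -/
  count : ∀ a b, Pair V a b → ∀ p j : ℕ, p.Prime → 1 ≤ j → p ≠ 2 →
    (∃ x ∈ invSet M a b, orderOf x = p ^ j ∧ x ^ p ^ (j - 1) ∉ coreO M) →
      24 * Nat.card ↥(coreK a ⊓ M) ^ 3 < Nat.card M * Nat.card ↥(coreD V ⊓ M) ^ 2 ∧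
      ∀ S : Set G, (∀ s ∈ S, ∃ x ∈ invSet M a b, x ∉ coreO M ∧ s ∈ M ∧ s * x⁻¹ ∈ coreO M) →
        6 * (p ^ j) ^ 2 * S.ncard ≤ {g : G | ∃ m ∈ M, ∃ s ∈ S, m * s * m⁻¹ = g}.ncard
  /-- at most a third of the conjugate inverted elements lie with a given one in a solvable
  subgroup without four-groups -/
  borel : ∀ a b, Pair V a b → ∀ p : ℕ, p.Prime → p ≠ 2 →
    ∀ S : Set G, (∀ s ∈ S, ∃ x ∈ invSet M a b, x ^ p ∈ coreO M ∧ x ∉ coreO M ∧ s ∈ M ∧
        s * x⁻¹ ∈ coreO M) →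
      ∀ x' ∈ {g : G | ∃ m ∈ M, ∃ s ∈ S, m * s * m⁻¹ = g},
        3 * {g : G | (∃ m ∈ M, ∃ s ∈ S, m * s * m⁻¹ = g) ∧ ∃ L : Subgroup G, L ≤ M ∧
              Group.IsSolvable L ∧ (∀ W : Subgroup G, W ≤ L → ¬ IsKleinFour W) ∧
              x' ∈ L ∧ g ∈ L}.ncard ≤
          {g : G | ∃ m ∈ M, ∃ s ∈ S, m * s * m⁻¹ = g}.ncard

/-- In every fused proper subgroup `V` centralises the invariant `p`-subgroups of the odd core, for
`p` dividing the order of the part centralised by `V`. -/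
def Dormant [Finite G] (V : Subgroup G) : Prop :=
  ∀ M : Subgroup G, M ≠ ⊤ → V ≤ M → Fused M V → ∀ p : ℕ, p.Prime →
    p ∣ Nat.card ↥(coreD V ⊓ M) → ∀ R : Subgroup G, R ≤ coreO M → IsPGroup p R →
      V ≤ normalizer (R : Set G) → V ≤ centralizer (R : Set G)

/-! ## Statements -/

/-- `Quot.lean` -/
def TopStmt : Prop :=
  ∀ (G : Type u) [Group G] [Finite G] (V : Subgroup G), Ctx V →
    ∀ M : Subgroup G, M ≠ ⊤ → V ≤ M → Fused M V → Top M V

/-- `Embedded.lean`: a fused proper subgroup containing an involution centraliser. -/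
def SEKillStmt : Prop :=
  ∀ (G : Type u) [Group G] [Finite G] (V : Subgroup G), Ctx V →
    ∀ (M : Subgroup G) (a : G), M ≠ ⊤ → a ∈ V → a ≠ 1 →
      centralizer ({a} : Set G) ≤ M → Fused M V → coreD V = ⊥

/-- `Base.lean`: no invariant `p`-subgroup over a full Sylow subgroup of `O(C(V))` is moved. -/
def BaseStmt : Prop :=
  ∀ (G : Type u) [Group G] [Finite G] (V : Subgroup G), Ctx V →
    ∀ (p : ℕ), p.Prime → p ∣ Nat.card ↥(coreD V) → ∀ (P₀ Q : Subgroup G) (r : G),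
      P₀ ≤ coreD V → IsPGroup p P₀ → ¬ p ∣ P₀.relIndex (coreD V) →
      r ∈ normalizer (V : Set G) → r ∉ centralizer (V : Set G) →
      r ∈ normalizer (P₀ : Set G) → r ∈ normalizer (Q : Set G) →
      P₀ ≤ normalizer (Q : Set G) → IsPGroup p Q → V ≤ normalizer (Q : Set G) →
      V ≤ centralizer (Q : Set G)

/-- `Dormant.lean`: the downward induction from `BaseStmt`. -/
def DormantStmt : Prop :=
  ∀ (G : Type u) [Group G] [Finite G] (V : Subgroup G), Ctx V → Dormant V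

/-- `Cons.lean`: the centraliser of a `p`-element of `O(C(V))` is fused. -/
def FusedCentStmt : Prop :=
  ∀ (G : Type u) [Group G] [Finite G] (V : Subgroup G), Ctx V → Dormant V →
    ∀ (a : G) (p : ℕ), p.Prime → a ∈ V → a ≠ 1 →
      p ∣ (coreD V).relIndex (coreK a) →
      ∀ y ∈ coreD V, y ≠ 1 → (∃ k : ℕ, orderOf y = p ^ k) →
        Fused (centralizer ({y} : Set G)) V

/-- `Cons.lean`: the moved part of an invariant `p`-subgroup of `C(a) ∩ M` is cyclic. -/
def NegCyclicStmt : Prop :=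
  ∀ (G : Type u) [Group G] [Finite G] (V : Subgroup G), Ctx V → Dormant V →
    ∀ (M : Subgroup G) (a b : G) (p : ℕ), M ≠ ⊤ → V ≤ M → Fused M V → Pair V a b → p.Prime →
      p ∣ Nat.card ↥(coreD V ⊓ M) → ∀ Y : Subgroup G, Y ≤ coreK a ⊓ M → IsPGroup p Y →
        V ≤ normalizer (Y : Set G) →
        IsCyclic ↥(⁅Y, V⁆) ∧ ⁅Y, V⁆ ⊓ coreO M = ⊥ ∧ ∀ x ∈ ⁅Y, V⁆, x ∈ invSet M a b

/-- `Former.lean`: if `[O(C(a)), V]` centralises an element of `O(C(V))`. -/
def FormerStmt : Prop :=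
  ∀ (G : Type u) [Group G] [Finite G] (V : Subgroup G), Ctx V → Dormant V →
    ∀ (a : G) (q : ℕ) (f : G), a ∈ V → a ≠ 1 → q.Prime → q ∣ (coreD V).relIndex (coreK a) →
      f ∈ coreD V → f ≠ 1 → (∃ k : ℕ, orderOf f = q ^ k) →
      coreU V a ≤ centralizer ({f} : Set G) → coreU V a ⊓ coreD V = ⊥

/-- `Alpha.lean`: elementary abelian normal subgroups meeting `O(C(V))`. -/
def AlphaStmt : Prop :=
  ∀ (G : Type u) [Group G] [Finite G] (V : Subgroup G), Ctx V → Dormant V →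
    ∀ (a : G) (q : ℕ) (X : Subgroup G), a ∈ V → a ≠ 1 → q.Prime →
      q ∣ (coreD V).relIndex (coreK a) → X ≤ coreK a → IsMulCommutative X →
      (∀ x ∈ X, x ^ q = 1) → coreK a ≤ normalizer (X : Set G) → V ≤ normalizer (X : Set G) →
      X ⊓ coreD V ≠ ⊥ →
      ∃ f ∈ X ⊓ coreD V, f ≠ 1 ∧ coreU V a ≤ centralizer ({f} : Set G)

/-- `Beta.lean`: an extraspecial normal subgroup of order `q³` is impossible. -/
def BetaStmt : Prop :=
  ∀ (G : Type u) [Group G] [Finite G] (V : Subgroup G), Ctx V → Dormant V →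
    ∀ (a : G) (q : ℕ) (C : Subgroup G), a ∈ V → a ≠ 1 → q.Prime →
      q ∣ (coreD V).relIndex (coreK a) → C ≤ coreK a → Nat.card C = q ^ 3 →
      ¬ IsMulCommutative C → (∀ x ∈ C, x ^ q = 1) →
      coreK a ≤ normalizer (C : Set G) → V ≤ normalizer (C : Set G) →
      Nat.card ↥(C ⊓ coreD V) = q → False

/-- `Local.lean`: `[O(C(a)), V]` meets `O(C(V))` trivially. -/
def LocalStmt : Prop :=
  ∀ (G : Type u) [Group G] [Finite G] (V : Subgroup G), Ctx V →
    ∀ a : G, a ∈ V → a ≠ 1 → coreU V a ⊓ coreD V = ⊥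

/-- `Sections.lean`: `|G| |D|² < 96 |K|³`. -/
def OrderStmt : Prop :=
  ∀ (G : Type u) [Group G] [Finite G] (V : Subgroup G), Ctx V →
    ∀ a : G, a ∈ V → a ≠ 1 →
      Nat.card G * Nat.card ↥(coreD V) ^ 2 < 96 * Nat.card ↥(coreK a) ^ 3

/-- `CharKill.lean`: extendible linear characters force `O(C(V)) = 1`. -/
def CharKillStmt : Prop :=
  ∀ (G : Type u) [Group G] [Finite G] (V : Subgroup G), Ctx V →
    (∀ a : G, a ∈ V → a ≠ 1 → coreU V a ⊓ coreD V = ⊥) → coreD V = ⊥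

/-- `Main.lean`: Gorenstein–Walter for a four-group. -/
def KleinStmt : Prop :=
  ∀ (G : Type u) [Group G] [Finite G] (V : Subgroup G), IsKleinFour V → Odd V.index →
    Fused (⊤ : Subgroup G) V → IsKleinTop (G ⧸ Cfsg.oddCore G)

end Cfsg.Agent.GW66
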