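import Cfsg.Agent.GW66.AlphaCent

/-!
# Elementary abelian normal subgroups meeting `O(C(V))`
-/

set_option autoImplicit false
set_option linter.unusedSectionVars false

namespace Cfsg.Agent.GW66

open Subgroup AlphaAux
open scoped commutatorElement

universe u

variable {G : Type u} [Group G] [Finite G] {V X : Subgroup G} {a b z : G} {q : ℕ}

/-- The elements acting on `X` by transvections with axis `⟨z⟩`. -/
def shearGroup (X : Subgroup G) (z : G) : Subgroup G where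
  carrier := {u | Commute u z ∧ ∀ ξ ∈ X, u * ξ * u⁻¹ * ξ⁻¹ ∈ zpowers z}
  one_mem' := ⟨Commute.one_left z, fun ξ _ => by simp⟩
  mul_mem' := by
    rintro u v ⟨hu, hu'⟩ ⟨hv, hv'⟩
    refine ⟨hu.mul_left hv, fun ξ hξ => ?_⟩
    obtain ⟨i, hi⟩ := mem_zpowers_iff.mp (hv' ξ hξ)
    have e : u * v * ξ * (u * v)⁻¹ * ξ⁻¹ =
        (u * (v * ξ * v⁻¹ * ξ⁻¹) * u⁻¹) * (u * ξ * u⁻¹ * ξ⁻¹) := by group
    rw [e, ← hi, conj_eq_of_commute (hu.zpow_right i)]
    exact mul_mem (zpow_mem (mem_zpowers z) i) (hu' ξ hξ)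
  inv_mem' := by
    rintro u ⟨hu, hu'⟩
    refine ⟨hu.inv_left, fun ξ hξ => ?_⟩
    obtain ⟨i, hi⟩ := mem_zpowers_iff.mp (hu' ξ hξ)
    have e : u⁻¹ * ξ * u⁻¹⁻¹ * ξ⁻¹ = u⁻¹ * (u * ξ * u⁻¹ * ξ⁻¹)⁻¹ * u⁻¹⁻¹ := by group
    rw [e, ← hi, ← zpow_neg, conj_eq_of_commute (hu.inv_left.zpow_right _)]
    exact zpow_mem (mem_zpowers z) _

namespace AlphaData

variable (h : AlphaData V a b q X)

include h

theorem centralized_eq (hno : ∀ f ∈ X ⊓ coreD V, f ≠ 1 → ¬ coreU V a ≤ centralizer ({f} : Set G))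
    (hzX : z ∈ X) (hz : ∀ ζ ∈ X, b * ζ * b⁻¹ = ζ⁻¹ → ζ ∈ zpowers z)
    (hC : X ⊓ centralizer (coreU V a : Set G) ≠ ⊥) :
    X ⊓ centralizer (coreU V a : Set G) = zpowers z := by
  set U := coreU V a with hU
  set C := X ⊓ centralizer (U : Set G) with hCdef
  have hbN : b⁻¹ ∈ normalizer (U : Set G) := inv_mem (h.V_le_normalizer_U h.hp.hb)
  have hle : C ≤ zpowers z := by
    intro ξ hξ
    obtain ⟨hξX, hξC⟩ := mem_inf.mp hξ
    obtain ⟨p, hp, ζ, hζ, hζi, rfl⟩ := h.decomp hξX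
    obtain ⟨hpX, hpD⟩ := mem_inf.mp hp
    have hb' : b * (p * ζ) * b⁻¹ ∈ C := by
      refine mem_inf.mpr ⟨h.bX hξX, mem_centralizer_iff.mpr fun g hg => ?_⟩
      have hg' := conj_mem_of_mem_normalizer hbN hg
      rw [inv_inv] at hg'
      calc g * (b * (p * ζ) * b⁻¹) = b * ((b⁻¹ * g * b) * (p * ζ)) * b⁻¹ := by group
        _ = b * ((p * ζ) * (b⁻¹ * g * b)) * b⁻¹ := by rw [mem_centralizer_iff.mp hξC _ hg']
        _ = b * (p * ζ) * b⁻¹ * g := by group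
    have hp2 : p * p ∈ C := by
      have := mul_mem hξ hb'
      convert this using 1
      have e : b * (p * ζ) * b⁻¹ = p * ζ⁻¹ := by
        calc b * (p * ζ) * b⁻¹ = (b * p * b⁻¹) * (b * ζ * b⁻¹) := by group
          _ = p * ζ⁻¹ := by rw [h.fixed_of_memD hpD, hζi]
      rw [e, mul_assoc p ζ, ← mul_assoc ζ p, ← (h.comm p hpX ζ hζ).eq]
      group
    have hp1 : p * p = 1 := by
      by_contra hne
      refine hno (p * p) (mem_inf.mpr ⟨mul_mem hpX hpX, mul_mem hpD hpD⟩) hne fun g hg => ?_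
      exact mem_centralizer_singleton_iff.mpr (mem_centralizer_iff.mp (mem_inf.mp hp2).2 g hg)
    have : p = 1 := by
      obtain ⟨n, hn⟩ := exists_pow_sq (h.odd_of_memK (h.hXK hpX))
      rw [← hn, ← (Commute.refl p).mul_pow, hp1, one_pow]
    rw [this, one_mul]
    exact hz ζ hζ hζi
  obtain ⟨⟨w, hw⟩, hw1⟩ := ne_bot_iff_exists_ne_one.mp hC
  refine le_antisymm hle ?_
  rw [← h.zpowers_eq hzX (hle hw) fun e => hw1 (Subtype.ext e)]
  exact zpowers_le.mpr hw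

/-- A Sylow subgroup of `U ⊓ C(y)` in which the moved part is generated by `v`. -/
theorem common_sylow (hFC : FusedCentStmt.{u}) (hNC : NegCyclicStmt.{u})
    (hzX : z ∈ X) (hzi : b * z * b⁻¹ = z⁻¹)
    (hshear : coreU V a ≤ shearGroup X z)
    {y v : G} (hy : y ∈ X ⊓ coreD V) (h1 : y ≠ 1)
    (hvK : v ∈ coreK a) (hvi : b * v * b⁻¹ = v⁻¹) (hvy : Commute v y)
    (hvq : ∃ j, orderOf v = q ^ j) (hvX : v ∉ centralizer (X : Set G))
    (hpow : ∀ u ∈ coreU V a, u ^ q ∈ centralizer (X : Set G)) :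
    z ∈ zpowers v ∧ z ∉ coreO (centralizer ({y} : Set G)) ∧
    ∀ u ∈ coreK a, b * u * b⁻¹ = u⁻¹ → Commute u y → (∃ i, orderOf u = q ^ i) →
      ∀ ξ ∈ X ⊓ coreD V, Commute v ξ → Commute u ξ := by
  have := Fact.mk h.hq
  set U := coreU V a with hU
  set H := U ⊓ centralizer ({y} : Set G) with hH
  have hbH : b ∈ normalizer (H : Set G) := mem_normalizer_of_conj_mem fun g hg => by
    obtain ⟨hgU, hgy⟩ := mem_inf.mp hg
    exact mem_inf.mpr ⟨conj_mem_of_mem_normalizer (h.V_le_normalizer_U h.hp.hb) hgU,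
      mul_mem (mul_mem (h.V_le_cent (mem_inf.mp hy).2 h.hp.hb) hgy)
        (inv_mem (h.V_le_cent (mem_inf.mp hy).2 h.hp.hb))⟩
  have hzy : Commute z y := h.comm z hzX y (mem_inf.mp hy).1
  have hvz : Commute v z := (hshear (h.mem_U hvK hvi)).1
  set L₀ := zpowers v ⊔ zpowers z with hL₀
  have hL₀H : L₀ ≤ H := sup_le
    (zpowers_le.mpr (mem_inf.mpr ⟨h.mem_U hvK hvi, mem_centralizer_singleton_iff.mpr hvy.eq⟩))
    (zpowers_le.mpr (mem_inf.mpr
      ⟨h.mem_U (h.hXK hzX) hzi, mem_centralizer_singleton_iff.mpr hzy.eq⟩))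
  have hL₀q : IsPGroup q L₀ := by
    obtain ⟨j, hj⟩ := hvq
    refine (IsPGroup.of_card (n := j) (by rw [Nat.card_zpowers, hj])).to_sup_of_normal_right'
      (h.isPGroup_X.to_le (zpowers_le.mpr hzX)) ?_
    refine zpowers_le.mpr (mem_normalizer_of_conj_mem fun g hg => ?_)
    obtain ⟨i, rfl⟩ := mem_zpowers_iff.mp hg
    rw [conj_eq_of_commute (hvz.zpow_right i)]
    exact zpow_mem (mem_zpowers z) i
  have hinvN : ∀ g : G, b * g * b⁻¹ = g⁻¹ →
      zpowers g ≤ (zpowers g).comap (MulAut.conj b).toMonoidHom := fun g hg => by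
    refine zpowers_le.mpr ?_
    show b * g * b⁻¹ ∈ zpowers g
    rw [hg]
    exact inv_mem (mem_zpowers g)
  have hbL₀ : b ∈ normalizer (L₀ : Set G) := mem_normalizer_of_conj_mem fun g hg => by
    have hle : L₀ ≤ L₀.comap (MulAut.conj b).toMonoidHom := sup_le
      ((hinvN v hvi).trans (comap_mono le_sup_left)) ((hinvN z hzi).trans (comap_mono le_sup_right))
    exact hle hg
  obtain ⟨Q, hLQ, hQH, hbQ, hQq, hQcard⟩ :=
    h.exists_sylow (inf_le_left.trans h.U_le_K) hbH h.hq hL₀H hL₀q hbL₀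
  have hQK : Q ≤ coreK a := hQH.trans (inf_le_left.trans h.U_le_K)
  obtain ⟨hcyc, hO, -, hmem⟩ := h.negCyclic hFC hNC hy h1 hQK (hQH.trans inf_le_right) hQq
    (h.V_le_normalizer hQK hbQ)
  have hvQ : v ∈ Q := hLQ (mem_sup_left (mem_zpowers v))
  have hzQ : z ∈ Q := hLQ (mem_sup_right (mem_zpowers z))
  have hgen : ⁅Q, V⁆ ≤ zpowers v := by
    obtain ⟨⟨g, hg⟩, hgen⟩ := hcyc.exists_generator
    have hle : ⁅Q, V⁆ ≤ zpowers g := fun w hw => by
      obtain ⟨i, hi⟩ := mem_zpowers_iff.mp (hgen ⟨w, hw⟩)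
      exact mem_zpowers_iff.mpr ⟨i, by simpa using congrArg Subtype.val hi⟩
    have hgQ : g ∈ Q := (commutator_le.mpr fun x hx w hw => by
      rw [commutatorElement_def]
      have := mul_mem hx
        (conj_mem_of_mem_normalizer (h.V_le_normalizer hQK hbQ hw) (inv_mem hx))
      simpa [mul_assoc] using this : ⁅Q, V⁆ ≤ Q) hg
    refine hle.trans (zpowers_le.mpr ?_)
    obtain ⟨i, hi⟩ := (mem_powers_iff_mem_zpowers (x := g)).mpr (hle (hmem v hvQ hvi))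
    dsimp only at hi
    rw [← hi, mem_zpowers_pow_iff]
    obtain ⟨k, hk⟩ := IsPGroup.iff_orderOf.mp hQq ⟨g, hgQ⟩
    rw [Subgroup.orderOf_mk] at hk
    rw [hk]
    refine Nat.Coprime.pow_right k ((h.hq.coprime_iff_not_dvd.mpr fun hd => hvX ?_).symm)
    obtain ⟨t, rfl⟩ := hd
    rw [← hi, pow_mul]
    exact pow_mem (hpow g (mem_inf.mp (hQH hgQ)).1) t
  refine ⟨hgen (hmem z hzQ hzi), fun hzO => hvX ?_, ?_⟩
  · have hz1 : z = 1 := mem_bot.mp (hO ▸ mem_inf.mpr ⟨hmem z hzQ hzi, hzO⟩)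
    rw [mem_centralizer_iff]
    intro ξ hξ
    have := (hshear (h.mem_U hvK hvi)).2 ξ hξ
    rw [hz1, zpowers_one_eq_bot, mem_bot, mul_inv_eq_one] at this
    exact (commute_of_conj_eq this).eq.symm
  intro u huK hui huy hu ξ hξ hvξ
  obtain ⟨i, hi⟩ := hu
  let P : Sylow q H := Sylow.ofCard (Q.subgroupOf H)
    (by rw [Nat.card_congr (subgroupOfEquivOfLe hQH).toEquiv, hQcard])
  let uH : H := ⟨u, mem_inf.mpr ⟨h.mem_U huK hui, mem_centralizer_singleton_iff.mpr huy.eq⟩⟩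
  obtain ⟨P', hP'⟩ := (IsPGroup.of_card (p := q) (G := zpowers uH) (n := i)
    (by rw [Nat.card_zpowers, ← Subgroup.orderOf_coe, ← hi])).exists_le_sylow
  obtain ⟨⟨l, hl⟩, hlP⟩ := MulAction.exists_smul_eq H P' P
  have hu' : l * u * l⁻¹ ∈ Q := by
    have : (⟨l, hl⟩ : H) * uH * ⟨l, hl⟩⁻¹ ∈ ((P : Sylow q H) : Subgroup H) := by
      rw [← hlP]
      exact Subgroup.smul_mem_pointwise_smul uH (MulAut.conj (⟨l, hl⟩ : H)) _ (hP' (mem_zpowers _))
    exact this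
  set e := l * u * l⁻¹ with he
  obtain ⟨hξX, hξD⟩ := mem_inf.mp hξ
  obtain ⟨⟨s, hs⟩, hes⟩ : ∃ s : zpowers z, e * ξ * e⁻¹ = ξ * s :=
    ⟨⟨e * ξ * e⁻¹ * ξ⁻¹, (hshear (mem_inf.mp (hQH hu')).1).2 ξ hξX⟩,
      (h.comm _ (mul_mem (h.kX (hQK hu') hξX) (inv_mem hξX)) _ hξX).eq ▸ by group⟩
  dsimp only at hes
  have hsX : s ∈ X := zpowers_le.mpr hzX hs
  obtain ⟨t, ht⟩ := mem_zpowers_iff.mp hs
  have hez : Commute e s := ht ▸ (hshear (mem_inf.mp (hQH hu')).1).1.zpow_right t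
  have hbs : b * s * b⁻¹ = s⁻¹ := by rw [← ht, ← conj_zpow, hzi, inv_zpow]
  -- the inverted element `c` acts as `e⁻²`
  set c := e⁻¹ * (b * e * b⁻¹) with hc
  have hcQ : c ∈ Q := mul_mem (inv_mem hu') (conj_mem_of_mem_normalizer hbQ hu')
  have hci : b * c * b⁻¹ = c⁻¹ := by
    rw [hc]
    calc b * (e⁻¹ * (b * e * b⁻¹)) * b⁻¹ = b * e⁻¹ * b * e * (b⁻¹ * b⁻¹) := by group
      _ = (b * e * b⁻¹)⁻¹ * e := by rw [h.binv, h.bb]; simp [mul_assoc, h.binv]
      _ = _ := by group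
  have hcξ : Commute c ξ := by
    obtain ⟨k, hk⟩ := mem_zpowers_iff.mp (hgen (hmem c hcQ hci))
    rw [← hk]
    exact hvξ.zpow_left k
  have hs2 : s * s = 1 := by
    have e1 : b * e * b⁻¹ * ξ * (b * e * b⁻¹)⁻¹ = ξ * s⁻¹ := by
      calc b * e * b⁻¹ * ξ * (b * e * b⁻¹)⁻¹
          = b * (e * (b⁻¹ * ξ * b) * e⁻¹) * b⁻¹ := by group
        _ = b * (e * ξ * e⁻¹) * b⁻¹ := by
            have : b⁻¹ * ξ * b = ξ := by
              calc b⁻¹ * ξ * b = b⁻¹ * (b * ξ * b⁻¹) * b := by rw [h.fixed_of_memD hξD]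
                _ = ξ := by group
            rw [this]
        _ = (b * ξ * b⁻¹) * (b * s * b⁻¹) := by rw [hes]; group
        _ = ξ * s⁻¹ := by rw [h.fixed_of_memD hξD, hbs]
    have e2 : e⁻¹ * (ξ * s⁻¹) * e = ξ := by
      have := conj_eq_of_commute hcξ
      conv_rhs => rw [← this]
      rw [hc, ← e1]
      group
    have e3 : ξ * s⁻¹ = ξ * s := by
      rw [← hes]
      conv_rhs => rw [← e2]
      group
    exact mul_eq_one_iff_inv_eq.mpr (mul_left_cancel e3)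
  have hs1 : s = 1 := by
    obtain ⟨n, hn⟩ := exists_pow_sq (h.odd_of_memK (h.hXK hsX))
    rw [← hn, ← (Commute.refl s).mul_pow, hs2, one_pow]
  rw [hs1, mul_one] at hes
  -- back to `u`
  have hlU : l ∈ U := (mem_inf.mp hl).1
  obtain ⟨k, hk⟩ := mem_zpowers_iff.mp ((hshear (inv_mem hlU)).2 ξ hξX)
  have hlξ : l⁻¹ * ξ * l = z ^ k * ξ := by rw [hk]; group
  have hu'' : u * (l⁻¹ * ξ * l) * u⁻¹ = l⁻¹ * ξ * l := by
    calc u * (l⁻¹ * ξ * l) * u⁻¹ = l⁻¹ * (e * ξ * e⁻¹) * l := by rw [he]; group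
      _ = _ := by rw [hes]
  have huz : Commute u (z ^ k) := (hshear (h.mem_U huK hui)).1.zpow_right k
  have h3 : Commute u (z ^ k * ξ) := commute_of_conj_eq (hlξ ▸ hu'')
  simpa using huz.inv_right.mul_right h3

theorem big_case (hTop : TopStmt.{u}) (hFC : FusedCentStmt.{u}) (hNC : NegCyclicStmt.{u})
    (hOrd : OrderStmt.{u}) (hne : X ⊓ coreD V ≠ ⊥)
    (hno : ∀ f ∈ X ⊓ coreD V, f ≠ 1 → ¬ coreU V a ≤ centralizer ({f} : Set G))
    (hzX : z ∈ X) (hz1 : z ≠ 1) (hzi : b * z * b⁻¹ = z⁻¹)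
    (hz : ∀ ζ ∈ X, b * ζ * b⁻¹ = ζ⁻¹ → ζ ∈ zpowers z)
    (hbig : q ^ 2 ≤ Nat.card ↥(X ⊓ coreD V)) : False := by
  classical
  set U := coreU V a with hU
  set K := coreK a with hK
  set Xp := X ⊓ coreD V with hXp
  have hC := h.centralized_eq hno hzX hz
    (h.exists_centralized hne fun x hx hi => h.pow_sq_mem_centralizer hTop hFC hzX hzi hz hbig hx hi)
  have hUz : ∀ g ∈ U, Commute g z := fun g hg =>
    mem_centralizer_iff.mp (mem_inf.mp (hC ▸ mem_zpowers z)).2 g hg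
  have hKz : ∀ k ∈ K, k * z * k⁻¹ ∈ zpowers z := fun k hk => by
    rw [← hC]
    refine mem_inf.mpr ⟨h.kX hk hzX, mem_centralizer_iff.mpr fun g hg => ?_⟩
    have hg' : k⁻¹ * g * k ∈ U := by
      simpa using conj_mem_of_mem_normalizer (h.K_le_normalizer_U (inv_mem hk)) hg
    calc g * (k * z * k⁻¹) = k * ((k⁻¹ * g * k) * z) * k⁻¹ := by group
      _ = k * (z * (k⁻¹ * g * k)) * k⁻¹ := by rw [(hUz _ hg').eq]
      _ = k * z * k⁻¹ * g := by group
  have hshear : U ≤ shearGroup X z := by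
    refine h.U_le fun x hxK hxi => ⟨hUz x (h.mem_U hxK hxi), fun ξ hξ => ?_⟩
    obtain ⟨p, hp, ζ, hζ, hζi, rfl⟩ := h.decomp hξ
    obtain ⟨hpX, hpD⟩ := mem_inf.mp hp
    obtain ⟨i, rfl⟩ := mem_zpowers_iff.mp (hz ζ hζ hζi)
    obtain ⟨e, heK, hee, hei, -⟩ := h.sqrt hxK hxi
    obtain ⟨p', hp', ζ', hζ', hζi', he'⟩ := h.decomp (h.kX heK hpX)
    obtain ⟨hp'X, hp'D⟩ := mem_inf.mp hp'
    have e1 : e⁻¹ * p * e = p' * ζ'⁻¹ := by
      calc e⁻¹ * p * e = (b * e * b⁻¹) * (b * p * b⁻¹) * (b * e * b⁻¹)⁻¹ := by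
            rw [hei, h.fixed_of_memD hpD, inv_inv]
        _ = b * (e * p * e⁻¹) * b⁻¹ := by group
        _ = (b * p' * b⁻¹) * (b * ζ' * b⁻¹) := by rw [he']; group
        _ = p' * ζ'⁻¹ := by rw [h.fixed_of_memD hp'D, hζi']
    obtain ⟨j, hj⟩ := mem_zpowers_iff.mp (hz ζ' hζ' hζi')
    have hez : Commute e (ζ' * ζ') := by
      rw [← hj]
      exact ((hUz e (h.mem_U heK hei)).zpow_right j).mul_right
        ((hUz e (h.mem_U heK hei)).zpow_right j)
    have e2 : x * p * x⁻¹ = p * (ζ' * ζ') := by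
      calc x * p * x⁻¹ = e * (e * p * e⁻¹) * e⁻¹ := by rw [← hee]; group
        _ = e * ((p' * ζ'⁻¹) * (ζ' * ζ')) * e⁻¹ := by rw [he']; group
        _ = e * ((e⁻¹ * p * e) * (ζ' * ζ')) * e⁻¹ := by rw [e1]
        _ = p * (e * (ζ' * ζ') * e⁻¹) := by group
        _ = p * (ζ' * ζ') := by rw [conj_eq_of_commute hez]
    have e3 : x * (p * z ^ i) * x⁻¹ * (p * z ^ i)⁻¹ = ζ' * ζ' := by
      calc x * (p * z ^ i) * x⁻¹ * (p * z ^ i)⁻¹
          = (x * p * x⁻¹) * (x * z ^ i * x⁻¹) * (z ^ i)⁻¹ * p⁻¹ := by group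
        _ = p * (ζ' * ζ') * p⁻¹ := by
            rw [e2, conj_eq_of_commute ((hUz x (h.mem_U hxK hxi)).zpow_right i)]; group
        _ = ζ' * ζ' := conj_eq_of_commute (h.comm p hpX _ (mul_mem hζ' hζ'))
    rw [e3]
    exact mul_mem (hz ζ' hζ' hζi') (hz ζ' hζ' hζi')
  have hshift : ∀ g ∈ U, ∀ ξ ∈ X, ∃ s ∈ zpowers z, Commute g s ∧ g * ξ * g⁻¹ = ξ * s := by
    intro g hg ξ hξ
    have hs := (hshear hg).2 ξ hξ
    obtain ⟨t, ht⟩ := mem_zpowers_iff.mp hs
    refine ⟨_, hs, ht ▸ (hUz g hg).zpow_right t, ?_⟩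
    rw [← (h.comm _ (zpowers_le.mpr hzX hs) _ hξ).eq]
    group
  have hpow : ∀ g ∈ U, g ^ q ∈ centralizer (X : Set G) := by
    intro g hg
    rw [mem_centralizer_iff]
    intro ξ hξ
    obtain ⟨s, hs, hgs, he⟩ := hshift g hg ξ hξ
    have := conj_pow_shift he (conj_eq_of_commute hgs) q
    rw [h.exp s (zpowers_le.mpr hzX hs), mul_one] at this
    exact (commute_of_conj_eq this).eq.symm
  have hzcard : Nat.card (zpowers z) = q := by rw [Nat.card_zpowers, h.orderOf_eq hzX hz1]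
  have hker : ∀ g ∈ U, Nat.card Xp ≤ q * Nat.card ↥(Xp ⊓ centralizer ({g} : Set G)) := by
    intro g hg
    rw [← ncard_orb_mul Xp g]
    refine Nat.mul_le_mul_right _ ?_
    rw [← hzcard, ← Nat.card_coe_set_eq]
    refine Nat.card_le_card_of_injective
      (fun w : orb Xp g => (⟨g⁻¹ * w, by
        obtain ⟨p, hp, hpe⟩ := w.2
        have hs := (hshear (inv_mem hg)).2 p (mem_inf.mp hp).1
        have hs' := inv_mem hs
        rw [← hpe]
        convert hs using 1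
        rw [inv_inv]
        calc g⁻¹ * (p * g * p⁻¹) = g⁻¹ * p * g * p⁻¹ := by group⟩ : zpowers z)) ?_
    intro w w' e
    exact Subtype.ext (mul_left_cancel (congrArg Subtype.val e :))
  -- an element `v` moving `X⁺`
  obtain ⟨⟨y₀, hy₀⟩, hy₀1⟩ := ne_bot_iff_exists_ne_one.mp hne
  obtain ⟨x, hxK, hxi, p₀, hp₀, hxp⟩ :
      ∃ x ∈ K, b * x * b⁻¹ = x⁻¹ ∧ ∃ p ∈ Xp, ¬ Commute x p := by
    by_contra hcon
    push Not at hcon
    exact hno y₀ hy₀ (fun e => hy₀1 (Subtype.ext e))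
      (h.U_le fun x hx hi => mem_centralizer_singleton_iff.mpr (hcon x hx hi y₀ hy₀).eq)
  have hqpart : ∀ x ∈ K, b * x * b⁻¹ = x⁻¹ → ∃ v ∈ K, b * v * b⁻¹ = v⁻¹ ∧
      (∃ i, orderOf v = q ^ i) ∧ ∀ ξ ∈ X, Commute v ξ → Commute x ξ := by
    intro x hxK hxi
    obtain ⟨m, hm, hS⟩ := exists_q_part h.hq x
    refine ⟨x ^ m, pow_mem hxK m, inverted_pow hxi m, hm, fun ξ hξ hc => ?_⟩
    have := hS (centralizer ({ξ} : Set G)) 1 (mem_centralizer_singleton_iff.mpr hc.eq) (by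
      rw [pow_one]
      exact mem_centralizer_singleton_iff.mpr
        (mem_centralizer_iff.mp (hpow x (h.mem_U hxK hxi)) ξ hξ).symm)
    exact mem_centralizer_singleton_iff.mp this
  obtain ⟨v, hvK, hvi, hvq, hvx⟩ := hqpart x hxK hxi
  have hvp : ¬ Commute v p₀ := fun hc => hxp (hvx p₀ (mem_inf.mp hp₀).1 hc)
  have hvX : v ∉ centralizer (X : Set G) := fun hc =>
    hvp (mem_centralizer_iff.mp hc p₀ (mem_inf.mp hp₀).1).symm
  set Kv := Xp ⊓ centralizer ({v} : Set G) with hKv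
  have hKv_card := hker v (h.mem_U hvK hvi)
  have hKvne : Kv ≠ ⊥ := by
    intro e
    rw [← hKv, e, card_bot, mul_one] at hKv_card
    have := hbig.trans hKv_card
    have : q < q ^ 2 := lt_self_pow₀ h.hq.one_lt one_lt_two
    omega
  obtain ⟨⟨f, hf⟩, hf1'⟩ := ne_bot_iff_exists_ne_one.mp hKvne
  have hf1 : f ≠ 1 := fun e => hf1' (Subtype.ext e)
  obtain ⟨hfXp, hfv⟩ := mem_inf.mp hf
  have hvf : Commute v f := (mem_centralizer_singleton_iff.mp hfv).symm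
  rcases lt_or_ge (q ^ 2) (Nat.card Xp) with hlt | hle
  · -- two functionals share a kernel
    refine hno f hfXp hf1 (h.U_le fun x hxK hxi => mem_centralizer_singleton_iff.mpr ?_)
    obtain ⟨u, huK, hui, huq, hux⟩ := hqpart x hxK hxi
    refine (hux f (mem_inf.mp hfXp).1 ?_).eq
    set Ku := Xp ⊓ centralizer ({u} : Set G) with hKu
    have hKu_card := hker u (h.mem_U huK hui)
    rw [← hKu] at hKu_card
    rw [← hKv] at hKv_card
    have hinter : Ku ⊓ Kv ≠ ⊥ := by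
      refine inf_ne_bot_of_card (X := Xp) inf_le_left inf_le_left ?_
      by_contra hcon
      rw [not_lt] at hcon
      have h2 : Nat.card Xp * Nat.card Xp ≤ q ^ 2 * Nat.card Xp := by
        calc Nat.card Xp * Nat.card Xp ≤ (q * Nat.card Ku) * (q * Nat.card Kv) :=
              Nat.mul_le_mul hKu_card hKv_card
          _ = q ^ 2 * (Nat.card Ku * Nat.card Kv) := by ring
          _ ≤ q ^ 2 * Nat.card Xp := Nat.mul_le_mul_left _ hcon
      have := Nat.le_of_mul_le_mul_right h2 Nat.card_pos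
      omega
    obtain ⟨⟨y, hy⟩, hy1'⟩ := ne_bot_iff_exists_ne_one.mp hinter
    obtain ⟨hyu, hyv⟩ := mem_inf.mp hy
    obtain ⟨-, -, hclaim⟩ := h.common_sylow hFC hNC hzX hzi hshear
      (mem_inf.mp hyu).1 (fun e => hy1' (Subtype.ext e)) hvK hvi
      ((mem_centralizer_singleton_iff.mp (mem_inf.mp hyv).2).symm) hvq hvX hpow
    exact hclaim u huK hui (mem_centralizer_singleton_iff.mp (mem_inf.mp hyu).2).symm huq
      f hfXp hvf
  · -- `|X⁺| = q²`
    obtain ⟨hzv, hzO, -⟩ :=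
      h.common_sylow hFC hNC hzX hzi hshear hfXp hf1 hvK hvi hvf hvq hvX hpow
    obtain ⟨hfX, hfD⟩ := mem_inf.mp hfXp
    obtain ⟨w, hwK, hwi, hwf⟩ : ∃ w ∈ K, b * w * b⁻¹ = w⁻¹ ∧ ¬ Commute w f := by
      by_contra hcon
      push Not at hcon
      exact hno f hfXp hf1
        (h.U_le fun x hx hi => mem_centralizer_singleton_iff.mpr (hcon x hx hi).eq)
    obtain ⟨s, hs, hws, hwe⟩ := hshift w (h.mem_U hwK hwi) f hfX
    have hs1 : s ≠ 1 := fun e => hwf (commute_of_conj_eq (by rw [hwe, e, mul_one]))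
    have hsz := h.zpowers_eq hzX hs hs1
    set S := (fun i => f * z ^ i) '' Set.Ico 1 q with hSdef
    have hScard : S.ncard = q - 1 := by
      rw [hSdef, Set.InjOn.ncard_image, ← Finset.coe_Ico, Set.ncard_coe_finset, Nat.card_Ico]
      intro i hi j hj e
      refine pow_injOn_Iio_orderOf (x := z) ?_ ?_ (mul_left_cancel e)
      · rw [h.orderOf_eq hzX hz1]; exact hi.2
      · rw [h.orderOf_eq hzX hz1]; exact hj.2
    obtain ⟨j, hj⟩ := hvq
    have hj2 : 2 ≤ j := by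
      by_contra hjlt
      refine hvX ?_
      have hvcard : Nat.card (zpowers v) ≤ q := by
        rw [Nat.card_zpowers, hj]
        calc q ^ j ≤ q ^ 1 := Nat.pow_le_pow_right h.hq.pos (by omega)
          _ = q := pow_one q
      have e := eq_of_le_of_card_ge (zpowers_le.mpr hzv) (hvcard.trans hzcard.ge)
      have hv : v ∈ zpowers z := e ▸ mem_zpowers v
      exact mem_centralizer_iff.mpr fun ξ hξ =>
        (h.comm ξ hξ v (zpowers_le.mpr hzX hv)).eq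
    have hvO : v ^ q ^ (j - 1) ∉ coreO (centralizer ({f} : Set G)) := by
      intro hmem
      obtain ⟨i, hi⟩ := (mem_powers_iff_mem_zpowers (x := v)).mpr hzv
      dsimp only at hi
      have hd : q ^ (j - 1) ∣ i := by
        have h0 : v ^ (i * q) = 1 := by rw [pow_mul, hi, h.exp z hzX]
        have h' := orderOf_dvd_of_pow_eq_one h0
        rw [hj, show q ^ j = q ^ (j - 1) * q by rw [← pow_succ]; congr 1; omega] at h'
        exact (Nat.mul_dvd_mul_iff_right h.hq.pos).mp h'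
      obtain ⟨t, rfl⟩ := hd
      exact hzO (hi ▸ pow_mul v _ t ▸ pow_mem hmem t)
    have hcount := h.key_count hTop hFC hOrd hzX hzi hfXp hf1 hzO (S := S) (by
        rintro _ ⟨i, -, rfl⟩
        obtain ⟨k, hk⟩ := (mem_powers_iff_mem_zpowers (x := s)).mpr
          (hsz ▸ pow_mem (mem_zpowers z) i : z ^ i ∈ zpowers s)
        refine ⟨w ^ k, pow_mem hwK k, ?_⟩
        dsimp only at hk ⊢
        rw [conj_pow_shift hwe (conj_eq_of_commute hws) k, hk])
      (by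
        rintro _ ⟨i, hi, rfl⟩
        refine ⟨f, mem_zpowers f, i, fun hd => ?_, rfl⟩
        have := Nat.le_of_dvd hi.1 hd
        have := hi.2
        omega)
      (x := v) (j := j) (by omega)
      ⟨mem_centralizer_singleton_iff.mpr hvf.eq, h.odd_of_memK hvK, (h.commute_a hvK).eq, hvi⟩
      hj hvO
    set δ := (orb (coreD V) f).ncard with hδ
    set n := (orb (coreK a) f).ncard with hn
    have hnδ : n ≤ δ * q := by
      rw [hδ, ← hzcard, ← Nat.card_coe_set_eq, ← Nat.card_prod, hn, ← Nat.card_coe_set_eq]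
      refine Nat.card_le_card_of_surjective
        (fun p : orb (coreD V) f × zpowers z => (⟨p.1 * p.2, by
          obtain ⟨d, hd, hde⟩ := p.1.2
          obtain ⟨r, hr, hr'⟩ : ∃ r ∈ coreK a, r * f * r⁻¹ = f * (d⁻¹ * p.2 * d) := by
            have hmem : d⁻¹ * (p.2 : G) * d ∈ zpowers s := by
              obtain ⟨t, ht⟩ := mem_zpowers_iff.mp p.2.2
              rw [hsz, ← ht]
              have h5 := zpow_mem (hKz _ (inv_mem (h.D_le_K hd))) t
              rw [conj_zpow, inv_inv] at h5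
              exact h5
            obtain ⟨k', hk'⟩ := (mem_powers_iff_mem_zpowers (x := s)).mpr hmem
            dsimp only at hk'
            exact ⟨w ^ k', pow_mem hwK k',
              by rw [conj_pow_shift hwe (conj_eq_of_commute hws) k', hk']⟩
          refine ⟨d * r, mul_mem (h.D_le_K hd) hr, ?_⟩
          rw [← hde]
          calc d * r * f * (d * r)⁻¹ = d * (r * f * r⁻¹) * d⁻¹ := by group
            _ = _ := by rw [hr']; group⟩ : orb (coreK a) f)) ?_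
      rintro ⟨g, k, hk, rfl⟩
      obtain ⟨e, he, heK, hd, hei⟩ := h.lift hk
      obtain ⟨r, hr, hr', hre⟩ := hshift e⁻¹ (inv_mem (h.mem_U heK hei)) f hfX
      obtain ⟨t, ht⟩ := mem_zpowers_iff.mp hr
      have hr2 : (k * e) * r * (k * e)⁻¹ ∈ zpowers z := by
        rw [← ht, ← conj_zpow]
        exact zpow_mem (hKz _ (h.D_le_K hd)) t
      refine ⟨(⟨_, k * e, hd, rfl⟩, ⟨_, hr2⟩), Subtype.ext ?_⟩
      calc k * e * f * (k * e)⁻¹ * (k * e * r * (k * e)⁻¹) = k * e * (f * r) * (k * e)⁻¹ := by group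
        _ = k * f * k⁻¹ := by rw [← hre]; group
    have hδlt : δ < q ^ 2 := by
      have hsub : orb (coreD V) f ⊆ (Xp : Set G) \ {1} := by
        rintro g ⟨d, hd, rfl⟩
        refine ⟨mem_inf.mpr ⟨h.kX (h.D_le_K hd) hfX, mul_mem (mul_mem hd hfD) (inv_mem hd)⟩,
          fun e => hf1 (conj_eq_one_iff.mp e)⟩
      have := Set.ncard_le_ncard hsub (Set.toFinite _)
      rw [Set.ncard_sdiff_singleton_of_mem (one_mem Xp : (1 : G) ∈ (Xp : Set G)),
        ← Nat.card_coe_set_eq (Xp : Set G), ← hδ, SetLike.coe_sort_coe] at this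
      have hpos : 0 < Nat.card Xp := Nat.card_pos
      omega
    rw [hScard] at hcount
    have hδpos : 0 < δ := (Set.ncard_pos).mpr ⟨f, ⟨1, one_mem _, by simp⟩⟩
    have hc1 : 4 * n ^ 3 ≤ 4 * q ^ 3 * δ ^ 3 := by
      calc 4 * n ^ 3 ≤ 4 * (δ * q) ^ 3 := Nat.mul_le_mul_left _ (Nat.pow_le_pow_left hnδ 3)
        _ = 4 * q ^ 3 * δ ^ 3 := by ring
    have hc2 : 6 * q ^ 4 * (q - 1) * δ ^ 2 ≤ 6 * (q ^ j) ^ 2 * (q - 1) * δ ^ 2 := by
      have : q ^ 4 ≤ (q ^ j) ^ 2 := by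
        rw [← pow_mul]
        exact Nat.pow_le_pow_right h.hq.pos (by omega)
      gcongr
    have hc3 : 6 * q ^ 4 * (q - 1) * δ ^ 2 < 4 * q ^ 3 * δ * δ ^ 2 :=
      lt_of_le_of_lt hc2 (lt_of_lt_of_le hcount (hc1.trans_eq (by ring)))
    have hc4 : q ^ 3 * (6 * q * (q - 1)) < q ^ 3 * (4 * δ) := by
      have := Nat.lt_of_mul_lt_mul_right hc3
      calc q ^ 3 * (6 * q * (q - 1)) = 6 * q ^ 4 * (q - 1) := by ring
        _ < 4 * q ^ 3 * δ := this
        _ = q ^ 3 * (4 * δ) := by ring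
    have hc5 := Nat.lt_of_mul_lt_mul_left hc4
    have h3 := h.three_le
    have hc6 : 4 * q ≤ 6 * (q - 1) := by omega
    have hc7 : q * (4 * q) ≤ q * (6 * (q - 1)) := Nat.mul_le_mul_left _ hc6
    have hc8 : q * (6 * (q - 1)) = 6 * q * (q - 1) := by ring
    have hc9 : q * (4 * q) = 4 * q ^ 2 := by ring
    omega

end AlphaData

/-- Elementary abelian normal subgroups meeting `O(C(V))`. -/
theorem alpha (hTop : TopStmt.{u}) (hFC : FusedCentStmt.{u}) (hNC : NegCyclicStmt.{u})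
    (hOrd : OrderStmt.{u}) : AlphaStmt.{u} := by
  intro G _ _ V hc hD a q X ha ha1 hq hdvd hXK hcomm hexp hKX hVX hne
  obtain ⟨b, hp⟩ := exists_pair_of_mem hc.klein ha ha1
  have h : AlphaData V a b q X :=
    ⟨hc, hD, hp, hq, hdvd, hXK, fun x hx y hy => congrArg Subtype.val (hcomm.is_comm.comm ⟨x, hx⟩
      ⟨y, hy⟩), hexp, hKX, hVX⟩
  obtain ⟨⟨y, hy⟩, hy1'⟩ := ne_bot_iff_exists_ne_one.mp hne
  have hy1 : y ≠ 1 := fun e => hy1' (Subtype.ext e)
  by_cases hmove : ∃ z ∈ X, b * z * b⁻¹ = z⁻¹ ∧ z ≠ 1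
  · obtain ⟨z, hzX, hzi, hz1⟩ := hmove
    obtain ⟨hz, hzO⟩ := h.exists_z hFC hNC hne hzX hzi hz1
    by_contra hcon
    push Not at hcon
    exact h.big_case hTop hFC hNC hOrd hne hcon hzX hz1 hzi hz
      (h.sq_le_card_fixed hTop hFC hOrd hzX hz1 hzi hz hy hy1 (hzO y hy hy1) (hcon y hy hy1))
  · push Not at hmove
    refine ⟨y, hy, hy1, h.U_le fun x hxK hxi => ?_⟩
    have hfix : ∀ ξ ∈ X, b * ξ * b⁻¹ = ξ := by
      intro ξ hξ
      obtain ⟨p, hp, ζ, hζ, hζi, rfl⟩ := h.decomp hξ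
      rw [hmove ζ hζ hζi, mul_one]
      exact h.fixed_of_memD (mem_inf.mp hp).2
    have hyX := (mem_inf.mp hy).1
    have e1 : x⁻¹ * y * x = x * y * x⁻¹ := by
      calc x⁻¹ * y * x = (b * x * b⁻¹) * (b * y * b⁻¹) * (b * x * b⁻¹)⁻¹ := by
            rw [hxi, hfix y hyX, inv_inv]
        _ = b * (x * y * x⁻¹) * b⁻¹ := by group
        _ = x * y * x⁻¹ := hfix _ (h.kX hxK hyX)
    rw [mem_centralizer_singleton_iff]
    refine (commute_of_sq (h.odd_of_memK hxK) (commute_of_conj_eq ?_)).eq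
    calc x * x * y * (x * x)⁻¹ = x * (x * y * x⁻¹) * x⁻¹ := by group
      _ = x * (x⁻¹ * y * x) * x⁻¹ := by rw [e1]
      _ = y := by group

end Cfsg.Agent.GW66
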