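import Mathlib.GroupTheory.Index
import Mathlib.GroupTheory.OrderOfElement
import Mathlib.GroupTheory.Subgroup.Centralizer
import Mathlib.Data.Nat.Choose.Dvd
import Mathlib.Tactic

/-!
# Elementary lemmas for the alpha step
-/

set_option autoImplicit false

namespace Cfsg.Agent.GW66.AlphaAux

open Subgroup

universe u

variable {G : Type u} [Group G]

theorem inverted_pow {b x : G} (hx : b * x * b⁻¹ = x⁻¹) (n : ℕ) :
    b * x ^ n * b⁻¹ = (x ^ n)⁻¹ := by
  rw [← conj_pow, hx, inv_pow]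

/-- An element of odd order is the square of one of its powers. -/
theorem exists_pow_sq {x : G} (h : Odd (orderOf x)) : ∃ n : ℕ, x ^ n * x ^ n = x := by
  obtain ⟨j, hj⟩ := h
  refine ⟨j + 1, ?_⟩
  rw [← pow_add, show j + 1 + (j + 1) = orderOf x + 1 by omega, pow_succ, pow_orderOf_eq_one,
    one_mul]

theorem commute_of_sq {x y : G} (h : Odd (orderOf x)) (hc : Commute (x * x) y) : Commute x y := by
  obtain ⟨n, hn⟩ := exists_pow_sq h
  have : (x * x) ^ n = x := by rw [(Commute.refl x).mul_pow, hn]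
  rw [← this]
  exact hc.pow_left n

/-- The fixed-point-free part of an element. -/
theorem exists_lift {b k : G} (hb : b * b = 1)
    (hodd : Odd (orderOf (k⁻¹ * (b * k * b⁻¹)))) :
    ∃ e ∈ zpowers (k⁻¹ * (b * k * b⁻¹)),
      b * (k * e) * b⁻¹ = k * e ∧ b * e * b⁻¹ = e⁻¹ := by
  have hbi : b⁻¹ = b := inv_eq_of_mul_eq_one_right hb
  have hinv : b * (k⁻¹ * (b * k * b⁻¹)) * b⁻¹ = (k⁻¹ * (b * k * b⁻¹))⁻¹ := by
    rw [mul_inv_rev, inv_inv]
    calc b * (k⁻¹ * (b * k * b⁻¹)) * b⁻¹ = b * k⁻¹ * b * k * (b⁻¹ * b⁻¹) := by group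
      _ = b * k⁻¹ * b * k := by rw [hbi, hb, mul_one]
      _ = (b * k * b⁻¹)⁻¹ * k := by rw [hbi]; simp [mul_assoc, hbi]
  obtain ⟨n, hn⟩ := exists_pow_sq hodd
  refine ⟨_, pow_mem (mem_zpowers _) n, ?_, inverted_pow hinv n⟩
  set c := k⁻¹ * (b * k * b⁻¹) with hc
  calc b * (k * c ^ n) * b⁻¹ = (b * k * b⁻¹) * (b * c ^ n * b⁻¹) := by group
    _ = k * c * (c ^ n)⁻¹ := by rw [inverted_pow hinv n, hc]; group
    _ = k * (c ^ n * c ^ n) * (c ^ n)⁻¹ := by rw [hn]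
    _ = k * c ^ n := by group

/-- The conjugates of `y` under `H`. -/
def orb (H : Subgroup G) (y : G) : Set G := {g | ∃ k ∈ H, k * y * k⁻¹ = g}

theorem orb_mono {H K : Subgroup G} (h : H ≤ K) (y : G) : orb H y ⊆ orb K y :=
  fun _ ⟨k, hk, e⟩ => ⟨k, h hk, e⟩

variable [Finite G]

omit [Finite G] in
theorem ncard_orb_mul (H : Subgroup G) (y : G) :
    (orb H y).ncard * Nat.card ↥(H ⊓ centralizer {y}) = Nat.card H := by
  let S := (centralizer ({y} : Set G)).subgroupOf H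
  have key : ∀ k k' : H, (k⁻¹ * k' ∈ S ↔ (k : G) * y * (k : G)⁻¹ = k' * y * (k' : G)⁻¹) := by
    intro k k'
    rw [mem_subgroupOf, mem_centralizer_singleton_iff, coe_mul, coe_inv]
    constructor
    · intro h
      calc (k : G) * y * (k : G)⁻¹ = k * (y * ((k : G)⁻¹ * k')) * (k' : G)⁻¹ := by group
        _ = k * (((k : G)⁻¹ * k') * y) * (k' : G)⁻¹ := by rw [h]
        _ = k' * y * (k' : G)⁻¹ := by group
    · intro h
      calc (k : G)⁻¹ * k' * y = (k : G)⁻¹ * (k' * y * (k' : G)⁻¹) * k' := by group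
        _ = (k : G)⁻¹ * (k * y * (k : G)⁻¹) * k' := by rw [h]
        _ = y * ((k : G)⁻¹ * k') := by group
  let f : H ⧸ S → G := Quotient.lift (fun k : H => (k : G) * y * (k : G)⁻¹)
    (fun k k' h => (key k k').mp (QuotientGroup.leftRel_apply.mp h))
  have hf : Function.Injective f := by
    intro u v
    refine Quotient.inductionOn₂ u v fun k k' h => ?_
    exact Quotient.sound (QuotientGroup.leftRel_apply.mpr ((key k k').mpr h))
  have hr : Set.range f = orb H y := by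
    ext g
    constructor
    · rintro ⟨u, rfl⟩
      refine Quotient.inductionOn u fun k => ?_
      exact ⟨k, k.2, rfl⟩
    · rintro ⟨k, hk, rfl⟩
      exact ⟨QuotientGroup.mk ⟨k, hk⟩, rfl⟩
  rw [← hr, Set.ncard_range_of_injective hf,
    ← Nat.card_congr (subgroupOfEquivOfLe (inf_le_left : H ⊓ centralizer {y} ≤ H)).toEquiv,
    inf_subgroupOf_left]
  exact S.index_mul_card

theorem inf_ne_bot_of_card {X A B : Subgroup G} (hA : A ≤ X) (hB : B ≤ X)
    (h : Nat.card X < Nat.card A * Nat.card B) : A ⊓ B ≠ ⊥ := by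
  intro hbot
  have hinj : Function.Injective
      (fun p : A × B => (⟨p.1 * p.2, mul_mem (hA p.1.2) (hB p.2.2)⟩ : X)) := by
    intro p r e
    have e' : (p.1 : G) * p.2 = r.1 * r.2 := congrArg Subtype.val e
    have hm : (r.1 : G)⁻¹ * p.1 ∈ A ⊓ B := by
      refine mem_inf.mpr ⟨mul_mem (inv_mem r.1.2) p.1.2, ?_⟩
      have : (r.1 : G)⁻¹ * p.1 = r.2 * (p.2 : G)⁻¹ := by
        rw [eq_mul_inv_iff_mul_eq, mul_assoc, e', inv_mul_cancel_left]
      rw [this]
      exact mul_mem r.2.2 (inv_mem p.2.2)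
    rw [hbot, mem_bot, inv_mul_eq_one] at hm
    refine Prod.ext (Subtype.ext hm.symm) (Subtype.ext ?_)
    rw [hm] at e'
    exact mul_left_cancel e'
  have := Nat.card_le_card_of_injective _ hinj
  rw [Nat.card_prod] at this
  omega

omit [Finite G] in
theorem pow_gcd_mem {S : Subgroup G} {x : G} {m n : ℕ} (hm : x ^ m ∈ S) (hn : x ^ n ∈ S) :
    x ^ Nat.gcd m n ∈ S := by
  have h := Nat.gcd_eq_gcd_ab m n
  rw [← zpow_natCast, h, zpow_add, zpow_mul, zpow_mul, zpow_natCast, zpow_natCast]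
  exact mul_mem (zpow_mem hm _) (zpow_mem hn _)

/-- The `q`-part of an element. -/
theorem exists_q_part {q : ℕ} (hq : q.Prime) (x : G) :
    ∃ m : ℕ, (∃ i, orderOf (x ^ m) = q ^ i) ∧
      ∀ (S : Subgroup G) (i : ℕ), x ^ m ∈ S → x ^ q ^ i ∈ S → x ∈ S := by
  obtain ⟨k, m, hm, hkm⟩ :=
    Nat.exists_eq_pow_mul_and_not_dvd (orderOf_pos x).ne' q hq.ne_one
  refine ⟨m, ?_, fun S i h1 h2 => ?_⟩
  · have : orderOf (x ^ m) ∣ q ^ k := by
      rw [orderOf_dvd_iff_pow_eq_one, ← pow_mul, mul_comm, ← hkm, pow_orderOf_eq_one]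
    obtain ⟨i, -, hi⟩ := (Nat.dvd_prime_pow hq).mp this
    exact ⟨i, hi⟩
  · have hc : Nat.gcd m (q ^ i) = 1 :=
      Nat.Coprime.pow_right i ((hq.coprime_iff_not_dvd.mpr hm).symm)
    simpa [hc] using pow_gcd_mem h1 h2

omit [Finite G] in
theorem conj_pow_shift {g ξ s : G} (h1 : g * ξ * g⁻¹ = ξ * s) (h2 : g * s * g⁻¹ = s) (k : ℕ) :
    g ^ k * ξ * (g ^ k)⁻¹ = ξ * s ^ k := by
  induction k with
  | zero => simp
  | succ k ih =>
    calc g ^ (k + 1) * ξ * (g ^ (k + 1))⁻¹ = g * (g ^ k * ξ * (g ^ k)⁻¹) * g⁻¹ := by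
          rw [pow_succ']; group
      _ = (g * ξ * g⁻¹) * (g * s * g⁻¹) ^ k := by rw [ih, conj_pow]; group
      _ = ξ * s ^ (k + 1) := by rw [h1, h2, pow_succ', mul_assoc]

omit [Finite G] in
theorem conj_pow_two_step {x y r t : G} (h1 : x * y * x⁻¹ = y * r) (h2 : x * r * x⁻¹ = r * t)
    (h3 : x * t * x⁻¹ = t) (hrt : Commute r t) (k : ℕ) :
    x ^ k * y * (x ^ k)⁻¹ = y * r ^ k * t ^ k.choose 2 := by
  induction k with
  | zero => simp
  | succ k ih =>
    calc x ^ (k + 1) * y * (x ^ (k + 1))⁻¹ = x * (x ^ k * y * (x ^ k)⁻¹) * x⁻¹ := by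
          rw [pow_succ']; group
      _ = (x * y * x⁻¹) * (x * r * x⁻¹) ^ k * (x * t * x⁻¹) ^ k.choose 2 := by
          rw [ih, conj_pow, conj_pow]; group
      _ = y * r * (r ^ k * t ^ k) * t ^ k.choose 2 := by rw [h1, h2, h3, hrt.mul_pow]
      _ = y * r ^ (k + 1) * t ^ (k + 1).choose 2 := by
          rw [Nat.choose_succ_succ, Nat.choose_one_right, pow_succ', pow_add]; group

theorem dvd_choose_two {q : ℕ} (hq : q.Prime) (h2 : q ≠ 2) : q ∣ q.choose 2 :=
  hq.dvd_choose_self (by norm_num) (lt_of_le_of_ne hq.two_le (Ne.symm h2))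

end Cfsg.Agent.GW66.AlphaAux
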