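import Cfsg.Agent.GW66.Basic

/-!
# Transport of the interfaces under automorphisms
-/

set_option autoImplicit false

namespace Cfsg.Agent.GW66

open Subgroup

universe u

variable {G : Type u} [Group G]

/-- The image of a subgroup under an automorphism. -/
abbrev img (φ : G ≃* G) (H : Subgroup G) : Subgroup G := H.map φ.toMonoidHom

theorem mem_img {φ : G ≃* G} {H : Subgroup G} {x : G} : x ∈ img φ H ↔ φ.symm x ∈ H := by
  constructor
  · rintro ⟨y, hy, rfl⟩
    simpa using hy
  · exact fun h => ⟨φ.symm x, h, by simp⟩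

theorem apply_mem_img {φ : G ≃* G} {H : Subgroup G} {x : G} : φ x ∈ img φ H ↔ x ∈ H := by
  rw [mem_img, MulEquiv.symm_apply_apply]

theorem img_mono {φ : G ≃* G} {H K : Subgroup G} (h : H ≤ K) : img φ H ≤ img φ K :=
  map_mono h

theorem img_centralizer_singleton (φ : G ≃* G) (a : G) :
    img φ (centralizer ({a} : Set G)) = centralizer ({φ a} : Set G) := by
  ext x
  rw [mem_img, mem_centralizer_singleton_iff, mem_centralizer_singleton_iff,
    ← φ.injective.eq_iff]
  simp only [map_mul, MulEquiv.apply_symm_apply]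

theorem img_centralizer (φ : G ≃* G) (H : Subgroup G) :
    img φ (centralizer (H : Set G)) = centralizer (img φ H : Set G) := by
  ext x
  rw [mem_img, mem_centralizer_iff, mem_centralizer_iff]
  constructor
  · rintro h _ ⟨y, hy, rfl⟩
    have := congrArg φ (h y hy)
    simpa using this
  · intro h y hy
    have := congrArg φ.symm (h (φ y) (apply_mem_img.mpr hy))
    simpa using this

theorem img_normalizer (φ : G ≃* G) (H : Subgroup G) :
    img φ (normalizer (H : Set G)) = normalizer (img φ H : Set G) := by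
  ext x
  rw [mem_img, mem_normalizer_iff, mem_normalizer_iff]
  constructor
  · intro h y
    rw [mem_img, mem_img, h (φ.symm y)]
    simp [map_mul]
  · intro h y
    rw [← apply_mem_img (φ := φ) (x := y), h (φ y), ← apply_mem_img (φ := φ) (H := H)]
    simp [map_mul]

theorem fused_img {φ : G ≃* G} {M V : Subgroup G} (h : Fused M V) : Fused (img φ M) (img φ V) := by
  obtain ⟨g, hg, hn, hc⟩ := h
  refine ⟨φ g, apply_mem_img.mpr hg, ?_, fun h' => hc ?_⟩
  · rw [← img_normalizer]
    exact apply_mem_img.mpr hn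
  · rw [← img_centralizer] at h'
    exact apply_mem_img.mp h'

theorem img_top (φ : G ≃* G) : img φ (⊤ : Subgroup G) = ⊤ :=
  map_top_of_surjective _ φ.surjective

theorem img_eq_top {φ : G ≃* G} {M : Subgroup G} : img φ M = ⊤ ↔ M = ⊤ :=
  ⟨fun h => map_injective (f := φ.toMonoidHom) φ.injective (h.trans (img_top φ).symm),
    fun h => h ▸ img_top φ⟩

theorem coreO_img (φ : G ≃* G) (M : Subgroup G) : coreO (img φ M) = img φ (coreO M) := by
  show (Cfsg.pPrimeCore 2 ↥(M.map φ.toMonoidHom)).map _ = _
  rw [← Thompson.map_pPrimeCore_equiv (M.equivMapOfInjective φ.toMonoidHom φ.injective), map_map]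
  show _ = ((Cfsg.pPrimeCore 2 ↥M).map M.subtype).map φ.toMonoidHom
  rw [map_map]
  rfl

theorem coreK_img (φ : G ≃* G) (a : G) : coreK (φ a) = img φ (coreK a) := by
  show coreO (centralizer ({φ a} : Set G)) = img φ (coreO _)
  rw [← coreO_img, img_centralizer_singleton]

theorem coreD_img (φ : G ≃* G) (V : Subgroup G) : coreD (img φ V) = img φ (coreD V) := by
  show coreO (centralizer (img φ V : Set G)) = img φ (coreO _)
  rw [← coreO_img, img_centralizer]

theorem natCard_img (φ : G ≃* G) (H : Subgroup G) : Nat.card ↥(img φ H) = Nat.card H :=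
  card_map_of_injective φ.injective

theorem Pair.img {φ : G ≃* G} {V : Subgroup G} {a b : G} (h : Pair V a b) :
    Pair (GW66.img φ V) (φ a) (φ b) :=
  ⟨apply_mem_img.mpr h.ha, apply_mem_img.mpr h.hb, fun e => h.a1 (φ.map_eq_one_iff.mp e),
    fun e => h.b1 (φ.map_eq_one_iff.mp e), fun e => h.ne (φ.injective e)⟩

theorem invSet_img {φ : G ≃* G} {M : Subgroup G} {a b x : G} :
    φ x ∈ invSet (img φ M) (φ a) (φ b) ↔ x ∈ invSet M a b := by
  simp only [invSet, Set.mem_ofPred_eq, apply_mem_img, MulEquiv.orderOf_eq, ← map_mul, ← map_inv,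
    φ.injective.eq_iff]

variable [Finite G]

theorem isKleinFour_img (φ : G ≃* G) {V : Subgroup G} (h : IsKleinFour V) :
    IsKleinFour ↥(img φ V) where
  card_four := by rw [natCard_img]; exact h.card_four
  exponent_two := (Monoid.exponent_eq_of_mulEquiv
    (V.equivMapOfInjective φ.toMonoidHom φ.injective).symm).trans h.exponent_two

/-- The context is invariant under automorphisms. -/
theorem Ctx.img {V : Subgroup G} (hc : Ctx V) (φ : G ≃* G) : Ctx (GW66.img φ V) where
  simple := hc.simple
  klein := isKleinFour_img φ hc.klein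
  sylow := by
    have h1 := (GW66.img φ V).index_mul_card
    have h2 := V.index_mul_card
    rw [natCard_img, ← h2] at h1
    rw [Nat.eq_of_mul_eq_mul_right Nat.card_pos h1]
    exact hc.sylow
  fused := by
    have := fused_img (φ := φ) hc.fused
    rwa [img_top] at this
  ind := by
    intro M hM hVM hf
    have hM' : GW66.img φ.symm M ≠ ⊤ := fun h => hM (img_eq_top.mp h)
    have hback : GW66.img φ.symm (GW66.img φ V) = V := by
      ext x; rw [mem_img, mem_img]; simp
    have hf' : Fused (GW66.img φ.symm M) V := by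
      have := fused_img (φ := φ.symm) hf
      rwa [hback] at this
    obtain ⟨N, hN, hodd, F, hF, hFt, hq, ⟨e⟩⟩ :=
      hc.ind _ hM' (hback ▸ img_mono hVM) hf'
    let i : ↥M ≃* ↥(GW66.img φ.symm M) :=
      M.equivMapOfInjective φ.symm.toMonoidHom φ.symm.injective
    have hcore : (Cfsg.oddCore ↥M).map i.toMonoidHom = Cfsg.oddCore ↥(GW66.img φ.symm M) :=
      Thompson.map_pPrimeCore_equiv i
    let j : (↥M ⧸ Cfsg.oddCore ↥M) ≃* (↥(GW66.img φ.symm M) ⧸ Cfsg.oddCore _) :=
      QuotientGroup.congr _ _ i hcore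
    refine ⟨N.comap j.toMonoidHom, hN.comap _, ?_, F, hF, hFt, hq, ⟨?_⟩⟩
    · have h : (N.comap j.toMonoidHom).index = N.index :=
        index_comap_of_surjective (f := j.toMonoidHom) _ j.surjective
      rw [h]
      exact hodd
    · exact (MulEquiv.subgroupMap j (N.comap j.toMonoidHom)).trans
        ((MulEquiv.subgroupCongr (map_comap_eq_self_of_surjective j.surjective N)).trans e)

end Cfsg.Agent.GW66
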