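import Cfsg.Agent.GW66.Basic
import Cfsg.Agent.GW66.Transport
import Cfsg.Agent.GW66.AlphaAux

/-!
# The setting of the alpha step
-/

set_option autoImplicit false
set_option linter.unusedSectionVars false

namespace Cfsg.Agent.GW66

open Subgroup AlphaAux
open scoped commutatorElement

universe u

variable {G : Type u} [Group G] [Finite G] {V X : Subgroup G} {a b : G} {q : ℕ}

/-- The hypotheses of `AlphaStmt` together with a second involution. -/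
structure AlphaData (V : Subgroup G) (a b : G) (q : ℕ) (X : Subgroup G) : Prop where
  hc : Ctx V
  dormant : Dormant V
  hp : Pair V a b
  hq : q.Prime
  hdvd : q ∣ (coreD V).relIndex (coreK a)
  hXK : X ≤ coreK a
  comm : ∀ x ∈ X, ∀ y ∈ X, Commute x y
  exp : ∀ x ∈ X, x ^ q = 1
  hKX : coreK a ≤ normalizer (X : Set G)
  hVX : V ≤ normalizer (X : Set G)

theorem mem_normalizer_of_conj_mem {L : Subgroup G} {g : G}
    (h : ∀ x ∈ L, g * x * g⁻¹ ∈ L) : g ∈ normalizer (L : Set G) := by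
  rw [mem_normalizer_iff_map_conj_eq]
  refine eq_of_le_of_card_ge ?_ (card_map_of_injective (MulAut.conj g).injective).ge
  rintro _ ⟨x, hx, rfl⟩
  exact h x hx

omit [Finite G] in
theorem conj_mem_of_mem_normalizer {L : Subgroup G} {g x : G} (hg : g ∈ normalizer (L : Set G))
    (hx : x ∈ L) : g * x * g⁻¹ ∈ L :=
  (mem_normalizer_iff.mp hg x).mp hx

omit [Finite G] in
theorem conj_eq_of_commute {g x : G} (h : Commute g x) : g * x * g⁻¹ = x := by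
  rw [h.eq, mul_inv_cancel_right]

omit [Finite G] in
theorem commute_of_conj_eq {g x : G} (h : g * x * g⁻¹ = x) : Commute g x :=
  mul_inv_eq_iff_eq_mul.mp h

namespace AlphaData

variable (h : AlphaData V a b q X)

include h

theorem bb : b * b = 1 := klein_sq h.hc.klein h.hp.hb

theorem binv : b⁻¹ = b := klein_inv h.hc.klein h.hp.hb

theorem odd_of_memK {x : G} (hx : x ∈ coreK a) : Odd (orderOf x) :=
  ((mem_coreK_iff h.hc.klein h.hc.sylow h.hp.ha h.hp.a1).mp hx).1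

theorem commute_a {x : G} (hx : x ∈ coreK a) : Commute x a :=
  ((mem_coreK_iff h.hc.klein h.hc.sylow h.hp.ha h.hp.a1).mp hx).2

theorem q_ne_two : q ≠ 2 := by
  intro e
  have h2 : q ∣ Nat.card (coreK a) := h.hdvd.trans (relIndex_dvd_card _ _)
  rw [e] at h2
  exact (Nat.not_even_iff_odd.mpr (odd_card_coreK a)) (even_iff_two_dvd.mpr h2)

theorem three_le : 3 ≤ q := by
  have := h.hq.two_le
  have := h.q_ne_two
  omega

theorem bK {x : G} (hx : x ∈ coreK a) : b * x * b⁻¹ ∈ coreK a :=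
  conj_mem_of_mem_normalizer (le_normalizer_coreK h.hc.klein h.hp.ha h.hp.hb) hx

theorem bX {x : G} (hx : x ∈ X) : b * x * b⁻¹ ∈ X :=
  conj_mem_of_mem_normalizer (h.hVX h.hp.hb) hx

theorem kX {k x : G} (hk : k ∈ coreK a) (hx : x ∈ X) : k * x * k⁻¹ ∈ X :=
  conj_mem_of_mem_normalizer (h.hKX hk) hx

theorem kX' {k x : G} (hk : k ∈ coreK a) (hx : x ∈ X) : k⁻¹ * x * k ∈ X := by
  simpa using h.kX (inv_mem hk) hx

theorem memD {x : G} : x ∈ coreD V ↔ x ∈ coreK a ∧ Commute x b :=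
  mem_coreD_iff_pair h.hc.klein h.hc.sylow h.hp

theorem fixed_of_memD {x : G} (hx : x ∈ coreD V) : b * x * b⁻¹ = x :=
  conj_eq_of_commute (h.memD.mp hx).2.symm

theorem memD_of_fixed {x : G} (hx : x ∈ coreK a) (hb : b * x * b⁻¹ = x) : x ∈ coreD V :=
  h.memD.mpr ⟨hx, (commute_of_conj_eq hb).symm⟩

theorem D_le_K : coreD V ≤ coreK a := coreD_le_coreK h.hc.klein h.hc.sylow h.hp.ha h.hp.a1

theorem lift {k : G} (hk : k ∈ coreK a) :
    ∃ e ∈ zpowers (k⁻¹ * (b * k * b⁻¹)), e ∈ coreK a ∧ k * e ∈ coreD V ∧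
      b * e * b⁻¹ = e⁻¹ := by
  have hc0 : k⁻¹ * (b * k * b⁻¹) ∈ coreK a := mul_mem (inv_mem hk) (h.bK hk)
  obtain ⟨e, he, hfix, hinv⟩ := exists_lift h.bb (h.odd_of_memK hc0)
  have heK : e ∈ coreK a := zpowers_le.mpr hc0 he
  exact ⟨e, he, heK, h.memD_of_fixed (mul_mem hk heK) hfix, hinv⟩

/-- An inverted element is `[e, b]` for an inverted `e`. -/
theorem sqrt {x : G} (hx : x ∈ coreK a) (hinv : b * x * b⁻¹ = x⁻¹) :
    ∃ e, e ∈ coreK a ∧ e * e = x ∧ b * e * b⁻¹ = e⁻¹ ∧ e * b * e⁻¹ * b⁻¹ = x := by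
  obtain ⟨n, hn⟩ := exists_pow_sq (h.odd_of_memK hx)
  refine ⟨x ^ n, pow_mem hx n, hn, inverted_pow hinv n, ?_⟩
  have e1 : b * (x ^ n)⁻¹ * b⁻¹ = x ^ n := by
    rw [← conj_inv, inverted_pow hinv n, inv_inv]
  calc x ^ n * b * (x ^ n)⁻¹ * b⁻¹ = x ^ n * (b * (x ^ n)⁻¹ * b⁻¹) := by group
    _ = x := by rw [e1, hn]

theorem cm_spec {k : G} (hk : k ∈ coreK a) :
    k * b * k⁻¹ * b⁻¹ ∈ coreK a ∧
      b * (k * b * k⁻¹ * b⁻¹) * b⁻¹ = (k * b * k⁻¹ * b⁻¹)⁻¹ := by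
  constructor
  · have := mul_mem hk (h.bK (inv_mem hk))
    simpa [mul_assoc] using this
  · rw [mul_inv_rev, mul_inv_rev, mul_inv_rev, inv_inv, inv_inv]
    calc b * (k * b * k⁻¹ * b⁻¹) * b⁻¹ = b * k * b * k⁻¹ * (b * b)⁻¹ := by group
      _ = b * (k * (b⁻¹ * k⁻¹)) := by rw [h.bb, inv_one, mul_one, h.binv]; group

theorem mem_U {x : G} (hx : x ∈ coreK a) (hinv : b * x * b⁻¹ = x⁻¹) : x ∈ coreU V a := by
  obtain ⟨e, he, -, -, hcm⟩ := h.sqrt hx hinv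
  rw [← hcm, ← commutatorElement_def]
  exact commutator_mem_commutator he h.hp.hb

theorem cm_mem_U {k : G} (hk : k ∈ coreK a) : k * b * k⁻¹ * b⁻¹ ∈ coreU V a :=
  h.mem_U (h.cm_spec hk).1 (h.cm_spec hk).2

theorem U_le {L : Subgroup G}
    (hL : ∀ x ∈ coreK a, b * x * b⁻¹ = x⁻¹ → x ∈ L) : coreU V a ≤ L := by
  rw [coreU, commutator_le]
  intro k hk v hv
  have hcm := hL _ (h.cm_spec hk).1 (h.cm_spec hk).2
  have ha : ∀ y ∈ coreK a, a * y * a⁻¹ = y := fun y hy => conj_eq_of_commute (h.commute_a hy).symm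
  rw [commutatorElement_def]
  rcases klein_cases h.hc.klein h.hp hv with rfl | rfl | rfl | rfl
  · simp
  · rw [(h.commute_a hk).eq]; simp
  · exact hcm
  · have : k * (a * b) * k⁻¹ * (a * b)⁻¹ = a * (k * b * k⁻¹ * b⁻¹) * a⁻¹ := by
      rw [← mul_assoc k a b, (h.commute_a hk).eq]; group
    rw [this, ha _ (h.cm_spec hk).1]
    exact hcm

theorem U_le_K : coreU V a ≤ coreK a := h.U_le fun _ hx _ => hx

theorem K_le_normalizer_U : coreK a ≤ normalizer (coreU V a : Set G) := by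
  intro k hk
  refine mem_normalizer_of_conj_mem fun x hx => ?_
  have hle : coreU V a ≤ (coreU V a).comap (MulAut.conj k).toMonoidHom := by
    refine h.U_le fun x hx hinv => ?_
    obtain ⟨e, he, -, -, hcm⟩ := h.sqrt hx hinv
    show k * x * k⁻¹ ∈ coreU V a
    have := mul_mem (h.cm_mem_U (mul_mem hk he)) (inv_mem (h.cm_mem_U hk))
    rw [← hcm]
    convert this using 1
    group
  exact hle hx

theorem V_le_normalizer_U : V ≤ normalizer (coreU V a : Set G) := by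
  have hb : b ∈ normalizer (coreU V a : Set G) := by
    refine mem_normalizer_of_conj_mem fun x hx => ?_
    have hle : coreU V a ≤ (coreU V a).comap (MulAut.conj b).toMonoidHom := by
      refine h.U_le fun x hx hinv => ?_
      show b * x * b⁻¹ ∈ coreU V a
      rw [hinv]
      exact inv_mem (h.mem_U hx hinv)
    exact hle hx
  have ha : a ∈ normalizer (coreU V a : Set G) :=
    mem_normalizer_of_conj_mem fun x hx => by
      rw [conj_eq_of_commute (h.commute_a (h.U_le_K hx)).symm]; exact hx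
  intro v hv
  rcases klein_cases h.hc.klein h.hp hv with rfl | rfl | rfl | rfl
  · exact one_mem _
  · exact ha
  · exact hb
  · exact mul_mem ha hb

theorem decomp {ξ : G} (hξ : ξ ∈ X) :
    ∃ p ∈ X ⊓ coreD V, ∃ ζ ∈ X, b * ζ * b⁻¹ = ζ⁻¹ ∧ ξ = p * ζ := by
  obtain ⟨e, he, heK, hD, hinv⟩ := h.lift (h.hXK hξ)
  have heX : e ∈ X := zpowers_le.mpr (mul_mem (inv_mem hξ) (h.bX hξ)) he
  refine ⟨ξ * e, mem_inf.mpr ⟨mul_mem hξ heX, hD⟩, e⁻¹, inv_mem heX, ?_, by group⟩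
  rw [← conj_inv, hinv]

theorem orderOf_eq {x : G} (hx : x ∈ X) (h1 : x ≠ 1) : orderOf x = q :=
  haveI := Fact.mk h.hq
  orderOf_eq_prime (h.exp x hx) h1

theorem isPGroup_X : IsPGroup q ↥X := fun x =>
  ⟨1, Subtype.ext (by simpa using h.exp x x.2)⟩

theorem zpowers_eq {x w : G} (hw : w ∈ X) (hx : x ∈ zpowers w) (h1 : x ≠ 1) :
    zpowers x = zpowers w := by
  refine eq_of_le_of_card_ge (zpowers_le.mpr hx) ?_
  rw [Nat.card_zpowers, Nat.card_zpowers, h.orderOf_eq (zpowers_le.mpr hw hx) h1,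
    h.orderOf_eq hw fun e => h1 (by simpa [e] using hx)]

theorem mem_centX {y : G} (hy : y ∈ X) : X ≤ centralizer ({y} : Set G) := fun x hx =>
  mem_centralizer_singleton_iff.mpr (h.comm x hx y hy).eq

theorem V_le_cent {y : G} (hy : y ∈ coreD V) : V ≤ centralizer ({y} : Set G) := fun v hv =>
  mem_centralizer_singleton_iff.mpr (mem_centralizer_iff.mp (le_centralizer_coreD V hy) v hv)

theorem dvd_card_inf {y : G} (hy : y ∈ X ⊓ coreD V) (h1 : y ≠ 1) :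
    q ∣ Nat.card ↥(coreD V ⊓ centralizer ({y} : Set G)) := by
  obtain ⟨hX, hD⟩ := mem_inf.mp hy
  rw [← h.orderOf_eq hX h1]
  exact orderOf_dvd_natCard _ (mem_inf.mpr ⟨hD, mem_centralizer_singleton_iff.mpr rfl⟩)

theorem fused (hFC : FusedCentStmt.{u}) {y : G} (hy : y ∈ X ⊓ coreD V) (h1 : y ≠ 1) :
    Fused (centralizer ({y} : Set G)) V :=
  hFC G V h.hc h.dormant a q h.hq h.hp.ha h.hp.a1 h.hdvd y (mem_inf.mp hy).2 h1
    ⟨1, by rw [pow_one]; exact h.orderOf_eq (mem_inf.mp hy).1 h1⟩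

theorem negCyclic (hFC : FusedCentStmt.{u}) (hNC : NegCyclicStmt.{u}) {y : G}
    (hy : y ∈ X ⊓ coreD V) (h1 : y ≠ 1) {Y : Subgroup G} (hYK : Y ≤ coreK a)
    (hYy : Y ≤ centralizer ({y} : Set G)) (hYq : IsPGroup q Y)
    (hVY : V ≤ normalizer (Y : Set G)) :
    IsCyclic ↥(⁅Y, V⁆) ∧ ⁅Y, V⁆ ⊓ coreO (centralizer ({y} : Set G)) = ⊥ ∧
      (∀ x ∈ ⁅Y, V⁆, x ∈ invSet (centralizer ({y} : Set G)) a b) ∧
      ∀ x ∈ Y, b * x * b⁻¹ = x⁻¹ → x ∈ ⁅Y, V⁆ := by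
  obtain ⟨h2, h3, h4⟩ := hNC G V h.hc h.dormant (centralizer ({y} : Set G)) a b q
    (h.hc.centralizer_ne_top h1) (h.V_le_cent (mem_inf.mp hy).2) (h.fused hFC hy h1) h.hp h.hq
    (h.dvd_card_inf hy h1) Y (le_inf hYK hYy) hYq hVY
  refine ⟨h2, h3, h4, fun x hx hinv => ?_⟩
  obtain ⟨n, hn⟩ := exists_pow_sq (h.odd_of_memK (hYK hx))
  have e1 : b * (x ^ n)⁻¹ * b⁻¹ = x ^ n := by
    rw [← conj_inv, inverted_pow hinv n, inv_inv]
  have : ⁅x ^ n, b⁆ = x := by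
    rw [commutatorElement_def]
    calc x ^ n * b * (x ^ n)⁻¹ * b⁻¹ = x ^ n * (b * (x ^ n)⁻¹ * b⁻¹) := by group
      _ = x := by rw [e1, hn]
  rw [← this]
  exact commutator_mem_commutator (pow_mem hx n) h.hp.hb

theorem exists_z (hFC : FusedCentStmt.{u}) (hNC : NegCyclicStmt.{u})
    (hne : X ⊓ coreD V ≠ ⊥) {z : G} (hz : z ∈ X) (hinv : b * z * b⁻¹ = z⁻¹) (hz1 : z ≠ 1) :
    (∀ ζ ∈ X, b * ζ * b⁻¹ = ζ⁻¹ → ζ ∈ zpowers z) ∧
      ∀ y ∈ X ⊓ coreD V, y ≠ 1 → z ∉ coreO (centralizer ({y} : Set G)) := by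
  have hX : ∀ y ∈ X ⊓ coreD V, y ≠ 1 → _ := fun y hy h1 =>
    h.negCyclic hFC hNC hy h1 h.hXK (h.mem_centX (mem_inf.mp hy).1) h.isPGroup_X h.hVX
  refine ⟨?_, fun y hy h1 hzO => hz1 ?_⟩
  · obtain ⟨y, hy, h1⟩ := (Subgroup.ne_bot_iff_exists_ne_one.mp hne)
      |> fun ⟨⟨y, hy⟩, h1⟩ => (⟨y, hy, fun e => h1 (Subtype.ext e)⟩ : ∃ y ∈ X ⊓ coreD V, y ≠ 1)
    obtain ⟨hcyc, -, -, hmem⟩ := hX y hy h1
    obtain ⟨g, hg⟩ := hcyc.exists_generator
    have hle : ⁅X, V⁆ ≤ zpowers (g : G) := fun w hw => by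
      obtain ⟨i, hi⟩ := mem_zpowers_iff.mp (hg ⟨w, hw⟩)
      exact mem_zpowers_iff.mpr ⟨i, by simpa using congrArg Subtype.val hi⟩
    have hgX : (g : G) ∈ X := (commutator_le.mpr fun x hx v hv => by
      rw [commutatorElement_def]
      have := mul_mem hx (conj_mem_of_mem_normalizer (h.hVX hv) (inv_mem hx))
      simpa [mul_assoc] using this : ⁅X, V⁆ ≤ X) g.2
    have hzg := h.zpowers_eq hgX (hle (hmem z hz hinv)) hz1
    exact fun ζ hζ hi => hzg ▸ hle (hmem ζ hζ hi)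
  · obtain ⟨-, hO, -, hmem⟩ := hX y hy h1
    exact mem_bot.mp (hO ▸ mem_inf.mpr ⟨hmem z hz hinv, hzO⟩)

end AlphaData

end Cfsg.Agent.GW66
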