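import Cfsg.Agent.GW66.AlphaUnip

/-!
# The alpha step: `U` fixes a point of `X`
-/

set_option autoImplicit false
set_option linter.unusedSectionVars false

namespace Cfsg.Agent.GW66

open Subgroup AlphaAux
open scoped commutatorElement Pointwise

universe u

variable {G : Type u} [Group G] [Finite G] {V X : Subgroup G} {a b : G} {q : ℕ}

namespace AlphaData

variable (h : AlphaData V a b q X)

include h

theorem exists_centralized (hne : X ⊓ coreD V ≠ ⊥)
    (hpow : ∀ x ∈ coreK a, b * x * b⁻¹ = x⁻¹ → x ^ q ^ 2 ∈ centralizer (X : Set G)) :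
    X ⊓ centralizer (coreU V a : Set G) ≠ ⊥ := by
  have := Fact.mk h.hq
  set K := coreK a with hK
  set N := K ⊓ centralizer (X : Set G) with hN
  have hKN : K ≤ normalizer (N : Set G) := fun k hk =>
    mem_normalizer_of_conj_mem fun x hx => by
      obtain ⟨hxK, hxC⟩ := mem_inf.mp hx
      refine mem_inf.mpr ⟨mul_mem (mul_mem hk hxK) (inv_mem hk), mem_centralizer_iff.mpr ?_⟩
      intro ξ hξ
      calc ξ * (k * x * k⁻¹) = k * ((k⁻¹ * ξ * k) * x) * k⁻¹ := by group
        _ = k * (x * (k⁻¹ * ξ * k)) * k⁻¹ := by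
            rw [mem_centralizer_iff.mp hxC _ (h.kX' hk hξ)]
        _ = k * x * k⁻¹ * ξ := by group
  set H := N ⊔ coreD V with hH
  have hHK : H ≤ K := sup_le inf_le_left h.D_le_K
  have hHset : (H : Set G) = (N : Set G) * (coreD V : Set G) :=
    coe_mul_of_right_le_normalizer_left N (coreD V) (h.D_le_K.trans hKN)
  have hbK : b ∈ normalizer (K : Set G) := le_normalizer_coreK h.hc.klein h.hp.ha h.hp.hb
  have hb1 : b ∈ normalizer ((⊥ : Subgroup G) : Set G) := mem_normalizer_of_conj_mem fun x hx => by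
    rw [mem_bot] at hx ⊢
    simp [hx]
  -- a Sylow subgroup for every other prime lies in `H`
  have hother : ∀ p : ℕ, p.Prime → p ≠ q → p ^ (Nat.card K).factorization p ∣ Nat.card H := by
    intro p hp hpq
    obtain ⟨P, -, hPK, hbP, hPp, hPcard⟩ :=
      h.exists_sylow (L₀ := ⊥) le_rfl hbK hp bot_le IsPGroup.of_bot hb1
    rw [← hPcard]
    refine card_dvd_of_le fun k hk => ?_
    have hc0 : k⁻¹ * (b * k * b⁻¹) ∈ P :=
      mul_mem (inv_mem hk) (conj_mem_of_mem_normalizer hbP hk)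
    obtain ⟨e, he, heK, hd, -⟩ := h.lift (hPK hk)
    have hc0i : b * (k⁻¹ * (b * k * b⁻¹)) * b⁻¹ = (k⁻¹ * (b * k * b⁻¹))⁻¹ := by
      calc b * (k⁻¹ * (b * k * b⁻¹)) * b⁻¹ = b * k⁻¹ * b * k * (b⁻¹ * b⁻¹) := by group
        _ = (b * k * b⁻¹)⁻¹ * k := by rw [h.binv, h.bb]; simp [mul_assoc, h.binv]
        _ = _ := by group
    have hc0N : k⁻¹ * (b * k * b⁻¹) ∈ N := by
      have := Fact.mk hp
      obtain ⟨i, hi⟩ := IsPGroup.iff_orderOf.mp hPp ⟨_, hc0⟩
      rw [Subgroup.orderOf_mk] at hi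
      have hm : (k⁻¹ * (b * k * b⁻¹)) ^ q ^ 2 ∈ N :=
        mem_inf.mpr ⟨pow_mem (hPK hc0) _, hpow _ (hPK hc0) hc0i⟩
      refine zpowers_le.mpr hm (mem_zpowers_pow_iff.mpr ?_)
      rw [hi]
      exact Nat.Coprime.pow _ _ ((Nat.coprime_primes h.hq hp).mpr hpq.symm)
    have : k = k * e * e⁻¹ := by group
    rw [this]
    exact mul_mem (mem_sup_right hd) (mem_sup_left (inv_mem (zpowers_le.mpr hc0N he)))
  -- the invariant Sylow `q`-subgroup
  obtain ⟨Q, hXQ, hQK, hbQ, hQq, hQcard⟩ :=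
    h.exists_sylow le_rfl hbK h.hq h.hXK h.isPGroup_X (h.hVX h.hp.hb)
  -- `K = Q H`
  have hprod : ∀ k ∈ K, ∃ q0 ∈ Q, ∃ t ∈ H, k = q0 * t := by
    set s := (Nat.card K).factorization q with hs
    have hKne : Nat.card K ≠ 0 := Nat.card_pos.ne'
    have hcardH : H.relIndex K * Nat.card H = Nat.card K := by
      rw [relIndex, ← Nat.card_congr (subgroupOfEquivOfLe hHK).toEquiv]
      exact index_mul_card _
    have hcardQ : H.relIndex Q * Nat.card ↥(H ⊓ Q) = Nat.card Q := by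
      rw [relIndex, ← inf_subgroupOf_right,
        ← Nat.card_congr (subgroupOfEquivOfLe (inf_le_right : H ⊓ Q ≤ Q)).toEquiv]
      exact index_mul_card _
    have hrel0 : H.relIndex K ≠ 0 := fun e => hKne (by rw [← hcardH, e, zero_mul])
    obtain ⟨i, hi⟩ : ∃ i, H.relIndex K = q ^ i := by
      refine ⟨_, Nat.eq_prime_pow_of_unique_prime_dvd hrel0 fun {p} hp hpd => ?_⟩
      by_contra hpq
      have hdvd := mul_dvd_mul hpd (hother p hp hpq)
      rw [hcardH, ← pow_succ'] at hdvd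
      exact Nat.pow_succ_factorization_not_dvd hKne hp hdvd
    obtain ⟨c, hc⟩ := IsPGroup.iff_card.mp (hQq.to_le (inf_le_right : H ⊓ Q ≤ Q))
    have hle : H.relIndex K ≤ H.relIndex Q := by
      have hdvd : q ^ (i + c) ∣ Nat.card K := by
        rw [pow_add, ← hi, ← hc, ← hcardH]
        exact mul_dvd_mul_left _ (card_dvd_of_le inf_le_left)
      have hic := (h.hq.pow_dvd_iff_le_factorization hKne).mp hdvd
      refine Nat.le_of_mul_le_mul_right ?_ (Nat.card_pos (α := ↥(H ⊓ Q)))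
      rw [hcardQ, hQcard, hi, hc, ← pow_add]
      exact Nat.pow_le_pow_right h.hq.pos hic
    let f : Q ⧸ H.subgroupOf Q → K ⧸ H.subgroupOf K :=
      Quotient.map (fun k => (⟨k, hQK k.2⟩ : K)) (fun k k' hk => by
        refine QuotientGroup.leftRel_apply.mpr ?_
        have := QuotientGroup.leftRel_apply.mp hk
        rw [mem_subgroupOf] at this ⊢
        exact this)
    have hf : Function.Injective f := by
      intro u v
      refine Quotient.inductionOn₂ u v fun k k' e => ?_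
      have e' := QuotientGroup.leftRel_apply.mp (Quotient.exact e)
      exact Quotient.sound (QuotientGroup.leftRel_apply.mpr e')
    have hbij : Function.Bijective f := hf.bijective_of_nat_card_le hle
    intro k hk
    obtain ⟨u, hu⟩ := hbij.2 (QuotientGroup.mk ⟨k, hk⟩)
    induction u using Quotient.inductionOn with
    | h q0 =>
      have := QuotientGroup.leftRel_apply.mp (Quotient.exact hu)
      rw [mem_subgroupOf] at this
      exact ⟨q0, q0.2, _, this, (mul_inv_cancel_left (q0 : G) k).symm⟩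
  -- `U ≤ Q N`
  have hU : coreU V a ≤ Q ⊔ N := by
    refine h.U_le fun x hxK hxi => ?_
    obtain ⟨e, heK, -, -, hcm⟩ := h.sqrt hxK hxi
    obtain ⟨q0, hq0, t, ht, rfl⟩ := hprod e heK
    have ht' : t ∈ (N : Set G) * (coreD V : Set G) := hHset ▸ ht
    obtain ⟨n, hn, d, hd, rfl⟩ := ht'
    have hdb : d * b * d⁻¹ = b := conj_eq_of_commute (h.memD.mp hd).2
    have hcm' : x = q0 * (n * (b * n⁻¹ * b⁻¹)) * (b * q0⁻¹ * b⁻¹) := by
      rw [← hcm]
      calc q0 * (n * d) * b * (q0 * (n * d))⁻¹ * b⁻¹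
          = q0 * (n * (d * b * d⁻¹) * n⁻¹) * q0⁻¹ * b⁻¹ := by group
        _ = _ := by rw [hdb]; group
    rw [hcm']
    refine mul_mem (mul_mem (mem_sup_left hq0) (mem_sup_right (mul_mem hn ?_)))
      (mem_sup_left (conj_mem_of_mem_normalizer hbQ (inv_mem hq0)))
    obtain ⟨hnK, hnC⟩ := mem_inf.mp hn
    refine mem_inf.mpr ⟨h.bK (inv_mem hnK), mem_centralizer_iff.mpr fun ξ hξ => ?_⟩
    have hξ' : b⁻¹ * ξ * b ∈ X := by
      have := h.bX hξ
      rwa [h.binv] at this ⊢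
    calc ξ * (b * n⁻¹ * b⁻¹) = b * ((b⁻¹ * ξ * b) * n⁻¹) * b⁻¹ := by group
      _ = b * (n⁻¹ * (b⁻¹ * ξ * b)) * b⁻¹ := by
          rw [mem_centralizer_iff.mp (inv_mem hnC) _ hξ']
      _ = b * n⁻¹ * b⁻¹ * ξ := by group
  -- a central element of `Q` in `X`
  have hXn : (X.subgroupOf Q).Normal := normal_subgroupOf_of_le_normalizer (hQK.trans h.hKX)
  have hXb : X.subgroupOf Q ≠ ⊥ := by
    rw [Ne, subgroupOf_eq_bot, disjoint_iff, inf_eq_left.mpr hXQ]
    exact fun e => hne (le_bot_iff.mp (e ▸ inf_le_left))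
  obtain ⟨⟨w, hw⟩, hw1⟩ := ne_bot_iff_exists_ne_one.mp (PGroup.inf_center_ne_bot hQq hXb)
  obtain ⟨hwX, hwC⟩ := mem_inf.mp hw
  refine ne_bot_iff_exists_ne_one.mpr ⟨⟨(w : G), mem_inf.mpr ⟨mem_subgroupOf.mp hwX, ?_⟩⟩,
    fun e => hw1 (Subtype.ext (Subtype.ext (congrArg Subtype.val e :)))⟩
  have hle : Q ⊔ N ≤ centralizer ({(w : G)} : Set G) := by
    refine sup_le (fun g hg => mem_centralizer_singleton_iff.mpr ?_) fun g hg =>
      mem_centralizer_singleton_iff.mpr
        (mem_centralizer_iff.mp (mem_inf.mp hg).2 _ (mem_subgroupOf.mp hwX)).symm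
    exact congrArg Subtype.val (mem_center_iff.mp hwC ⟨g, hg⟩)
  exact mem_centralizer_iff.mpr fun g hg =>
    mem_centralizer_singleton_iff.mp (hle (hU hg))

end AlphaData

end Cfsg.Agent.GW66
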