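import Cfsg.Agent.GW66.AlphaBasic

/-!
# The alpha step: counting conjugates
-/

set_option autoImplicit false
set_option linter.unusedSectionVars false

namespace Cfsg.Agent.GW66

open Subgroup AlphaAux

universe u

variable {G : Type u} [Group G] [Finite G] {V X : Subgroup G} {a b z : G} {q : ℕ}

namespace AlphaData

variable (h : AlphaData V a b q X)

include h

theorem orb_subset {y : G} (hy : y ∈ X) : orb (coreK a) y ⊆ (X : Set G) := by
  rintro _ ⟨k, hk, rfl⟩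
  exact h.kX hk hy

theorem orb_inter_D {y : G} (hy : y ∈ X ⊓ coreD V) :
    orb (coreK a) y ∩ (↑(X ⊓ coreD V) : Set G) = orb (coreD V) y := by
  obtain ⟨hyX, hyD⟩ := mem_inf.mp hy
  apply Set.Subset.antisymm
  · rintro _ ⟨⟨k, hk, rfl⟩, hD⟩
    obtain ⟨e, he, -, hd, -⟩ := h.lift hk
    have hfix := h.fixed_of_memD (mem_inf.mp (SetLike.mem_coe.mp hD)).2
    have hfy := h.fixed_of_memD hyD
    have hc : k⁻¹ * (b * k * b⁻¹) ∈ centralizer ({y} : Set G) := by
      rw [mem_centralizer_singleton_iff]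
      refine (commute_of_conj_eq ?_).eq
      calc k⁻¹ * (b * k * b⁻¹) * y * (k⁻¹ * (b * k * b⁻¹))⁻¹
          = k⁻¹ * (b * (k * (b⁻¹ * y * b) * k⁻¹) * b⁻¹) * k := by group
        _ = k⁻¹ * (k * y * k⁻¹) * k := by
            have : b⁻¹ * y * b = y := by
              calc b⁻¹ * y * b = b⁻¹ * (b * y * b⁻¹) * b := by rw [hfy]
                _ = y := by group
            rw [this, hfix]
        _ = y := by group
    have hey : e * y = y * e := mem_centralizer_singleton_iff.mp (zpowers_le.mpr hc he)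
    refine ⟨k * e, hd, ?_⟩
    calc k * e * y * (k * e)⁻¹ = k * (e * y) * e⁻¹ * k⁻¹ := by group
      _ = k * y * k⁻¹ := by rw [hey]; group
  · rintro _ ⟨d, hd, rfl⟩
    exact ⟨⟨d, h.D_le_K hd, rfl⟩,
      mem_inf.mpr ⟨h.kX (h.D_le_K hd) hyX, mul_mem (mul_mem hd hyD) (inv_mem hd)⟩⟩

theorem card_X_le (hz : ∀ ζ ∈ X, b * ζ * b⁻¹ = ζ⁻¹ → ζ ∈ zpowers z) (hzX : z ∈ X) :
    Nat.card X ≤ q * Nat.card ↥(X ⊓ coreD V) := by
  have hf : Function.Surjective (fun p : ↥(X ⊓ coreD V) × zpowers z =>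
      (⟨p.1 * p.2, mul_mem (mem_inf.mp p.1.2).1 (zpowers_le.mpr hzX p.2.2)⟩ : X)) := by
    intro ξ
    obtain ⟨p, hp, ζ, hζ, hinv, e⟩ := h.decomp ξ.2
    exact ⟨(⟨p, hp⟩, ⟨ζ, hz ζ hζ hinv⟩), Subtype.ext e.symm⟩
  have := Nat.card_le_card_of_surjective _ hf
  rw [Nat.card_prod, Nat.card_zpowers, mul_comm] at this
  refine this.trans (Nat.mul_le_mul_right _ ?_)
  by_cases h1 : z = 1
  · rw [h1, orderOf_one]; exact h.hq.one_le
  · exact (h.orderOf_eq hzX h1).le

/-- Conjugates of elements outside `O(C(y))`, bounded with `OrderStmt`. -/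
theorem key_count (hTop : TopStmt.{u}) (hFC : FusedCentStmt.{u}) (hOrd : OrderStmt.{u})
    (hzX : z ∈ X) (hzi : b * z * b⁻¹ = z⁻¹)
    {y : G} (hy : y ∈ X ⊓ coreD V) (h1 : y ≠ 1)
    (hzO : z ∉ coreO (centralizer ({y} : Set G)))
    {S : Set G} (hSo : S ⊆ orb (coreK a) y)
    (hS : ∀ s ∈ S, ∃ u ∈ zpowers y, ∃ m : ℕ, ¬ q ∣ m ∧ s = u * z ^ m)
    {x : G} {j : ℕ} (hj : 1 ≤ j) (hx : x ∈ invSet (centralizer ({y} : Set G)) a b)
    (hxo : orderOf x = q ^ j) (hxO : x ^ q ^ (j - 1) ∉ coreO (centralizer ({y} : Set G))) :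
    6 * (q ^ j) ^ 2 * S.ncard * (orb (coreD V) y).ncard ^ 2 <
      4 * (orb (coreK a) y).ncard ^ 3 := by
  obtain ⟨hyX, hyD⟩ := mem_inf.mp hy
  set M := centralizer ({y} : Set G) with hM
  have hT := hTop G V h.hc M (h.hc.centralizer_ne_top h1) (h.V_le_cent hyD) (h.fused hFC hy h1)
  obtain ⟨c1, c2⟩ := hT.count a b h.hp q j h.hq hj h.q_ne_two ⟨x, hx, hxo, hxO⟩
  have hzy : z ∈ M := mem_centralizer_singleton_iff.mpr (h.comm z hzX y hyX).eq
  have hyO : y ∈ coreO M := by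
    have : ((zpowers y).subgroupOf M).Normal := by
      refine ⟨fun u hu g => ?_⟩
      rw [mem_subgroupOf] at hu ⊢
      obtain ⟨i, hi⟩ := mem_zpowers_iff.mp hu
      have hg : Commute (g : G) y := mem_centralizer_singleton_iff.mp g.2
      rw [coe_mul, coe_mul, coe_inv, ← hi, conj_eq_of_commute (hg.zpow_right i)]
      exact zpow_mem (mem_zpowers y) i
    have hle : (zpowers y).subgroupOf M ≤ Cfsg.oddCore ↥M := by
      refine Thompson.le_pPrimeCore inferInstance ?_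
      rw [Nat.card_congr (subgroupOfEquivOfLe (zpowers_le.mpr
        (mem_centralizer_singleton_iff.mpr rfl : y ∈ M))).toEquiv, Nat.card_zpowers]
      exact Nat.coprime_two_right.mpr (h.odd_of_memK (h.hXK hyX))
    exact ⟨⟨y, mem_centralizer_singleton_iff.mpr rfl⟩,
      hle (mem_subgroupOf.mpr (mem_zpowers y)), rfl⟩
  have c3 := c2 S (by
    intro s hs
    obtain ⟨u, hu, m, hm, rfl⟩ := hS s hs
    have hzm : z ^ m ∈ invSet M a b :=
      ⟨pow_mem hzy m, h.odd_of_memK (pow_mem (h.hXK hzX) m),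
        (h.commute_a (pow_mem (h.hXK hzX) m)).eq, inverted_pow hzi m⟩
    refine ⟨z ^ m, hzm, fun hmem => hzO ?_,
      mul_mem (zpowers_le.mpr (mem_centralizer_singleton_iff.mpr rfl) hu) (pow_mem hzy m), ?_⟩
    · have hg : Nat.gcd m q = 1 := (h.hq.coprime_iff_not_dvd.mpr hm).symm
      have := pow_gcd_mem hmem (show z ^ q ∈ coreO M by rw [h.exp z hzX]; exact one_mem _)
      rwa [hg, pow_one] at this
    · rw [mul_inv_cancel_right]
      exact zpowers_le.mpr hyO hu)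
  have hsub : {g : G | ∃ m ∈ M, ∃ s ∈ S, m * s * m⁻¹ = g} ⊆ orb (⊤ : Subgroup G) y := by
    rintro _ ⟨m, -, s, hs, rfl⟩
    obtain ⟨k, -, rfl⟩ := hSo hs
    exact ⟨m * k, mem_top _, by group⟩
  have c4 : 6 * (q ^ j) ^ 2 * S.ncard ≤ (orb (⊤ : Subgroup G) y).ncard :=
    c3.trans (Set.ncard_le_ncard hsub (Set.toFinite _))
  have oG := ncard_orb_mul (⊤ : Subgroup G) y
  have oK := ncard_orb_mul (coreK a) y
  have oD := ncard_orb_mul (coreD V) y
  rw [top_inf_eq, card_top, ← hM] at oG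
  rw [← hM] at oK oD
  have hG := hOrd G V h.hc a h.hp.ha h.hp.a1
  rw [← oG, ← oK, ← oD] at hG
  set N := (orb (⊤ : Subgroup G) y).ncard
  set n := (orb (coreK a) y).ncard
  set δ := (orb (coreD V) y).ncard
  set m' := Nat.card M
  set k' := Nat.card ↥(coreK a ⊓ M)
  set d' := Nat.card ↥(coreD V ⊓ M)
  have key : N * δ ^ 2 < 4 * n ^ 3 := by
    by_contra hcon
    push Not at hcon
    have e1 : 4 * n ^ 3 * (24 * k' ^ 3) ≤ N * δ ^ 2 * (m' * d' ^ 2) :=
      Nat.mul_le_mul hcon c1.le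
    nlinarith
  exact lt_of_le_of_lt (Nat.mul_le_mul_right _ c4) key

/-- The fixed part of `X` has more than `q` elements unless `U` fixes one of them. -/
theorem sq_le_card_fixed (hTop : TopStmt.{u}) (hFC : FusedCentStmt.{u}) (hOrd : OrderStmt.{u})
    (hzX : z ∈ X) (hz1 : z ≠ 1) (hzi : b * z * b⁻¹ = z⁻¹)
    (hz : ∀ ζ ∈ X, b * ζ * b⁻¹ = ζ⁻¹ → ζ ∈ zpowers z)
    {y : G} (hy : y ∈ X ⊓ coreD V) (h1 : y ≠ 1)
    (hzO : z ∉ coreO (centralizer ({y} : Set G)))
    (hno : ¬ coreU V a ≤ centralizer ({y} : Set G)) :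
    q ^ 2 ≤ Nat.card ↥(X ⊓ coreD V) := by
  classical
  obtain ⟨hyX, hyD⟩ := mem_inf.mp hy
  have := Fact.mk h.hq
  obtain ⟨k, hk⟩ := IsPGroup.iff_card.mp (h.isPGroup_X.to_le (inf_le_left : X ⊓ coreD V ≤ X))
  by_contra hlt
  rw [not_le, hk] at hlt
  have hk2 : k < 2 := (Nat.pow_lt_pow_iff_right h.hq.one_lt).mp hlt
  have hle : zpowers y ≤ X ⊓ coreD V := zpowers_le.mpr hy
  have hXp : X ⊓ coreD V = zpowers y := by
    refine (eq_of_le_of_card_ge hle ?_).symm
    rw [hk, Nat.card_zpowers, h.orderOf_eq hyX h1]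
    calc q ^ k ≤ q ^ 1 := Nat.pow_le_pow_right h.hq.pos (by omega)
      _ = q := pow_one q
  set O := orb (coreK a) y with hO
  set δ := (orb (coreD V) y).ncard with hδ
  have hδeq : orb (coreD V) y = O ∩ (zpowers y : Set G) := by rw [← h.orb_inter_D hy, hXp]
  have hδpos : 0 < δ := (Set.ncard_pos).mpr ⟨y, ⟨1, one_mem _, by simp⟩⟩
  -- the stabiliser of the line
  set L := coreK a ⊓ normalizer (zpowers y : Set G) with hL
  have hLK : L ≤ coreK a := inf_le_left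
  have horbL : orb L y = orb (coreD V) y := by
    apply Set.Subset.antisymm
    · rintro _ ⟨g, hg, rfl⟩
      rw [hδeq]
      exact ⟨⟨g, (mem_inf.mp hg).1, rfl⟩,
        conj_mem_of_mem_normalizer (mem_inf.mp hg).2 (mem_zpowers y)⟩
    · refine orb_mono (fun d hd => mem_inf.mpr ⟨h.D_le_K hd, ?_⟩) y
      refine mem_normalizer_of_conj_mem fun u hu => ?_
      rw [← hXp] at hu ⊢
      exact mem_inf.mpr ⟨h.kX (h.D_le_K hd) (mem_inf.mp hu).1,
        mul_mem (mul_mem hd (mem_inf.mp hu).2) (inv_mem hd)⟩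
  have hinf : L ⊓ centralizer ({y} : Set G) = coreK a ⊓ centralizer ({y} : Set G) := by
    refine le_antisymm (inf_le_inf_right _ hLK) fun g hg => ?_
    obtain ⟨hgK, hgy⟩ := mem_inf.mp hg
    refine mem_inf.mpr ⟨mem_inf.mpr ⟨hgK, mem_normalizer_of_conj_mem fun u hu => ?_⟩, hgy⟩
    obtain ⟨i, rfl⟩ := mem_zpowers_iff.mp hu
    have hgy' : Commute g y := mem_centralizer_singleton_iff.mp hgy
    rw [conj_eq_of_commute (hgy'.zpow_right i)]
    exact zpow_mem (mem_zpowers y) i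
  have oK := ncard_orb_mul (coreK a) y
  have oL := ncard_orb_mul L y
  rw [horbL, hinf, ← hδ] at oL
  rw [← hO] at oK
  set n' := L.relIndex (coreK a) with hn'
  have hrel : n' * Nat.card L = Nat.card (coreK a) := by
    rw [hn', relIndex, ← Nat.card_congr (subgroupOfEquivOfLe hLK).toEquiv]
    exact index_mul_card _
  have hn : O.ncard = n' * δ := by
    refine Nat.eq_of_mul_eq_mul_right
      (Nat.card_pos (α := ↥(coreK a ⊓ centralizer ({y} : Set G)))) ?_
    rw [oK, mul_assoc, oL, hrel]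
  have hodd : Odd n' := (odd_card_coreK a).of_dvd_nat (relIndex_dvd_card _ _)
  -- lines
  have hfib : ∀ w ∈ X, (O ∩ (zpowers w : Set G)).ncard ≤ δ := by
    intro w hw
    rcases Set.eq_empty_or_nonempty (O ∩ (zpowers w : Set G)) with he | ⟨g, ⟨c, hc, rfl⟩, hgw⟩
    · rw [he, Set.ncard_empty]; exact Nat.zero_le _
    · have hne : c * y * c⁻¹ ≠ 1 := fun e => h1 (conj_eq_one_iff.mp e)
      have hline := h.zpowers_eq hw hgw hne
      rw [hδ, hδeq]
      refine Set.ncard_le_ncard_of_injOn (fun g => c⁻¹ * g * c) ?_ ?_ (Set.toFinite _)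
      · rintro g ⟨⟨l, hl, rfl⟩, hg2⟩
        refine ⟨⟨c⁻¹ * l, mul_mem (inv_mem hc) hl, by group⟩, ?_⟩
        rw [SetLike.mem_coe, ← hline] at hg2
        obtain ⟨i, hi⟩ := mem_zpowers_iff.mp hg2
        refine mem_zpowers_iff.mpr ⟨i, ?_⟩
        rw [← hi, conj_zpow]
        group
      · intro g _ g' _ e
        exact mul_left_cancel (mul_right_cancel e)
  have hcover : O ⊆ (⋃ i ∈ Finset.range q, O ∩ (zpowers (y ^ i * z) : Set G)) ∪
      O ∩ (zpowers y : Set G) := by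
    intro g hg
    obtain ⟨p, hp, ζ, hζ, hinv, rfl⟩ := h.decomp (h.orb_subset hyX hg)
    rw [hXp] at hp
    obtain ⟨i, rfl⟩ := (mem_powers_iff_mem_zpowers (x := y)).mpr hp
    obtain ⟨m, rfl⟩ := (mem_powers_iff_mem_zpowers (x := z)).mpr (hz ζ hζ hinv)
    dsimp only at hg ⊢
    by_cases hm : q ∣ m
    · right
      refine ⟨hg, ?_⟩
      rw [← h.orderOf_eq hzX hz1, orderOf_dvd_iff_pow_eq_one] at hm
      rw [hm, mul_one]
      exact pow_mem (mem_zpowers y) i
    · left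
      obtain ⟨r, -, hr⟩ := Nat.exists_mul_mod_eq_one_of_coprime
        (h.hq.coprime_iff_not_dvd.mpr hm).symm h.hq.one_lt
      refine Set.mem_biUnion (x := i * r % q) (Finset.mem_range.mpr (Nat.mod_lt _ h.hq.pos))
        ⟨hg, ?_⟩
      have hgX : y ^ i * z ^ m ∈ X := mul_mem (pow_mem hyX i) (pow_mem hzX m)
      have hpow : (y ^ i * z ^ m) ^ r = y ^ (i * r % q) * z := by
        have e1 : y ^ (i * r % q) = y ^ (i * r) := by
          rw [← h.orderOf_eq hyX h1, pow_mod_orderOf]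
        have e2 : z ^ (m * r) = z := by
          rw [← pow_mod_orderOf, h.orderOf_eq hzX hz1, hr, pow_one]
        rw [(h.comm _ (pow_mem hyX i) _ (pow_mem hzX m)).mul_pow, e1, ← pow_mul, ← pow_mul, e2]
      rw [SetLike.mem_coe, ← hpow]
      by_cases hg1 : y ^ i * z ^ m = 1
      · rw [hg1]; exact one_mem _
      · rw [mem_zpowers_pow_iff, h.orderOf_eq hgX hg1]
        refine (h.hq.coprime_iff_not_dvd.mpr fun hd => ?_).symm
        obtain ⟨t, rfl⟩ := hd
        rw [mul_left_comm, Nat.mul_mod_right] at hr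
        omega
  have hub : n' * δ ≤ (q + 1) * δ := by
    rw [← hn]
    refine (Set.ncard_le_ncard hcover (Set.toFinite _)).trans ?_
    refine (Set.ncard_union_le _ _).trans ?_
    rw [add_mul, one_mul]
    refine add_le_add ?_ (hfib y hyX)
    refine (Finset.set_ncard_biUnion_le _ _).trans ?_
    refine (Finset.sum_le_sum (g := fun _ => δ)
      fun i _ => hfib _ (mul_mem (pow_mem hyX i) hzX)).trans ?_
    simp
  have hn'q : n' ≤ q := by
    have h' : n' ≤ q + 1 := Nat.le_of_mul_le_mul_right hub hδpos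
    have hq2 : Odd q := h.hq.odd_of_ne_two h.q_ne_two
    rcases hodd with ⟨c, hc⟩
    rcases hq2 with ⟨d, hd⟩
    omega
  have hn'3 : 3 ≤ n' := by
    by_contra hlt3
    have hone : n' = 1 := by rcases hodd with ⟨c, hc⟩; omega
    have hKL : coreK a ≤ L := relIndex_eq_one.mp hone
    refine hno (h.U_le fun x hx hinv => ?_)
    have hmem : x * y * x⁻¹ ∈ X ⊓ coreD V := by
      rw [hXp]
      exact conj_mem_of_mem_normalizer (mem_inf.mp (hKL hx)).2 (mem_zpowers y)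
    have e1 : x⁻¹ * y * x = x * y * x⁻¹ := by
      calc x⁻¹ * y * x = (b * x * b⁻¹) * (b * y * b⁻¹) * (b * x * b⁻¹)⁻¹ := by
            rw [hinv, h.fixed_of_memD hyD, inv_inv]
        _ = b * (x * y * x⁻¹) * b⁻¹ := by group
        _ = x * y * x⁻¹ := h.fixed_of_memD (mem_inf.mp hmem).2
    rw [mem_centralizer_singleton_iff]
    refine (commute_of_sq (h.odd_of_memK hx) (commute_of_conj_eq ?_)).eq
    calc x * x * y * (x * x)⁻¹ = x * (x * y * x⁻¹) * x⁻¹ := by group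
      _ = x * (x⁻¹ * y * x) * x⁻¹ := by rw [e1]
      _ = y := by group
  set S := O \ (zpowers y : Set G) with hSdef
  have hScard : S.ncard = (n' - 1) * δ := by
    have := Set.ncard_inter_add_ncard_sdiff_eq_ncard O (zpowers y : Set G) (Set.toFinite _)
    rw [← hδeq, ← hδ, hn, ← hSdef] at this
    rw [Nat.sub_mul, one_mul]
    omega
  have hcount := h.key_count hTop hFC hOrd hzX hzi hy h1 hzO (S := S) Set.sdiff_subset (by
      intro s hs
      obtain ⟨p, hp, ζ, hζ, hinv, rfl⟩ := h.decomp (h.orb_subset hyX hs.1)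
      rw [hXp] at hp
      obtain ⟨m, rfl⟩ := (mem_powers_iff_mem_zpowers (x := z)).mpr (hz ζ hζ hinv)
      refine ⟨p, hp, m, fun hm => hs.2 ?_, rfl⟩
      rw [← h.orderOf_eq hzX hz1, orderOf_dvd_iff_pow_eq_one] at hm
      dsimp only
      rw [hm, mul_one]
      exact hp)
    (x := z) (j := 1) le_rfl
    ⟨mem_centralizer_singleton_iff.mpr (h.comm z hzX y hyX).eq, h.odd_of_memK (h.hXK hzX),
      (h.commute_a (h.hXK hzX)).eq, hzi⟩
    (by rw [pow_one]; exact h.orderOf_eq hzX hz1) (by simpa using hzO)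
  rw [hScard, ← hO, hn, ← hδ, pow_one] at hcount
  have e : 6 * q ^ 2 * (n' - 1) * δ ^ 3 < 4 * n' ^ 3 * δ ^ 3 := by
    calc 6 * q ^ 2 * (n' - 1) * δ ^ 3 = 6 * q ^ 2 * ((n' - 1) * δ) * δ ^ 2 := by ring
      _ < 4 * (n' * δ) ^ 3 := hcount
      _ = 4 * n' ^ 3 * δ ^ 3 := by ring
  have e' := Nat.lt_of_mul_lt_mul_right e
  have e2 : 4 * n' ^ 3 ≤ 4 * n' * q ^ 2 := by
    have := Nat.pow_le_pow_left hn'q 2
    calc 4 * n' ^ 3 = 4 * n' * n' ^ 2 := by ring
      _ ≤ 4 * n' * q ^ 2 := Nat.mul_le_mul_left _ this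
  have e3 : 4 * n' * q ^ 2 ≤ 6 * q ^ 2 * (n' - 1) := by
    calc 4 * n' * q ^ 2 = q ^ 2 * (4 * n') := by ring
      _ ≤ q ^ 2 * (6 * (n' - 1)) := Nat.mul_le_mul_left _ (by omega)
      _ = 6 * q ^ 2 * (n' - 1) := by ring
  omega

end AlphaData

end Cfsg.Agent.GW66
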