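import Cfsg.Agent.GW66.AlphaCount
import Cfsg.Agent.SylowNum.Decomp
import Cfsg.Agent.Lib.PGroup.Basic

/-!
# The alpha step: inverted elements act unipotently, so `U` fixes a point of `X`
-/

set_option autoImplicit false
set_option linter.unusedSectionVars false

namespace Cfsg.Agent.GW66

open Subgroup AlphaAux
open scoped commutatorElement

universe u

variable {G : Type u} [Group G] [Finite G] {V X : Subgroup G} {a b z : G} {q : ℕ}

namespace AlphaData

variable (h : AlphaData V a b q X)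

include h

theorem V_le_normalizer {Y : Subgroup G} (hYK : Y ≤ coreK a) (hb : b ∈ normalizer (Y : Set G)) :
    V ≤ normalizer (Y : Set G) := by
  have ha : a ∈ normalizer (Y : Set G) :=
    mem_normalizer_of_conj_mem fun x hx => by
      rw [conj_eq_of_commute (h.commute_a (hYK hx)).symm]; exact hx
  intro v hv
  rcases klein_cases h.hc.klein h.hp hv with rfl | rfl | rfl | rfl
  · exact one_mem _
  · exact ha
  · exact hb
  · exact mul_mem ha hb

theorem exists_sylow {H L₀ : Subgroup G} (hH : H ≤ coreK a) (hbH : b ∈ normalizer (H : Set G))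
    {p : ℕ} (hp : p.Prime) (hL₀ : L₀ ≤ H) (hL₀p : IsPGroup p L₀)
    (hbL₀ : b ∈ normalizer (L₀ : Set G)) :
    ∃ Q : Subgroup G, L₀ ≤ Q ∧ Q ≤ H ∧ b ∈ normalizer (Q : Set G) ∧ IsPGroup p Q ∧
      Nat.card Q = p ^ (Nat.card H).factorization p := by
  have := Fact.mk hp
  have : Fact (Nat.Prime 2) := ⟨Nat.prime_two⟩
  have hP : IsPGroup 2 (zpowers b) := IsPGroup.of_card (n := 1) (by
    rw [Nat.card_zpowers, klein_orderOf h.hc.klein h.hp.hb h.hp.b1, pow_one])
  have hodd : ¬ 2 ∣ Nat.card H := fun hd =>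
    Nat.not_even_iff_odd.mpr ((odd_card_coreK a).of_dvd_nat (card_dvd_of_le hH))
      (even_iff_two_dvd.mpr hd)
  obtain ⟨Q, h0, hQ, hPQ, hcard⟩ := SylowNum.exists_le_invariant_sylow (zpowers b) H L₀ hP
    (zpowers_le.mpr hbH) hodd p hL₀ hL₀p (zpowers_le.mpr hbL₀)
  exact ⟨Q, h0, hQ, hPQ (mem_zpowers b), IsPGroup.of_card hcard, hcard⟩

theorem pow_sq_mem_centralizer (hTop : TopStmt.{u}) (hFC : FusedCentStmt.{u})
    (hzX : z ∈ X) (hzi : b * z * b⁻¹ = z⁻¹)
    (hz : ∀ ζ ∈ X, b * ζ * b⁻¹ = ζ⁻¹ → ζ ∈ zpowers z)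
    (hbig : q ^ 2 ≤ Nat.card ↥(X ⊓ coreD V))
    {x : G} (hxK : x ∈ coreK a) (hxi : b * x * b⁻¹ = x⁻¹) :
    x ^ q ^ 2 ∈ centralizer (X : Set G) := by
  obtain ⟨e, heK, hee, hei, hcm⟩ := h.sqrt hxK hxi
  set Xp := X ⊓ coreD V with hXp
  set B := Xp.map (MulAut.conj e).toMonoidHom with hB
  have hBX : B ≤ X := by
    rintro _ ⟨u, hu, rfl⟩
    exact h.kX heK (mem_inf.mp hu).1
  have hBcard : Nat.card B = Nat.card Xp := card_map_of_injective (MulAut.conj e).injective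
  have hne : Xp ⊓ B ≠ ⊥ := by
    refine inf_ne_bot_of_card inf_le_left hBX ?_
    rw [hBcard]
    refine lt_of_le_of_lt (h.card_X_le hz hzX) (Nat.mul_lt_mul_of_pos_right ?_ Nat.card_pos)
    calc q < q ^ 2 := lt_self_pow₀ h.hq.one_lt one_lt_two
      _ ≤ _ := hbig
  obtain ⟨⟨f, hf⟩, hf1'⟩ := ne_bot_iff_exists_ne_one.mp hne
  have hf1 : f ≠ 1 := fun e => hf1' (Subtype.ext e)
  obtain ⟨hfXp, f', hf', hfe⟩ := mem_inf.mp hf
  change e * f' * e⁻¹ = f at hfe
  obtain ⟨hfX, hfD⟩ := mem_inf.mp hfXp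
  obtain ⟨hf'X, hf'D⟩ := mem_inf.mp hf'
  have hf'1 : f' ≠ 1 := fun h' => hf1 (by rw [← hfe, h']; group)
  set b' := e * b * e⁻¹ with hb'
  have hxeq : x = b' * b := by rw [← hcm, h.binv, hb']
  set M := centralizer ({f} : Set G) with hM
  have hfb : Commute f b := (h.memD.mp hfD).2
  have hfb' : Commute f b' := by
    rw [← hfe, hb']
    exact (commute_of_conj_eq (by
      calc e * f' * e⁻¹ * (e * b * e⁻¹) * (e * f' * e⁻¹)⁻¹
          = e * (f' * b * f'⁻¹) * e⁻¹ := by group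
        _ = e * b * e⁻¹ := by rw [conj_eq_of_commute (h.memD.mp hf'D).2]))
  have hxf : Commute f x := by rw [hxeq]; exact hfb'.mul_right hfb
  have hxM : x ∈ invSet M a b :=
    ⟨mem_centralizer_singleton_iff.mpr hxf.eq.symm, h.odd_of_memK hxK, (h.commute_a hxK).eq, hxi⟩
  -- `x` centralises `X ⊓ O(M)`
  have hcore : ∀ g : G, g ∈ Xp → g ≠ 1 → ∀ ξ ∈ X, ξ ∈ coreO (centralizer ({g} : Set G)) →
      Commute ξ b := by
    intro g hg hg1 ξ hξ hξO
    have hR := h.dormant _ (h.hc.centralizer_ne_top hg1) (h.V_le_cent (mem_inf.mp hg).2)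
      (h.fused hFC hg hg1) q h.hq (h.dvd_card_inf hg hg1)
      (X ⊓ coreO (centralizer ({g} : Set G))) inf_le_right (h.isPGroup_X.to_le inf_le_left)
      (fun v hv => mem_normalizer_of_conj_mem fun r hr => mem_inf.mpr
        ⟨conj_mem_of_mem_normalizer (h.hVX hv) (mem_inf.mp hr).1,
          coreO_conj_mem (h.V_le_cent (mem_inf.mp hg).2 hv) (mem_inf.mp hr).2⟩) h.hp.hb
    exact mem_centralizer_iff.mp hR ξ (mem_inf.mpr ⟨hξ, hξO⟩)
  have hX0 : ∀ ξ ∈ X, ξ ∈ coreO M → Commute x ξ := by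
    intro ξ hξ hξO
    have h1 := hcore f hfXp hf1 ξ hξ hξO
    have h2 : Commute (e⁻¹ * ξ * e) b := by
      refine hcore f' hf' hf'1 _ (h.kX' heK hξ) ?_
      have himg : centralizer ({f'} : Set G) = img (MulAut.conj e⁻¹) M := by
        rw [hM, img_centralizer_singleton]
        congr
        rw [MulAut.conj_apply, ← hfe]
        group
      rw [himg, coreO_img, mem_img]
      convert hξO using 1
      rw [MulAut.conj_symm_apply]
      group
    have h3 : Commute ξ b' := commute_of_conj_eq (by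
      rw [hb']
      calc ξ * (e * b * e⁻¹) * ξ⁻¹ = e * ((e⁻¹ * ξ * e) * b * (e⁻¹ * ξ * e)⁻¹) * e⁻¹ := by group
        _ = e * b * e⁻¹ := by rw [conj_eq_of_commute h2])
    rw [hxeq]
    exact (h3.mul_right h1).symm
  -- two step action on the fixed part
  have hT := hTop G V h.hc M (h.hc.centralizer_ne_top hf1) (h.V_le_cent hfD)
    (h.fused hFC hfXp hf1)
  have hfix : ∀ y ∈ Xp, Commute (x ^ q) y := by
    intro y hy
    obtain ⟨hyX, hyD⟩ := mem_inf.mp hy
    have hyM : y ∈ M ⊓ centralizer (V : Set G) :=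
      mem_inf.mpr ⟨h.mem_centX hfX hyX, le_centralizer_coreD V hyD⟩
    have hη := hT.fix a b h.hp x hxM y hyM (h.odd_of_memK (h.hXK hyX))
    set g1 := x * y * x⁻¹ with hg1
    set gm := x⁻¹ * y * x with hgm
    have hg1X : g1 ∈ X := h.kX hxK hyX
    have hgmX : gm ∈ X := h.kX' hxK hyX
    have hg2X : x * g1 * x⁻¹ ∈ X := h.kX hxK hg1X
    set η := y * gm⁻¹ * (y * g1⁻¹) with hηdef
    have hηX : η ∈ X := mul_mem (mul_mem hyX (inv_mem hgmX)) (mul_mem hyX (inv_mem hg1X))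
    have hηO : η ∈ coreO M := by
      convert hη using 1
      rw [commutatorElement_def]
      calc η = y * (x⁻¹ * y⁻¹ * x) * (y * (x * y⁻¹ * x⁻¹)) := by rw [hηdef, hgm, hg1]; group
        _ = (b * y * b⁻¹) * (b * x * b⁻¹) * (b * y * b⁻¹)⁻¹ * (b * x * b⁻¹)⁻¹ *
            (y * x * y⁻¹ * x⁻¹) := by rw [h.fixed_of_memD hyD, hxi]; group
        _ = b * (y * x * y⁻¹ * x⁻¹) * b⁻¹ * (y * x * y⁻¹ * x⁻¹) := by group
    have hxη : x * η * x⁻¹ = η := conj_eq_of_commute (hX0 η hηX hηO)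
    set r := y⁻¹ * g1 with hr
    have hrX : r ∈ X := mul_mem (inv_mem hyX) hg1X
    have hr1 : x * y * x⁻¹ = y * r := by rw [hr, mul_inv_cancel_left]
    have hr2 : x * r * x⁻¹ = r * η⁻¹ := by
      have hη' : η⁻¹ = x * g1 * x⁻¹ * (g1⁻¹ * y * g1⁻¹) := by
        conv_lhs => rw [← hxη]
        rw [hηdef, hgm, hg1]; simp [mul_assoc]
      calc x * r * x⁻¹ = g1⁻¹ * (x * g1 * x⁻¹) := by rw [hr, hg1]; group
        _ = (x * g1 * x⁻¹) * g1⁻¹ := (h.comm _ (inv_mem hg1X) _ hg2X).eq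
        _ = y⁻¹ * (x * g1 * x⁻¹) * y * g1⁻¹ := by
            rw [mul_assoc y⁻¹, (h.comm _ hg2X _ hyX).eq, inv_mul_cancel_left]
        _ = y⁻¹ * (g1 * (x * g1 * x⁻¹) * g1⁻¹) * y * g1⁻¹ := by
            rw [(h.comm _ hg1X _ hg2X).eq, mul_inv_cancel_right]
        _ = r * η⁻¹ := by rw [hη', hr]; group
    have hr3 : x * η⁻¹ * x⁻¹ = η⁻¹ := by rw [← conj_inv, hxη]
    have := conj_pow_two_step hr1 hr2 hr3 (h.comm _ hrX _ (inv_mem hηX)) q
    obtain ⟨c, hc⟩ := dvd_choose_two h.hq h.q_ne_two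
    rw [h.exp r hrX, hc, pow_mul, h.exp _ (inv_mem hηX), one_pow, mul_one, mul_one] at this
    exact commute_of_conj_eq this
  -- the inverted part
  set x' := x ^ q with hx'
  have hx'K : x' ∈ coreK a := pow_mem hxK q
  have hx'i : b * x' * b⁻¹ = x'⁻¹ := inverted_pow hxi q
  have hfixz : Commute (x' ^ q) z := by
    obtain ⟨p, hp, ζ, hζ, hζi, hw⟩ := h.decomp (h.kX hx'K hzX)
    have hu' : x'⁻¹ * z * x' = ζ * p⁻¹ := by
      have e1 : b * (x' * z * x'⁻¹) * b⁻¹ = x'⁻¹ * z⁻¹ * x' := by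
        calc b * (x' * z * x'⁻¹) * b⁻¹ = (b * x' * b⁻¹) * (b * z * b⁻¹) * (b * x' * b⁻¹)⁻¹ := by
              group
          _ = x'⁻¹ * z⁻¹ * x' := by rw [hx'i, hzi, inv_inv]
      have e2 : b * (x' * z * x'⁻¹) * b⁻¹ = p * ζ⁻¹ := by
        calc b * (x' * z * x'⁻¹) * b⁻¹ = (b * p * b⁻¹) * (b * ζ * b⁻¹) := by rw [hw]; group
        _ = p * ζ⁻¹ := by rw [h.fixed_of_memD (mem_inf.mp hp).2, hζi]
      have := congrArg (·⁻¹) (e1.symm.trans e2)
      simpa [mul_assoc] using this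
    set u := x'⁻¹ * z * x' with hu
    have hp2 : Commute (x' * x') (p * p) :=
      ((hfix p hp).mul_right (hfix p hp)).mul_left ((hfix p hp).mul_right (hfix p hp))
    have hshift : x' * x' * u * (x' * x')⁻¹ = u * (p * p) := by
      calc x' * x' * u * (x' * x')⁻¹ = x' * z * x'⁻¹ := by rw [hu]; group
        _ = p * ζ := hw
        _ = ζ * p⁻¹ * (p * p) := by
            rw [(h.comm _ (mem_inf.mp hp).1 _ hζ).eq]; group
        _ = u * (p * p) := by rw [hu']
    have := conj_pow_shift hshift (conj_eq_of_commute hp2) q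
    rw [h.exp _ (mul_mem (mem_inf.mp hp).1 (mem_inf.mp hp).1), mul_one] at this
    have hcu : Commute ((x' * x') ^ q) u := commute_of_conj_eq this
    have hcz : Commute ((x' * x') ^ q) z := by
      have hcx : Commute ((x' * x') ^ q) x' :=
        ((Commute.refl x').mul_left (Commute.refl x')).pow_left q
      have : z = x' * u * x'⁻¹ := by rw [hu]; group
      rw [this]
      exact (hcx.mul_right hcu).mul_right hcx.inv_right
    refine commute_of_sq (h.odd_of_memK (pow_mem hx'K q)) ?_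
    rwa [(Commute.refl x').mul_pow] at hcz
  rw [mem_centralizer_iff]
  intro ξ hξ
  obtain ⟨p, hp, ζ, hζ, hζi, rfl⟩ := h.decomp hξ
  obtain ⟨i, rfl⟩ := mem_zpowers_iff.mp (hz ζ hζ hζi)
  have hxx : x ^ q ^ 2 = x' ^ q := by rw [hx', ← pow_mul, pow_two]
  rw [hxx]
  exact (((hfix p hp).pow_left q).mul_right (hfixz.zpow_right i)).eq.symm

end AlphaData

end Cfsg.Agent.GW66
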