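import Cfsg.Agent.GW66.Basic
import Cfsg.Agent.OddLocal44.Transitivity
import Cfsg.Agent.OddLocal43.RankTwoSolvable
import Cfsg.Agent.BGUniq.PGroupFacts
import Cfsg.Agent.BGUniq.PLocalBasic
import Cfsg.Agent.Lib.Coprime.Generation
import Cfsg.Agent.PF14.Compose
import Cfsg.Prelude.Def_EvenType

/-!
# Steps 5 and 6 of the base case: centralisers inside the uniqueness subgroup

`LocalData` packages what steps 3 and 4 give about `X`: the elementary subgroups of the component
`Comp`, the normalisers of the `p`-subgroups containing one of them, and the cores of the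
centralisers of their elements.
-/

set_option autoImplicit false

namespace Cfsg.Agent.GW66.BaseLocal

open Subgroup
open scoped commutatorElement

universe u

section Rank

variable {H : Type*} [Group H] [Finite H] {p : ℕ} [hpf : Fact p.Prime]

/-- If `O_p` is self-centralising of rank at most two, the group is linear of degree two modulo a
`p`-subgroup. -/
theorem exists_rep_kernel_le (hp2 : p ≠ 2)
    (hC : centralizer (Cfsg.pCore p H : Set H) ≤ Cfsg.pCore p H)
    (hr : Cfsg.PRankLE p 2 ↥(Cfsg.pCore p H)) :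
    ∃ f : H →* GL (Fin 2) (ZMod p), f.ker ≤ Cfsg.pCore p H := by
  obtain ⟨ψ, hψ⟩ := OddLocal43.exists_rank_two_rep hp2 Thompson.isPGroup_pCore hr
  have hN : ∀ h : H, h ∈ normalizer (Cfsg.pCore p H : Set H) := fun h => by
    haveI : (Cfsg.pCore p H).Normal := Thompson.instPCoreNormal
    rw [normalizer_eq_top]
    exact mem_top h
  let f : H →* GL (Fin 2) (ZMod p) := ψ.comp (MonoidHom.id H |>.codRestrict _ hN)
  refine ⟨f, Thompson.le_pCore f.normal_ker ?_⟩
  refine OddLocal43.isPGroup_of_coprime_eq_one fun b hb hcop => ?_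
  have hbc : b ∈ centralizer (Cfsg.pCore p H : Set H) := hψ ⟨b, hN b⟩ hb hcop
  obtain ⟨k, hk⟩ := Thompson.isPGroup_pCore (p := p) (G := H) ⟨b, hC hbc⟩
  rw [← orderOf_eq_one_iff]
  exact Nat.eq_one_of_dvd_coprimes (hcop.pow_right k) dvd_rfl
    (orderOf_dvd_of_pow_eq_one (congrArg Subtype.val hk))

/-- A `p`-subgroup of `GL(2, p)` has order at most `p`. -/
theorem card_le_prime_of_GL_two (hp2 : p ≠ 2) (W : Subgroup (GL (Fin 2) (ZMod p)))
    (hW : IsPGroup p W) : Nat.card W ≤ p := by
  obtain ⟨n, hn⟩ := IsPGroup.iff_card.mp hW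
  rw [hn]
  by_contra hlt
  push Not at hlt
  have h1 : 2 ≤ n := by
    by_contra h
    push Not at h
    have := Nat.pow_le_pow_right hpf.out.pos (show n ≤ 1 by omega)
    rw [pow_one] at this
    omega
  have h := (pow_dvd_pow p h1).trans (hn ▸ card_subgroup_dvd_card W)
  rw [Matrix.card_GL_field (𝔽 := ZMod p) (n := 2), Fin.prod_univ_two, ZMod.card] at h
  simp only [Fin.val_zero, pow_zero, Fin.val_one, pow_one] at h
  have h2 : p ^ 2 - p = p * (p - 1) := by rw [pow_two, Nat.mul_sub, mul_one]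
  rw [h2, pow_two, mul_left_comm] at h
  have h3 : p ∣ (p * p - 1) * (p - 1) := Nat.dvd_of_mul_dvd_mul_left hpf.out.pos h
  have hp := hpf.out.two_le
  have hsmall : ¬ p ∣ p - 1 := fun hd => absurd (Nat.le_of_dvd (by omega) hd) (by omega)
  rcases hpf.out.dvd_mul.mp h3 with h4 | h4
  · have h5 : p ∣ p * p := dvd_mul_right p p
    have h6 := Nat.dvd_sub h5 h4
    have hpp : 1 ≤ p * p := Nat.one_le_iff_ne_zero.mpr (by positivity)
    rw [Nat.sub_sub_self hpp] at h6
    exact absurd (Nat.le_of_dvd one_pos h6) (by omega)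
  · exact hsmall h4

/-- With an elementary subgroup of order `p⁴`, a self-centralising `O_p` has rank at least three. -/
theorem not_pRankLE_pCore (hp2 : p ≠ 2)
    (hC : centralizer (Cfsg.pCore p H : Set H) ≤ Cfsg.pCore p H) {E : Subgroup H}
    (hE : Cfsg.IsElementaryAbelian p E) (hE4 : p ^ 4 ≤ Nat.card E) :
    ¬ Cfsg.PRankLE p 2 ↥(Cfsg.pCore p H) := by
  intro hr
  obtain ⟨f, hf⟩ := exists_rep_kernel_le hp2 hC hr
  have himg : Nat.card (E.map f) ≤ p :=
    card_le_prime_of_GL_two hp2 _ ((BGUniq.isPGroup_of_elementary hE).map f)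
  have hker : Nat.card ↥(f.ker ⊓ E) ≤ p ^ 2 := by
    have hE' : Cfsg.IsElementaryAbelian p (f.ker ⊓ E) :=
      ⟨⟨⟨fun x y => Subtype.ext
        (congrArg (Subtype.val : ↥E → H) (hE.1.is_comm.comm (⟨x, x.2.2⟩ : E) ⟨y, y.2.2⟩))⟩⟩,
        fun x hx => hE.2 x hx.2⟩
    by_contra hlt
    push Not at hlt
    obtain ⟨n, hn⟩ := IsPGroup.iff_card.mp (BGUniq.isPGroup_of_elementary hE')
    refine BGUniq.not_pRankLE_of_elementary (inf_le_left.trans hf) hE' ?_ hr
    rw [hn] at hlt ⊢
    exact Nat.pow_le_pow_right hpf.out.pos ((Nat.pow_lt_pow_iff_right hpf.out.one_lt).mp hlt)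
  have hcard : Nat.card E = Nat.card ↥(f.ker ⊓ E) * Nat.card (E.map f) := by
    have hres := (f.domRestrict E).ker.card_mul_index
    rw [index_ker, MonoidHom.domRestrict_range] at hres
    rw [← hres, MonoidHom.ker_domRestrict]
    congr 1
    rw [← inf_subgroupOf_right f.ker E, Nat.card_congr (subgroupOfEquivOfLe inf_le_right).toEquiv]
  have h1 : Nat.card E ≤ p ^ 2 * p := hcard ▸ Nat.mul_le_mul hker himg
  rw [← pow_succ] at h1
  exact absurd ((Nat.pow_le_pow_iff_right hpf.out.one_lt).mp (hE4.trans h1)) (by omega)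

/-- In a group of odd order a self-centralising `O_p` of rank at most two contains all
`p`-subgroups. -/
theorem le_pCore_of_rank_two (hp2 : p ≠ 2) (hodd : Odd (Nat.card H))
    (hC : centralizer (Cfsg.pCore p H : Set H) ≤ Cfsg.pCore p H)
    (hr : Cfsg.PRankLE p 2 ↥(Cfsg.pCore p H)) (S : Sylow p H) :
    (S : Subgroup H) ≤ Cfsg.pCore p H := by
  obtain ⟨f, hf⟩ := exists_rep_kernel_le hp2 hC hr
  haveI hsolv : Group.IsSolvable H := PF14.feitThompson H hodd
  haveI : Group.IsSolvable f.range := solvable_of_surjective f.rangeRestrict_surjective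
  have hoddB : Odd (Nat.card f.range) := hodd.of_dvd_nat (card_range_dvd f)
  have hP := OddLocal43.isPGroup_commutator_of_GL_two hp2 hoddB f.range.subtype
    f.range.subtype_injective
  -- the derived subgroup is a `p`-group
  have hcomm : IsPGroup p (commutator H) := by
    refine OddLocal43.isPGroup_of_coprime_eq_one fun b hb hcop => ?_
    have h1 : f.rangeRestrict b ∈ commutator f.range := by
      have h := mem_map_of_mem f.rangeRestrict hb
      rw [commutator_def, map_commutator] at h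
      exact commutator_mono le_top le_top h
    obtain ⟨k, hk⟩ := hP ⟨_, h1⟩
    have h2 : b ^ p ^ k ∈ f.ker := congrArg Subtype.val (congrArg Subtype.val hk) |> fun e => by
      simpa [MonoidHom.mem_ker] using e
    obtain ⟨j, hj⟩ := Thompson.isPGroup_pCore (p := p) (G := H) ⟨_, hf h2⟩
    have hj' : b ^ p ^ (k + j) = 1 := by
      rw [pow_add, pow_mul]; exact congrArg Subtype.val hj
    rw [← orderOf_eq_one_iff]
    exact Nat.eq_one_of_dvd_coprimes (hcop.pow_right (k + j)) dvd_rfl
      (orderOf_dvd_of_pow_eq_one hj')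
  have hle : commutator H ≤ (S : Subgroup H) :=
    (Thompson.le_pCore inferInstance hcomm).trans (Thompson.pCore_le_sylow S)
  have hSn : (S : Subgroup H).Normal := ⟨fun n hn g => by
    have hg : ⁅g, n⁆ ∈ (S : Subgroup H) :=
      hle (commutator_def H ▸ commutator_mem_commutator (mem_top g) (mem_top n))
    have h := mul_mem hg hn
    rwa [commutatorElement_def, inv_mul_cancel_right] at h⟩
  exact Thompson.le_pCore hSn S.isPGroup'

/-- The rank does not go down along the quotient by `O_{p'}`. -/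
theorem prankLE_pCore_quotient {R : Subgroup H} (hR : IsPGroup p R)
    (hmap : R.map (QuotientGroup.mk' (Cfsg.pPrimeCore p H)) =
      Cfsg.pCore p (H ⧸ Cfsg.pPrimeCore p H))
    (hr : Cfsg.PRankLE p 2 ↥R) :
    Cfsg.PRankLE p 2 ↥(Cfsg.pCore p (H ⧸ Cfsg.pPrimeCore p H)) := by
  set π := QuotientGroup.mk' (Cfsg.pPrimeCore p H) with hπ
  have hinj : Function.Injective (π.domRestrict R) := by
    rw [← MonoidHom.ker_eq_bot_iff, MonoidHom.ker_domRestrict, QuotientGroup.ker_mk',
      subgroupOf_eq_bot, disjoint_iff, inf_comm]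
    exact Thompson.inf_eq_bot_of_isPGroup_of_coprime hR Thompson.card_pPrimeCore_coprime
  rw [← hmap, ← MonoidHom.domRestrict_range (K := R) π]
  exact OddLocal43.prankLE_of_injective (MonoidHom.ofInjective hinj).symm.toMonoidHom
    (MonoidHom.ofInjective hinj).symm.injective hr

end Rank

section Frattini

variable {H : Type*} [Group H] [Finite H] {p : ℕ} [hpf : Fact p.Prime]

theorem map_sylow_inf (S : Sylow p H) :
    ((S : Subgroup H) ⊓ Cfsg.pPrimePCore p H).map (QuotientGroup.mk' (Cfsg.pPrimeCore p H)) =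
      Cfsg.pCore p (H ⧸ Cfsg.pPrimeCore p H) := by
  refine le_antisymm ((map_mono inf_le_right).trans Thompson.map_mk'_pPrimePCore.le) fun y hy => ?_
  have h := Thompson.pCore_le_sylow (p := p)
    (S.mapSurjective (QuotientGroup.mk'_surjective (Cfsg.pPrimeCore p H))) hy
  rw [Sylow.coe_mapSurjective] at h
  obtain ⟨s, hs, rfl⟩ := h
  exact ⟨s, ⟨hs, hy⟩, rfl⟩

/-- Frattini argument for `S ∩ O_{p',p}`. -/
theorem normalizer_sup_core (S : Sylow p H) :
    Cfsg.pPrimeCore p H ⊔
      normalizer (((S : Subgroup H) ⊓ Cfsg.pPrimePCore p H : Subgroup H) : Set H) = ⊤ := by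
  set U := Cfsg.pPrimePCore p H with hU
  set R := (S : Subgroup H) ⊓ U with hRdef
  haveI hUn : U.Normal := Thompson.instPPrimePCoreNormal
  have hR : IsPGroup p R := S.isPGroup'.to_le inf_le_left
  have hUsup : Cfsg.pPrimeCore p H ⊔ R = U := by
    refine le_antisymm (sup_le Thompson.pPrimeCore_le_pPrimePCore inf_le_right) fun x hx => ?_
    have hx' : QuotientGroup.mk' (Cfsg.pPrimeCore p H) x ∈
        R.map (QuotientGroup.mk' (Cfsg.pPrimeCore p H)) := map_sylow_inf S ▸ hx
    have hx'' : x ∈ R ⊔ Cfsg.pPrimeCore p H := by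
      rw [← QuotientGroup.ker_mk' (Cfsg.pPrimeCore p H), ← comap_map_eq]
      exact hx'
    rwa [sup_comm] at hx''
  have hcard : Nat.card U = Nat.card R * Nat.card (Cfsg.pPrimeCore p H) := by
    rw [hU, Cfsg.pPrimePCore, Thompson.card_comap_quotient, ← map_sylow_inf S]
    congr 1
    have hinj : Function.Injective ((QuotientGroup.mk' (Cfsg.pPrimeCore p H)).domRestrict R) := by
      rw [← MonoidHom.ker_eq_bot_iff, MonoidHom.ker_domRestrict, QuotientGroup.ker_mk',
        subgroupOf_eq_bot, disjoint_iff, inf_comm]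
      exact Thompson.inf_eq_bot_of_isPGroup_of_coprime hR Thompson.card_pPrimeCore_coprime
    rw [← MonoidHom.domRestrict_range]
    exact (Nat.card_congr (MonoidHom.ofInjective hinj).toEquiv).symm
  have hidx : ¬ p ∣ (R.subgroupOf U).index := by
    have h := (R.subgroupOf U).card_mul_index
    rw [Nat.card_congr (subgroupOfEquivOfLe (inf_le_right : R ≤ U)).toEquiv, hcard] at h
    rw [Nat.eq_of_mul_eq_mul_left Nat.card_pos h]
    exact Thompson.not_dvd_card_pPrimeCore
  let P : Sylow p U := (hR.comap_subtype (K := U)).toSylow hidx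
  have hP : (P : Subgroup U).map U.subtype = R := map_subgroupOf_eq_of_le inf_le_right
  have h := Sylow.normalizer_sup_eq_top P
  rw [hP] at h
  rw [← top_le_iff, ← h]
  refine sup_le le_sup_right ?_
  conv_lhs => rw [← hUsup]
  exact sup_le_sup_left le_normalizer _

end Frattini

section Ambient

variable {G : Type u} [Group G] [Finite G] {p : ℕ}

/-- What steps 3 and 4 give about the subgroup `X`. -/
structure LocalData (p : ℕ) (X E : Subgroup G) (Comp : Subgroup G → Prop) : Prop where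
  compE : Comp E
  closed : ∀ A B P : Subgroup G, Comp A → IsPGroup p P → A ≤ P → B ≤ P →
    Cfsg.IsElementaryAbelian p B → p ^ 3 ≤ Nat.card B → Comp B
  normalizer_le : ∀ A T : Subgroup G, Comp A → IsPGroup p T → A ≤ T →
    normalizer (T : Set G) ≤ X
  core_le : ∀ (A : Subgroup G) (s : G), Comp A → s ∈ A → s ≠ 1 →
    Cfsg.centralizerPPrimeCore p s ≤ X

omit [Finite G] in
theorem normalizer_map_subtype_le {H : Subgroup G} (R : Subgroup ↥H) :
    (normalizer (R : Set ↥H)).map H.subtype ≤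
      normalizer ((R.map H.subtype : Subgroup G) : Set G) :=
  le_normalizer_map _

omit [Finite G] in
/-- The normaliser of a conjugate. -/
theorem conj_mem_normalizer {T : Subgroup G} {g h : G} (hh : h ∈ normalizer (T : Set G)) :
    g * h * g⁻¹ ∈ normalizer ((T.map (MulAut.conj g).toMonoidHom : Subgroup G) : Set G) :=
  le_normalizer_map (MulAut.conj g).toMonoidHom ⟨h, hh, rfl⟩

/-- Two `p`-subgroups of `H` lie, after conjugating one of them, in one `p`-subgroup. -/
theorem exists_common [hpf : Fact p.Prime] {H P Q : Subgroup G} (hP : IsPGroup p P)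
    (hQ : IsPGroup p Q) (hPH : P ≤ H) (hQH : Q ≤ H) :
    ∃ g ∈ H, ∃ S : Subgroup G, IsPGroup p S ∧ S ≤ H ∧ Q ≤ S ∧
      P.map (MulAut.conj g).toMonoidHom ≤ S := by
  obtain ⟨S1, h1⟩ := (hP.comap_subtype (K := H)).exists_le_sylow
  obtain ⟨S2, h2⟩ := (hQ.comap_subtype (K := H)).exists_le_sylow
  obtain ⟨g, hg⟩ := MulAction.exists_smul_eq ↥H S1 S2
  refine ⟨g, g.2, (S2 : Subgroup ↥H).map H.subtype, S2.isPGroup'.map _, map_subtype_le _,
    fun x hx => ⟨⟨x, hQH hx⟩, h2 hx, rfl⟩, ?_⟩
  rintro _ ⟨x, hx, rfl⟩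
  refine ⟨g * ⟨x, hPH hx⟩ * g⁻¹, ?_, rfl⟩
  rw [← hg, Sylow.coe_subgroup_smul]
  exact smul_mem_pointwise_smul _ (MulAut.conj g) _ (h1 hx)

namespace LocalData

variable {X E : Subgroup G} {Comp : Subgroup G → Prop} (d : LocalData p X E Comp)
include d

/-- The normaliser of a rank three subgroup of a `p`-group through a member lies in `X`. -/
theorem normalizer_le_of_rank [hpf : Fact p.Prime] {A P T : Subgroup G} (hA : Comp A)
    (hP : IsPGroup p P) (hAP : A ≤ P) (hTP : T ≤ P) (hT : ¬ Cfsg.PRankLE p 2 ↥T) :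
    normalizer (T : Set G) ≤ X := by
  obtain ⟨B, hBT, hB, hB3⟩ := BGUniq.exists_elementary_of_not_pRankLE hT
  exact d.normalizer_le B T (d.closed A B P hA hP hAP (hBT.trans hTP) hB hB3)
    (hP.to_le hTP) hBT

/-- Step 5: centralisers of elements of `E` lie in `X`. -/
theorem centralizer_le [hpf : Fact p.Prime] (hp2 : p ≠ 2) (hE : Cfsg.IsElementaryAbelian p E)
    (hE4 : p ^ 4 ≤ Nat.card E) {s : G} (hs : s ∈ E) (hs1 : s ≠ 1)
    (hcon : Cfsg.IsPConstrained p ↥(centralizer ({s} : Set G))) :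
    centralizer ({s} : Set G) ≤ X := by
  set H := centralizer ({s} : Set G) with hH
  have hEH : E ≤ H := fun e he => mem_centralizer_singleton_iff.mpr
    (congrArg (Subtype.val : ↥E → G) (hE.1.is_comm.comm (⟨e, he⟩ : E) ⟨s, hs⟩))
  obtain ⟨S, hS⟩ := ((BGUniq.isPGroup_of_elementary hE).comap_subtype (K := H)).exists_le_sylow
  set π := QuotientGroup.mk' (Cfsg.pPrimeCore p ↥H) with hπ
  set R := (S : Subgroup ↥H) ⊓ Cfsg.pPrimePCore p ↥H with hRdef
  have hE' : Cfsg.IsElementaryAbelian p (E.subgroupOf H) :=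
    ⟨⟨⟨fun x y => Subtype.ext (Subtype.ext (congrArg (Subtype.val : ↥E → G)
      (hE.1.is_comm.comm (⟨((x : ↥H) : G), x.2⟩ : E) ⟨((y : ↥H) : G), y.2⟩)))⟩⟩,
      fun x hx => Subtype.ext (hE.2 x hx)⟩
  have hinj : Function.Injective (π.domRestrict (E.subgroupOf H)) := by
    rw [← MonoidHom.ker_eq_bot_iff, MonoidHom.ker_domRestrict, QuotientGroup.ker_mk',
      subgroupOf_eq_bot, disjoint_iff, inf_comm]
    exact Thompson.inf_eq_bot_of_isPGroup_of_coprime (BGUniq.isPGroup_of_elementary hE')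
      Thompson.card_pPrimeCore_coprime
  have hEbar : Cfsg.IsElementaryAbelian p ((E.subgroupOf H).map π) := by
    haveI := hE'.1
    refine ⟨Subgroup.map_isMulCommutative _ _, ?_⟩
    rintro _ ⟨x, hx, rfl⟩
    rw [← map_pow, hE'.2 x hx, map_one]
  have hEbarc : p ^ 4 ≤ Nat.card ((E.subgroupOf H).map π) := by
    rw [← MonoidHom.domRestrict_range, ← Nat.card_congr (MonoidHom.ofInjective hinj).toEquiv,
      Nat.card_congr (subgroupOfEquivOfLe hEH).toEquiv]
    exact hE4
  have hR3 : ¬ Cfsg.PRankLE p 2 ↥R := fun hr =>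
    not_pRankLE_pCore hp2 (OddLocal44.centralizer_pCore_quotient_le hcon) hEbar hEbarc
      (prankLE_pCore_quotient (S.isPGroup'.to_le inf_le_left) (map_sylow_inf S) hr)
  have hR3' : ¬ Cfsg.PRankLE p 2 ↥(R.map H.subtype) := fun hr =>
    hR3 (OddLocal43.prankLE_of_injective (R.equivMapOfInjective _ H.subtype_injective).toMonoidHom
      (R.equivMapOfInjective _ H.subtype_injective).injective hr)
  have hN := d.normalizer_le_of_rank d.compE (S.isPGroup'.map H.subtype)
    (fun e he => ⟨⟨e, hEH he⟩, hS he, rfl⟩) (map_mono inf_le_left) hR3'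
  intro x hx
  have hmem : (⟨x, hx⟩ : ↥H) ∈ Cfsg.pPrimeCore p ↥H ⊔ normalizer (R : Set ↥H) := by
    rw [normalizer_sup_core]; exact mem_top _
  obtain ⟨o, ho, n, hn, hon⟩ := mem_sup_of_normal_left.mp hmem
  have hx' : x = (o : G) * n := (congrArg Subtype.val hon).symm
  rw [hx']
  exact mul_mem (d.core_le E s d.compE hs hs1 ⟨o, ho, rfl⟩)
    (hN (normalizer_map_subtype_le R ⟨n, hn, rfl⟩))

/-- Fusion of elements of `E` is realised inside `X`. -/
theorem mem_of_fusion [hpf : Fact p.Prime] (hE : Cfsg.IsElementaryAbelian p E)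
    (hCX : ∀ s ∈ E, s ≠ 1 → centralizer ({s} : Set G) ≤ X) {z k : G} (hz : z ∈ E) (hz1 : z ≠ 1)
    (hk : k * z * k⁻¹ ∈ E) : k ∈ X := by
  have hEp := BGUniq.isPGroup_of_elementary hE
  have hk1 : k * z * k⁻¹ ≠ 1 := fun h => hz1 (conj_eq_one_iff.mp h)
  have hcomm : ∀ {x y : G}, x ∈ E → y ∈ E → x * y = y * x := fun hx hy =>
    congrArg (Subtype.val : ↥E → G) (hE.1.is_comm.comm (⟨_, hx⟩ : E) ⟨_, hy⟩)
  obtain ⟨h, hh, P2, hP2, -, hEP2, hkP2⟩ := exists_common (H := centralizer ({k * z * k⁻¹} : Set G))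
    (hEp.map (MulAut.conj k).toMonoidHom) hEp (by
      rintro _ ⟨e, he, rfl⟩
      refine mem_centralizer_singleton_iff.mpr ?_
      show k * e * k⁻¹ * (k * z * k⁻¹) = k * z * k⁻¹ * (k * e * k⁻¹)
      rw [show k * e * k⁻¹ * (k * z * k⁻¹) = k * (e * z) * k⁻¹ by group, hcomm he hz]
      group)
    (fun e he => mem_centralizer_singleton_iff.mpr (hcomm he hk))
  have hhX : h ∈ X := hCX _ hk hk1 hh
  obtain ⟨P, hP⟩ := hP2.exists_le_sylow
  -- `P` and its conjugate by `(h k)⁻¹` both contain `E`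
  set g := h * k with hg
  have hgP : ∀ e ∈ E, g * e * g⁻¹ ∈ (P : Subgroup G) := fun e he => by
    refine hP (hkP2 ⟨_, mem_map_of_mem _ he, ?_⟩)
    show h * (k * e * k⁻¹) * h⁻¹ = g * e * g⁻¹
    rw [hg]; group
  have hEP : E ≤ (P : Subgroup G) := hEP2.trans hP
  let Q : Sylow p G := g⁻¹ • P
  have hEQ : E ≤ (Q : Subgroup G) := fun e he => by
    rw [Sylow.coe_subgroup_smul, mem_pointwise_smul_iff_inv_smul_mem, ← map_inv, inv_inv,
      MulAut.smul_def, MulAut.conj_apply]
    exact hgP e he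
  have hPX : (P : Subgroup G) ≤ X :=
    le_normalizer.trans (d.normalizer_le E P d.compE P.isPGroup' hEP)
  have hQX : (Q : Subgroup G) ≤ X :=
    le_normalizer.trans (d.normalizer_le E Q d.compE Q.isPGroup' hEQ)
  obtain ⟨x, hx⟩ := MulAction.exists_smul_eq ↥X (P.subtype hPX) (Q.subtype hQX)
  have hxP : (x : G) • P = g⁻¹ • P :=
    Sylow.subtype_injective ((Sylow.smul_subtype hPX x).symm.trans hx)
  have hfix : (g * (x : G)) • P = P := by rw [mul_smul, hxP, smul_inv_smul]
  have hgx : g * (x : G) ∈ X :=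
    d.normalizer_le E P d.compE P.isPGroup' hEP (Sylow.smul_eq_iff_mem_normalizer.mp hfix)
  have hgX : g ∈ X := (mul_mem_cancel_right x.2).mp hgx
  exact (mul_mem_cancel_left hhX).mp hgX

/-- Rank three subgroups of `p`-groups meeting `E` in a noncyclic subgroup. -/
theorem normalizer_le_of_meet [hpf : Fact p.Prime] (hE : Cfsg.IsElementaryAbelian p E)
    (hCX : ∀ s ∈ E, s ≠ 1 → centralizer ({s} : Set G) ≤ X) {A P T : Subgroup G} (hAE : A ≤ E)
    (hA2 : p ^ 2 ≤ Nat.card A) (hP : IsPGroup p P) (hAP : A ≤ P) (hTP : T ≤ P)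
    (hT : ¬ Cfsg.PRankLE p 2 ↥T) : normalizer (T : Set G) ≤ X := by
  have hAe : Cfsg.IsElementaryAbelian p A :=
    ⟨⟨⟨fun x y => Subtype.ext
      (congrArg (Subtype.val : ↥E → G) (hE.1.is_comm.comm (⟨x, hAE x.2⟩ : E) ⟨y, hAE y.2⟩))⟩⟩,
      fun x hx => hE.2 x (hAE hx)⟩
  have hA1 : A ≠ ⊥ := fun h => by
    rw [h, card_bot] at hA2
    nlinarith [hpf.out.two_le]
  obtain ⟨y, hy, hy1⟩ := A.bot_or_exists_ne_one.resolve_left hA1
  have hP1 : P ≠ ⊥ := fun h => hA1 (le_bot_iff.mp (h ▸ hAP))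
  obtain ⟨z, hzP, hzp, hz1, hzc⟩ : ∃ z ∈ P, z ^ p = 1 ∧ z ≠ 1 ∧ ∀ x ∈ P, x * z = z * x := by
    haveI := (nontrivial_iff_ne_bot P).mpr hP1
    haveI := hP.center_nontrivial
    obtain ⟨n, hn0, hn⟩ := (hP.to_subgroup (center ↥P)).nontrivial_iff_card.mp inferInstance
    obtain ⟨c, hc⟩ := exists_prime_orderOf_dvd_card' p (G := ↥(center ↥P))
      (hn ▸ dvd_pow_self p hn0.ne')
    refine ⟨(c.1 : G), c.1.2, ?_, fun h => ?_, fun x hx => ?_⟩
    · have := pow_orderOf_eq_one c
      rw [hc] at this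
      exact congrArg (fun w : ↥(center ↥P) => ((w.1 : ↥P) : G)) this
    · have : c = 1 := Subtype.ext (Subtype.ext h)
      rw [this, orderOf_one] at hc
      exact hpf.out.one_lt.ne hc
    · exact congrArg Subtype.val (mem_center_iff.mp c.2 ⟨x, hx⟩)
  -- some conjugate of `P` under `X` shares a `p`-group with a member
  obtain ⟨g, hgX, P2, M, hP2, hM, hMP2, hgP2⟩ : ∃ g ∈ X, ∃ P2 M : Subgroup G, IsPGroup p P2 ∧
      Comp M ∧ M ≤ P2 ∧ P.map (MulAut.conj g).toMonoidHom ≤ P2 := by
    have hEp := BGUniq.isPGroup_of_elementary hE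
    have hEc : ∀ {s : G}, s ∈ E → E ≤ centralizer ({s} : Set G) := fun hs e he =>
      mem_centralizer_singleton_iff.mpr
        (congrArg (Subtype.val : ↥E → G) (hE.1.is_comm.comm (⟨e, he⟩ : E) ⟨_, hs⟩))
    by_cases hzA : z ∈ A
    · obtain ⟨g, hg, P2, hP2, -, hEP2, hPg⟩ := exists_common hP hEp
        (fun x hx => mem_centralizer_singleton_iff.mpr (hzc x hx)) (hEc (hAE hzA))
      exact ⟨g, hCX z (hAE hzA) hz1 hg, P2, E, hP2, d.compE, hEP2, hPg⟩
    · have hzA' : ∀ a ∈ A, a * z = z * a := fun a ha => hzc a (hAP ha)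
      set B := closure ((A : Set G) ∪ {z}) with hB
      have hBc : IsMulCommutative B := OddLocal43.isMulCommutative_closure_of_comm (by
        rintro a (ha | ha) b (hb | hb)
        · exact congrArg Subtype.val (hAe.1.is_comm.comm (⟨a, ha⟩ : A) ⟨b, hb⟩)
        · rw [Set.mem_singleton_iff.mp hb]; exact hzA' a ha
        · rw [Set.mem_singleton_iff.mp ha]; exact (hzA' b hb).symm
        · rw [Set.mem_singleton_iff.mp ha, Set.mem_singleton_iff.mp hb])
      have hBe : Cfsg.IsElementaryAbelian p B := ⟨hBc, fun b hb => by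
        induction hb using closure_induction with
        | mem x hx =>
          rcases hx with hx | hx
          · exact hAe.2 x hx
          · rw [Set.mem_singleton_iff.mp hx]; exact hzp
        | one => exact one_pow p
        | mul x y hx hy ihx ihy =>
          have hc : Commute x y := congrArg Subtype.val (hBc.is_comm.comm (⟨x, hx⟩ : B) ⟨y, hy⟩)
          rw [hc.mul_pow, ihx, ihy, one_mul]
        | inv x _ ihx => rw [inv_pow, ihx, inv_one]⟩
      have hBP : B ≤ P := (closure_le _).mpr (by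
        rintro x (hx | hx)
        · exact hAP hx
        · rw [Set.mem_singleton_iff.mp hx]; exact hzP)
      have hlt : A < B := lt_of_le_of_ne (fun a ha => subset_closure (Or.inl ha))
        fun h => hzA (h ▸ subset_closure (Or.inr rfl))
      have hB3 : p ^ 3 ≤ Nat.card B := by
        have := OddLocal43.mul_le_card_of_lt hpf.out (BGUniq.isPGroup_of_elementary hBe) hlt
        rw [pow_succ']
        exact (Nat.mul_le_mul_left p hA2).trans this
      have hBy : B ≤ centralizer ({y} : Set G) := fun b hb => mem_centralizer_singleton_iff.mpr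
        (congrArg Subtype.val (hBc.is_comm.comm (⟨b, hb⟩ : B) ⟨y, subset_closure (Or.inl hy)⟩))
      obtain ⟨g, hg, P2, hP2, -, hEP2, hBg⟩ := exists_common
        (BGUniq.isPGroup_of_elementary hBe) hEp hBy (hEc (hAE hy))
      refine ⟨g, hCX y (hAE hy) hy1 hg, P.map (MulAut.conj g).toMonoidHom,
        B.map (MulAut.conj g).toMonoidHom, hP.map _, ?_, map_mono hBP, le_rfl⟩
      refine d.closed E _ P2 d.compE hP2 hEP2 hBg ?_ ?_
      · haveI := hBe.1
        refine ⟨Subgroup.map_isMulCommutative _ _, ?_⟩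
        rintro _ ⟨b, hb, rfl⟩
        rw [← map_pow, hBe.2 b hb, map_one]
      · rwa [card_map_of_injective (MulAut.conj g).injective]
  have hT' : ¬ Cfsg.PRankLE p 2 ↥(T.map (MulAut.conj g).toMonoidHom) := fun hr =>
    hT (OddLocal43.prankLE_of_injective
      (T.equivMapOfInjective _ (MulAut.conj g).injective).toMonoidHom
      (T.equivMapOfInjective _ (MulAut.conj g).injective).injective hr)
  have hN := d.normalizer_le_of_rank hM hP2 hMP2 ((map_mono hTP).trans hgP2) hT'
  intro x hx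
  have h := mul_mem (mul_mem (inv_mem hgX) (hN (conj_mem_normalizer (g := g) hx))) hgX
  rwa [show g⁻¹ * (g * x * g⁻¹) * g = x by group] at h

/-- Step 6: a subgroup of odd order meeting `E` in a noncyclic subgroup lies in `X`. -/
theorem odd_le [hpf : Fact p.Prime] (hp2 : p ≠ 2) (hE : Cfsg.IsElementaryAbelian p E)
    (hCX : ∀ s ∈ E, s ≠ 1 → centralizer ({s} : Set G) ≤ X) {A K : Subgroup G}
    (hK : Odd (Nat.card K)) (hAE : A ≤ E) (hA2 : p ^ 2 ≤ Nat.card A) (hAK : A ≤ K) : K ≤ X := by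
  set O := (Cfsg.pPrimeCore p ↥K).map K.subtype with hO
  have hAe : Cfsg.IsElementaryAbelian p A :=
    ⟨⟨⟨fun x y => Subtype.ext
      (congrArg (Subtype.val : ↥E → G) (hE.1.is_comm.comm (⟨x, hAE x.2⟩ : E) ⟨y, hAE y.2⟩))⟩⟩,
      fun x hx => hE.2 x (hAE hx)⟩
  have hAp := BGUniq.isPGroup_of_elementary hAe
  have hOX : O ≤ X := by
    haveI := hAe.1
    refine Coprime.le_of_centralizer_le A O X (BGUniq.not_isCyclic_of_card_ge hAe hA2)
      (hAK.trans (BGUniq.le_normalizer_opp p K)) ?_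
      fun e he he1 x hx => hCX e (hAE he) he1 hx.2
    obtain ⟨n, hn⟩ := IsPGroup.iff_card.mp hAp
    rw [hn]
    exact (BGUniq.opp_coprime p K).symm.pow_left n
  obtain ⟨S, hS⟩ := (hAp.comap_subtype (K := K)).exists_le_sylow
  set R := (S : Subgroup ↥K) ⊓ Cfsg.pPrimePCore p ↥K with hRdef
  have hASg : A ≤ (S : Subgroup ↥K).map K.subtype := fun a ha => ⟨⟨a, hAK ha⟩, hS ha, rfl⟩
  have hSp : IsPGroup p ↥((S : Subgroup ↥K).map K.subtype) := S.isPGroup'.map _
  have hNR : normalizer ((R.map K.subtype : Subgroup G) : Set G) ⊓ K ≤ X := by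
    by_cases hr : Cfsg.PRankLE p 2 ↥(R.map K.subtype)
    swap
    · exact inf_le_left.trans
        (d.normalizer_le_of_meet hE hCX hAE hA2 hSp hASg (map_mono inf_le_left) hr)
    -- rank at most two: the Sylow subgroup lies in `O_{p',p}`
    have hrR : Cfsg.PRankLE p 2 ↥R := OddLocal43.prankLE_of_injective
      (R.equivMapOfInjective _ K.subtype_injective).toMonoidHom
      (R.equivMapOfInjective _ K.subtype_injective).injective hr
    have hoddQ : Odd (Nat.card (↥K ⧸ Cfsg.pPrimeCore p ↥K)) :=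
      hK.of_dvd_nat (card_quotient_dvd_card _)
    haveI : Group.IsSolvable (↥K ⧸ Cfsg.pPrimeCore p ↥K) := PF14.feitThompson _ hoddQ
    have hSU : (S : Subgroup ↥K) ≤ Cfsg.pPrimePCore p ↥K := by
      have h := le_pCore_of_rank_two hp2 hoddQ
        (Thompson.centralizer_pCore_le (BGUniq.isPSolvable_of_isSolvable' p _)
          Thompson.pPrimeCore_quotient_pPrimeCore)
        (prankLE_pCore_quotient (S.isPGroup'.to_le inf_le_left) (map_sylow_inf S) hrR)
        (S.mapSurjective (QuotientGroup.mk'_surjective _))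
      rw [Sylow.coe_mapSurjective] at h
      exact fun x hx => h (mem_map_of_mem _ hx)
    have hRS : R = (S : Subgroup ↥K) := inf_eq_left.mpr hSU
    rw [hRS] at hr ⊢
    set P := (S : Subgroup ↥K).map K.subtype with hPdef
    -- central elements of order `p` lie in `A`
    have hcen : ∀ z ∈ P, z ^ p = 1 → (∀ x ∈ P, x * z = z * x) → z ∈ A := by
      intro z hz hzp hzc
      by_contra hzA
      set B := closure ((A : Set G) ∪ {z}) with hB
      have hzA' : ∀ a ∈ A, a * z = z * a := fun a ha => hzc a (hASg ha)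
      have hBc : IsMulCommutative B := OddLocal43.isMulCommutative_closure_of_comm (by
        rintro a (ha | ha) b (hb | hb)
        · exact congrArg Subtype.val (hAe.1.is_comm.comm (⟨a, ha⟩ : A) ⟨b, hb⟩)
        · rw [Set.mem_singleton_iff.mp hb]; exact hzA' a ha
        · rw [Set.mem_singleton_iff.mp ha]; exact (hzA' b hb).symm
        · rw [Set.mem_singleton_iff.mp ha, Set.mem_singleton_iff.mp hb])
      have hBe : Cfsg.IsElementaryAbelian p B := ⟨hBc, fun b hb => by
        induction hb using closure_induction with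
        | mem x hx =>
          rcases hx with hx | hx
          · exact hAe.2 x hx
          · rw [Set.mem_singleton_iff.mp hx]; exact hzp
        | one => exact one_pow p
        | mul x y hx hy ihx ihy =>
          have hc : Commute x y := congrArg Subtype.val (hBc.is_comm.comm (⟨x, hx⟩ : B) ⟨y, hy⟩)
          rw [hc.mul_pow, ihx, ihy, one_mul]
        | inv x _ ihx => rw [inv_pow, ihx, inv_one]⟩
      have hBP : B ≤ P := (closure_le _).mpr (by
        rintro x (hx | hx)
        · exact hASg hx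
        · rw [Set.mem_singleton_iff.mp hx]; exact hz)
      have hlt : A < B := lt_of_le_of_ne (fun a ha => subset_closure (Or.inl ha))
        fun h => hzA (h ▸ subset_closure (Or.inr rfl))
      refine BGUniq.not_pRankLE_of_elementary hBP hBe ?_ hr
      have := OddLocal43.mul_le_card_of_lt hpf.out (BGUniq.isPGroup_of_elementary hBe) hlt
      rw [pow_succ']
      exact (Nat.mul_le_mul_left p hA2).trans this
    have hA1 : A ≠ ⊥ := fun h => by
      rw [h, card_bot] at hA2
      nlinarith [hpf.out.two_le]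
    haveI := (nontrivial_iff_ne_bot P).mpr fun h => hA1 (le_bot_iff.mp (h ▸ hASg))
    haveI := hSp.center_nontrivial
    obtain ⟨n, hn0, hn⟩ := (hSp.to_subgroup (center ↥P)).nontrivial_iff_card.mp inferInstance
    obtain ⟨c, hc⟩ := exists_prime_orderOf_dvd_card' p (G := ↥(center ↥P))
      (hn ▸ dvd_pow_self p hn0.ne')
    set z : G := (c.1 : G) with hzdef
    have hzp : z ^ p = 1 := by
      have := pow_orderOf_eq_one c
      rw [hc] at this
      exact congrArg (fun w : ↥(center ↥P) => ((w.1 : ↥P) : G)) this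
    have hz1 : z ≠ 1 := fun h => by
      have : c = 1 := Subtype.ext (Subtype.ext h)
      rw [this, orderOf_one] at hc
      exact hpf.out.one_lt.ne hc
    have hzc : ∀ x ∈ P, x * z = z * x := fun x hx =>
      congrArg Subtype.val (mem_center_iff.mp c.2 ⟨x, hx⟩)
    have hzA := hcen z c.1.2 hzp hzc
    rintro k ⟨hk, -⟩
    refine d.mem_of_fusion hE hCX (hAE hzA) hz1 (hAE (hcen _ ?_ ?_ fun x hx => ?_))
    · exact (mem_normalizer_iff.mp hk z).mp c.1.2
    · rw [conj_pow, hzp, mul_one, mul_inv_cancel]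
    · have hx' : k⁻¹ * x * k ∈ P := by
        have := (mem_normalizer_iff.mp hk (k⁻¹ * x * k)).mpr
        simp only [mul_assoc, mul_inv_cancel_left, mul_inv_cancel, mul_one] at this ⊢
        exact this hx
      calc x * (k * z * k⁻¹) = k * (k⁻¹ * x * k * z) * k⁻¹ := by group
        _ = k * (z * (k⁻¹ * x * k)) * k⁻¹ := by rw [hzc _ hx']
        _ = k * z * k⁻¹ * x := by group
  intro x hx
  have hmem : (⟨x, hx⟩ : ↥K) ∈ Cfsg.pPrimeCore p ↥K ⊔ normalizer (R : Set ↥K) := by
    rw [normalizer_sup_core]; exact mem_top _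
  obtain ⟨o, ho, n, hn, hon⟩ := mem_sup_of_normal_left.mp hmem
  rw [show x = (o : G) * n from (congrArg Subtype.val hon).symm]
  exact mul_mem (hOX ⟨o, ho, rfl⟩) (hNR ⟨normalizer_map_subtype_le R ⟨n, hn, rfl⟩, n.2⟩)

end LocalData

/-- Steps 5 and 6: the data of steps 1–4 contradict the strong embedding lemma. -/
theorem false_of_local (hSE : SEKillStmt.{u}) {V : Subgroup G} (hc : Ctx V) (hp : p.Prime)
    (hdvd : p ∣ Nat.card ↥(coreD V)) {X E : Subgroup G} {Comp : Subgroup G → Prop}
    (d : LocalData p X E Comp) (hX : X ≠ ⊤) (hE : Cfsg.IsElementaryAbelian p E)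
    (hE4 : p ^ 4 ≤ Nat.card E)
    (hcon : ∀ s ∈ E, s ≠ 1 → Cfsg.IsPConstrained p ↥(centralizer ({s} : Set G)))
    {a : G} (ha : a ∈ V) (ha1 : a ≠ 1) {A : Subgroup G} (hAE : A ≤ E)
    (hA2 : p ^ 2 ≤ Nat.card A) (hAa : A ≤ coreK a)
    {T : Subgroup G} (hT : IsPGroup p T) (hET : E ≤ T) (hVT : V ≤ normalizer (T : Set G))
    {r : G} (hr : r ∈ normalizer (V : Set G)) (hrc : r ∉ centralizer (V : Set G))
    (hrT : r ∈ normalizer (T : Set G)) : False := by
  haveI : Fact p.Prime := ⟨hp⟩
  have hp2 : p ≠ 2 := fun h => Nat.not_even_iff_odd.mpr ((odd_card_coreD V).of_dvd_nat hdvd)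
    (h ▸ even_two)
  have hNT := d.normalizer_le E T d.compE hT hET
  have hCX : ∀ s ∈ E, s ≠ 1 → centralizer ({s} : Set G) ≤ X := fun s hs hs1 =>
    d.centralizer_le hp2 hE hE4 hs hs1 (hcon s hs hs1)
  have hKX : coreK a ≤ X := d.odd_le hp2 hE hCX (odd_card_coreK a) hAE hA2 hAa
  have hCa : centralizer ({a} : Set G) ≤ X := fun x hx => by
    obtain ⟨k, hk, v, hv, rfl⟩ := centralizer_decomp hc.klein hc.sylow ha ha1
      (mem_centralizer_singleton_iff.mp hx)
    exact mul_mem (hKX hk) (hNT (hVT hv))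
  have := hSE G V hc X a hX ha ha1 hCa ⟨r, hNT hrT, hr, hrc⟩
  rw [this, card_bot] at hdvd
  exact hp.one_lt.ne' (Nat.dvd_one.mp hdvd)

end Ambient

end Cfsg.Agent.GW66.BaseLocal
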