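import Cfsg.Agent.GW66.Basic
import Cfsg.Agent.H40.Basic
import Cfsg.Agent.Lib.Thompson.WSubgroup
import Cfsg.Agent.PLocalB.PConstrained

/-!
# Uniqueness when the cores vanish

Step 4 of `Base.lean`: the normalisers of the `p`-subgroups over a linked class of elementary
abelian subgroups of order at least `p ^ 3` lie in one proper subgroup.
-/

set_option autoImplicit false
set_option linter.style.haveILetI false
set_option linter.unusedSectionVars false

namespace Cfsg.Agent.GW66.BaseZJ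

open Subgroup

universe u

variable {G : Type u} [Group G]

/-- An elementary abelian subgroup of order at least `p ^ 3`. -/
def Big (p : ℕ) (A : Subgroup G) : Prop :=
  Cfsg.IsElementaryAbelian p A ∧ p ^ 3 ≤ Nat.card A

/-- Two big subgroups inside one `p`-subgroup. -/
def Linked (p : ℕ) (A B : Subgroup G) : Prop :=
  Big p A ∧ Big p B ∧ ∃ P : Subgroup G, IsPGroup p P ∧ A ≤ P ∧ B ≤ P

/-- The class of `E` under linking. -/
def Comp (p : ℕ) (E A : Subgroup G) : Prop :=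
  Relation.ReflTransGen (Linked p) E A

variable {p : ℕ}

theorem Comp.big {E A : Subgroup G} (hE : Big p E) (h : Comp p E A) : Big p A := by
  induction h with
  | refl => exact hE
  | tail _ h _ => exact h.2.1

variable [Finite G] [hp : Fact p.Prime]

theorem Big.ne_bot {A : Subgroup G} (hA : Big p A) : A ≠ ⊥ := fun h => by
  have h1 := hA.2
  rw [h, card_bot] at h1
  have := Nat.one_lt_pow (n := 3) (by norm_num) hp.out.one_lt
  omega

theorem isMulCommutative_sylow_two {V : Subgroup G} (hc : Ctx V) (T : Sylow 2 G) :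
    IsMulCommutative T := by
  haveI : Fact (Nat.Prime 2) := ⟨Nat.prime_two⟩
  let P : Sylow 2 G := (IsPGroup.of_card (p := 2) (G := V) (n := 2)
    (by rw [hc.klein.card_four]; rfl)).toSylow (by
      rw [← even_iff_two_dvd]; exact Nat.not_even_iff_odd.mpr hc.sylow)
  obtain ⟨g, hg⟩ := MulAction.exists_smul_eq G P T
  refine ⟨⟨fun x y => Subtype.ext ?_⟩⟩
  have key : ∀ z ∈ (T : Subgroup G), ∃ v ∈ V, g * v * g⁻¹ = z := by
    intro z hz
    rw [← hg, Sylow.coe_subgroup_smul] at hz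
    obtain ⟨v, hv, rfl⟩ := hz
    exact ⟨v, hv, rfl⟩
  obtain ⟨u, hu, hu'⟩ := key x x.2
  obtain ⟨v, hv, hv'⟩ := key y y.2
  show (x : G) * y = y * x
  rw [← hu', ← hv']
  calc g * u * g⁻¹ * (g * v * g⁻¹) = g * (u * v) * g⁻¹ := by group
    _ = g * (v * u) * g⁻¹ := by rw [klein_comm hc.klein hu hv]
    _ = g * v * g⁻¹ * (g * u * g⁻¹) := by group

/-- The hypotheses of step 4. -/
structure Setup (p : ℕ) (V E : Subgroup G) : Prop where
  ctx : Ctx V
  odd : p ≠ 2
  big : Big p E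
  core : ∀ (A : Subgroup G) (s : G), Comp p E A → s ∈ A → s ≠ 1 →
    Cfsg.centralizerPPrimeCore p s = ⊥
  con : ∀ s : G, s ≠ 1 → (∃ k : ℕ, orderOf s = p ^ k) →
    Cfsg.IsPConstrained p ↥(centralizer ({s} : Set G))

variable {V E : Subgroup G}

/-- The normaliser of a `p`-subgroup normalised by a member of the class is of characteristic `p`. -/
theorem centralizer_pCore_le (D : Setup p V E) {T S A : Subgroup G} (hT : IsPGroup p T)
    (hT1 : T ≠ ⊥) (hA : Comp p E A) (hAS : A ≤ S) (hS : IsPGroup p S)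
    (hSL : S ≤ normalizer (T : Set G))
    (hmax : ∀ S' : Subgroup G, IsPGroup p S' → S ≤ S' → S' ≤ normalizer (T : Set G) → S' = S) :
    centralizer (Cfsg.pCore p ↥(normalizer (T : Set G)) : Set ↥(normalizer (T : Set G))) ≤
      Cfsg.pCore p ↥(normalizer (T : Set G)) := by
  set L := normalizer (T : Set G) with hL
  have hTL : T ≤ L := le_normalizer
  set R0 := (Cfsg.pCore p ↥L).map L.subtype with hR0
  have hR0p : IsPGroup p R0 := Thompson.isPGroup_pCore.map L.subtype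
  have hTR0 : T ≤ R0 := fun t ht => ⟨⟨t, hTL ht⟩, Thompson.le_pCore
    (normal_subgroupOf_of_le_normalizer le_rfl : (T.subgroupOf L).Normal)
    (hT.of_equiv (subgroupOfEquivOfLe hTL).symm) ht, rfl⟩
  have hR0L : R0 ≤ L := map_subtype_le _
  have hLn : L ≤ normalizer (R0 : Set G) := by
    refine Coprime.le_normalizer_of_conj_mem fun g hg => ?_
    rintro _ ⟨x, hx, rfl⟩
    exact ⟨⟨g, hg⟩ * x * ⟨g, hg⟩⁻¹, (inferInstance : (Cfsg.pCore p ↥L).Normal).conj_mem x hx _, rfl⟩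
  have hsup : R0 ⊔ S = S := hmax (R0 ⊔ S) (hR0p.to_sup_of_normal_left' hS (hSL.trans hLn))
    le_sup_right (sup_le hR0L hSL)
  have hR0S : R0 ≤ S := hsup ▸ le_sup_left
  haveI : (R0.subgroupOf S).Normal := normal_subgroupOf_of_le_normalizer (hSL.trans hLn)
  have hne : R0.subgroupOf S ≠ ⊥ := by
    intro h
    refine hT1 (le_bot_iff.mp fun t ht => ?_)
    have h1 : (⟨t, hR0S (hTR0 ht)⟩ : S) ∈ R0.subgroupOf S := hTR0 ht
    rw [h, Subgroup.mem_bot] at h1
    exact Subgroup.mem_bot.mpr (congrArg Subtype.val h1)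
  have hZ := PGroup.inf_center_ne_bot hS hne
  obtain ⟨n, hn⟩ := IsPGroup.iff_card.mp
    (hS.to_subgroup (R0.subgroupOf S ⊓ Subgroup.center ↥S))
  have hpd : p ∣ Nat.card ↥(R0.subgroupOf S ⊓ Subgroup.center ↥S) := by
    rw [hn]
    refine dvd_pow_self p ?_
    rintro rfl
    exact hZ (Subgroup.eq_bot_of_card_eq _ (by simpa using hn))
  obtain ⟨⟨⟨s, hsS⟩, hs⟩, hso⟩ := exists_prime_orderOf_dvd_card' p hpd
  rw [Subgroup.orderOf_mk, Subgroup.orderOf_mk] at hso
  have hsR : s ∈ R0 := hs.1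
  have hsc : ∀ x ∈ S, x * s = s * x := fun x hx =>
    congrArg Subtype.val (Subgroup.mem_center_iff.mp hs.2 ⟨x, hx⟩)
  have hs1 : s ≠ 1 := fun h => by
    rw [h, orderOf_one] at hso
    exact hp.out.ne_one hso.symm
  -- `A⟨s⟩` is in the class
  have hAb : Big p A := Comp.big D.big hA
  set B := A ⊔ zpowers s with hB
  have hze : Cfsg.IsElementaryAbelian p (zpowers s) := by
    refine H40.elementary_iff.mpr ⟨?_, ?_⟩
    · rintro _ ⟨i, rfl⟩ _ ⟨j, rfl⟩
      exact ((Commute.refl s).zpow_zpow i j).eq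
    · rintro _ ⟨i, rfl⟩
      show (s ^ i) ^ p = 1
      rw [← zpow_natCast, ← zpow_mul, mul_comm, zpow_mul, zpow_natCast, ← hso, pow_orderOf_eq_one,
        one_zpow]
  have hBe : Cfsg.IsElementaryAbelian p B := H40.elementary_sup hAb.1 hze (by
    rintro a ha _ ⟨i, rfl⟩
    exact ((show Commute a s from hsc a (hAS ha)).zpow_right i).eq)
  have hBC : Comp p E B := hA.tail
    ⟨hAb, ⟨hBe, hAb.2.trans (card_le_of_le le_sup_left)⟩, S, hS, hAS,
      sup_le hAS (zpowers_le.mpr hsS)⟩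
  have hcore := D.core B s hBC (mem_sup_right (mem_zpowers s)) hs1
  set C := centralizer ({s} : Set G) with hCdef
  have hO : Cfsg.pPrimeCore p ↥C = ⊥ :=
    (Subgroup.map_eq_bot_iff_of_injective _ C.subtype_injective).mp hcore
  have hCc := (PLocalB.isPConstrained_iff_of_pPrimeCore_eq_bot hO).mp
    (D.con s hs1 ⟨1, by rw [pow_one]; exact hso⟩)
  set R := (Cfsg.pCore p ↥C).map C.subtype with hR
  have hRp : IsPGroup p R := Thompson.isPGroup_pCore.map C.subtype
  have hRC : R ≤ C := map_subtype_le _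
  have hCR : C ≤ normalizer (R : Set G) := by
    refine Coprime.le_normalizer_of_conj_mem fun g hg => ?_
    rintro _ ⟨x, hx, rfl⟩
    exact ⟨⟨g, hg⟩ * x * ⟨g, hg⟩⁻¹, (inferInstance : (Cfsg.pCore p ↥C).Normal).conj_mem x hx _, rfl⟩
  have hR0C : R0 ≤ C := fun x hx => mem_centralizer_singleton_iff.mpr (hsc x (hR0S hx))
  set C0 := L ⊓ centralizer (R0 : Set G) with hC0
  have hC0C : C0 ≤ C := fun x hx => mem_centralizer_singleton_iff.mpr
    (mem_centralizer_iff.mp hx.2 s hsR).symm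
  set C1 := centralizer (Cfsg.pCore p ↥L : Set ↥L) with hC1
  have hC1mem : ∀ x : ↥L, x ∈ C1 → (x : G) ∈ C0 := fun x hx =>
    ⟨x.2, mem_centralizer_iff.mpr (by
      rintro _ ⟨y, hy, rfl⟩
      exact congrArg Subtype.val (mem_centralizer_iff.mp hx y hy))⟩
  suffices hC1p : IsPGroup p C1 from Thompson.le_pCore inferInstance hC1p
  -- `X = R ∩ C(R₀)` lies in `R₀`
  set X := R ⊓ centralizer (R0 : Set G) with hX
  have hXL : X ≤ L := inf_le_right.trans ((centralizer_le hTR0).trans (centralizer_le_normalizer _))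
  have hXR0 : X ⊓ centralizer (R0 : Set G) ≤ R0 := by
    intro x hx
    have hxL : x ∈ L := hXL hx.1
    set X1 := X.subgroupOf L ⊓ C1 with hX1
    have hX1p : IsPGroup p X1 := ((hRp.to_le inf_le_left).of_equiv
      (subgroupOfEquivOfLe hXL).symm).to_le inf_le_left
    haveI : (X1.subgroupOf C1).Normal := by
      constructor
      rintro ⟨y, hy⟩ ⟨hy1, -⟩ ⟨c, hc⟩
      refine ⟨⟨?_, ?_⟩, C1.mul_mem (C1.mul_mem hc hy) (C1.inv_mem hc)⟩
      · exact (mem_normalizer_iff.mp (hCR (hC0C (hC1mem c hc))) (y : G)).mp hy1.1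
      · exact (centralizer (R0 : Set G)).mul_mem ((centralizer (R0 : Set G)).mul_mem
          (hC1mem c hc).2 hy1.2) ((centralizer (R0 : Set G)).inv_mem (hC1mem c hc).2)
    have hxC1 : (⟨x, hxL⟩ : ↥L) ∈ C1 := mem_centralizer_iff.mpr fun y hy =>
      Subtype.ext (mem_centralizer_iff.mp hx.2 (y : G) ⟨y, hy, rfl⟩)
    have h1 : (⟨⟨x, hxL⟩, hxC1⟩ : C1) ∈ Cfsg.pCore p C1 :=
      Thompson.le_pCore inferInstance (hX1p.of_equiv (subgroupOfEquivOfLe inf_le_right).symm)
        (show (⟨⟨x, hxL⟩, hxC1⟩ : C1) ∈ X1.subgroupOf C1 from ⟨hx.1, hxC1⟩)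
    haveI : C1.Normal := inferInstance
    have h2 := Thompson.map_pCore_normal_le (p := p) C1 ⟨_, h1, rfl⟩
    exact ⟨⟨x, hxL⟩, h2, rfl⟩
  -- the elements of `C1` are `p`-elements
  intro k
  obtain ⟨e, m, hm, hem⟩ := Nat.exists_eq_pow_mul_and_not_dvd (orderOf_pos k).ne' p hp.out.ne_one
  refine ⟨e, ?_⟩
  set k' : G := L.subtype (C1.subtype (k ^ p ^ e)) with hk'
  have hk'm : k' ^ m = 1 := by
    rw [hk', ← map_pow, ← map_pow, ← pow_mul, ← hem, pow_orderOf_eq_one, map_one, map_one]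
  have hk'0 : k' ∈ C0 := hC1mem _ (k ^ p ^ e).2
  have hk'R : k' ∈ centralizer (R : Set G) := by
    refine Coprime.thompson_pxq p R0 (zpowers k') R hR0p ?_ hRp ?_ (hR0C.trans hCR)
      (zpowers_le.mpr (hCR (hC0C hk'0))) ?_ (mem_zpowers k')
    · rw [Nat.card_zpowers]
      exact ((hp.out.coprime_iff_not_dvd.mpr hm).symm).coprime_dvd_left
        (orderOf_dvd_of_pow_eq_one hk'm)
    · rw [Subgroup.le_centralizer_iff, zpowers_le]
      exact hk'0.2
    · intro y hy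
      have hyR0 : y ∈ R0 := hXR0 ⟨hy, hy.2⟩
      rw [Subgroup.zpowers_eq_closure, Subgroup.centralizer_closure,
        mem_centralizer_singleton_iff]
      exact mem_centralizer_iff.mp hk'0.2 y hyR0
  have hk'C : (⟨k', hC0C hk'0⟩ : ↥C) ∈ Cfsg.pCore p ↥C := hCc (mem_centralizer_iff.mpr fun y hy =>
    Subtype.ext (mem_centralizer_iff.mp hk'R (y : G) ⟨y, hy, rfl⟩))
  obtain ⟨j, hj⟩ := Thompson.isPGroup_pCore (p := p) (G := ↥C) ⟨_, hk'C⟩
  have hj' : k' ^ p ^ j = 1 := congrArg (fun z : Cfsg.pCore p ↥C => ((z : ↥C) : G)) hj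
  have h1 : k' = 1 := by
    rw [← orderOf_eq_one_iff]
    exact Nat.eq_one_of_dvd_coprimes ((hp.out.coprime_iff_not_dvd.mpr hm).pow_left j)
      (orderOf_dvd_of_pow_eq_one hj') (orderOf_dvd_of_pow_eq_one hk'm)
  exact Subtype.ext (Subtype.ext h1)

/-- `N(T) ≤ N(W(S))` for `S` maximal among the `p`-subgroups of `N(T)`. -/
theorem normalizer_le_wOf (D : Setup p V E) {T S A : Subgroup G} (hT : IsPGroup p T)
    (hT1 : T ≠ ⊥) (hA : Comp p E A) (hAS : A ≤ S) (hS : IsPGroup p S)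
    (hSL : S ≤ normalizer (T : Set G))
    (hmax : ∀ S' : Subgroup G, IsPGroup p S' → S ≤ S' → S' ≤ normalizer (T : Set G) → S' = S) :
    normalizer (T : Set G) ≤ normalizer (Thompson.wOf p S : Set G) := by
  have hc := centralizer_pCore_le D hT hT1 hA hAS hS hSL hmax
  set L := normalizer (T : Set G) with hL
  haveI : Fact (Nat.Prime 2) := ⟨Nat.prime_two⟩
  have hst : Cfsg.IsActionPStable p ↥L := Thompson.isActionPStable_of_abelian_sylow_two D.odd
    fun T' => Thompson.isMulCommutative_sylow_of_injective L.subtype L.subtype_injective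
      (Classical.arbitrary (Sylow 2 G)) (isMulCommutative_sylow_two D.ctx _) T'
  let S' : Sylow p ↥L :=
    { toSubgroup := S.subgroupOf L
      isPGroup' := hS.of_equiv (subgroupOfEquivOfLe hSL).symm
      is_maximal' := fun {Q} hQ hle => by
        have h := hmax (Q.map L.subtype) (hQ.map _)
          (fun x hx => ⟨⟨x, hSL hx⟩, hle hx, rfl⟩) (map_subtype_le _)
        exact (comap_map_eq_self_of_injective L.subtype_injective Q).symm.trans
          (congrArg (fun K : Subgroup G => K.comap L.subtype) h) }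
  haveI := Thompson.wOf_normal_of_stable hst hc S'
  have hmap : (Thompson.wOf p (S.subgroupOf L)).map L.subtype = Thompson.wOf p S := by
    rw [Thompson.wOf_map L.subtype _ L.subtype_injective.injOn, map_subgroupOf_eq_of_le hSL]
  rw [← hmap]
  refine Coprime.le_normalizer_of_conj_mem fun g hg => ?_
  rintro _ ⟨x, hx, rfl⟩
  exact ⟨⟨g, hg⟩ * x * ⟨g, hg⟩⁻¹,
    (inferInstance : (Thompson.wOf p (S' : Subgroup ↥L)).Normal).conj_mem x hx _, rfl⟩

theorem exists_gt_of_ne {S P : Subgroup G} (hP : IsPGroup p P) (hSP : S ≤ P) (hne : S ≠ P) :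
    ∃ x ∈ P, x ∈ normalizer (S : Set G) ∧ x ∉ S := by
  haveI : Group.IsNilpotent ↥P := hP.isNilpotent
  have hlt : S.subgroupOf P < ⊤ := lt_top_iff_ne_top.mpr fun h =>
    hne (le_antisymm hSP (subgroupOf_eq_top.mp h))
  obtain ⟨x, hx, hxS⟩ := SetLike.exists_of_lt
    (normalizerCondition_of_isNilpotent (S.subgroupOf P) hlt)
  refine ⟨x, x.2, ?_, hxS⟩
  have h := le_normalizer_map P.subtype (mem_map_of_mem P.subtype hx)
  rwa [map_subgroupOf_eq_of_le hSP] at h

/-- `X(P)`. -/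
def hull (p : ℕ) (P : Subgroup G) : Subgroup G := normalizer (Thompson.wOf p P : Set G)

/-- The downward induction. -/
theorem hull_eq_and_le (D : Setup p V E) : ∀ (n : ℕ) (S : Subgroup G),
    Nat.card G - Nat.card S = n → IsPGroup p S → (∃ A, Comp p E A ∧ A ≤ S) →
      (∀ P Q : Sylow p G, S ≤ P → S ≤ Q → hull p (P : Subgroup G) = hull p (Q : Subgroup G)) ∧
      ∀ (T : Subgroup G), IsPGroup p T → T ≠ ⊥ → S ≤ normalizer (T : Set G) →
        (∀ S' : Subgroup G, IsPGroup p S' → S ≤ S' → S' ≤ normalizer (T : Set G) → S' = S) →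
        ∀ P : Sylow p G, S ≤ P → normalizer (T : Set G) ≤ hull p (P : Subgroup G) := by
  intro n
  induction n using Nat.strong_induction_on with
  | _ n IH =>
  intro S hn hS hAS
  obtain ⟨A, hA, hAle⟩ := hAS
  have hS1 : S ≠ ⊥ := fun h => (Comp.big D.big hA).ne_bot (le_bot_iff.mp (h ▸ hAle))
  have hrec : ∀ S' : Subgroup G, S < S' → IsPGroup p S' →
      (∀ P Q : Sylow p G, S' ≤ P → S' ≤ Q → hull p (P : Subgroup G) = hull p (Q : Subgroup G)) ∧
      ∀ (T : Subgroup G), IsPGroup p T → T ≠ ⊥ → S' ≤ normalizer (T : Set G) →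
        (∀ S'' : Subgroup G, IsPGroup p S'' → S' ≤ S'' → S'' ≤ normalizer (T : Set G) → S'' = S') →
        ∀ P : Sylow p G, S' ≤ P → normalizer (T : Set G) ≤ hull p (P : Subgroup G) := by
    intro S' hlt hS'
    refine IH _ ?_ S' rfl hS' ⟨A, hA, hAle.trans hlt.le⟩
    have h1 : Nat.card S < Nat.card S' := lt_of_le_of_ne (card_le_of_le hlt.le)
      fun h => hlt.ne (eq_of_le_of_card_ge hlt.le h.ge)
    have h2 : Nat.card S' ≤ Nat.card G := card_le_card_group S'
    omega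
  -- a maximal `p`-subgroup of `M` over a given one
  have hex : ∀ (M U : Subgroup G), IsPGroup p U → U ≤ M → ∃ S' : Subgroup G, IsPGroup p S' ∧
      U ≤ S' ∧ S' ≤ M ∧
      (∀ S'' : Subgroup G, IsPGroup p S'' → S' ≤ S'' → S'' ≤ M → S'' = S') ∧
      ∀ U' : Subgroup G, IsPGroup p U' → U' ≤ M →
        ∃ l ∈ M, ∀ u ∈ U', l * u * l⁻¹ ∈ S' := by
    intro M U hU hUM
    obtain ⟨Q, hQ⟩ := (hU.of_equiv (subgroupOfEquivOfLe hUM).symm).exists_le_sylow
    refine ⟨(Q : Subgroup ↥M).map M.subtype, Q.isPGroup'.map _,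
      fun u hu => ⟨⟨u, hUM hu⟩, hQ hu, rfl⟩, map_subtype_le _, fun S'' h1 h2 h3 => ?_,
      fun U' hU' hU'M => ?_⟩
    · have := Q.is_maximal' (h1.of_equiv (subgroupOfEquivOfLe h3).symm)
        (fun x hx => h2 ⟨x, hx, rfl⟩)
      rw [← this, map_subgroupOf_eq_of_le h3]
    · obtain ⟨Q', hQ'⟩ := (hU'.of_equiv (subgroupOfEquivOfLe hU'M).symm).exists_le_sylow
      obtain ⟨l, hl⟩ := MulAction.exists_smul_eq ↥M Q' Q
      refine ⟨l, l.2, fun u hu => ?_⟩
      have h : l * ⟨u, hU'M hu⟩ * l⁻¹ ∈ (↑(l • Q') : Subgroup ↥M) := by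
        rw [Sylow.coe_subgroup_smul]
        exact ⟨⟨u, hU'M hu⟩, hQ' hu, by simp⟩
      rw [hl] at h
      exact ⟨_, h, rfl⟩
  have hi : ∀ P Q : Sylow p G, S ≤ P → S ≤ Q →
      hull p (P : Subgroup G) = hull p (Q : Subgroup G) := by
    intro P Q hP hQ
    by_cases hSP : S = (P : Subgroup G)
    · rw [show (Q : Subgroup G) = P from P.is_maximal' Q.isPGroup' (hSP ▸ hQ)]
    by_cases hSQ : S = (Q : Subgroup G)
    · rw [show (P : Subgroup G) = Q from Q.is_maximal' P.isPGroup' (hSQ ▸ hP)]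
    obtain ⟨x, hxP, hxn, hxS⟩ := exists_gt_of_ne P.isPGroup' hP hSP
    obtain ⟨y, hyQ, hyn, hyS⟩ := exists_gt_of_ne Q.isPGroup' hQ hSQ
    set NP := (P : Subgroup G) ⊓ normalizer (S : Set G) with hNP
    set NQ := (Q : Subgroup G) ⊓ normalizer (S : Set G) with hNQ
    have hSNP : S < NP := SetLike.lt_iff_le_and_exists.mpr
      ⟨le_inf hP le_normalizer, x, Subgroup.mem_inf.mpr ⟨hxP, hxn⟩, hxS⟩
    have hSNQ : S < NQ := SetLike.lt_iff_le_and_exists.mpr
      ⟨le_inf hQ le_normalizer, y, Subgroup.mem_inf.mpr ⟨hyQ, hyn⟩, hyS⟩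
    have hNPp : IsPGroup p NP := P.isPGroup'.to_le inf_le_left
    have hNQp : IsPGroup p NQ := Q.isPGroup'.to_le inf_le_left
    obtain ⟨SL, hSLp, hNPSL, hSLN, hSLmax, hSLconj⟩ :=
      hex (normalizer (S : Set G)) NP hNPp inf_le_right
    obtain ⟨P1, hP1⟩ := hSLp.exists_le_sylow
    have h1 : hull p (P : Subgroup G) = hull p (P1 : Subgroup G) :=
      (hrec NP hSNP hNPp).1 P P1 inf_le_left (hNPSL.trans hP1)
    have hNS : normalizer (S : Set G) ≤ hull p (P1 : Subgroup G) :=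
      (hrec SL (lt_of_lt_of_le hSNP hNPSL) hSLp).2 S hS hS1 hSLN hSLmax P1 hP1
    obtain ⟨l, hl, hlconj⟩ := hSLconj NQ hNQp inf_le_right
    have hl1 : l⁻¹ ∈ normalizer (Thompson.wOf p (P1 : Subgroup G) : Set G) := inv_mem (hNS hl)
    have hQ1 : NQ ≤ (↑(l⁻¹ • P1) : Subgroup G) := by
      intro u hu
      rw [Sylow.coe_subgroup_smul]
      exact ⟨l * u * l⁻¹, hP1 (hlconj u hu), by simp [mul_assoc]⟩
    have h2 : hull p (Q : Subgroup G) = hull p (↑(l⁻¹ • P1) : Subgroup G) :=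
      (hrec NQ hSNQ hNQp).1 Q (l⁻¹ • P1) inf_le_left hQ1
    have h3 : Thompson.wOf p (↑(l⁻¹ • P1) : Subgroup G) = Thompson.wOf p (P1 : Subgroup G) := by
      rw [Sylow.coe_subgroup_smul]
      show Thompson.wOf p ((P1 : Subgroup G).map (MulAut.conj l⁻¹).toMonoidHom) = _
      rw [← Thompson.wOf_map (p := p) (MulAut.conj l⁻¹).toMonoidHom (P1 : Subgroup G)
        (MulAut.conj l⁻¹).injective.injOn]
      refine le_antisymm ?_ fun w hw => ?_
      · rintro _ ⟨w, hw, rfl⟩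
        exact (mem_normalizer_iff.mp hl1 w).mp hw
      · have h4 := (mem_normalizer_iff''.mp hl1 w).mp hw
        exact ⟨_, h4, by simp [mul_assoc]⟩
    rw [h1, h2, hull, hull, h3]
  refine ⟨hi, fun T hT hT1 hST hmax P hP => ?_⟩
  refine (normalizer_le_wOf D hT hT1 hA hAle hS hST hmax).trans ?_
  by_cases hSP : S = (P : Subgroup G)
  · rw [hull, ← hSP]
  obtain ⟨x, hxP, hxn, hxS⟩ := exists_gt_of_ne P.isPGroup' hP hSP
  set NP := (P : Subgroup G) ⊓ normalizer (S : Set G) with hNP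
  have hSNP : S < NP := SetLike.lt_iff_le_and_exists.mpr
    ⟨le_inf hP le_normalizer, x, Subgroup.mem_inf.mpr ⟨hxP, hxn⟩, hxS⟩
  obtain ⟨S', hS'p, hNPS', hS'L, hS'max, -⟩ := hex (normalizer (Thompson.wOf p S : Set G)) NP
    (P.isPGroup'.to_le inf_le_left) (inf_le_right.trans (Thompson.normalizer_le_normalizer_wOf S))
  obtain ⟨P', hP'⟩ := hS'p.exists_le_sylow
  rw [hi P P' hP ((hSNP.le.trans hNPS').trans hP')]
  exact (hrec S' (lt_of_lt_of_le hSNP hNPS') hS'p).2 (Thompson.wOf p S)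
    (hS.to_le (Thompson.wOf_le S)) (Thompson.wOf_ne_bot hS hS1) hS'L hS'max P' hP'

theorem hull_eq (D : Setup p V E) {S : Subgroup G} (hS : IsPGroup p S) {A : Subgroup G}
    (hA : Comp p E A) (hAS : A ≤ S) {P Q : Sylow p G} (hP : S ≤ P) (hQ : S ≤ Q) :
    hull p (P : Subgroup G) = hull p (Q : Subgroup G) :=
  (hull_eq_and_le D _ S rfl hS ⟨A, hA, hAS⟩).1 P Q hP hQ

theorem exists_uniqueness {V E : Subgroup G} (hc : Ctx V) (hp2 : p ≠ 2) (hE : Big p E)
    (hcore : ∀ (A : Subgroup G) (s : G), Comp p E A → s ∈ A → s ≠ 1 →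
      Cfsg.centralizerPPrimeCore p s = ⊥)
    (hcon : ∀ s : G, s ≠ 1 → (∃ k : ℕ, orderOf s = p ^ k) →
      Cfsg.IsPConstrained p ↥(centralizer ({s} : Set G))) :
    ∃ X : Subgroup G, X ≠ ⊤ ∧ ∀ A T : Subgroup G, Comp p E A → IsPGroup p T → A ≤ T →
      normalizer (T : Set G) ≤ X := by
  have D : Setup p V E := ⟨hc, hp2, hE, hcore, hcon⟩
  have hEp : IsPGroup p E := H40.isPGroup_elementary hE.1
  obtain ⟨PE, hPE⟩ := hEp.exists_le_sylow
  refine ⟨hull p (PE : Subgroup G), ?_, ?_⟩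
  · have hne := Thompson.wOf_ne_bot PE.isPGroup' fun h => hE.ne_bot (le_bot_iff.mp (h ▸ hPE))
    refine hc.normalizer_ne_top hne fun h => ?_
    have hG : IsPGroup p (⊤ : Subgroup G) := h ▸ PE.isPGroup'.to_le (Thompson.wOf_le _)
    obtain ⟨n, hn⟩ := IsPGroup.iff_card.mp hG
    have h4 : Nat.card V ∣ p ^ n := hn ▸ card_dvd_of_le le_top
    rw [hc.klein.card_four] at h4
    exact hp2 ((Nat.prime_dvd_prime_iff_eq Nat.prime_two hp.out).mp
      (Nat.prime_two.dvd_of_dvd_pow ((by norm_num : 2 ∣ 4).trans h4))).symm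
  intro A T hA hT hAT
  have key : ∀ B, Comp p E B → ∀ Q : Sylow p G, B ≤ Q →
      hull p (Q : Subgroup G) = hull p (PE : Subgroup G) := by
    intro B hB
    induction hB with
    | refl => exact fun Q hQ => hull_eq D hEp .refl le_rfl hQ hPE
    | @tail B C hB hBC ih =>
      intro Q hQ
      obtain ⟨-, hCb, P0, hP0, hBP, hCP⟩ := hBC
      obtain ⟨R, hR⟩ := hP0.exists_le_sylow
      rw [← ih R (hBP.trans hR)]
      exact hull_eq D (H40.isPGroup_elementary hCb.1) (hB.tail ⟨Comp.big hE hB, hCb, P0, hP0, hBP,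
        hCP⟩) le_rfl hQ (hCP.trans hR)
  have hT1 : T ≠ ⊥ := fun h => (Comp.big hE hA).ne_bot (le_bot_iff.mp (h ▸ hAT))
  obtain ⟨Q0, hQ0⟩ := (hT.of_equiv (subgroupOfEquivOfLe
    (le_normalizer : T ≤ normalizer (T : Set G))).symm).exists_le_sylow
  set S := (Q0 : Subgroup ↥(normalizer (T : Set G))).map (normalizer (T : Set G)).subtype with hS
  have hTS : T ≤ S := fun t ht => ⟨⟨t, le_normalizer ht⟩, hQ0 ht, rfl⟩
  obtain ⟨P, hP⟩ := (Q0.isPGroup'.map (normalizer (T : Set G)).subtype).exists_le_sylow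
  rw [← key A hA P ((hAT.trans hTS).trans hP)]
  refine (hull_eq_and_le D _ S rfl (Q0.isPGroup'.map _) ⟨A, hA, hAT.trans hTS⟩).2 T hT hT1
    (map_subtype_le _) (fun S'' h1 h2 h3 => ?_) P hP
  have := Q0.is_maximal' (h1.of_equiv (subgroupOfEquivOfLe h3).symm)
    (fun x hx => h2 ⟨x, hx, rfl⟩)
  rw [hS, ← this, map_subgroupOf_eq_of_le h3]

end Cfsg.Agent.GW66.BaseZJ
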