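import Cfsg.Agent.GW66.Basic
import Cfsg.Agent.Lib.Coprime.Action
import Cfsg.Agent.Lib.Coprime.Generation

/-!
# A moved invariant `p`-group contains three commuting inverted elements

Step 1 of `Base.lean`, also used by `Dormant.lean`.
-/

set_option autoImplicit false

namespace Cfsg.Agent.GW66

open Subgroup
open scoped commutatorElement

universe u

variable {G : Type u} [Group G]

/-- Three commuting elements of order `p`, the first inverted by `V` outside `a`, permuted by `r`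
and centralised by `P₀`. -/
structure Triple (V P₀ Q : Subgroup G) (p : ℕ) (a r x : G) : Prop where
  mem : x ∈ Q
  mem₂ : r * x * r⁻¹ ∈ Q
  mem₃ : r * (r * x * r⁻¹) * r⁻¹ ∈ Q
  ne : x ≠ 1
  pow : x ^ p = 1
  comm : x * a = a * x
  inv : ∀ e ∈ V, e ≠ 1 → e ≠ a → e * x * e⁻¹ = x⁻¹
  comm₁₂ : Commute x (r * x * r⁻¹)
  comm₁₃ : Commute x (r * (r * x * r⁻¹) * r⁻¹)
  comm₂₃ : Commute (r * x * r⁻¹) (r * (r * x * r⁻¹) * r⁻¹)
  cent : P₀ ≤ centralizer ({x, r * x * r⁻¹, r * (r * x * r⁻¹) * r⁻¹} : Set G)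

variable [Finite G] {V : Subgroup G}

theorem conj_mem_iff {H : Subgroup G} {g x : G} (hg : g ∈ normalizer (H : Set G)) :
    g * x * g⁻¹ ∈ H ↔ x ∈ H := (mem_normalizer_iff.mp hg x).symm

theorem mem_normalizer_commutator {A B : Subgroup G} {g : G} (hA : g ∈ normalizer (A : Set G))
    (hB : g ∈ normalizer (B : Set G)) : g ∈ normalizer ((⁅A, B⁆ : Subgroup G) : Set G) := by
  refine Coprime.mem_normalizer_of_le_iff (fun x hx => ?_) fun x hx => ?_
  · have hle : ⁅A, B⁆ ≤ (⁅A, B⁆ : Subgroup G).comap (MulAut.conj g).toMonoidHom := by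
      rw [commutator_le]
      intro a ha b hb
      rw [mem_comap, map_commutatorElement]
      exact commutator_mem_commutator ((conj_mem_iff hA).mpr ha) ((conj_mem_iff hB).mpr hb)
    exact hle hx
  · have hle : ⁅A, B⁆ ≤ (⁅A, B⁆ : Subgroup G).comap (MulAut.conj g⁻¹).toMonoidHom := by
      rw [commutator_le]
      intro a ha b hb
      rw [mem_comap, map_commutatorElement]
      exact commutator_mem_commutator ((conj_mem_iff (inv_mem hA)).mpr ha)
        ((conj_mem_iff (inv_mem hB)).mpr hb)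
    have := hle hx
    simpa [mem_comap] using this

theorem eq_one_of_sq {z : G} (ho : Odd (orderOf z)) (hz : z = z⁻¹) : z = 1 := by
  have h2 : z ^ 2 = 1 := by
    rw [pow_two]
    nth_rewrite 2 [hz]
    exact mul_inv_cancel z
  rcases (Nat.dvd_prime Nat.prime_two).mp (orderOf_dvd_of_pow_eq_one h2) with h | h
  · exact orderOf_eq_one_iff.mp h
  · exact absurd (h ▸ ho) (by decide)

/-- A fixed and an inverted element with a central fixed commutator commute. -/
theorem commute_of_eigen {e x y : G} (hx : e * x * e⁻¹ = x) (hy : e * y * e⁻¹ = y⁻¹)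
    (hfix : e * ⁅x, y⁆ * e⁻¹ = ⁅x, y⁆) (hc : Commute ⁅x, y⁆ y) (ho : Odd (orderOf ⁅x, y⁆)) :
    Commute x y := by
  refine commutatorElement_eq_one_iff_commute.mp (eq_one_of_sq ho ?_)
  calc ⁅x, y⁆ = e * ⁅x, y⁆ * e⁻¹ := hfix.symm
    _ = ⁅e * x * e⁻¹, e * y * e⁻¹⁆ := conjugate_commutatorElement _ _ _
    _ = ⁅x, y⁻¹⁆ := by rw [hx, hy]
    _ = y⁻¹ * (⁅x, y⁆⁻¹ * y) := by simp [commutatorElement_def, mul_assoc]
    _ = ⁅x, y⁆⁻¹ := by rw [hc.inv_left.eq, inv_mul_cancel_left]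

theorem fusing_ne (hV : IsKleinFour V) (hodd : Odd V.index) {r a : G}
    (hr : r ∈ normalizer (V : Set G)) (hrc : r ∉ centralizer (V : Set G)) (ha : a ∈ V)
    (h1 : a ≠ 1) : r * a * r⁻¹ ≠ a ∧ r * (r * a * r⁻¹) * r⁻¹ ≠ a := by
  have hne : r * a * r⁻¹ ≠ a := fun e =>
    hrc (centralizes_of_fix hV hodd hr ha h1 (mul_inv_eq_iff_eq_mul.mp e))
  refine ⟨hne, fun e => ?_⟩
  have hp : Pair V a (r * a * r⁻¹) :=
    ⟨ha, (conj_mem_iff hr).mpr ha, h1, fun e => h1 (conj_eq_one_iff.mp e), hne.symm⟩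
  have h3 := hp.third hV
  rcases fusing_orbit hV hodd hr hrc ha h1 h3.hb h3.b1 with e' | e' | e'
  · exact h3.ne e'.symm
  · exact hp.a1 (mul_eq_right.mp e')
  · exact h3.ne (e'.trans e).symm

/-- An element centralised by `a` and inverted by one further involution of `V`. -/
theorem inv_of_pair (hV : IsKleinFour V) {a b x : G} (h : Pair V a b) (hxa : x * a = a * x)
    (hxb : b * x * b⁻¹ = x⁻¹) : ∀ e ∈ V, e ≠ 1 → e ≠ a → e * x * e⁻¹ = x⁻¹ := by
  intro e he h1 hne
  rcases klein_cases hV h he with h' | h' | h' | h'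
  · exact absurd h' h1
  · exact absurd h' hne
  · rw [h', hxb]
  · have hax : a * x * a⁻¹ = x := by rw [← hxa]; group
    subst h'
    calc a * b * x * (a * b)⁻¹ = a * (b * x * b⁻¹) * a⁻¹ := by group
      _ = (a * x * a⁻¹)⁻¹ := by rw [hxb]; group
      _ = x⁻¹ := by rw [hax]

variable {p : ℕ}

theorem odd_card_of_pgroup (hp : p.Prime) (hp2 : p ≠ 2) {Q : Subgroup G} (hQ : IsPGroup p Q) :
    Odd (Nat.card Q) := by
  haveI : Fact p.Prime := ⟨hp⟩
  obtain ⟨n, hn⟩ := IsPGroup.iff_card.mp hQ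
  exact hn ▸ (hp.odd_of_ne_two hp2).pow

/-- A `p`-group centralising `a` and `b` fixes a nontrivial inverted element. -/
theorem exists_fixed_inverted (hp : p.Prime) (hp2 : p ≠ 2) {H P : Subgroup G} (hH : IsPGroup p H)
    (hP : IsPGroup p P) (hPH : P ≤ normalizer (H : Set G)) {b : G} (hb2 : b * b = 1)
    (hbH : b ∈ normalizer (H : Set G)) (hPb : ∀ g ∈ P, g * b = b * g)
    (hmove : ∃ h ∈ H, b * h * b⁻¹ ≠ h) :
    ∃ x ∈ H, x ≠ 1 ∧ x ^ p = 1 ∧ b * x * b⁻¹ = x⁻¹ ∧ ∀ g ∈ P, g * x = x * g := by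
  classical
  haveI : Fact p.Prime := ⟨hp⟩
  let X := {x : G // x ∈ H ∧ b * x * b⁻¹ = x⁻¹}
  have hconj : ∀ g ∈ P, ∀ x : X, g * x.1 * g⁻¹ ∈ H ∧
      b * (g * x.1 * g⁻¹) * b⁻¹ = (g * x.1 * g⁻¹)⁻¹ := by
    intro g hg x
    refine ⟨(conj_mem_iff (hPH hg)).mpr x.2.1, ?_⟩
    calc b * (g * x.1 * g⁻¹) * b⁻¹ = (b * g) * x.1 * (b * g)⁻¹ := by group
      _ = (g * b) * x.1 * (g * b)⁻¹ := by rw [hPb g hg]
      _ = g * (b * x.1 * b⁻¹) * g⁻¹ := by group
      _ = (g * x.1 * g⁻¹)⁻¹ := by rw [x.2.2]; group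
  letI : MulAction P X :=
    { smul := fun g x => ⟨g.1 * x.1 * g.1⁻¹, hconj g.1 g.2 x⟩
      one_smul := fun x => Subtype.ext (by show (1 : G) * x.1 * 1⁻¹ = x.1; group)
      mul_smul := fun g h x => Subtype.ext (by
        show (g.1 * h.1) * x.1 * (g.1 * h.1)⁻¹ = g.1 * (h.1 * x.1 * h.1⁻¹) * g.1⁻¹
        group) }
  set K := (centralizer ({b} : Set G)).subgroupOf H with hK
  have hbinv : b⁻¹ = b := inv_eq_of_mul_eq_one_right hb2
  have hφ : ∀ h : H, h.1 * (b * h.1 * b⁻¹)⁻¹ ∈ H ∧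
      b * (h.1 * (b * h.1 * b⁻¹)⁻¹) * b⁻¹ = (h.1 * (b * h.1 * b⁻¹)⁻¹)⁻¹ := by
    intro h
    refine ⟨mul_mem h.2 (inv_mem ((conj_mem_iff hbH).mpr h.2)), ?_⟩
    calc b * (h.1 * (b * h.1 * b⁻¹)⁻¹) * b⁻¹
        = b * h.1 * b⁻¹ * (b * b) * h.1⁻¹ * (b * b)⁻¹ := by group
      _ = (h.1 * (b * h.1 * b⁻¹)⁻¹)⁻¹ := by rw [hb2]; group
  let φ : H → X := fun h => ⟨_, hφ h⟩
  have hφeq : ∀ h k : H, φ h = φ k ↔ h⁻¹ * k ∈ K := by
    intro h k
    rw [hK, mem_subgroupOf, mem_centralizer_singleton_iff, Subtype.ext_iff]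
    show h.1 * (b * h.1 * b⁻¹)⁻¹ = k.1 * (b * k.1 * b⁻¹)⁻¹ ↔ _
    rw [Subgroup.coe_mul, Subgroup.coe_inv]
    constructor
    · intro e
      have : h.1 * b * h.1⁻¹ = k.1 * b * k.1⁻¹ := by
        calc h.1 * b * h.1⁻¹ = h.1 * (b * h.1 * b⁻¹)⁻¹ * b := by group
          _ = k.1 * (b * k.1 * b⁻¹)⁻¹ * b := by rw [e]
          _ = k.1 * b * k.1⁻¹ := by group
      calc h.1⁻¹ * k.1 * b = h.1⁻¹ * (k.1 * b * k.1⁻¹) * k.1 := by group
        _ = h.1⁻¹ * (h.1 * b * h.1⁻¹) * k.1 := by rw [this]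
        _ = b * (h.1⁻¹ * k.1) := by group
    · intro e
      calc h.1 * (b * h.1 * b⁻¹)⁻¹ = h.1 * (b * (h.1⁻¹ * k.1)) * k.1⁻¹ * b⁻¹ := by group
        _ = h.1 * (h.1⁻¹ * k.1 * b) * k.1⁻¹ * b⁻¹ := by rw [e]
        _ = k.1 * (b * k.1 * b⁻¹)⁻¹ := by group
  let F : H ⧸ K → X := Quotient.lift φ fun h k hhk =>
    (hφeq h k).mpr (QuotientGroup.leftRel_apply.mp hhk)
  have hFinj : Function.Injective F := by
    intro u v
    induction u using QuotientGroup.induction_on with | _ h => ?_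
    induction v using QuotientGroup.induction_on with | _ k => ?_
    intro e
    exact QuotientGroup.eq.mpr ((hφeq h k).mp e)
  have hFsur : Function.Surjective F := by
    rintro ⟨x, hxH, hxb⟩
    have ho : Odd (orderOf x) :=
      (odd_card_of_pgroup hp hp2 hH).of_dvd_nat (orderOf_dvd_natCard _ hxH)
    obtain ⟨j, hj⟩ := ho
    refine ⟨QuotientGroup.mk (⟨x ^ (j + 1), pow_mem hxH _⟩ : H), Subtype.ext ?_⟩
    show x ^ (j + 1) * (b * x ^ (j + 1) * b⁻¹)⁻¹ = x
    rw [← conj_pow, hxb, inv_pow, inv_inv, ← pow_add,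
      show j + 1 + (j + 1) = orderOf x + 1 by omega, pow_succ, pow_orderOf_eq_one, one_mul]
  have hcard : Nat.card X = K.index := (Nat.card_eq_of_bijective F ⟨hFinj, hFsur⟩).symm
  have hdvd : p ∣ Nat.card X := by
    rw [hcard]
    obtain ⟨n, hn⟩ := hH.index K
    rcases n with _ | n
    · obtain ⟨h, hh, hne⟩ := hmove
      have htop : K = ⊤ := index_eq_one.mp (by simpa using hn)
      have : (⟨h, hh⟩ : H) ∈ K := htop ▸ mem_top _
      rw [hK, mem_subgroupOf, mem_centralizer_singleton_iff] at this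
      exact absurd (mul_inv_eq_iff_eq_mul.mpr this.symm) hne
    · exact hn ▸ dvd_pow_self p (Nat.succ_ne_zero n)
  let x₁ : X := ⟨1, one_mem _, by group⟩
  have h1 : x₁ ∈ MulAction.fixedPoints P X := fun g => Subtype.ext (by
    show g.1 * 1 * g.1⁻¹ = 1
    group)
  obtain ⟨x, hx, hne⟩ := hP.exists_fixed_point_of_prime_dvd_card_of_fixed_point X hdvd h1
  have hx1 : x.1 ≠ 1 := fun e => hne (Subtype.ext e.symm)
  obtain ⟨k, hk⟩ : ∃ k, orderOf x.1 = p ^ k := by
    obtain ⟨k, hk⟩ := IsPGroup.iff_orderOf.mp hH ⟨x.1, x.2.1⟩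
    exact ⟨k, by rw [← hk, Subgroup.orderOf_mk]⟩
  rcases k with _ | k
  · exact absurd (orderOf_eq_one_iff.mp (by simpa using hk)) hx1
  refine ⟨x.1 ^ p ^ k, pow_mem x.2.1 _, ?_, ?_, ?_, ?_⟩
  · intro e
    have := orderOf_dvd_of_pow_eq_one e
    rw [hk] at this
    exact absurd (Nat.le_of_dvd (pow_pos hp.pos _) this)
      (not_le.mpr (pow_lt_pow_right₀ hp.one_lt k.lt_succ_self))
  · rw [← pow_mul, ← pow_succ, ← hk, pow_orderOf_eq_one]
  · rw [← conj_pow, x.2.2, inv_pow]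
  · intro g hg
    have : g * x.1 * g⁻¹ = x.1 := congrArg Subtype.val (hx ⟨g, hg⟩)
    exact (show Commute g x.1 from mul_inv_eq_iff_eq_mul.mp this).pow_right _

/-- Step 1 of the uniqueness argument. -/
theorem exists_triple (hV : IsKleinFour V) (hodd : Odd V.index) (hp : p.Prime) (hp2 : p ≠ 2)
    {P₀ Q : Subgroup G} {r : G} (hrV : r ∈ normalizer (V : Set G))
    (hrc : r ∉ centralizer (V : Set G)) (hP : IsPGroup p P₀)
    (hPV : P₀ ≤ centralizer (V : Set G)) (hrP : r ∈ normalizer (P₀ : Set G))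
    (hrQ : r ∈ normalizer (Q : Set G)) (hPQ : P₀ ≤ normalizer (Q : Set G)) (hQ : IsPGroup p Q)
    (hVQ : V ≤ normalizer (Q : Set G)) (hmove : ¬ V ≤ centralizer (Q : Set G)) {a : G}
    (ha : a ∈ V) (h1 : a ≠ 1) : ∃ x, Triple V P₀ Q p a r x := by
  classical
  haveI : Fact p.Prime := ⟨hp⟩
  -- a minimal invariant subgroup moved by `V`
  let S : Set (Subgroup G) := {R | R ≤ Q ∧ r ∈ normalizer (R : Set G) ∧
    P₀ ≤ normalizer (R : Set G) ∧ V ≤ normalizer (R : Set G) ∧ ¬ V ≤ centralizer (R : Set G)}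
  obtain ⟨R, ⟨hRQ, hrR, hPR, hVR, hRmove⟩, hmin⟩ :=
    (Set.toFinite S).exists_minimal ⟨Q, le_rfl, hrQ, hPQ, hVQ, hmove⟩
  have hmin' : ∀ T : Subgroup G, T ≤ R → T ≠ R → r ∈ normalizer (T : Set G) →
      P₀ ≤ normalizer (T : Set G) → V ≤ normalizer (T : Set G) →
      V ≤ centralizer (T : Set G) := by
    intro T hTR hne hrT hPT hVT
    by_contra h
    exact hne (le_antisymm hTR (hmin ⟨hTR.trans hRQ, hrT, hPT, hVT, h⟩ hTR))
  have hR : IsPGroup p R := hQ.to_le hRQ
  have hRodd := odd_card_of_pgroup hp hp2 hR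
  have hV4 : Nat.card V = 4 := hV.card_four
  have hcop : (Nat.card V).Coprime (Nat.card R) := by
    rw [hV4, show (4 : ℕ) = 2 ^ 2 from rfl]
    exact Nat.Coprime.pow_left 2 (Nat.coprime_two_left.mpr hRodd)
  have hsolv : Group.IsSolvable R := by
    haveI := hR.isNilpotent
    infer_instance
  have hPN : P₀ ≤ normalizer (V : Set G) := fun g hg => by
    refine mem_normalizer_iff.mpr fun y => ⟨fun hy => ?_, fun hy => ?_⟩
    · rw [← mem_centralizer_iff.mp (hPV hg) y hy, mul_inv_cancel_right]; exact hy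
    · have e : y = g⁻¹ * (g * y * g⁻¹) * g := by group
      rw [e, mul_assoc, mem_centralizer_iff.mp (hPV hg) _ hy, ← mul_assoc, inv_mul_cancel, one_mul]
      exact hy
  -- `R = [R, V]`
  have hRV : ⁅R, V⁆ = R := by
    by_contra hne
    refine hRmove ?_
    have hc := hmin' _ (Coprime.commutator_le_of_le_normalizer hVR) hne
      (mem_normalizer_commutator hrR hrV)
      (fun g hg => mem_normalizer_commutator (hPR hg) (hPN hg))
      (fun g hg => mem_normalizer_commutator (hVR hg) (le_normalizer hg))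
    have h2 := Coprime.commutator_commutator_eq V R hVR hcop (Or.inr hsolv)
    rw [commutator_eq_bot_iff_le_centralizer.mpr (le_centralizer_iff.mp hc)] at h2
    exact le_centralizer_iff.mp (commutator_eq_bot_iff_le_centralizer.mp h2.symm)
  -- the derived subgroup is central and fixed
  have hRne : R ≠ ⊥ := by
    rintro rfl
    exact hRmove fun v _ => mem_centralizer_iff.mpr fun y hy => by
      rw [SetLike.mem_coe, mem_bot] at hy
      rw [hy, one_mul, mul_one]
  have hder : ⁅R, R⁆ ≠ R := by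
    intro e
    haveI := hsolv
    haveI : Nontrivial R := (nontrivial_iff_ne_bot R).mpr hRne
    refine (IsSolvable.commutator_lt_top_of_nontrivial ↥R).ne ?_
    apply map_injective R.subtype_injective
    rw [map_subtype_commutator, e, ← MonoidHom.range_eq_map, R.range_subtype]
  have hfix : V ≤ centralizer ((⁅R, R⁆ : Subgroup G) : Set G) :=
    hmin' _ (commutator_le_self R) hder (mem_normalizer_commutator hrR hrR)
      (fun g hg => mem_normalizer_commutator (hPR hg) (hPR hg))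
      (fun g hg => mem_normalizer_commutator (hVR hg) (hVR hg))
  have hcentral : ⁅⁅V, R⁆, ⁅R, R⁆⁆ = ⊥ := by
    have hd : ⁅⁅R, R⁆, V⁆ = ⊥ :=
      commutator_eq_bot_iff_le_centralizer.mpr (le_centralizer_iff.mp hfix)
    refine commutator_commutator_eq_bot_of_rotate ?_ ?_
    · have hle : ⁅R, ⁅R, R⁆⁆ ≤ ⁅R, R⁆ := commutator_mono le_rfl (commutator_le_self R)
      exact le_bot_iff.mp ((commutator_mono hle le_rfl).trans hd.le)
    · rw [hd, commutator_bot_left]
  rw [commutator_comm V R, hRV, commutator_eq_bot_iff_le_centralizer] at hcentral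
  have hzR : ∀ x ∈ R, ∀ y ∈ R, ⁅x, y⁆ ∈ R ∧ (∀ v ∈ V, v * ⁅x, y⁆ * v⁻¹ = ⁅x, y⁆) ∧
      (∀ z ∈ R, Commute ⁅x, y⁆ z) := by
    intro x hx y hy
    have hm := commutator_mem_commutator hx hy
    exact ⟨commutator_le_self R hm,
      fun v hv => by rw [← mem_centralizer_iff.mp (hfix hv) _ hm, mul_inv_cancel_right],
      fun z hz => mem_centralizer_iff.mp (hcentral hz) _ hm⟩
  -- some involution has a moved centralizer
  obtain ⟨b, hab⟩ := exists_pair_of_mem hV ha h1
  obtain ⟨h, hhR, hha, hhb⟩ : ∃ h ∈ R, a * h * a⁻¹ = h ∧ b * h * b⁻¹ ≠ h := by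
    by_contra hne
    push Not at hne
    -- then every centraliser is centralised by `V`
    haveI : IsMulCommutative V := ⟨⟨fun x y => Subtype.ext (klein_comm hV x.2 y.2)⟩⟩
    have hgen := Coprime.iSup_centralizer_eq V R
      (fun hcyc => by haveI := hV; exact (IsKleinFour.not_isCyclic (G := V)) hcyc) hVR hcop
    refine hRmove (le_centralizer_iff.mp ?_)
    refine hgen.symm.le.trans (iSup₂_le fun e he x hx => ?_)
    obtain ⟨he, he1⟩ := he
    obtain ⟨hxR, hxe⟩ := hx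
    replace hxe := mem_centralizer_singleton_iff.mp hxe
    have step : ∀ y ∈ R, y * a = a * y → y ∈ centralizer (V : Set G) := by
      intro y hy hya
      have hya' : a * y * a⁻¹ = y := mul_inv_eq_iff_eq_mul.mpr hya.symm
      have hyb : b * y = y * b := mul_inv_eq_iff_eq_mul.mp (hne y hy hya')
      refine mem_centralizer_iff.mpr fun w hw => ?_
      rcases klein_cases hV hab hw with rfl | rfl | rfl | rfl
      · rw [one_mul, mul_one]
      · exact hya.symm
      · exact hyb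
      · exact ((show Commute a y from hya.symm).mul_left hyb).eq
    have hrC : ∀ y, r * y * r⁻¹ ∈ centralizer (V : Set G) → y ∈ centralizer (V : Set G) := by
      intro y hy
      refine mem_centralizer_iff.mpr fun w hw => ?_
      have h' := mem_centralizer_iff.mp hy (r * w * r⁻¹) ((conj_mem_iff hrV).mpr hw)
      exact (MulAut.conj r).injective (by simpa [map_mul, MulAut.conj_apply, mul_assoc] using h')
    -- back along the orbit
    have back : ∀ f : G, (∀ y ∈ R, y * f = f * y → y ∈ centralizer (V : Set G)) →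
        ∀ y ∈ R, y * (r⁻¹ * f * r) = (r⁻¹ * f * r) * y → y ∈ centralizer (V : Set G) := by
      intro f hf y hy hyf
      refine hrC y (hf _ ((conj_mem_iff hrR).mpr hy) ?_)
      calc r * y * r⁻¹ * f = r * (y * (r⁻¹ * f * r)) * r⁻¹ := by group
        _ = r * ((r⁻¹ * f * r) * y) * r⁻¹ := by rw [hyf]
        _ = f * (r * y * r⁻¹) := by group
    rcases fusing_orbit hV hodd hrV hrc he he1 ha h1 with h' | h' | h'
    · exact step x hxR (h' ▸ hxe)
    · refine back a step x hxR ?_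
      rw [h', show r⁻¹ * (r * e * r⁻¹) * r = e by group]
      exact hxe
    · refine back _ (back a step) x hxR ?_
      rw [h', show r⁻¹ * (r⁻¹ * (r * (r * e * r⁻¹) * r⁻¹) * r) * r = e by group]
      exact hxe
  -- a fixed inverted element
  set H := R ⊓ centralizer ({a} : Set G) with hH
  have hbV : ∀ g ∈ P₀, ∀ v ∈ V, g * v = v * g := fun g hg v hv =>
    (mem_centralizer_iff.mp (hPV hg) v hv).symm
  have hCn : ∀ g : G, g * a = a * g → g ∈ normalizer (centralizer ({a} : Set G) : Set G) :=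
    fun g hg => le_normalizer (mem_centralizer_singleton_iff.mpr hg)
  obtain ⟨x, hxH, hx1, hxp, hxb, hxP⟩ := exists_fixed_inverted hp hp2
    (hR.to_le (inf_le_left : H ≤ R)) hP
    (Coprime.le_normalizer_inf hPR fun g hg => hCn g (hbV g hg a ha))
    (klein_sq hV hab.hb)
    (Coprime.le_normalizer_inf hVR (fun v hv => hCn v (klein_comm hV hv ha)) hab.hb)
    (fun g hg => hbV g hg b hab.hb)
    ⟨h, ⟨hhR, mem_centralizer_singleton_iff.mpr (mul_inv_eq_iff_eq_mul.mp hha).symm⟩, hhb⟩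
  obtain ⟨hxR, hxC⟩ := hxH
  replace hxC := mem_centralizer_singleton_iff.mp hxC
  have hinv := inv_of_pair hV hab hxC hxb
  set y := r * x * r⁻¹ with hy
  set z := r * y * r⁻¹ with hz
  have hyR : y ∈ R := (conj_mem_iff hrR).mpr hxR
  have hzR' : z ∈ R := (conj_mem_iff hrR).mpr hyR
  obtain ⟨hn1, hn2⟩ := fusing_ne hV hodd hrV hrc ha h1
  set a₂ := r * a * r⁻¹ with ha₂
  have ha₂V : a₂ ∈ V := (conj_mem_iff hrV).mpr ha
  have ha₂1 : a₂ ≠ 1 := fun e => h1 (conj_eq_one_iff.mp e)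
  have hodd' : ∀ w ∈ R, Odd (orderOf w) := fun w hw =>
    hRodd.of_dvd_nat (orderOf_dvd_natCard _ hw)
  have hya : a * y * a⁻¹ = y⁻¹ := by
    have e₀ : r⁻¹ * a * r ∈ V := by
      have := (conj_mem_iff (inv_mem hrV) (x := a)).mpr ha
      rwa [inv_inv] at this
    have e1 : r⁻¹ * a * r ≠ 1 := fun e => h1 (by
      rw [show a = r * (r⁻¹ * a * r) * r⁻¹ by group, e]; group)
    have e2 : r⁻¹ * a * r ≠ a := fun e => hn1 (by
      calc r * a * r⁻¹ = r * (r⁻¹ * a * r) * r⁻¹ := by rw [e]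
        _ = a := by group)
    have := hinv _ e₀ e1 e2
    calc a * y * a⁻¹ = r * ((r⁻¹ * a * r) * x * (r⁻¹ * a * r)⁻¹) * r⁻¹ := by rw [hy]; group
      _ = y⁻¹ := by rw [this, hy]; group
  have hza : a * z * a⁻¹ = z⁻¹ := by
    set e := r⁻¹ * (r⁻¹ * a * r) * r with he
    have hr2 : r * r ∈ normalizer (V : Set G) := mul_mem hrV hrV
    have hea : r * (r * e * r⁻¹) * r⁻¹ = a := by rw [he]; group
    have e₀ : e ∈ V := by
      have := (conj_mem_iff (inv_mem hr2) (x := a)).mpr ha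
      rw [inv_inv] at this
      rw [he]
      convert this using 1
      group
    have e1 : e ≠ 1 := fun e' => h1 (by rw [← hea, e']; group)
    have e2 : e ≠ a := fun e' => hn2 (by rw [e'] at hea; exact hea)
    have := hinv e e₀ e1 e2
    calc a * z * a⁻¹ = r * (r * (e * x * e⁻¹) * r⁻¹) * r⁻¹ := by rw [hz, hy, ← hea]; group
      _ = z⁻¹ := by rw [this, hz, hy]; simp [mul_inv_rev, mul_assoc]
  have hax : a * x * a⁻¹ = x := by rw [← hxC]; group
  have c12 : Commute x y := commute_of_eigen hax hya ((hzR x hxR y hyR).2.1 a ha)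
    ((hzR x hxR y hyR).2.2 y hyR) (hodd' _ (hzR x hxR y hyR).1)
  have c13 : Commute x z := commute_of_eigen hax hza ((hzR x hxR z hzR').2.1 a ha)
    ((hzR x hxR z hzR').2.2 z hzR') (hodd' _ (hzR x hxR z hzR').1)
  have c23 : Commute y z := by
    refine show r * x * r⁻¹ * z = z * (r * x * r⁻¹) from ?_
    calc r * x * r⁻¹ * z = r * (x * y) * r⁻¹ := by rw [hz]; group
      _ = r * (y * x) * r⁻¹ := by rw [c12.eq]
      _ = z * (r * x * r⁻¹) := by rw [hz]; group
  have hPy : ∀ w, (∀ g ∈ P₀, g * w = w * g) → ∀ g ∈ P₀, g * (r * w * r⁻¹) = r * w * r⁻¹ * g := by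
    intro w hw g hg
    have h' : r⁻¹ * g * r ∈ P₀ := by
      have := (conj_mem_iff (inv_mem hrP) (x := g)).mpr hg
      rwa [inv_inv] at this
    calc g * (r * w * r⁻¹) = r * ((r⁻¹ * g * r) * w) * r⁻¹ := by group
      _ = r * (w * (r⁻¹ * g * r)) * r⁻¹ := by rw [hw _ h']
      _ = r * w * r⁻¹ * g := by group
  refine ⟨x, hRQ hxR, hRQ hyR, hRQ hzR', hx1, hxp, hxC, hinv, c12, c13, c23, ?_⟩
  intro g hg
  refine mem_centralizer_iff.mpr fun w hw => ?_
  rcases hw with rfl | rfl | rfl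
  · exact (hxP g hg).symm
  · exact (hPy x hxP g hg).symm
  · exact (hPy y (hPy x hxP) g hg).symm


namespace Triple

variable {P₀ Q : Subgroup G} {a r x : G}

/-- The subgroup generated by the three elements lies in `Q`. -/
theorem closure_le (t : Triple V P₀ Q p a r x) :
    Subgroup.closure ({x, r * x * r⁻¹, r * (r * x * r⁻¹) * r⁻¹} : Set G) ≤ Q := by
  rw [Subgroup.closure_le]
  rintro w (rfl | rfl | rfl)
  exacts [t.mem, t.mem₂, t.mem₃]

theorem closure_comm (t : Triple V P₀ Q p a r x) :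
    IsMulCommutative
      ↥(Subgroup.closure ({x, r * x * r⁻¹, r * (r * x * r⁻¹) * r⁻¹} : Set G)) := by
  refine Subgroup.isMulCommutative_closure fun u hu v hv => ?_
  rcases hu with rfl | rfl | rfl <;> rcases hv with rfl | rfl | rfl
  exacts [rfl, t.comm₁₂.eq, t.comm₁₃.eq, t.comm₁₂.eq.symm, rfl, t.comm₂₃.eq, t.comm₁₃.eq.symm,
    t.comm₂₃.eq.symm, rfl]

theorem closure_pow (t : Triple V P₀ Q p a r x) :
    ∀ g ∈ Subgroup.closure ({x, r * x * r⁻¹, r * (r * x * r⁻¹) * r⁻¹} : Set G), g ^ p = 1 := by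
  intro g hg
  induction hg using Subgroup.closure_induction with
  | mem w hw =>
    rcases hw with rfl | rfl | rfl
    · exact t.pow
    · rw [conj_pow, t.pow]; group
    · rw [conj_pow, conj_pow, t.pow]; group
  | one => exact one_pow p
  | mul u v hu hv hu' hv' =>
    have hc : Commute u v := by
      have h := t.closure_comm.is_comm.comm ⟨u, hu⟩ ⟨v, hv⟩
      exact congrArg Subtype.val h
    rw [hc.mul_pow, hu', hv', one_mul]
  | inv u _ hu' => rw [inv_pow, hu', inv_one]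

theorem le_centralizer (t : Triple V P₀ Q p a r x) :
    P₀ ≤ centralizer
      ((Subgroup.closure ({x, r * x * r⁻¹, r * (r * x * r⁻¹) * r⁻¹} : Set G) : Subgroup G) :
        Set G) := by
  rw [Subgroup.centralizer_closure]
  exact t.cent

end Triple

end Cfsg.Agent.GW66
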