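import Cfsg.Agent.GW66.BaseW
import Cfsg.Agent.GW66.BaseLocal
import Cfsg.Agent.GW66.BaseZJ
import Cfsg.Agent.GW66.Minimal

/-!
# The base case: no invariant `p`-group over a full Sylow subgroup of `O(C(V))` is moved by `V`
-/

set_option autoImplicit false
set_option linter.style.haveILetI false

namespace Cfsg.Agent.GW66

open Subgroup

universe u

namespace Base

variable {G : Type u} [Group G] [Finite G] {p : ℕ} [hp : Fact p.Prime]

omit [Finite G] hp in
/-- Elements of a join with a centralising cyclic subgroup. -/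
theorem exists_mul_zpow {A : Subgroup G} {z : G} (hc : ∀ x ∈ A, Commute x z) {g : G}
    (hg : g ∈ A ⊔ zpowers z) : ∃ x ∈ A, ∃ i : ℤ, g = x * z ^ i := by
  have hn : zpowers z ≤ normalizer (A : Set G) := (zpowers_le.mpr
    (mem_centralizer_iff.mpr fun x hx => (hc x hx).eq)).trans (centralizer_le_normalizer _)
  rw [← SetLike.mem_coe, coe_mul_of_right_le_normalizer_left _ _ hn] at hg
  obtain ⟨x, hx, w, ⟨i, rfl⟩, rfl⟩ := hg
  exact ⟨x, hx, i, rfl⟩

omit [Finite G] hp in
/-- Adjoining an element of order `p` centralising an elementary abelian subgroup. -/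
theorem elementary_sup_zpowers {A : Subgroup G} (hA : Cfsg.IsElementaryAbelian p A) {z : G}
    (hz : z ^ p = 1) (hc : ∀ x ∈ A, Commute x z) :
    Cfsg.IsElementaryAbelian p (A ⊔ zpowers z : Subgroup G) := by
  refine H40.elementary_iff.mpr ⟨fun g hg h hh => ?_, fun g hg => ?_⟩
  · obtain ⟨x, hx, i, rfl⟩ := exists_mul_zpow hc hg
    obtain ⟨y, hy, j, rfl⟩ := exists_mul_zpow hc hh
    have c1 : Commute x y := H40.elementary_comm hA hx hy
    exact ((c1.mul_right ((hc x hx).zpow_right j)).mul_left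
      (((hc y hy).zpow_right i).symm.mul_right ((Commute.refl z).zpow_zpow i j))).eq
  · obtain ⟨x, hx, i, rfl⟩ := exists_mul_zpow hc hg
    rw [((hc x hx).zpow_right i).mul_pow, hA.2 x hx, one_mul, ← zpow_natCast, ← zpow_mul, mul_comm,
      zpow_mul, zpow_natCast, hz, one_zpow]

/-- An element of order `p` equal to its inverse. -/
theorem eq_one_of_inv (hp2 : p ≠ 2) {u : G} (hu : u ^ p = 1) (h : u = u⁻¹) : u = 1 :=
  eq_one_of_sq ((hp.out.odd_of_ne_two hp2).of_dvd_nat (orderOf_dvd_of_pow_eq_one hu)) h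

omit [Finite G] hp in
/-- The eigen data of the conjugate by an element normalising `V`. -/
theorem conj_eigen {V : Subgroup G} {r a x : G} (hr : r ∈ normalizer (V : Set G))
    (hxa : x * a = a * x) (hinv : ∀ e ∈ V, e ≠ 1 → e ≠ a → e * x * e⁻¹ = x⁻¹) :
    r * x * r⁻¹ * (r * a * r⁻¹) = r * a * r⁻¹ * (r * x * r⁻¹) ∧
      ∀ e ∈ V, e ≠ 1 → e ≠ r * a * r⁻¹ → e * (r * x * r⁻¹) * e⁻¹ = (r * x * r⁻¹)⁻¹ := by
  refine ⟨?_, fun e he he1 hea => ?_⟩
  · calc r * x * r⁻¹ * (r * a * r⁻¹) = r * (x * a) * r⁻¹ := by group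
      _ = r * a * r⁻¹ * (r * x * r⁻¹) := by rw [hxa]; group
  · have h1 : r⁻¹ * e * r ≠ 1 := fun h => he1 (by
      rw [show e = r * (r⁻¹ * e * r) * r⁻¹ by group, h]; group)
    have h2 : r⁻¹ * e * r ≠ a := fun h => hea (by rw [← h]; group)
    calc e * (r * x * r⁻¹) * e⁻¹ = r * (r⁻¹ * e * r * x * (r⁻¹ * e * r)⁻¹) * r⁻¹ := by group
      _ = (r * x * r⁻¹)⁻¹ := by
        rw [hinv _ ((mem_normalizer_iff''.mp hr e).mp he) h1 h2]; group

/-- The order after adjoining a further element of order `p`. -/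
theorem card_sup_zpowers {A : Subgroup G} {z : G} (hz : orderOf z = p)
    (hzn : zpowers z ≤ normalizer (A : Set G)) (hzA : z ∉ A) :
    Nat.card ↥(A ⊔ zpowers z) = Nat.card A * p := by
  have hinf : A ⊓ zpowers z = ⊥ := by
    by_contra h
    have hd := card_dvd_of_le (inf_le_right : A ⊓ zpowers z ≤ zpowers z)
    rw [Nat.card_zpowers, hz] at hd
    rcases (Nat.dvd_prime hp.out).mp hd with h1 | h1
    · exact h (card_eq_one.mp h1)
    · have he : A ⊓ zpowers z = zpowers z :=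
        eq_of_le_of_card_ge inf_le_right (by rw [h1, Nat.card_zpowers, hz])
      exact hzA (inf_eq_right.mp he (mem_zpowers z))
  have h := Thompson.card_sup_mul_card_inf hzn
  rw [hinf, card_bot, mul_one, Nat.card_zpowers, hz] at h
  exact h

omit [Finite G] hp in
/-- An element normalising both subgroups normalises their join. -/
theorem mem_normalizer_sup {A B : Subgroup G} {g : G} (hA : g ∈ normalizer (A : Set G))
    (hB : g ∈ normalizer (B : Set G)) : g ∈ normalizer ((A ⊔ B : Subgroup G) : Set G) := by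
  refine Coprime.le_normalizer_of_conj_mem (A := normalizer (A : Set G) ⊓ normalizer (B : Set G))
    (fun n hn => ?_) ⟨hA, hB⟩
  have h : A ⊔ B ≤ (A ⊔ B).comap (MulAut.conj n).toMonoidHom :=
    sup_le (fun w hw => mem_sup_left ((mem_normalizer_iff.mp hn.1 w).mp hw))
      (fun w hw => mem_sup_right ((mem_normalizer_iff.mp hn.2 w).mp hw))
  exact fun w hw => h hw

/-- What steps 3 and 4 give: a proper subgroup with the local data. -/
theorem exists_localData {V : Subgroup G} (hc : Ctx V) (hp2 : p ≠ 2)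
    (hcon : BaseW.PCon G p) {E : Subgroup G} (hE : Cfsg.IsElementaryAbelian p E)
    (hE3 : p ^ 3 ≤ Nat.card E) :
    ∃ (X : Subgroup G) (Comp : Subgroup G → Prop), X ≠ ⊤ ∧ BaseLocal.LocalData p X E Comp := by
  haveI := hc.simple
  have hW : ∀ {A : Subgroup G}, BaseZJ.Comp p E A → BaseW.W p A = BaseW.W p E := by
    intro A hA
    induction hA with
    | refl => rfl
    | tail _ hAB ih =>
      obtain ⟨hA, hB, P, hP, hAP, hBP⟩ := hAB
      exact (BaseW.W_eq_of_pGroup hcon hP hA.1 hA.2 hAP hB.1 hB.2 hBP).symm.trans ih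
  have hbig : ∀ {A : Subgroup G}, BaseZJ.Comp p E A → BaseZJ.Big p A := by
    intro A hA
    cases hA with
    | refl => exact ⟨hE, hE3⟩
    | tail _ hAB => exact hAB.2.1
  have hclosed : ∀ A B P : Subgroup G, BaseZJ.Comp p E A → IsPGroup p P → A ≤ P → B ≤ P →
      Cfsg.IsElementaryAbelian p B → p ^ 3 ≤ Nat.card B → BaseZJ.Comp p E B :=
    fun A B P hA hP hAP hBP hB hB3 =>
      Relation.ReflTransGen.tail hA ⟨hbig hA, ⟨hB, hB3⟩, P, hP, hAP, hBP⟩
  have hcore : ∀ (A : Subgroup G) (s : G), BaseZJ.Comp p E A → s ∈ A → s ≠ 1 →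
      Cfsg.centralizerPPrimeCore p s ≤ BaseW.W p E :=
    fun A s hA hs hs1 => (BaseW.le_W hs hs1).trans_eq (hW hA)
  by_cases hW1 : BaseW.W p E = ⊥
  · obtain ⟨X, hX, hN⟩ := BaseZJ.exists_uniqueness hc hp2 ⟨hE, hE3⟩
      (fun A s hA hs hs1 => le_bot_iff.mp ((hcore A s hA hs hs1).trans_eq hW1)) hcon.constrained
    exact ⟨X, _, hX, Relation.ReflTransGen.refl, hclosed, hN,
      fun A s hA hs hs1 => ((hcore A s hA hs hs1).trans_eq hW1).trans bot_le⟩
  · refine ⟨normalizer (BaseW.W p E : Set G), _, BaseW.normalizer_W_ne_top hcon hE hE3 hW1,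
      Relation.ReflTransGen.refl, hclosed, fun A T hA hT hAT => ?_,
      fun A s hA hs hs1 => (hcore A s hA hs hs1).trans le_normalizer⟩
    have h := BaseW.normalizer_le_of_pGroup hcon hT (hbig hA).1 (hbig hA).2 hAT
    rwa [hW hA] at h

end Base

/-- No invariant `p`-subgroup over a full Sylow subgroup of `O(C(V))` is moved by `V`. -/
theorem base (hTop : TopStmt.{u}) (hSE : SEKillStmt.{u}) : BaseStmt.{u} := by
  intro G _ _ V hc p hp hdvd P₀ Q r hP₀ hP₀p hsyl hrV hrc hrP hrQ hPQ hQ hVQ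
  by_contra hmove
  haveI := Fact.mk hp
  have hp2 : p ≠ 2 := by
    rintro rfl
    exact Nat.not_even_iff_odd.mpr (odd_card_coreD V) (even_iff_two_dvd.mpr hdvd)
  have hPV : P₀ ≤ centralizer (V : Set G) := hP₀.trans (le_centralizer_coreD V)
  have hP0ne : P₀ ≠ ⊥ := fun h => hsyl (by rw [h, relIndex_bot_left]; exact hdvd)
  obtain ⟨a, ha, ha1⟩ : ∃ a ∈ V, a ≠ 1 := by
    by_contra! h
    have h4 := hc.klein.card_four
    rw [(eq_bot_iff_forall V).mpr h, card_bot] at h4
    omega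
  obtain ⟨x, t⟩ :=
    exists_triple hc.klein hc.sylow hp hp2 hrV hrc hP₀p hPV hrP hrQ hPQ hQ hVQ hmove ha ha1
  set b := r * a * r⁻¹ with hbdef
  set y := r * x * r⁻¹ with hydef
  have hba : b ≠ a := fun e => hrc
    (centralizes_of_fix hc.klein hc.sylow hrV ha ha1 (mul_inv_eq_iff_eq_mul.mp e))
  have hab : Pair V a b :=
    ⟨ha, (mem_normalizer_iff.mp hrV a).mp ha, ha1, fun e => ha1 (conj_eq_one_iff.mp e), hba.symm⟩
  have hxo : orderOf x = p := orderOf_eq_prime t.pow t.ne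
  have hyo : orderOf y = p := by
    rw [hydef, show r * x * r⁻¹ = MulAut.conj r x from rfl, MulEquiv.orderOf_eq, hxo]
  have hxb : b * x * b⁻¹ = x⁻¹ := t.inv b hab.hb hab.b1 hba
  obtain ⟨hyb, hyinv⟩ := Base.conj_eigen hrV t.comm t.inv
  have hya : a * y * a⁻¹ = y⁻¹ := hyinv a ha ha1 hba.symm
  set w := r * y * r⁻¹ with hwdef
  set c := r * b * r⁻¹ with hcdef
  obtain ⟨hwc, hwinv⟩ := Base.conj_eigen hrV hyb hyinv
  have hca : c ≠ a := (fusing_ne hc.klein hc.sylow hrV hrc ha ha1).2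
  have hcb : c ≠ b := (fusing_ne hc.klein hc.sylow hrV hrc hab.hb hab.b1).1
  have hwa : a * w * a⁻¹ = w⁻¹ := hwinv a ha ha1 hca.symm
  have hxc : c * x * c⁻¹ = x⁻¹ := t.inv c ((mem_normalizer_iff.mp hrV b).mp hab.hb)
    (fun e => hab.b1 (conj_eq_one_iff.mp e)) hca
  have hyc : c * y * c⁻¹ = y⁻¹ := hyinv c ((mem_normalizer_iff.mp hrV b).mp hab.hb)
    (fun e => hab.b1 (conj_eq_one_iff.mp e)) hcb
  have hwo : orderOf w = p := by
    rw [hwdef, show r * y * r⁻¹ = MulAut.conj r y from rfl, MulEquiv.orderOf_eq, hyo]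
  have hcent : ∀ g ∈ ({x, y, r * y * r⁻¹} : Set G), P₀ ≤ centralizer ({g} : Set G) :=
    fun g hg => t.cent.trans (centralizer_le (Set.singleton_subset_iff.mpr hg))
  have hcon := BaseW.pCon hTop hc hp2 hP₀ hP₀p hsyl hab hxo hyo t.comm hxb hyb hya t.comm₁₂.eq
    (hcent x (Or.inl rfl)) (hcent y (Or.inr (Or.inl rfl)))
  -- an element of order `p` of `P₀`
  obtain ⟨z, hzP, hzo⟩ : ∃ z ∈ P₀, orderOf z = p := by
    haveI : Nontrivial P₀ := (nontrivial_iff_ne_bot P₀).mpr hP0ne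
    obtain ⟨n, hn⟩ := IsPGroup.iff_card.mp hP₀p
    have hd : p ∣ Nat.card P₀ := by
      rw [hn]
      refine dvd_pow_self p ?_
      rintro rfl
      rw [pow_zero] at hn
      exact Finite.one_lt_card.ne' hn
    obtain ⟨w, hw⟩ := exists_prime_orderOf_dvd_card' p hd
    exact ⟨(w : G), w.2, by rw [orderOf_coe, hw]⟩
  have hzp : z ^ p = 1 := hzo ▸ pow_orderOf_eq_one z
  have hz1 : z ≠ 1 := fun e => by rw [e, orderOf_one] at hzo; exact hp.ne_one hzo.symm
  have hzV : z ∈ centralizer (V : Set G) := hPV hzP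
  -- an elementary abelian subgroup of order `p ^ 4`
  have hone : ∀ u : G, u ∈ zpowers x → ∃ i : ℤ, u = x ^ i := fun u ⟨i, hi⟩ => ⟨i, hi.symm⟩
  have he1 : Cfsg.IsElementaryAbelian p (zpowers x) := H40.elementary_iff.mpr ⟨
    fun u hu v hv => by
      obtain ⟨i, rfl⟩ := hone u hu
      obtain ⟨j, rfl⟩ := hone v hv
      exact ((Commute.refl x).zpow_zpow i j).eq,
    fun u hu => by
      obtain ⟨i, rfl⟩ := hone u hu
      rw [← zpow_natCast, ← zpow_mul, mul_comm, zpow_mul, zpow_natCast, t.pow, one_zpow]⟩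
  have hzx : Commute x z := mem_centralizer_singleton_iff.mp (hcent x (Or.inl rfl) hzP) |>.symm
  have hzy : Commute y z :=
    mem_centralizer_singleton_iff.mp (hcent y (Or.inr (Or.inl rfl)) hzP) |>.symm
  have hzw : Commute w z :=
    mem_centralizer_singleton_iff.mp (hcent w (Or.inr (Or.inr rfl)) hzP) |>.symm
  have hc1 : ∀ u ∈ zpowers x, Commute u y := fun u hu => by
    obtain ⟨i, rfl⟩ := hone u hu
    exact t.comm₁₂.zpow_left i
  have he2 := Base.elementary_sup_zpowers he1 (hyo ▸ pow_orderOf_eq_one y) hc1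
  set A2 := zpowers x ⊔ zpowers y with hA2def
  have hc2 : ∀ u ∈ A2, Commute u w := fun u hu => by
    obtain ⟨v, hv, j, rfl⟩ := Base.exists_mul_zpow hc1 hu
    obtain ⟨i, rfl⟩ := hone v hv
    exact (t.comm₁₃.zpow_left i).mul_left (t.comm₂₃.zpow_left j)
  have he3 := Base.elementary_sup_zpowers he2 (hwo ▸ pow_orderOf_eq_one w) hc2
  set E3 := A2 ⊔ zpowers w with hE3def
  have hc3 : ∀ u ∈ E3, Commute u z := fun u hu => by
    obtain ⟨v, hv, k, rfl⟩ := Base.exists_mul_zpow hc2 hu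
    obtain ⟨v, hv', j, rfl⟩ := Base.exists_mul_zpow hc1 hv
    obtain ⟨i, rfl⟩ := hone v hv'
    exact ((hzx.zpow_left i).mul_left (hzy.zpow_left j)).mul_left (hzw.zpow_left k)
  have hfix : ∀ {e u : G}, Commute u e → e * u * e⁻¹ = u := fun h => by
    rw [← h.eq, mul_inv_cancel_right]
  have hy2 : y ∉ zpowers x := fun h => by
    obtain ⟨i, hi⟩ := hone y h
    have h' : y = y⁻¹ := by
      conv_lhs => rw [← hfix (e := a) (u := y) (hi ▸ (show Commute x a from t.comm).zpow_left i)]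
      exact hya
    exact hp.ne_one (by
      rw [← hyo, Base.eq_one_of_inv hp2 (hyo ▸ pow_orderOf_eq_one y) h', orderOf_one])
  have hw3 : w ∉ A2 := fun h => by
    obtain ⟨v, hv, j, e⟩ := Base.exists_mul_zpow hc1 h
    obtain ⟨i, rfl⟩ := hone v hv
    have h' : w = w⁻¹ := by
      conv_lhs => rw [← hfix (e := c) (u := w) hwc]
      rw [e, ← conj_mul, ← conj_zpow, ← conj_zpow, hxc, hyc, inv_zpow, inv_zpow,
        (t.comm₁₂.zpow_zpow i j).eq, mul_inv_rev]
    exact hp.ne_one (by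
      rw [← hwo, Base.eq_one_of_inv hp2 (hwo ▸ pow_orderOf_eq_one w) h', orderOf_one])
  have hz4 : z ∉ E3 := fun h => by
    obtain ⟨v, hv, k, e⟩ := Base.exists_mul_zpow hc2 h
    obtain ⟨v, hv', j, rfl⟩ := Base.exists_mul_zpow hc1 hv
    obtain ⟨i, rfl⟩ := hone v hv'
    have hu : y ^ j * w ^ k ∈ E3 := mul_mem (mem_sup_left (mem_sup_right (zpow_mem_zpowers y j)))
      (mem_sup_right (zpow_mem_zpowers w k))
    have h1 : a * (x ^ i * y ^ j * w ^ k) * a⁻¹ = x ^ i * (y ^ j * w ^ k)⁻¹ := by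
      rw [← conj_mul, ← conj_mul, ← conj_zpow, ← conj_zpow, ← conj_zpow,
        hfix (show Commute x a from t.comm), hya, hwa, inv_zpow, inv_zpow,
        (t.comm₂₃.zpow_zpow j k).eq, mul_inv_rev, mul_assoc]
    have hza : Commute z a := (mem_centralizer_iff.mp hzV a ha).symm
    rw [← e, hfix hza] at h1
    have h2 : y ^ j * w ^ k = (y ^ j * w ^ k)⁻¹ := by
      rw [e, mul_assoc] at h1
      exact mul_left_cancel h1
    rw [Base.eq_one_of_inv hp2 (he3.2 _ hu) h2] at h1
    rw [inv_one, mul_one] at h1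
    have hzb : Commute z b := (mem_centralizer_iff.mp hzV b hab.hb).symm
    refine hz1 (Base.eq_one_of_inv hp2 hzp ?_)
    conv_lhs => rw [← hfix hzb]
    rw [h1, ← conj_zpow, hxb, inv_zpow]
  set E := E3 ⊔ zpowers z with hEdef
  have hE : Cfsg.IsElementaryAbelian p E := Base.elementary_sup_zpowers he3 hzp hc3
  have hle : ∀ {A : Subgroup G} {u : G}, (∀ v ∈ A, Commute v u) →
      zpowers u ≤ normalizer (A : Set G) := fun h => (zpowers_le.mpr
    (mem_centralizer_iff.mpr fun v hv => (h v hv).eq)).trans (centralizer_le_normalizer _)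
  have hE4 : p ^ 4 ≤ Nat.card E := by
    rw [hEdef, Base.card_sup_zpowers hzo (hle hc3) hz4, hE3def,
      Base.card_sup_zpowers hwo (hle hc2) hw3, hA2def, Base.card_sup_zpowers hyo (hle hc1) hy2,
      Nat.card_zpowers, hxo, pow_succ, pow_succ, pow_two]
  obtain ⟨X, Comp, hX, d⟩ := Base.exists_localData hc hp2 hcon hE
    ((Nat.pow_le_pow_right hp.pos (by norm_num)).trans hE4)
  have hxE3 : zpowers x ≤ E3 := le_sup_left.trans le_sup_left
  set A := zpowers x ⊔ zpowers z with hAdef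
  have hzA : z ∉ zpowers x := fun h => hz4 (hxE3 h)
  have hA2 : p ^ 2 ≤ Nat.card A := by
    rw [hAdef, Base.card_sup_zpowers hzo (hle fun v hv => hc3 v (hxE3 hv)) hzA, Nat.card_zpowers,
      hxo, pow_two]
  have hAa : A ≤ coreK a := by
    refine sup_le (zpowers_le.mpr ?_) (zpowers_le.mpr ?_)
    · rw [mem_coreK_iff hc.klein hc.sylow ha ha1, hxo]
      exact ⟨hp.odd_of_ne_two hp2, t.comm⟩
    · exact coreD_le_coreK hc.klein hc.sylow ha ha1 (hP₀ hzP)
  refine BaseLocal.false_of_local hSE hc hp hdvd d hX hE hE4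
    (fun s hs hs1 => hcon.constrained s hs1 (BaseW.exists_pow_of_mem hE hs hs1)) ha ha1
    (sup_le (hxE3.trans le_sup_left) le_sup_right) hA2 hAa
    (T := Q ⊔ P₀) (hQ.to_sup_of_normal_left' hP₀p hPQ)
    (sup_le (sup_le (sup_le (zpowers_le.mpr (mem_sup_left t.mem))
      (zpowers_le.mpr (mem_sup_left t.mem₂))) (zpowers_le.mpr (mem_sup_left t.mem₃)))
      ((zpowers_le.mpr hzP).trans le_sup_right)) ?_ hrV hrc ?_
  · exact fun v hv => Base.mem_normalizer_sup (hVQ hv) (centralizer_le_normalizer _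
      (mem_centralizer_iff.mpr fun g hg => (mem_centralizer_iff.mp (hPV hg) v hv).symm))
  · exact Base.mem_normalizer_sup hrQ hrP

end Cfsg.Agent.GW66
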