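import Cfsg.Agent.PLocalB.LocalConstrained
import Cfsg.Agent.Signal38.Basic
import Cfsg.Agent.SFT49.Complete
import Cfsg.Agent.OddLocal44.RankThree
import Cfsg.Agent.H40.NormalRank

/-!
# The signalizer functor `e ↦ O_{p'}(C(e))` when the centralisers of `p`-elements are constrained

Step 3 of `Base.lean`.
-/

set_option autoImplicit false
set_option linter.style.haveILetI false
set_option linter.unusedSectionVars false

namespace Cfsg.Agent.GW66.BaseW

open Subgroup

universe u

variable {G : Type u} [Group G] [Finite G] {p : ℕ}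

/-- Every centraliser of a nontrivial `p`-element is constrained, with solvable `p'`-core. -/
structure PCon (G : Type u) [Group G] (p : ℕ) : Prop where
  constrained : ∀ f : G, f ≠ 1 → (∃ k : ℕ, orderOf f = p ^ k) →
    Cfsg.IsPConstrained p ↥(centralizer ({f} : Set G))
  solvable : ∀ f : G, f ≠ 1 → (∃ k : ℕ, orderOf f = p ^ k) →
    Group.IsSolvable ↥(Cfsg.centralizerPPrimeCore p f)

/-- The closure of the functor on `A`. -/
def W (p : ℕ) (A : Subgroup G) : Subgroup G :=
  Cfsg.signalizerClosure A (fun a => Cfsg.centralizerPPrimeCore p a)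

/-- An elementary abelian subgroup of order at least `p ^ 2`. -/
def IsBig (p : ℕ) (A : Subgroup G) : Prop :=
  Cfsg.IsElementaryAbelian p A ∧ p ^ 2 ≤ Nat.card A

theorem le_W {A : Subgroup G} {a : G} (ha : a ∈ A) (ha1 : a ≠ 1) :
    Cfsg.centralizerPPrimeCore p a ≤ W p A :=
  le_iSup (fun a : {a : G // a ∈ A ∧ a ≠ 1} => Cfsg.centralizerPPrimeCore p (a : G)) ⟨a, ha, ha1⟩

theorem W_le {A H : Subgroup G}
    (h : ∀ a ∈ A, a ≠ 1 → Cfsg.centralizerPPrimeCore p a ≤ H) : W p A ≤ H :=
  iSup_le fun ⟨a, ha, ha1⟩ => h a ha ha1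

theorem W_mono {A B : Subgroup G} (h : A ≤ B) : W p A ≤ W p B :=
  W_le fun _ ha ha1 => le_W (h ha) ha1

theorem commute_of_mem {A : Subgroup G} (hA : Cfsg.IsElementaryAbelian p A) {x y : G}
    (hx : x ∈ A) (hy : y ∈ A) : Commute x y :=
  H40.elementary_comm hA hx hy

/-- Conjugation permutes the cores of centralisers. -/
theorem conj_mem_core {f x : G} (g : G) (hx : x ∈ Cfsg.centralizerPPrimeCore p f) :
    g * x * g⁻¹ ∈ Cfsg.centralizerPPrimeCore p (g * f * g⁻¹) := by
  suffices h : (Cfsg.centralizerPPrimeCore p f).map (MulAut.conj g).toMonoidHom ≤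
      Cfsg.centralizerPPrimeCore p (g * f * g⁻¹) from h ⟨x, hx, by simp⟩
  refine Signal38.le_centralizerPPrimeCore_of_le_normalizer ?_ ?_ ?_
  · rintro _ ⟨y, hy, rfl⟩
    refine mem_centralizer_singleton_iff.mpr ?_
    have h1 : y * f = f * y := mem_centralizer_singleton_iff.mp (Subgroup.map_subtype_le _ hy)
    simp only [MulEquiv.coe_toMonoidHom, MulAut.conj_apply]
    calc g * y * g⁻¹ * (g * f * g⁻¹) = g * (y * f) * g⁻¹ := by group
      _ = g * (f * y) * g⁻¹ := by rw [h1]
      _ = g * f * g⁻¹ * (g * y * g⁻¹) := by group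
  · refine Coprime.le_normalizer_of_conj_mem fun c hc y hy => ?_
    obtain ⟨y, hy, rfl⟩ := hy
    have hc' : g⁻¹ * c * g ∈ centralizer ({f} : Set G) := by
      rw [mem_centralizer_singleton_iff] at hc ⊢
      calc g⁻¹ * c * g * f = g⁻¹ * (c * (g * f * g⁻¹)) * g := by group
        _ = g⁻¹ * (g * f * g⁻¹ * c) * g := by rw [hc]
        _ = f * (g⁻¹ * c * g) := by group
    refine ⟨g⁻¹ * c * g * y * (g⁻¹ * c * g)⁻¹, (mem_normalizer_iff.mp
      (Signal38.centralizer_le_normalizer_centralizerPPrimeCore p f hc') y).mp hy, ?_⟩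
    simp only [MulEquiv.coe_toMonoidHom, MulAut.conj_apply]
    group
  · rw [card_map_of_injective (MulAut.conj g).injective]
    exact Signal38.centralizerPPrimeCore_card_coprime p f

theorem core_map_conj (g f : G) :
    (Cfsg.centralizerPPrimeCore p f).map (MulAut.conj g).toMonoidHom =
      Cfsg.centralizerPPrimeCore p (g * f * g⁻¹) := by
  refine le_antisymm ?_ fun x hx => ?_
  · rintro _ ⟨x, hx, rfl⟩
    exact conj_mem_core g hx
  · have h := conj_mem_core g⁻¹ hx
    rw [show g⁻¹ * (g * f * g⁻¹) * g⁻¹⁻¹ = f by group] at h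
    exact ⟨_, h, by simp only [MulEquiv.coe_toMonoidHom, MulAut.conj_apply]; group⟩

theorem W_map_conj (g : G) (A : Subgroup G) :
    (W p A).map (MulAut.conj g).toMonoidHom = W p (A.map (MulAut.conj g).toMonoidHom) := by
  refine le_antisymm ?_ (W_le ?_)
  · rw [Subgroup.map_le_iff_le_comap]
    refine W_le fun a ha ha1 x hx => ?_
    exact le_W (a := g * a * g⁻¹) (A := A.map (MulAut.conj g).toMonoidHom)
      ⟨a, ha, by simp⟩ (by simpa using ha1) (conj_mem_core g hx)
  · rintro _ ⟨a, ha, rfl⟩ ha1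
    simp only [MulEquiv.coe_toMonoidHom, MulAut.conj_apply]
    rw [← core_map_conj]
    exact Subgroup.map_mono (le_W ha fun h => ha1 (by simp [h]))

theorem mem_normalizer_W {g : G} {A : Subgroup G} (hg : g ∈ normalizer (A : Set G)) :
    g ∈ normalizer (W p A : Set G) := by
  have key : ∀ n : G, n ∈ normalizer (A : Set G) → ∀ x ∈ W p A, n * x * n⁻¹ ∈ W p A := by
    intro n hn x hx
    have h : (W p A).map (MulAut.conj n).toMonoidHom ≤ W p A := by
      rw [W_map_conj]
      refine W_mono ?_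
      rintro _ ⟨a, ha, rfl⟩
      exact (mem_normalizer_iff.mp hn a).mp ha
    exact h ⟨x, hx, by simp⟩
  exact Coprime.le_normalizer_of_conj_mem key hg

theorem normalizer_le (A : Subgroup G) :
    normalizer (A : Set G) ≤ normalizer (W p A : Set G) := fun _ hg => mem_normalizer_W hg

variable [hp : Fact p.Prime]

theorem orderOf_of_mem {A : Subgroup G} (hA : Cfsg.IsElementaryAbelian p A) {a : G} (ha : a ∈ A)
    (ha1 : a ≠ 1) : orderOf a = p :=
  orderOf_eq_prime (hA.2 a ha) ha1

theorem exists_pow_of_mem {A : Subgroup G} (hA : Cfsg.IsElementaryAbelian p A) {a : G} (ha : a ∈ A)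
    (ha1 : a ≠ 1) : ∃ k : ℕ, orderOf a = p ^ k :=
  ⟨1, by rw [pow_one]; exact orderOf_of_mem hA ha ha1⟩

variable (hcon : PCon G p)
include hcon

/-- Balance. -/
theorem balance {i j : G} (hi : ∃ k : ℕ, orderOf i = p ^ k) (hj1 : j ≠ 1)
    (hj : ∃ k : ℕ, orderOf j = p ^ k) (hij : Commute i j) :
    Cfsg.centralizerPPrimeCore p i ⊓ centralizer ({j} : Set G) ≤
      Cfsg.centralizerPPrimeCore p j := by
  set iC : centralizer ({j} : Set G) := ⟨i, mem_centralizer_singleton_iff.mpr hij.eq⟩ with hiC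
  obtain ⟨n, hn⟩ := hi
  have hP : IsPGroup p (zpowers iC) := IsPGroup.of_card (n := n) (by
    rw [Nat.card_zpowers, ← Subgroup.orderOf_coe]; exact hn)
  set H := centralizer ((zpowers iC : Subgroup _) : Set (centralizer ({j} : Set G))) with hHdef
  obtain ⟨hcore, -⟩ := PLocalB.local_facts (hcon.constrained j hj1 hj) (zpowers iC) H hP le_rfl
    (centralizer_le_normalizer _) (normal_subgroupOf_of_le_normalizer (by
      rw [Subgroup.le_normalizer_iff]
      intro g hg x hx
      rw [hHdef, mem_centralizer_iff] at hx ⊢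
      intro z hz
      have h1 : g⁻¹ * z * g ∈ zpowers iC := (mem_normalizer_iff''.mp hg z).mp hz
      have h2 := hx _ h1
      calc z * (g * x * g⁻¹) = g * ((g⁻¹ * z * g) * x) * g⁻¹ := by group
        _ = g * (x * (g⁻¹ * z * g)) * g⁻¹ := by rw [h2]
        _ = g * x * g⁻¹ * z := by group))
  set D := Cfsg.centralizerPPrimeCore p i with hD
  let K : Subgroup ↥H := (D.subgroupOf (centralizer ({j} : Set G))).subgroupOf H
  have hKn : K.Normal := by
    constructor
    intro k hk h
    have hhi : ((h : centralizer ({j} : Set G)) : G) ∈ centralizer ({i} : Set G) := by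
      have h1 := mem_centralizer_iff.mp h.2 iC (mem_zpowers iC)
      rw [mem_centralizer_singleton_iff]
      exact (congrArg Subtype.val h1).symm
    exact (mem_normalizer_iff.mp
      (Signal38.centralizer_le_normalizer_centralizerPPrimeCore p i hhi) _).mp hk
  have hKo : (Nat.card K).Coprime p :=
    (Signal38.centralizerPPrimeCore_card_coprime p i).coprime_dvd_left
      ((card_comap_dvd_of_injective _ _ (subtype_injective _)).trans
        (card_comap_dvd_of_injective _ _ (subtype_injective _)))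
  have hKle : K ≤ Cfsg.pPrimeCore p ↥H := Thompson.le_pPrimeCore hKn hKo
  rintro x ⟨hxi, hxj⟩
  have hxH : (⟨x, hxj⟩ : centralizer ({j} : Set G)) ∈ H := by
    rw [hHdef, mem_centralizer_iff]
    intro z hz
    obtain ⟨k, rfl⟩ := mem_zpowers_iff.mp hz
    exact (Commute.zpow_left (show Commute iC ⟨x, hxj⟩ from Subtype.ext
      (mem_centralizer_singleton_iff.mp (Subgroup.map_subtype_le _ hxi)).symm) k).eq
  have h := hKle (show (⟨⟨x, hxj⟩, hxH⟩ : ↥H) ∈ K from hxi)
  rw [hcore] at h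
  exact ⟨⟨x, hxj⟩, h, rfl⟩

/-- A power of a `p`-element has a larger core. -/
theorem core_le_core_pow {s : G} (hs : ∃ k : ℕ, orderOf s = p ^ k) {m : ℕ} (hm : s ^ m ≠ 1) :
    Cfsg.centralizerPPrimeCore p s ≤ Cfsg.centralizerPPrimeCore p (s ^ m) := by
  obtain ⟨k, hk⟩ := hs
  obtain ⟨l, -, hl⟩ := (Nat.dvd_prime_pow hp.out).mp (hk ▸ orderOf_pow_dvd (x := s) m)
  refine le_trans (le_inf le_rfl fun x hx => mem_centralizer_singleton_iff.mpr ?_)
    (balance hcon ⟨k, hk⟩ hm ⟨l, hl⟩ (Commute.pow_right (Commute.refl s) m))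
  exact ((show Commute x s from
    mem_centralizer_singleton_iff.mp (Subgroup.map_subtype_le _ hx)).pow_right m).eq

/-- A `p'`-subgroup normalised by a big subgroup, whose local parts lie in the cores. -/
theorem le_W_of_invariant {B U : Subgroup G} (hB : IsBig p B)
    (hn : B ≤ normalizer (U : Set G)) (hU : (Nat.card U).Coprime p)
    (h : ∀ b ∈ B, b ≠ 1 → U ⊓ centralizer ({b} : Set G) ≤ Cfsg.centralizerPPrimeCore p b) :
    U ≤ W p B := by
  refine SFT45.le_of_forall_hyp hB.1 hn hU.symm fun B' hB' => ?_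
  have h1 : 1 < Nat.card B' := by
    by_contra hle
    have := hB.2.trans (hB'.2.trans (Nat.mul_le_mul_left p (not_lt.mp hle)))
    rw [mul_one, pow_two] at this
    nlinarith [hp.out.two_le]
  obtain ⟨⟨b, hb⟩, hb1⟩ := Subgroup.ne_bot_iff_exists_ne_one.mp
    ((one_lt_card_iff_ne_bot B').mp h1)
  have hb1' : b ≠ 1 := fun h => hb1 (Subtype.ext h)
  exact (inf_le_inf_left _ (centralizer_le (Set.singleton_subset_iff.mpr hb))).trans
    ((h b (hB'.1 hb) hb1').trans (le_W (hB'.1 hb) hb1'))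

/-- The core at a `p`-element centralised by a big subgroup. -/
theorem core_le_W {B : Subgroup G} (hB : IsBig p B) {s : G} (hs : ∃ k : ℕ, orderOf s = p ^ k)
    (hc : ∀ b ∈ B, Commute s b) : Cfsg.centralizerPPrimeCore p s ≤ W p B :=
  le_W_of_invariant hcon hB
    (fun b hb => Signal38.centralizer_le_normalizer_centralizerPPrimeCore p s
      (mem_centralizer_singleton_iff.mpr (hc b hb).eq.symm))
    (Signal38.centralizerPPrimeCore_card_coprime p s)
    fun b hb hb1 => balance hcon hs hb1 (exists_pow_of_mem hB.1 hb hb1) (hc b hb)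

theorem W_le_W {A B : Subgroup G} (hA : Cfsg.IsElementaryAbelian p A) (hB : IsBig p B)
    (hc : ∀ a ∈ A, ∀ b ∈ B, Commute a b) : W p A ≤ W p B :=
  W_le fun a ha ha1 => core_le_W hcon hB (exists_pow_of_mem hA ha ha1) (hc a ha)

theorem W_eq_of_commute {A B : Subgroup G} (hA : IsBig p A) (hB : IsBig p B)
    (hc : ∀ a ∈ A, ∀ b ∈ B, Commute a b) : W p A = W p B :=
  le_antisymm (W_le_W hcon hA.1 hB hc) (W_le_W hcon hB.1 hA fun b hb a ha => (hc a ha b hb).symm)

theorem W_eq_of_le {A B : Subgroup G} (hA : IsBig p A) (hB : IsBig p B) (h : A ≤ B) :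
    W p A = W p B :=
  W_eq_of_commute hcon hA hB fun _ ha _ hb => commute_of_mem hB.1 (h ha) hb

/-- The functor on an elementary abelian subgroup. -/
theorem isSolvableSignalizerFunctor {A : Subgroup G} (hA : Cfsg.IsElementaryAbelian p A) :
    Cfsg.IsSolvableSignalizerFunctor p A (fun a => Cfsg.centralizerPPrimeCore p a) := by
  refine ⟨⟨fun a _ _ => Subgroup.map_subtype_le _, fun a _ _ hd => ?_, fun a ha _ b hb x hx => ?_,
    fun a ha ha1 b hb hb1 => ?_⟩, fun a ha ha1 => hcon.solvable a ha1 (exists_pow_of_mem hA ha ha1)⟩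
  · exact hp.out.ne_one
      (Nat.eq_one_of_dvd_coprimes (Signal38.centralizerPPrimeCore_card_coprime p a) hd dvd_rfl)
  · exact (mem_normalizer_iff.mp (Signal38.centralizer_le_normalizer_centralizerPPrimeCore p a
      (mem_centralizer_singleton_iff.mpr (commute_of_mem hA hb ha).eq)) x).mp hx
  · exact balance hcon (exists_pow_of_mem hA ha ha1) hb1 (exists_pow_of_mem hA hb hb1)
      (commute_of_mem hA ha hb)

/-- Completeness: `W` is a solvable `p'`-group. -/
theorem W_coprime_solvable {A : Subgroup G} (hA : Cfsg.IsElementaryAbelian p A)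
    (h3 : p ^ 3 ≤ Nat.card A) :
    (Nat.card (W p A)).Coprime p ∧ Group.IsSolvable ↥(W p A) := by
  obtain ⟨X, hX, hle⟩ := SFT49.completable hA h3 (isSolvableSignalizerFunctor hcon hA)
  have hWX : W p A ≤ X := W_le hle
  refine ⟨(Nat.Coprime.coprime_dvd_left (card_dvd_of_le hWX)
    ((hp.out.coprime_iff_not_dvd.mpr hX.2.1).symm)), ?_⟩
  haveI := hX.1
  exact Group.isSolvable_of_isSolvable_injective (inclusion_injective hWX)

theorem W_coprime {A : Subgroup G} (hA : Cfsg.IsElementaryAbelian p A)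
    (h3 : p ^ 3 ≤ Nat.card A) : (Nat.card (W p A)).Coprime p :=
  (W_coprime_solvable hcon hA h3).1

theorem W_ne_top {A : Subgroup G} (hA : Cfsg.IsElementaryAbelian p A)
    (h3 : p ^ 3 ≤ Nat.card A) : W p A ≠ ⊤ := by
  intro h
  have hc := W_coprime hcon hA h3
  rw [h, Subgroup.card_top] at hc
  obtain ⟨n, hn⟩ := H40.card_elementary hA
  have hd : p ∣ Nat.card G := by
    refine Dvd.dvd.trans ?_ (A.card_subgroup_dvd_card)
    rw [hn] at h3 ⊢
    refine dvd_pow_self p ?_
    rintro rfl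
    have := Nat.one_lt_pow (n := 3) (by norm_num) hp.out.one_lt
    rw [pow_zero] at h3
    omega
  exact hp.out.ne_one (Nat.eq_one_of_dvd_coprimes hc hd dvd_rfl)

theorem normalizer_W_ne_top [IsSimpleGroup G] {A : Subgroup G}
    (hA : Cfsg.IsElementaryAbelian p A) (h3 : p ^ 3 ≤ Nat.card A) (h1 : W p A ≠ ⊥) :
    normalizer (W p A : Set G) ≠ ⊤ := by
  intro h
  rcases (normalizer_eq_top_iff.mp h).eq_bot_or_eq_top with h' | h'
  · exact h1 h'
  · exact W_ne_top hcon hA h3 h'

omit hcon in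
theorem isBig_of_cube {A : Subgroup G} (hA : Cfsg.IsElementaryAbelian p A)
    (h3 : p ^ 3 ≤ Nat.card A) : IsBig p A :=
  ⟨hA, (Nat.pow_le_pow_right hp.out.pos (by norm_num : 2 ≤ 3)).trans h3⟩

/-- All elementary abelian subgroups of order at least `p ^ 3` of one `p`-group give the same `W`,
the one of a normal subgroup of order `p ^ 2`. -/
theorem exists_normal_big {S : Subgroup G} (hS : IsPGroup p S) {A : Subgroup G}
    (hA : Cfsg.IsElementaryAbelian p A) (h3 : p ^ 3 ≤ Nat.card A) (hAS : A ≤ S) :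
    ∃ U : Subgroup G, U ≤ S ∧ IsBig p U ∧ S ≤ normalizer (U : Set G) ∧
      ∀ B : Subgroup G, B ≤ S → Cfsg.IsElementaryAbelian p B → p ^ 3 ≤ Nat.card B →
        W p B = W p U := by
  have hrk : ¬ Cfsg.PRankLE p 2 ↥S := H40.not_rankLE_subgroup hA hAS
    (lt_of_lt_of_le (Nat.pow_lt_pow_right hp.out.one_lt (by norm_num)) h3)
  obtain ⟨U, hUn, hU, hU2⟩ := H40.exists_normal_elementary_sq hS hrk
  haveI := hUn
  have hUe : Cfsg.IsElementaryAbelian p (U.map S.subtype) := by
    refine H40.elementary_iff.mpr ⟨?_, ?_⟩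
    · rintro _ ⟨a, ha, rfl⟩ _ ⟨b, hb, rfl⟩
      rw [← map_mul, ← map_mul, H40.elementary_comm hU ha hb]
    · rintro _ ⟨a, ha, rfl⟩
      rw [← map_pow, hU.2 a ha, map_one]
  have hUb : IsBig p (U.map S.subtype) :=
    ⟨hUe, by rw [card_map_of_injective S.subtype_injective, hU2]⟩
  refine ⟨U.map S.subtype, map_subtype_le U, hUb, ?_, fun B hBS hB hB3 => ?_⟩
  · refine Coprime.le_normalizer_of_conj_mem fun s hs => ?_
    rintro _ ⟨a, ha, rfl⟩
    exact ⟨⟨s, hs⟩ * a * ⟨s, hs⟩⁻¹, hUn.conj_mem a ha _, rfl⟩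
  set C := centralizer (U : Set ↥S) with hC
  have hidx : C.index ≤ p := OddLocal44.index_centralizer_le_of_card_le hS U hU2.le
  have h1 := OddLocal44.card_le_mul_inf (H := B.subgroupOf S) hidx
  rw [Nat.card_congr (Subgroup.subgroupOfEquivOfLe hBS).toEquiv] at h1
  set B' := ((B.subgroupOf S) ⊓ C).map S.subtype with hB'
  have hB'B : B' ≤ B := by
    rintro _ ⟨b, hb, rfl⟩
    exact hb.1
  have hB'big : IsBig p B' := by
    refine ⟨H40.elementary_of_le hB hB'B, ?_⟩
    rw [hB', card_map_of_injective S.subtype_injective]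
    have h2 : p * p ^ 2 ≤ p * Nat.card ↥(B.subgroupOf S ⊓ C) :=
      le_trans (le_of_eq (by ring)) (hB3.trans h1)
    exact Nat.le_of_mul_le_mul_left h2 hp.out.pos
  rw [← W_eq_of_le hcon hB'big (isBig_of_cube hB hB3) hB'B]
  refine W_eq_of_commute hcon hB'big hUb ?_
  rintro _ ⟨b, hb, rfl⟩ _ ⟨a, ha, rfl⟩
  exact congrArg Subtype.val (mem_centralizer_iff.mp hb.2 a ha).symm

theorem W_eq_of_pGroup {S A B : Subgroup G} (hS : IsPGroup p S)
    (hA : Cfsg.IsElementaryAbelian p A) (hA3 : p ^ 3 ≤ Nat.card A) (hAS : A ≤ S)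
    (hB : Cfsg.IsElementaryAbelian p B) (hB3 : p ^ 3 ≤ Nat.card B) (hBS : B ≤ S) :
    W p A = W p B := by
  obtain ⟨U, -, -, -, hU⟩ := exists_normal_big hcon hS hA hA3 hAS
  rw [hU A hAS hA hA3, hU B hBS hB hB3]

/-- The normaliser of a `p`-subgroup of rank at least three normalises `W`. -/
theorem normalizer_le_of_pGroup {R A : Subgroup G} (hR : IsPGroup p R)
    (hA : Cfsg.IsElementaryAbelian p A) (hA3 : p ^ 3 ≤ Nat.card A) (hAR : A ≤ R) :
    normalizer (R : Set G) ≤ normalizer (W p A : Set G) := by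
  intro n hn
  refine Coprime.le_normalizer_of_conj_mem (A := normalizer (R : Set G)) ?_ hn
  intro m hm x hx
  have he : Cfsg.IsElementaryAbelian p (A.map (MulAut.conj m).toMonoidHom) := by
    refine H40.elementary_iff.mpr ⟨?_, ?_⟩
    · rintro _ ⟨a, ha, rfl⟩ _ ⟨b, hb, rfl⟩
      rw [← map_mul, ← map_mul, H40.elementary_comm hA ha hb]
    · rintro _ ⟨a, ha, rfl⟩
      rw [← map_pow, hA.2 a ha, map_one]
  have hle : A.map (MulAut.conj m).toMonoidHom ≤ R := by
    rintro _ ⟨a, ha, rfl⟩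
    exact (mem_normalizer_iff.mp hm a).mp (hAR ha)
  rw [W_eq_of_pGroup hcon hR hA hA3 hAR he
    (le_of_le_of_eq hA3 (card_map_of_injective (MulAut.conj m).injective).symm) hle, ← W_map_conj]
  exact ⟨x, hx, by simp⟩

end Cfsg.Agent.GW66.BaseW
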