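import Cfsg.Agent.GW66.Basic
import Cfsg.Agent.GW66.BaseSig
import Cfsg.Agent.PF14.Compose
import Cfsg.Agent.BGUniq.PLocalBasic

/-!
# Centralisers of `p`-elements in a minimal counterexample

Step 2 of `Base.lean`: they are `p`-constrained with solvable `p'`-core.
-/

set_option autoImplicit false
set_option linter.style.haveILetI false
set_option linter.unusedSectionVars false

namespace Cfsg.Agent.GW66.BaseW

open Subgroup

universe u

section Solvable

variable {Q : Type u} [Group Q] [Finite Q] {p : ℕ} [hp : Fact p.Prime]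

theorem isPConstrained_of_solvable (h : Group.IsSolvable Q) : Cfsg.IsPConstrained p Q := by
  haveI := h
  haveI : Group.IsSolvable (Q ⧸ Cfsg.pPrimeCore p Q) :=
    Group.isSolvable_of_surjective (QuotientGroup.mk'_surjective _)
  exact PLocalB.isPConstrained_iff.mpr (Thompson.centralizer_pCore_le
    (BGUniq.isPSolvable_of_isSolvable' p _) Thompson.pPrimeCore_quotient_pPrimeCore)

/-- A solvable normal subgroup meets the centraliser of `O_p` inside `O_p`. -/
theorem inf_centralizer_le (hO : Cfsg.pPrimeCore p Q = ⊥) (N : Subgroup Q) [N.Normal]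
    (hN : Group.IsSolvable N) :
    N ⊓ centralizer (Cfsg.pCore p Q : Set Q) ≤ Cfsg.pCore p Q := by
  haveI := hN
  have hNO : Cfsg.pPrimeCore p N = ⊥ := by
    rw [← Subgroup.map_eq_bot_iff_of_injective _ N.subtype_injective, ← le_bot_iff, ← hO]
    exact Thompson.map_pPrimeCore_normal_le N
  have hHH := Thompson.centralizer_pCore_le (BGUniq.isPSolvable_of_isSolvable' p N) hNO
  have hle : (Cfsg.pCore p N).map N.subtype ≤ Cfsg.pCore p Q := Thompson.map_pCore_normal_le N
  rintro x ⟨hxN, hx⟩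
  have : (⟨x, hxN⟩ : N) ∈ Cfsg.pCore p N :=
    hHH (mem_centralizer_iff.mpr fun y hy => Subtype.ext
      (mem_centralizer_iff.mp hx _ (hle ⟨y, hy, rfl⟩)))
  exact hle ⟨⟨x, hxN⟩, this, rfl⟩

end Solvable

section Constrained

variable {H : Type u} [Group H] [Finite H] {p : ℕ} [hp : Fact p.Prime]

/-- If the normal subgroups of even order contain `S` and an element of `S` inverts an element of
order `p` of the odd core, then `H` is constrained with solvable `p'`-core. -/
theorem constrained_of_inverted (hp2 : p ≠ 2) (S : Subgroup H)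
    (hfour : ∀ N : Subgroup H, N.Normal → 2 ∣ Nat.card N → S ≤ N) {x b : H}
    (hxO : x ∈ Cfsg.oddCore H) (hxp : orderOf x = p) (hb : b ∈ S) (hinv : b * x * b⁻¹ = x⁻¹) :
    Cfsg.IsPConstrained p H ∧ Group.IsSolvable ↥(Cfsg.pPrimeCore p H) := by
  set O := Cfsg.pPrimeCore p H with hO
  have hOc : (Nat.card O).Coprime p := Thompson.card_pPrimeCore_coprime
  have hx2 : orderOf (x ^ 2) = p := by
    rw [Nat.Coprime.orderOf_pow]
    · exact hxp
    · rw [hxp]; exact (Nat.coprime_primes hp.out Nat.prime_two).mpr hp2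
  have hnotO : ∀ y : H, orderOf y = p → y ∉ O := fun y hy hmem =>
    hp.out.ne_one (Nat.eq_one_of_dvd_coprimes hOc (hy ▸ O.orderOf_dvd_natCard hmem) dvd_rfl)
  have hOodd : Odd (Nat.card O) := by
    rw [← Nat.not_even_iff_odd, even_iff_two_dvd]
    intro h
    have hbO : b ∈ O := hfour O inferInstance h hb
    refine hnotO _ hx2 ?_
    have h1 : x * (b * x⁻¹ * b⁻¹) = x ^ 2 := by
      rw [show b * x⁻¹ * b⁻¹ = (b * x * b⁻¹)⁻¹ by group, hinv, inv_inv, pow_two]
    rw [← h1, show x * (b * x⁻¹ * b⁻¹) = (x * b * x⁻¹) * b⁻¹ by group]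
    exact mul_mem ((inferInstance : O.Normal).conj_mem b hbO x) (inv_mem hbO)
  refine ⟨PLocalB.isPConstrained_iff.mpr ?_, PF14.feitThompson _ hOodd⟩
  set q := QuotientGroup.mk' O with hq
  set R := Cfsg.pCore p (H ⧸ O) with hR
  set C := centralizer (R : Set (H ⧸ O)) with hC
  haveI : C.Normal := inferInstance
  have hbot : Cfsg.pPrimeCore p (H ⧸ O) = ⊥ := Thompson.pPrimeCore_quotient_pPrimeCore
  suffices hodd : Odd (Nat.card C) from
    le_trans (le_inf le_rfl le_rfl) (inf_centralizer_le hbot C (PF14.feitThompson _ hodd))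
  rw [← Nat.not_even_iff_odd, even_iff_two_dvd]
  intro hev
  have hbC : q b ∈ C := by
    refine hfour (C.comap q) inferInstance (hev.trans ?_) hb
    have h1 := Subgroup.card_map_dvd (C.comap q) q
    rwa [Subgroup.map_comap_eq_self_of_surjective (QuotientGroup.mk'_surjective O)] at h1
  set X := (Cfsg.oddCore H).map q with hX
  haveI : X.Normal := Subgroup.Normal.map inferInstance q (QuotientGroup.mk'_surjective O)
  have hXodd : Odd (Nat.card X) :=
    (Nat.coprime_two_right.mp (Thompson.card_pPrimeCore_coprime (p := 2) (G := H))).of_dvd_nat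
      (Subgroup.card_map_dvd _ _)
  have hle := inf_centralizer_le hbot X (PF14.feitThompson _ hXodd)
  set u := q x with hu
  have hinv' : q b * u * (q b)⁻¹ = u⁻¹ := by rw [hu, ← map_inv, ← map_mul, ← map_mul, hinv, map_inv]
  have hw : u ^ 2 ∈ R := by
    refine hle (Subgroup.mem_inf.mpr ⟨pow_mem (mem_map_of_mem q hxO) 2, ?_⟩)
    have h1 : u ^ 2 = (u * q b * u⁻¹) * (q b)⁻¹ := by
      rw [show u * q b * u⁻¹ * (q b)⁻¹ = u * (q b * u⁻¹ * (q b)⁻¹) by group,
        show q b * u⁻¹ * (q b)⁻¹ = (q b * u * (q b)⁻¹)⁻¹ by group, hinv', inv_inv, pow_two]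
    rw [h1]
    exact mul_mem ((inferInstance : C.Normal).conj_mem _ hbC u) (inv_mem hbC)
  have hcom : q b * u ^ 2 = u ^ 2 * q b := (mem_centralizer_iff.mp hbC _ hw).symm
  have h4 : (u ^ 2) ^ 2 = 1 := by
    have h1 : q b * u ^ 2 * (q b)⁻¹ = (u ^ 2)⁻¹ := by rw [← conj_pow, hinv', inv_pow]
    rw [hcom, mul_inv_cancel_right] at h1
    rw [pow_two (u ^ 2)]
    nth_rewrite 1 [h1]
    exact inv_mul_cancel _
  refine hnotO x hxp ((QuotientGroup.eq_one_iff x).mp ?_)
  have hxp' : x ^ p = 1 := hxp ▸ pow_orderOf_eq_one x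
  have hup : u ^ p = 1 := by rw [hu, ← map_pow, hxp', map_one]
  have hcop : Nat.Coprime 4 p := by
    rw [show (4 : ℕ) = 2 ^ 2 by norm_num]
    exact ((Nat.coprime_primes Nat.prime_two hp.out).mpr (Ne.symm hp2)).pow_left 2
  have h5 : orderOf u ∣ 4 := orderOf_dvd_of_pow_eq_one (by rw [← h4, ← pow_mul])
  exact orderOf_eq_one_iff.mp
    (Nat.eq_one_of_dvd_coprimes hcop h5 (orderOf_dvd_of_pow_eq_one hup))

end Constrained

variable {G : Type u} [Group G] [Finite G] {V : Subgroup G}

theorem isPGroup_two (hC : Ctx V) : IsPGroup 2 V :=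
  IsPGroup.of_card (n := 2) (by rw [hC.klein.card_four]; norm_num)

/-- `V` as a Sylow subgroup. -/
theorem exists_sylow (hC : Ctx V) : ∃ P : Sylow 2 G, (P : Subgroup G) = V := by
  haveI : Fact (Nat.Prime 2) := ⟨Nat.prime_two⟩
  refine ⟨(isPGroup_two hC).toSylow ?_, rfl⟩
  exact fun h => (Nat.not_even_iff_odd.mpr hC.sylow) (even_iff_two_dvd.mpr h)

/-- In a fused subgroup every normal subgroup of even order contains `V`. -/
theorem le_of_even_normal (hC : Ctx V) {M : Subgroup G} (hVM : V ≤ M) (hF : Fused M V)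
    (N : Subgroup M) (hN : N.Normal) (h2 : 2 ∣ Nat.card N) : V.subgroupOf M ≤ N := by
  haveI : Fact (Nat.Prime 2) := ⟨Nat.prime_two⟩
  obtain ⟨⟨i, hi⟩, hi2⟩ := exists_prime_orderOf_dvd_card' 2 h2
  have hio : orderOf i = 2 := (Subgroup.orderOf_mk i hi).symm.trans hi2
  have hSp : IsPGroup 2 (V.subgroupOf M) :=
    (isPGroup_two hC).of_equiv (Subgroup.subgroupOfEquivOfLe hVM).symm
  have hidx : ¬ 2 ∣ (V.subgroupOf M).index := fun h =>
    (Nat.not_even_iff_odd.mpr hC.sylow) (even_iff_two_dvd.mpr (h.trans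
      (Dvd.intro _ (relIndex_mul_index hVM))))
  let P : Sylow 2 M := hSp.toSylow hidx
  obtain ⟨P', hP'⟩ := ((IsPGroup.of_card (n := 1) (by rw [Nat.card_zpowers, hio, pow_one]) :
    IsPGroup 2 (zpowers i))).exists_le_sylow
  obtain ⟨c, hc⟩ := MulAction.exists_smul_eq M P' P
  set t : M := c * i * c⁻¹ with ht
  have htV : (t : G) ∈ V := by
    have h1 : t ∈ (↑(c • P') : Subgroup M) := by
      rw [Sylow.coe_subgroup_smul]
      exact ⟨i, hP' (mem_zpowers i), by simp [ht]⟩
    rw [hc] at h1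
    exact h1
  have htN : t ∈ N := hN.conj_mem i hi c
  have ht1 : (t : G) ≠ 1 := fun h => by
    have : i = 1 := by simpa [ht] using (Subtype.ext h : t = 1)
    rw [this, orderOf_one] at hio
    omega
  obtain ⟨g, hgM, hgn, hgc⟩ := hF
  set t' : M := ⟨g, hgM⟩ * t * ⟨g, hgM⟩⁻¹ with ht'
  have ht'N : t' ∈ N := hN.conj_mem t htN _
  have ht'V : (t' : G) ∈ V := (mem_normalizer_iff.mp hgn t).mp htV
  have hne : (t' : G) ≠ t := fun e => hgc (centralizes_of_fix hC.klein hC.sylow hgn htV ht1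
    (mul_inv_eq_iff_eq_mul.mp e))
  have ht'1 : (t' : G) ≠ 1 := fun h => ht1 (by simpa [ht'] using h)
  intro v hv
  rcases klein_cases hC.klein (⟨htV, ht'V, ht1, ht'1, hne.symm⟩ : Pair V (t : G) t') hv with
    h | h | h | h
  · rw [show v = 1 from Subtype.ext h]; exact one_mem N
  · rw [show v = t from Subtype.ext h]; exact htN
  · rw [show v = t' from Subtype.ext h]; exact ht'N
  · rw [show v = t * t' from Subtype.ext h]; exact mul_mem htN ht'N

/-- A subgroup containing no conjugate of `V` as a fused four-group is solvable. -/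
theorem isSolvable_of_not_fused (hC : Ctx V) {M : Subgroup G}
    (h : ∀ g : G, V.map (MulAut.conj g).toMonoidHom ≤ M →
      ¬ Fused M (V.map (MulAut.conj g).toMonoidHom)) : Group.IsSolvable M := by
  haveI : Fact (Nat.Prime 2) := ⟨Nat.prime_two⟩
  obtain ⟨P, hP⟩ := exists_sylow hC
  obtain ⟨S⟩ : Nonempty (Sylow 2 M) := inferInstance
  obtain ⟨T, hT⟩ := (S.isPGroup'.map M.subtype).exists_le_sylow
  obtain ⟨g, hg⟩ := MulAction.exists_smul_eq G P T
  have hTV : (T : Subgroup G) = V.map (MulAut.conj g).toMonoidHom := by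
    rw [← hg, Sylow.coe_subgroup_smul, hP]; rfl
  set S' := (S : Subgroup M).map M.subtype with hS'
  have hle : S' ≤ V.map (MulAut.conj g).toMonoidHom := hTV ▸ hT
  have hcardS : Nat.card S' ∣ 4 := by
    have := Subgroup.card_dvd_of_le hle
    rwa [Nat.card_congr (Subgroup.equivMapOfInjective V _ (MulAut.conj g).injective).toEquiv.symm, hC.klein.card_four] at this
  have hcen : normalizer ((S : Subgroup M) : Set M) ≤ centralizer ((S : Subgroup M) : Set M) := by
    intro n hn
    refine mem_centralizer_iff.mpr fun v hv => Subtype.ext ?_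
    have hn' : (n : G) ∈ normalizer (S' : Set G) := Subgroup.le_normalizer_map M.subtype ⟨n, hn, rfl⟩
    have hv' : (v : G) ∈ S' := mem_map_of_mem M.subtype hv
    show (v : G) * n = n * v
    rcases (Nat.dvd_prime_pow Nat.prime_two).mp (by simpa using hcardS : Nat.card S' ∣ 2 ^ 2) with
      ⟨j, hj, hcard⟩
    rcases Nat.lt_or_ge j 2 with hj2 | hj2
    · by_cases hv1 : (v : G) = 1
      · rw [hv1]; group
      have hvn : (n : G) * v * (n : G)⁻¹ ∈ S' := (mem_normalizer_iff.mp hn' _).mp hv'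
      have h2 : Nat.card S' ≤ 2 := by
        rw [hcard]; interval_cases j <;> norm_num
      by_contra hne
      have hne' : (n : G) * v * (n : G)⁻¹ ≠ (v : G) := fun e => hne (mul_inv_eq_iff_eq_mul.mp e).symm
      have hsub : ({(1 : G), (v : G), (n : G) * v * (n : G)⁻¹} : Set G) ⊆ (S' : Set G) := by
        intro z hz
        rcases hz with rfl | rfl | rfl
        exacts [one_mem _, hv', hvn]
      have h3 := Set.ncard_le_ncard hsub (Set.toFinite _)
      rw [Set.ncard_eq_three.mpr ⟨(1 : G), (v : G), (n : G) * v * (n : G)⁻¹, Ne.symm hv1,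
        (fun e => hv1 (conj_eq_one_iff.mp e.symm)), hne'.symm, rfl⟩] at h3
      have h4 : (S' : Set G).ncard = Nat.card S' := (Nat.card_coe_set_eq _).symm
      omega
    · have hSV : S' = V.map (MulAut.conj g).toMonoidHom := Subgroup.eq_of_le_of_card_ge hle (by
        rw [Nat.card_congr (Subgroup.equivMapOfInjective V _ (MulAut.conj g).injective).toEquiv.symm, hC.klein.card_four, hcard,
          show j = 2 by omega]
        norm_num)
      have hnf := h g (hSV ▸ map_subtype_le _)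
      by_contra hne
      refine hnf ⟨n, n.2, hSV ▸ hn', fun hc => hne ?_⟩
      exact mem_centralizer_iff.mp hc _ (hSV ▸ hv')
  haveI : IsMulCommutative ↥(S : Subgroup M) := ⟨⟨fun a b => Subtype.ext
    (mem_centralizer_iff.mp (hcen (le_normalizer b.2)) _ a.2)⟩⟩
  set K := (MonoidHom.transferSylow S hcen).ker with hK
  haveI : Group.IsSolvable K := PF14.feitThompson _ (Nat.not_even_iff_odd.mp fun he =>
    MonoidHom.not_dvd_card_ker_transferSylow S hcen (even_iff_two_dvd.mp he))
  haveI : Group.IsSolvable ↥(S : Subgroup M) := by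
    haveI : Group.IsNilpotent ↥(S : Subgroup M) := S.isPGroup'.isNilpotent
    infer_instance
  exact Group.isSolvable_of_ker_le_range K.subtype (MonoidHom.transferSylow S hcen)
    (by rw [range_subtype])

/-- `C(g f g⁻¹)` is the conjugate of `C(f)`. -/
theorem centralizer_map_conj (g f : G) :
    (centralizer ({f} : Set G)).map (MulAut.conj g).toMonoidHom =
      centralizer ({g * f * g⁻¹} : Set G) := by
  ext x
  simp only [Subgroup.mem_map, MulEquiv.coe_toMonoidHom, MulAut.conj_apply,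
    mem_centralizer_singleton_iff]
  constructor
  · rintro ⟨y, hy, rfl⟩
    calc g * y * g⁻¹ * (g * f * g⁻¹) = g * (y * f) * g⁻¹ := by group
      _ = g * (f * y) * g⁻¹ := by rw [hy]
      _ = g * f * g⁻¹ * (g * y * g⁻¹) := by group
  · intro hx
    refine ⟨g⁻¹ * x * g, ?_, by group⟩
    calc g⁻¹ * x * g * f = g⁻¹ * (x * (g * f * g⁻¹)) * g := by group
      _ = g⁻¹ * (g * f * g⁻¹ * x) * g := by rw [hx]
      _ = f * (g⁻¹ * x * g) := by group

variable {p : ℕ} [hp : Fact p.Prime]

/-- Step 2: centralisers of `p`-elements are constrained. -/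
theorem pCon (hTop : TopStmt.{u}) (hC : Ctx V) (hp2 : p ≠ 2) {P₀ : Subgroup G}
    (hP : P₀ ≤ coreD V) (hPp : IsPGroup p P₀) (hsyl : ¬ p ∣ P₀.relIndex (coreD V))
    {a b x y : G} (hab : Pair V a b) (hx : orderOf x = p) (hy : orderOf y = p)
    (hxa : x * a = a * x) (hxb : b * x * b⁻¹ = x⁻¹) (hyb : y * b = b * y)
    (hya : a * y * a⁻¹ = y⁻¹) (hxy : x * y = y * x)
    (hPx : P₀ ≤ centralizer ({x} : Set G)) (hPy : P₀ ≤ centralizer ({y} : Set G)) : PCon G p := by
  suffices key : ∀ f : G, f ≠ 1 → (∃ k : ℕ, orderOf f = p ^ k) →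
      Cfsg.IsPConstrained p ↥(centralizer ({f} : Set G)) ∧
        Group.IsSolvable ↥(Cfsg.centralizerPPrimeCore p f) from
    ⟨fun f h1 h2 => (key f h1 h2).1, fun f h1 h2 => (key f h1 h2).2⟩
  have hodd : Odd p := hp.out.odd_of_ne_two hp2
  -- the case of a fused centraliser of an element of `P₀`
  have hcase : ∀ f : G, f ≠ 1 → f ∈ P₀ → Fused (centralizer ({f} : Set G)) V →
      Cfsg.IsPConstrained p ↥(centralizer ({f} : Set G)) ∧
        Group.IsSolvable ↥(Cfsg.centralizerPPrimeCore p f) := by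
    intro f hf1 hfP hF
    set M := centralizer ({f} : Set G) with hM
    have hfD : f ∈ centralizer (V : Set G) := map_subtype_le _ (hP hfP)
    have hVM : V ≤ M := fun v hv => mem_centralizer_singleton_iff.mpr
      (mem_centralizer_iff.mp hfD v hv)
    have hMtop : M ≠ ⊤ := hC.centralizer_ne_top hf1
    have hT := hTop G V hC M hMtop hVM hF
    have hxM : x ∈ M := mem_centralizer_singleton_iff.mpr
      (mem_centralizer_singleton_iff.mp (hPx hfP)).symm
    have hyM : y ∈ M := mem_centralizer_singleton_iff.mpr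
      (mem_centralizer_singleton_iff.mp (hPy hfP)).symm
    have hmain : ∀ z c : G, z ∈ coreO M → orderOf z = p → c ∈ V → c * z * c⁻¹ = z⁻¹ →
        Cfsg.IsPConstrained p ↥M ∧ Group.IsSolvable ↥(Cfsg.centralizerPPrimeCore p f) := by
      intro z c hz hzp hc hinv
      obtain ⟨z', hz', rfl⟩ := hz
      have hres := constrained_of_inverted (p := p) hp2 (V.subgroupOf M)
        (fun N hN h2 => le_of_even_normal hC hVM hF N hN h2) (x := z') (b := ⟨c, hVM hc⟩) hz'
        (by rw [← Subgroup.orderOf_coe]; exact hzp) hc (Subtype.ext hinv)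
      haveI := hres.2
      exact ⟨hres.1, Group.isSolvable_of_surjective
        (f := (M.subtype).subgroupMap (Cfsg.pPrimeCore p M))
        (MonoidHom.subgroupMap_surjective _ _)⟩
    rcases hT.twoInv a b hab x ⟨hxM, hx ▸ hodd, hxa, hxb⟩ y ⟨hyM, hy ▸ hodd, hyb, hya⟩ hxy with
      h | h
    · exact hmain x b h hx hab.hb hxb
    · exact hmain y a h hy hab.ha hya
  intro f hf1 hfp
  set C := centralizer ({f} : Set G) with hCdef
  by_cases hF : ∃ g : G, V.map (MulAut.conj g).toMonoidHom ≤ C ∧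
      Fused C (V.map (MulAut.conj g).toMonoidHom)
  swap
  · have hsol : Group.IsSolvable C := isSolvable_of_not_fused hC fun g h1 h2 => hF ⟨g, h1, h2⟩
    haveI := hsol
    exact ⟨isPConstrained_of_solvable hsol, Group.isSolvable_of_isSolvable_injective
      (inclusion_injective (Subgroup.map_subtype_le (Cfsg.pPrimeCore p ↥C)))⟩
  obtain ⟨g, hgC, n, hnC, hnn, hnc⟩ := hF
  -- `f₁ = g⁻¹ f g` centralises `V`
  set f₁ := g⁻¹ * f * g with hf₁
  have hf₁V : f₁ ∈ centralizer (V : Set G) := mem_centralizer_iff.mpr fun v hv => by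
    have h1 := mem_centralizer_singleton_iff.mp (hgC ⟨v, hv, rfl⟩)
    simp only [MulEquiv.coe_toMonoidHom, MulAut.conj_apply] at h1
    calc v * (g⁻¹ * f * g) = g⁻¹ * (g * v * g⁻¹ * f) * g := by group
      _ = g⁻¹ * (f * (g * v * g⁻¹)) * g := by rw [h1]
      _ = g⁻¹ * f * g * v := by group
  obtain ⟨k, hk⟩ := hfp
  have hord : orderOf f₁ = p ^ k := by
    rw [hf₁, ← hk]
    exact (SemiconjBy.orderOf_eq g⁻¹ (show SemiconjBy g⁻¹ f (g⁻¹ * f * g) by
      unfold SemiconjBy; group)).symm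
  have hfD : f₁ ∈ coreD V := (mem_coreD_iff hC.klein hC.sylow).mpr ⟨hord ▸ hodd.pow, hf₁V⟩
  -- move it into `P₀` by an element of `coreD V`
  set D := coreD V with hD
  have hPD : IsPGroup p (P₀.subgroupOf D) := hPp.of_equiv (Subgroup.subgroupOfEquivOfLe hP).symm
  let S₀ : Sylow p D := hPD.toSylow hsyl
  obtain ⟨S₁, hS₁⟩ := ((IsPGroup.of_card (n := k) (by rw [Nat.card_zpowers, Subgroup.orderOf_mk, hord]) :
    IsPGroup p (zpowers (⟨f₁, hfD⟩ : D)))).exists_le_sylow
  obtain ⟨d, hd⟩ := MulAction.exists_smul_eq D S₁ S₀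
  have hf₂ : (d : G) * f₁ * (d : G)⁻¹ ∈ P₀ := by
    have h1 : d * ⟨f₁, hfD⟩ * d⁻¹ ∈ (↑(d • S₁) : Subgroup D) := by
      rw [Sylow.coe_subgroup_smul]
      exact ⟨_, hS₁ (mem_zpowers _), by simp⟩
    rw [hd] at h1
    exact h1
  set f₂ := (d : G) * f₁ * (d : G)⁻¹ with hf₂def
  set w := (d : G) * g⁻¹ with hw
  have hwf : w * f * w⁻¹ = f₂ := by rw [hw, hf₂def, hf₁]; group
  have hdV : ∀ v ∈ V, (d : G) * v * (d : G)⁻¹ = v := fun v hv => by
    rw [← mem_centralizer_iff.mp (map_subtype_le _ d.2) v hv]; group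
  have hF₂ : Fused (centralizer ({f₂} : Set G)) V := by
    refine ⟨w * n * w⁻¹, ?_, ?_, ?_⟩
    · rw [← hwf, ← centralizer_map_conj]
      exact ⟨n, hnC, by simp⟩
    · have hVw : V = (V.map (MulAut.conj g).toMonoidHom).map (MulAut.conj w).toMonoidHom := by
        ext v
        constructor
        · intro hv
          refine ⟨g * v * g⁻¹, ⟨v, hv, rfl⟩, ?_⟩
          simp only [MulEquiv.coe_toMonoidHom, MulAut.conj_apply, hw]
          rw [show (d : G) * g⁻¹ * (g * v * g⁻¹) * ((d : G) * g⁻¹)⁻¹ = (d : G) * v * (d : G)⁻¹ by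
            group, hdV v hv]
        · rintro ⟨_, ⟨v', hv', rfl⟩, rfl⟩
          simp only [MulEquiv.coe_toMonoidHom, MulAut.conj_apply, hw]
          rw [show (d : G) * g⁻¹ * (g * v' * g⁻¹) * ((d : G) * g⁻¹)⁻¹ = (d : G) * v' * (d : G)⁻¹ by
            group, hdV v' hv']
          exact hv'
      rw [hVw]
      exact Subgroup.le_normalizer_map _ ⟨n, hnn, by simp⟩
    · intro hc
      refine hnc (mem_centralizer_iff.mpr ?_)
      rintro _ ⟨v, hv, rfl⟩
      simp only [MulEquiv.coe_toMonoidHom, MulAut.conj_apply]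
      have h1 := mem_centralizer_iff.mp hc v hv
      have h2 : w * (g * v * g⁻¹) * w⁻¹ = v := by
        rw [hw, show (d : G) * g⁻¹ * (g * v * g⁻¹) * ((d : G) * g⁻¹)⁻¹ = (d : G) * v * (d : G)⁻¹ by
          group, hdV v hv]
      calc g * v * g⁻¹ * n = w⁻¹ * ((w * (g * v * g⁻¹) * w⁻¹) * (w * n * w⁻¹)) * w := by group
        _ = w⁻¹ * ((w * n * w⁻¹) * (w * (g * v * g⁻¹) * w⁻¹)) * w := by rw [h2, h1]
        _ = n * (g * v * g⁻¹) := by group
  have hf₂1 : f₂ ≠ 1 := fun h => hf1 (by
    rw [← hwf] at h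
    simpa using h)
  obtain ⟨hc, hs⟩ := hcase f₂ hf₂1 hf₂ hF₂
  have hback : w⁻¹ * f₂ * w⁻¹⁻¹ = f := by rw [← hwf]; group
  refine ⟨?_, ?_⟩
  · rw [hCdef, ← hback, ← centralizer_map_conj]
    exact PLocalB.isPConstrained_of_equiv
      (Subgroup.equivMapOfInjective _ _ (MulAut.conj w⁻¹).injective) hc
  · rw [← hback, ← core_map_conj]
    haveI := hs
    exact Group.isSolvable_of_surjective
      (f := ((MulAut.conj w⁻¹).toMonoidHom).subgroupMap (Cfsg.centralizerPPrimeCore p f₂))
      (MonoidHom.subgroupMap_surjective _ _)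

end Cfsg.Agent.GW66.BaseW
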