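import Cfsg.Agent.GW66.Defs
import Cfsg.Agent.Lib.Thompson.Cores
import Cfsg.Agent.Lib.Involution.KleinSylow
import Mathlib.GroupTheory.Transfer
import Mathlib.GroupTheory.Subgroup.Centralizer

/-!
# Elementary facts about a four-group Sylow 2-subgroup
-/

set_option autoImplicit false

namespace Cfsg.Agent.GW66

open Subgroup

universe u

variable {G : Type u} [Group G] [Finite G] {V : Subgroup G}

theorem klein_sq (hV : IsKleinFour V) {x : G} (hx : x ∈ V) : x * x = 1 :=
  Involution.klein_sq hV hx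

theorem klein_inv (hV : IsKleinFour V) {x : G} (hx : x ∈ V) : x⁻¹ = x :=
  inv_eq_of_mul_eq_one_right (klein_sq hV hx)

theorem klein_comm (hV : IsKleinFour V) {x y : G} (hx : x ∈ V) (hy : y ∈ V) : x * y = y * x :=
  calc x * y = (x * y)⁻¹ := (klein_inv hV (mul_mem hx hy)).symm
    _ = y * x := by rw [mul_inv_rev, klein_inv hV hx, klein_inv hV hy]

theorem klein_orderOf (hV : IsKleinFour V) {x : G} (hx : x ∈ V) (h1 : x ≠ 1) : orderOf x = 2 :=
  orderOf_eq_prime (by rw [pow_two]; exact klein_sq hV hx) h1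

theorem klein_cases (hV : IsKleinFour V) {a b x : G} (h : Pair V a b) (hx : x ∈ V) :
    x = 1 ∨ x = a ∨ x = b ∨ x = a * b := by
  classical
  haveI := Fintype.ofFinite V
  let A : V := ⟨a, h.ha⟩
  let B : V := ⟨b, h.hb⟩
  have hA : A ≠ 1 := fun e => h.a1 (congrArg Subtype.val e)
  have hB : B ≠ 1 := fun e => h.b1 (congrArg Subtype.val e)
  have hAB : A ≠ B := fun e => h.ne (congrArg Subtype.val e)
  have h1 : A * B ≠ 1 := fun e => h.ne (by
    have : a * b = 1 := congrArg Subtype.val e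
    rw [eq_inv_of_mul_eq_one_left this, klein_inv hV h.hb])
  have hcard : ({1, A, B, A * B} : Finset V).card = 4 := by
    have hA2 : A * B ≠ A := fun e => hB (mul_eq_left.mp e)
    have hB2 : A * B ≠ B := fun e => hA (mul_eq_right.mp e)
    simp [Finset.card_insert_of_notMem, hA.symm, hB.symm, hAB, h1.symm, hA2.symm, hB2.symm]
  have huniv : ({1, A, B, A * B} : Finset V) = Finset.univ :=
    Finset.eq_univ_of_card _ (by
      rw [hcard, ← Nat.card_eq_fintype_card]; exact hV.card_four.symm)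
  have hx' : (⟨x, hx⟩ : V) ∈ ({1, A, B, A * B} : Finset V) := huniv ▸ Finset.mem_univ _
  simp only [Finset.mem_insert, Finset.mem_singleton, Subtype.ext_iff] at hx'
  exact hx'

theorem exists_pair_of_mem (hV : IsKleinFour V) {a : G} (ha : a ∈ V) (h1 : a ≠ 1) :
    ∃ b, Pair V a b := by
  classical
  by_contra hne
  push Not at hne
  have hle : V ≤ zpowers a := fun x hx => by
    by_cases hx1 : x = 1
    · rw [hx1]; exact one_mem _
    by_cases hxa : x = a
    · rw [hxa]; exact mem_zpowers a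
    exact absurd ⟨ha, hx, h1, hx1, Ne.symm hxa⟩ (hne x)
  have := card_le_of_le hle
  rw [hV.card_four, Nat.card_zpowers, klein_orderOf hV ha h1] at this
  omega

theorem Pair.symm {a b : G} (h : Pair V a b) : Pair V b a :=
  ⟨h.hb, h.ha, h.b1, h.a1, h.ne.symm⟩

theorem Pair.third (hV : IsKleinFour V) {a b : G} (h : Pair V a b) : Pair V a (a * b) :=
  ⟨h.ha, mul_mem h.ha h.hb, h.a1, fun e => h.ne (by
    rw [eq_inv_of_mul_eq_one_left e, klein_inv hV h.hb]),
    fun e => h.b1 (mul_eq_left.mp e.symm)⟩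

/-- A 2-element normalising `V` lies in `V`. -/
theorem mem_of_two_elem (hV : IsKleinFour V) (hodd : Odd V.index) {g : G}
    (hg : g ∈ normalizer (V : Set G)) {k : ℕ} (hk : orderOf g ∣ 2 ^ k) : g ∈ V := by
  haveI : Fact (Nat.Prime 2) := ⟨Nat.prime_two⟩
  have hV2 : IsPGroup 2 V := IsPGroup.of_card (n := 2) (by rw [hV.card_four]; rfl)
  obtain ⟨i, -, hi⟩ := (Nat.dvd_prime_pow Nat.prime_two).mp hk
  have hp : IsPGroup 2 (zpowers g) := IsPGroup.of_card (n := i) (by rw [Nat.card_zpowers, hi])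
  have hsup := hp.to_sup_of_normal_right' hV2 (zpowers_le.mpr hg)
  obtain ⟨n, hn⟩ := IsPGroup.iff_card.mp hsup
  have hle : V ≤ zpowers g ⊔ V := le_sup_right
  have hrel := relIndex_mul_index hle
  have hmul : V.relIndex (zpowers g ⊔ V) * Nat.card V = Nat.card ↥(zpowers g ⊔ V) := by
    rw [relIndex, ← Nat.card_congr (subgroupOfEquivOfLe hle).toEquiv]
    exact (V.subgroupOf (zpowers g ⊔ V)).index_mul_card
  have hroddd : Odd (V.relIndex (zpowers g ⊔ V)) := Nat.Odd.of_mul_left (hrel ▸ hodd)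
  have hdvd : V.relIndex (zpowers g ⊔ V) ∣ 2 ^ n := hn ▸ Dvd.intro _ hmul
  obtain ⟨j, -, hj⟩ := (Nat.dvd_prime_pow Nat.prime_two).mp hdvd
  have hone : V.relIndex (zpowers g ⊔ V) = 1 := by
    rcases j with _ | j
    · simpa using hj
    · rw [hj, pow_succ] at hroddd
      exact absurd hroddd (Nat.not_odd_iff_even.mpr ⟨2 ^ j, by omega⟩)
  exact relIndex_eq_one.mp hone (mem_sup_left (mem_zpowers g))

/-- An element normalising `V` and fixing an involution of it centralises `V`. -/
theorem centralizes_of_fix (hV : IsKleinFour V) (hodd : Odd V.index) {g a : G}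
    (hg : g ∈ normalizer (V : Set G)) (ha : a ∈ V) (h1 : a ≠ 1) (hfix : g * a = a * g) :
    g ∈ centralizer (V : Set G) := by
  obtain ⟨b, hp⟩ := exists_pair_of_mem hV ha h1
  have hg2 : g ^ 2 * b = b * g ^ 2 := by
    have hb' : g * b * g⁻¹ ∈ V := (mem_normalizer_iff.mp hg b).mp hp.hb
    have hfix' : g * a * g⁻¹ = a := mul_inv_eq_iff_eq_mul.mpr hfix
    rcases klein_cases hV hp hb' with e | e | e | e
    · exact absurd (by simpa using e) hp.b1
    · exact absurd ((MulAut.conj g).injective (by simpa using hfix'.trans e.symm)) hp.ne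
    · have : g * b = b * g := mul_inv_eq_iff_eq_mul.mp e
      rw [pow_two, mul_assoc, this, ← mul_assoc, this, mul_assoc]
    · refine mul_inv_eq_iff_eq_mul.mp ?_
      calc g ^ 2 * b * (g ^ 2)⁻¹ = g * (g * b * g⁻¹) * g⁻¹ := by rw [pow_two]; group
        _ = g * (a * b) * g⁻¹ := by rw [e]
        _ = g * a * g⁻¹ * (g * b * g⁻¹) := by group
        _ = b := by rw [hfix', e, ← mul_assoc, klein_sq hV ha, one_mul]
  obtain ⟨k, m, hm, hord⟩ := Nat.exists_eq_two_pow_mul_odd (orderOf_pos g).ne'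
  have hgm : g ^ m ∈ V := mem_of_two_elem hV hodd (pow_mem hg m) (k := k) (by
    rw [orderOf_dvd_iff_pow_eq_one, ← pow_mul, mul_comm, ← hord, pow_orderOf_eq_one])
  obtain ⟨j, hj⟩ := hm
  have c1 : Commute (g ^ m) b := klein_comm hV hgm hp.hb
  have c2 : Commute (g ^ 2) b := hg2
  have hgb : Commute g b := by
    have : g = g ^ m * ((g ^ 2) ^ j)⁻¹ := by rw [← pow_mul, hj, pow_succ']; group
    rw [this]
    exact c1.mul_left (c2.pow_left j).inv_left
  rw [mem_centralizer_iff]
  intro x hx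
  rcases klein_cases hV hp hx with rfl | rfl | rfl | rfl
  · rw [one_mul, mul_one]
  · exact hfix.symm
  · exact hgb.eq.symm
  · exact ((show Commute g a from hfix).mul_right hgb).eq.symm

/-- A fusing element moves the involutions of `V` cyclically. -/
theorem fusing_orbit (hV : IsKleinFour V) (hodd : Odd V.index) {g : G}
    (hg : g ∈ normalizer (V : Set G)) (hgc : g ∉ centralizer (V : Set G)) {a x : G}
    (ha : a ∈ V) (h1 : a ≠ 1) (hx : x ∈ V) (hx1 : x ≠ 1) :
    x = a ∨ x = g * a * g⁻¹ ∨ x = g * (g * a * g⁻¹) * g⁻¹ := by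
  have hb : g * a * g⁻¹ ∈ V := (mem_normalizer_iff.mp hg a).mp ha
  have hne : ∀ y ∈ V, y ≠ 1 → g * y * g⁻¹ ≠ y := fun y hy hy1 e =>
    hgc (centralizes_of_fix hV hodd hg hy hy1 (mul_inv_eq_iff_eq_mul.mp e))
  have hb1 : g * a * g⁻¹ ≠ 1 := fun e => h1 (by simpa using e)
  have hp : Pair V a (g * a * g⁻¹) := ⟨ha, hb, h1, hb1, (hne a ha h1).symm⟩
  rcases klein_cases hV hp hx with e | e | e | e
  · exact absurd e hx1
  · exact Or.inl e
  · exact Or.inr (Or.inl e)
  refine Or.inr (Or.inr ?_)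
  have hc : g * (g * a * g⁻¹) * g⁻¹ ∈ V := (mem_normalizer_iff.mp hg _).mp hb
  have hc1 : g * (g * a * g⁻¹) * g⁻¹ ≠ 1 := fun e => hb1 (by simpa using e)
  rcases klein_cases hV hp hc with e' | e' | e' | e'
  · exact absurd e' hc1
  · -- the product is then fixed
    exfalso
    refine hne _ (hp.third hV).hb (hp.third hV).b1 ?_
    calc g * (a * (g * a * g⁻¹)) * g⁻¹ = g * a * g⁻¹ * (g * (g * a * g⁻¹) * g⁻¹) := by group
      _ = g * a * g⁻¹ * a := by rw [e']
      _ = a * (g * a * g⁻¹) := klein_comm hV hb ha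
  · exact absurd e' (hne _ hb hb1)
  · rw [e, e']

/-- The odd core, as a subgroup of the ambient group. -/
theorem coreO_le (M : Subgroup G) : coreO M ≤ M := map_subtype_le _

theorem odd_card_coreO (M : Subgroup G) : Odd (Nat.card (coreO M)) := by
  rw [coreO, card_map_of_injective M.subtype_injective]
  exact Nat.coprime_two_right.mp Thompson.card_pPrimeCore_coprime

theorem coreO_conj_mem {M : Subgroup G} {m x : G} (hm : m ∈ M) (hx : x ∈ coreO M) :
    m * x * m⁻¹ ∈ coreO M := by
  obtain ⟨y, hy, rfl⟩ := hx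
  haveI : (Cfsg.oddCore ↥M).Normal := by infer_instance
  exact ⟨⟨m, hm⟩ * y * ⟨m, hm⟩⁻¹, Subgroup.Normal.conj_mem inferInstance y hy _, rfl⟩

theorem le_normalizer_coreO (M : Subgroup G) : M ≤ normalizer (coreO M : Set G) := fun m hm =>
  mem_normalizer_iff.mpr fun x => ⟨fun hx => coreO_conj_mem hm hx, fun hx => by
    have := coreO_conj_mem (inv_mem hm) hx
    simpa [mul_assoc] using this⟩

/-- An unfused subgroup containing `V` has the odd core as a complement of `V`. -/
theorem unfused_decomp (hV : IsKleinFour V) (hodd : Odd V.index) {M : Subgroup G} (hVM : V ≤ M)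
    (hun : ¬ Fused M V) {x : G} (hx : x ∈ M) : ∃ k ∈ coreO M, ∃ v ∈ V, x = k * v := by
  classical
  haveI : Fact (Nat.Prime 2) := ⟨Nat.prime_two⟩
  have hW : IsPGroup 2 ↥(V.subgroupOf M) := IsPGroup.of_card (n := 2) (by
    rw [Nat.card_congr (subgroupOfEquivOfLe hVM).toEquiv, hV.card_four]; rfl)
  have hWi : ¬ 2 ∣ (V.subgroupOf M).index := by
    have : Odd (V.subgroupOf M).index :=
      Nat.Odd.of_mul_left ((relIndex_mul_index hVM).symm ▸ hodd : Odd (V.relIndex M * M.index))
    rw [← even_iff_two_dvd]; exact Nat.not_even_iff_odd.mpr this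
  let P : Sylow 2 ↥M := hW.toSylow hWi
  have hP : (P : Subgroup ↥M) = V.subgroupOf M := rfl
  have hle : normalizer ((P : Subgroup ↥M) : Set ↥M) ≤
      centralizer ((P : Subgroup ↥M) : Set ↥M) := by
    intro g hg
    have hgn : (g : G) ∈ normalizer (V : Set G) := by
      refine mem_normalizer_iff.mpr fun y => ⟨fun hy => ?_, fun hy => ?_⟩
      · have := (mem_normalizer_iff.mp hg ⟨y, hVM hy⟩).mp (by rw [hP]; exact hy)
        rw [hP] at this
        exact this
      · have hyM : y ∈ M := by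
          have h' := mul_mem (mul_mem (inv_mem g.2) (hVM hy)) g.2
          simpa [mul_assoc] using h'
        have := (mem_normalizer_iff.mp hg ⟨y, hyM⟩).mpr (by rw [hP]; exact hy)
        rw [hP] at this
        exact this
    have hgc : (g : G) ∈ centralizer (V : Set G) := by
      by_contra h
      exact hun ⟨g, g.2, hgn, h⟩
    refine mem_centralizer_iff.mpr fun y hy => Subtype.ext ?_
    exact mem_centralizer_iff.mp hgc y (by rw [hP] at hy; exact hy)
  set N := (MonoidHom.transferSylow P hle).ker with hN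
  have hc := MonoidHom.ker_transferSylow_isComplement' P hle
  have hodd' : ¬ 2 ∣ Nat.card N := MonoidHom.not_dvd_card_ker_transferSylow P hle
  have hNle : N ≤ Cfsg.oddCore ↥M := Thompson.le_pPrimeCore inferInstance
    ((Nat.prime_two.coprime_iff_not_dvd.mpr hodd').symm)
  obtain ⟨⟨n, v⟩, hnv⟩ := hc.2 (⟨x, hx⟩ : ↥M)
  exact ⟨(n.1 : G), ⟨n.1, hNle n.2, rfl⟩, (v.1 : G), mem_subgroupOf.mp (hP.le v.2),
    (congrArg Subtype.val hnv).symm⟩

/-- The odd elements of an unfused subgroup lie in its odd core. -/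
theorem unfused_odd_mem (hV : IsKleinFour V) (hodd : Odd V.index) {M : Subgroup G} (hVM : V ≤ M)
    (hun : ¬ Fused M V) {x : G} (hx : x ∈ M) (hxo : Odd (orderOf x)) : x ∈ coreO M := by
  obtain ⟨k, hk, v, hv, rfl⟩ := unfused_decomp hV hodd hVM hun hx
  have hsq : (k * v) ^ 2 ∈ coreO M := by
    have h : (k * v) ^ 2 = k * (v * k * v⁻¹) * (v * v) := by rw [pow_two]; group
    rw [h, klein_sq hV hv, mul_one]
    exact mul_mem hk (coreO_conj_mem (hVM hv) hk)
  obtain ⟨j, hj⟩ := hxo
  have : k * v = ((k * v) ^ 2) ^ (j + 1) := by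
    rw [← pow_mul, show 2 * (j + 1) = orderOf (k * v) + 1 by omega, pow_succ,
      pow_orderOf_eq_one, one_mul]
  rw [this]
  exact pow_mem hsq _

theorem not_fused_centralizer (hV : IsKleinFour V) (hodd : Odd V.index) {a : G} (ha : a ∈ V)
    (h1 : a ≠ 1) : ¬ Fused (centralizer ({a} : Set G)) V := by
  rintro ⟨g, hg, hgn, hgc⟩
  exact hgc (centralizes_of_fix hV hodd hgn ha h1 (mem_centralizer_singleton_iff.mp hg))

theorem le_centralizer_of_mem (hV : IsKleinFour V) {a : G} (ha : a ∈ V) :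
    V ≤ centralizer ({a} : Set G) := fun _ hx =>
  mem_centralizer_singleton_iff.mpr (klein_comm hV hx ha)

theorem le_centralizer_self (hV : IsKleinFour V) : V ≤ centralizer (V : Set G) := fun _ hx =>
  mem_centralizer_iff.mpr fun _ hy => klein_comm hV hy hx

theorem coreK_eq (a : G) : coreK a = coreO (centralizer ({a} : Set G)) := rfl

theorem coreD_eq (V : Subgroup G) : coreD V = coreO (centralizer (V : Set G)) := rfl

theorem centralizer_decomp (hV : IsKleinFour V) (hodd : Odd V.index) {a : G} (ha : a ∈ V)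
    (h1 : a ≠ 1) {x : G} (hx : x * a = a * x) : ∃ k ∈ coreK a, ∃ v ∈ V, x = k * v :=
  unfused_decomp hV hodd (le_centralizer_of_mem hV ha) (not_fused_centralizer hV hodd ha h1)
    (mem_centralizer_singleton_iff.mpr hx)

theorem mem_coreK_iff (hV : IsKleinFour V) (hodd : Odd V.index) {a : G} (ha : a ∈ V) (h1 : a ≠ 1)
    {x : G} : x ∈ coreK a ↔ Odd (orderOf x) ∧ x * a = a * x := by
  refine ⟨fun hx => ⟨?_, mem_centralizer_singleton_iff.mp (coreO_le _ hx)⟩, fun ⟨ho, hc⟩ => ?_⟩
  · exact (odd_card_coreO (centralizer ({a} : Set G))).of_dvd_nat (orderOf_dvd_natCard _ hx)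
  · exact unfused_odd_mem hV hodd (le_centralizer_of_mem hV ha)
      (not_fused_centralizer hV hodd ha h1) (mem_centralizer_singleton_iff.mpr hc) ho

theorem mem_coreD_iff (hV : IsKleinFour V) (hodd : Odd V.index) {x : G} :
    x ∈ coreD V ↔ Odd (orderOf x) ∧ x ∈ centralizer (V : Set G) := by
  refine ⟨fun hx => ⟨?_, coreO_le _ hx⟩, fun ⟨ho, hc⟩ => ?_⟩
  · exact (odd_card_coreO (centralizer (V : Set G))).of_dvd_nat (orderOf_dvd_natCard _ hx)
  · exact unfused_odd_mem hV hodd (le_centralizer_self hV)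
      (fun ⟨_, hg, _, hgc⟩ => hgc hg) hc ho

theorem mem_coreD_iff_pair (hV : IsKleinFour V) (hodd : Odd V.index) {a b x : G} (h : Pair V a b) :
    x ∈ coreD V ↔ x ∈ coreK a ∧ x * b = b * x := by
  rw [mem_coreD_iff hV hodd, mem_coreK_iff hV hodd h.ha h.a1, mem_centralizer_iff]
  constructor
  · rintro ⟨ho, hc⟩
    exact ⟨⟨ho, (hc a h.ha).symm⟩, (hc b h.hb).symm⟩
  · rintro ⟨⟨ho, hca⟩, hcb⟩
    refine ⟨ho, fun y hy => ?_⟩
    rcases klein_cases hV h hy with rfl | rfl | rfl | rfl
    · rw [one_mul, mul_one]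
    · exact hca.symm
    · exact hcb.symm
    · exact ((show Commute x a from hca).mul_right (show Commute x b from hcb)).eq.symm

theorem coreD_le_coreK (hV : IsKleinFour V) (hodd : Odd V.index) {a : G} (ha : a ∈ V)
    (h1 : a ≠ 1) : coreD V ≤ coreK a := fun x hx => by
  obtain ⟨b, h⟩ := exists_pair_of_mem hV ha h1
  exact ((mem_coreD_iff_pair hV hodd h).mp hx).1

theorem odd_card_coreK (a : G) : Odd (Nat.card (coreK a)) := odd_card_coreO _

theorem odd_card_coreD (V : Subgroup G) : Odd (Nat.card (coreD V)) := odd_card_coreO _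

theorem le_normalizer_coreK (hV : IsKleinFour V) {a : G} (ha : a ∈ V) :
    V ≤ normalizer (coreK a : Set G) :=
  (le_centralizer_of_mem hV ha).trans (le_normalizer_coreO _)

theorem le_centralizer_coreD (V : Subgroup G) : coreD V ≤ centralizer (V : Set G) :=
  coreO_le (centralizer (V : Set G))

namespace Ctx

variable (hc : Ctx V)

include hc

theorem exists_fusing : ∃ r, r ∈ normalizer (V : Set G) ∧ r ∉ centralizer (V : Set G) :=
  let ⟨r, _, h1, h2⟩ := hc.fused
  ⟨r, h1, h2⟩

theorem ne_top : V ≠ ⊤ := fun h => by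
  obtain ⟨r, hr, hrc⟩ := hc.exists_fusing
  exact hrc (le_centralizer_self hc.klein (h ▸ mem_top r))

theorem not_normal : ¬ V.Normal := fun h => by
  haveI := hc.simple
  rcases h.eq_bot_or_eq_top with h' | h'
  · have := hc.klein.card_four
    rw [h', card_bot] at this
    omega
  · exact hc.ne_top h'

/-- The centraliser of a nonidentity element is proper. -/
theorem centralizer_ne_top {x : G} (hx : x ≠ 1) : centralizer ({x} : Set G) ≠ ⊤ := fun h => by
  haveI := hc.simple
  have hmem : x ∈ center G := mem_center_iff.mpr fun g =>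
    mem_centralizer_singleton_iff.mp (h ▸ mem_top g)
  rcases (inferInstance : (center G).Normal).eq_bot_or_eq_top with h' | h'
  · exact hx (mem_bot.mp (h' ▸ hmem))
  · refine hc.not_normal ⟨fun v hv g => ?_⟩
    rw [(mem_center_iff.mp (h' ▸ mem_top v) g : g * v = v * g), mul_inv_cancel_right]
    exact hv

/-- The normaliser of a nontrivial proper subgroup is proper. -/
theorem normalizer_ne_top {X : Subgroup G} (h1 : X ≠ ⊥) (h2 : X ≠ ⊤) :
    normalizer (X : Set G) ≠ ⊤ := fun h => by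
  haveI := hc.simple
  rcases (normalizer_eq_top_iff.mp h).eq_bot_or_eq_top with h' | h'
  · exact h1 h'
  · exact h2 h'

theorem isConj_involution {s t : G} (hs : orderOf s = 2) (ht : orderOf t = 2) : IsConj s t := by
  haveI : Fact (Nat.Prime 2) := ⟨Nat.prime_two⟩
  let P : Sylow 2 G := (IsPGroup.of_card (p := 2) (G := V) (n := 2)
    (by rw [hc.klein.card_four]; rfl)).toSylow (by
      rw [← even_iff_two_dvd]; exact Nat.not_even_iff_odd.mpr hc.sylow)
  refine ((Involution.klein_sylow_dichotomy P hc.klein).resolve_left fun hle => ?_) s t hs ht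
  obtain ⟨r, hr, hrc⟩ := hc.exists_fusing
  exact hrc (hle hr)

end Ctx

end Cfsg.Agent.GW66
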