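import Cfsg.Agent.GW66.Defs
import Cfsg.Agent.Lib.Thompson.Cores
import Cfsg.Agent.PF14.Compose

/-!
# An extraspecial normal subgroup of order `q³` is impossible (`BetaStmt`)
-/

set_option autoImplicit false
set_option linter.style.haveILetI false
set_option linter.unusedSectionVars false
set_option linter.unusedVariables false

namespace Cfsg.Agent.GW66.Beta

open Subgroup
open scoped commutatorElement Pointwise

universe u

variable {G : Type u} [Group G]

theorem exists_sqrt {w : G} (hw : Odd (orderOf w)) : ∃ n : ℕ, (w ^ n) ^ 2 = w := by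
  obtain ⟨k, hk⟩ := hw
  refine ⟨k + 1, ?_⟩
  have h : (k + 1) * 2 = (2 * k + 1) + 1 := by ring
  rw [← pow_mul, h, pow_succ, ← hk, pow_orderOf_eq_one, one_mul]

theorem eq_one_of_sq {x : G} (hx : Odd (orderOf x)) (h : x ^ 2 = 1) : x = 1 := by
  rcases (Nat.dvd_prime Nat.prime_two).mp (orderOf_dvd_of_pow_eq_one h) with h1 | h1
  · exact orderOf_eq_one_iff.mp h1
  · rw [h1] at hx
    exact absurd hx (by decide)

theorem mem_of_sq_mem {x : G} (H : Subgroup G) (hx : Odd (orderOf x)) (h : x ^ 2 ∈ H) :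
    x ∈ H := by
  obtain ⟨n, hn⟩ := exists_sqrt hx
  have : x = (x ^ 2) ^ n := by
    rw [← pow_mul, mul_comm, pow_mul]; exact hn.symm
  rw [this]
  exact pow_mem h n

theorem odd_orderOf_of_mem [Finite G] {H : Subgroup G} (hH : Odd (Nat.card H)) {x : G}
    (hx : x ∈ H) : Odd (orderOf x) := by
  have h := orderOf_dvd_natCard (⟨x, hx⟩ : H)
  rw [Subgroup.orderOf_mk] at h
  exact hH.of_dvd_nat h

/-- `zpowers` of an element of prime order is generated by each nontrivial element. -/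
theorem zpowers_eq_of_mem [Finite G] {q : ℕ} (hq : q.Prime) {y x : G} (hy : orderOf y = q)
    (hx : x ∈ zpowers y) (hx1 : x ≠ 1) : zpowers x = zpowers y := by
  refine Subgroup.eq_of_le_of_card_ge (zpowers_le.mpr hx) ?_
  rw [Nat.card_zpowers, Nat.card_zpowers, hy]
  have h : orderOf x ∣ q := hy ▸ orderOf_dvd_of_mem_zpowers hx
  rcases (Nat.dvd_prime hq).mp h with h1 | h1
  · exact absurd (orderOf_eq_one_iff.mp h1) hx1
  · rw [h1]

theorem orderOf_conj_eq (g x : G) : orderOf (g * x * g⁻¹) = orderOf x :=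
  (MulAut.conj g).orderOf_eq x

theorem orderOf_eq_of_pow_prime {q : ℕ} (hq : q.Prime) {x : G} (h1 : x ≠ 1) (h : x ^ q = 1) :
    orderOf x = q := by
  haveI := Fact.mk hq
  exact orderOf_eq_prime h h1

theorem conj_pow_eq (g x : G) (n : ℕ) : g * x ^ n * g⁻¹ = (g * x * g⁻¹) ^ n := by
  simp

/-- A `q`-element normalising a subgroup of order `q` centralises it. -/
theorem fix_of_prime {q : ℕ} (hq : q.Prime) {x y : G} {k : ℕ} (hx : x ^ (q ^ k) = 1)
    (hy : orderOf y = q) (h : ∃ i : ℕ, x * y * x⁻¹ = y ^ i) : x * y * x⁻¹ = y := by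
  haveI := Fact.mk hq
  obtain ⟨i, hi⟩ := h
  have hn : ∀ n : ℕ, x ^ n * y * (x ^ n)⁻¹ = y ^ (i ^ n) := by
    intro n
    induction n with
    | zero => simp
    | succ n ih =>
      calc x ^ (n + 1) * y * (x ^ (n + 1))⁻¹ = x * (x ^ n * y * (x ^ n)⁻¹) * x⁻¹ := by
            rw [pow_succ']; group
        _ = y ^ (i ^ (n + 1)) := by rw [ih, conj_pow_eq, hi, ← pow_mul, ← pow_succ']
  have h1 := hn (q ^ k)
  rw [hx] at h1
  simp only [one_mul, inv_one, mul_one] at h1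
  have h2 : ((i ^ (q ^ k) : ℕ) : ZMod q) = 1 := by
    have h3 : y ^ (i ^ q ^ k) = y ^ 1 := by rw [pow_one]; exact h1.symm
    rw [pow_eq_pow_iff_modEq, hy] at h3
    rw [← Nat.cast_one]
    exact (ZMod.natCast_eq_natCast_iff _ _ _).mpr h3
  rw [Nat.cast_pow, ZMod.pow_card_pow] at h2
  rw [hi]
  nth_rw 2 [← pow_one y]
  rw [pow_eq_pow_iff_modEq, hy, ← ZMod.natCast_eq_natCast_iff, Nat.cast_one]
  exact h2

/-- Counting: a set of products `c * u`. -/
theorem card_le_mul_of_cover [Finite G] (C A B : Subgroup G)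
    (h : ∀ x ∈ C, ∃ c ∈ A, ∃ u ∈ B, x = c * u) : Nat.card C ≤ Nat.card A * Nat.card B := by
  choose c hc u hu heq using fun x : C => h x.1 x.2
  rw [← Nat.card_prod]
  refine Nat.card_le_card_of_injective (fun x : C => ((⟨c x, hc x⟩ : A), (⟨u x, hu x⟩ : B))) ?_
  intro x x' hxx'
  simp only [Prod.mk.injEq, Subtype.mk.injEq] at hxx'
  exact Subtype.ext (by rw [heq x, heq x', hxx'.1, hxx'.2])

/-- A product of two subgroups with trivial intersection filling `C`. -/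
theorem exists_mul_of_card [Finite G] (C A B : Subgroup G) (hA : A ≤ C) (hB : B ≤ C)
    (hd : A ⊓ B = ⊥) (hc : Nat.card C = Nat.card A * Nat.card B) :
    ∀ x ∈ C, ∃ c ∈ A, ∃ u ∈ B, x = c * u := by
  let f : A × B → C := fun p => ⟨p.1 * p.2, mul_mem (hA p.1.2) (hB p.2.2)⟩
  have hf : Function.Injective f := by
    rintro ⟨a1, b1⟩ ⟨a2, b2⟩ h
    have h' : (a1 : G) * b1 = a2 * b2 := congrArg Subtype.val h
    have h2 : (a2 : G)⁻¹ * a1 = b2 * (b1 : G)⁻¹ := by
      rw [eq_mul_inv_iff_mul_eq, mul_assoc, h', inv_mul_cancel_left]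
    have h3 : (a2 : G)⁻¹ * a1 ∈ A ⊓ B :=
      Subgroup.mem_inf.mpr ⟨mul_mem (inv_mem a2.2) a1.2, h2 ▸ mul_mem b2.2 (inv_mem b1.2)⟩
    rw [hd, Subgroup.mem_bot, inv_mul_eq_one] at h3
    have h4 : (b1 : G) = b2 := by
      rw [← h3] at h'
      exact mul_left_cancel h'
    exact Prod.ext (Subtype.ext h3.symm) (Subtype.ext h4)
  have hb : Function.Bijective f :=
    (Nat.bijective_iff_injective_and_card f).mpr ⟨hf, by rw [Nat.card_prod]; exact hc.symm⟩
  intro x hx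
  obtain ⟨p, hp⟩ := hb.2 ⟨x, hx⟩
  exact ⟨p.1, p.1.2, p.2, p.2.2, (congrArg Subtype.val hp).symm⟩

/-- The conjugates of `y` under `H`. -/
def conjSet (H : Subgroup G) (y : G) : Set G := {g | ∃ h ∈ H, h * y * h⁻¹ = g}

theorem card_conjSet [Finite G] (H : Subgroup G) (y : G) :
    (conjSet H y).ncard * Nat.card ↥(H ⊓ centralizer ({y} : Set G)) = Nat.card H := by
  classical
  choose rep hrepH hrep using fun g : conjSet H y => g.2
  rw [← Nat.card_coe_set_eq, ← Nat.card_prod]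
  let e : conjSet H y × ↥(H ⊓ centralizer ({y} : Set G)) → H :=
    fun p => ⟨rep p.1 * p.2, mul_mem (hrepH p.1) p.2.2.1⟩
  have hconj : ∀ p, (e p : G) * y * (e p : G)⁻¹ = (p.1 : G) := by
    intro p
    have hc : (p.2 : G) * y = y * p.2 := mem_centralizer_singleton_iff.mp p.2.2.2
    calc (rep p.1 * (p.2 : G)) * y * (rep p.1 * (p.2 : G))⁻¹
        = rep p.1 * ((p.2 : G) * y * (p.2 : G)⁻¹) * (rep p.1)⁻¹ := by group
      _ = _ := by rw [hc, mul_inv_cancel_right]; exact hrep p.1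
  refine Nat.card_congr (Equiv.ofBijective e ⟨?_, ?_⟩)
  · rintro p p' h
    have h1 : p.1 = p'.1 := Subtype.ext (by rw [← hconj p, ← hconj p', h])
    have h2 : rep p.1 * (p.2 : G) = rep p'.1 * (p'.2 : G) := congrArg Subtype.val h
    rw [h1] at h2
    exact Prod.ext h1 (Subtype.ext (mul_left_cancel h2))
  · rintro ⟨h, hh⟩
    let g : conjSet H y := ⟨h * y * h⁻¹, h, hh, rfl⟩
    have hmem : (rep g)⁻¹ * h ∈ H ⊓ centralizer ({y} : Set G) := by
      refine Subgroup.mem_inf.mpr ⟨mul_mem (inv_mem (hrepH g)) hh,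
        mem_centralizer_singleton_iff.mpr ?_⟩
      have := hrep g
      calc (rep g)⁻¹ * h * y = (rep g)⁻¹ * (h * y * h⁻¹) * h := by group
        _ = (rep g)⁻¹ * (rep g * y * (rep g)⁻¹) * h := by rw [this]
        _ = y * ((rep g)⁻¹ * h) := by group
    exact ⟨(g, ⟨_, hmem⟩), Subtype.ext (mul_inv_cancel_left _ _)⟩

theorem card_le_mul_of_fibres {α β : Type*} [DecidableEq β] (P : Finset α) (f : α → β)
    (T : Set β) (hT : T.Finite) (hf : ∀ p ∈ P, f p ∈ T) (d : ℕ)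
    (hd : ∀ b ∈ T, (P.filter fun p => f p = b).card ≤ d) : P.card ≤ d * T.ncard := by
  rw [Set.ncard_eq_toFinset_card _ hT]
  exact Finset.card_le_mul_card_image_of_maps_to (fun p hp => hT.mem_toFinset.mpr (hf p hp)) d
    (fun b hb => hd b (hT.mem_toFinset.mp hb))

section CtxLemmas

variable [Finite G] {V : Subgroup G}

theorem mul_self_of_mem (h : Ctx V) {e : G} (he : e ∈ V) : e * e = 1 := by
  haveI := h.klein
  exact congrArg Subtype.val (IsKleinFour.mul_self (⟨e, he⟩ : V))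

theorem inv_of_mem (h : Ctx V) {e : G} (he : e ∈ V) : e⁻¹ = e :=
  inv_eq_of_mul_eq_one_right (mul_self_of_mem h he)

theorem eq_mul_of_ne (h : Ctx V) {a b e : G} (ha : a ∈ V) (hb : b ∈ V) (he : e ∈ V)
    (a1 : a ≠ 1) (b1 : b ≠ 1) (hab : a ≠ b) (e1 : e ≠ 1) (hea : e ≠ a) (heb : e ≠ b) :
    e = a * b := by
  haveI := h.klein
  have := IsKleinFour.eq_mul_of_ne_all (x := (⟨a, ha⟩ : V)) (y := ⟨b, hb⟩) (z := ⟨e, he⟩)
    (fun hc => a1 (congrArg Subtype.val hc)) (fun hc => b1 (congrArg Subtype.val hc))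
    (fun hc => hab (congrArg Subtype.val hc)) (fun hc => e1 (congrArg Subtype.val hc))
    (fun hc => hea (congrArg Subtype.val hc)) (fun hc => heb (congrArg Subtype.val hc))
  exact congrArg Subtype.val this

theorem comm_of_mem (h : Ctx V) {e f : G} (he : e ∈ V) (hf : f ∈ V) : e * f = f * e := by
  calc e * f = (e * f)⁻¹ := (inv_of_mem h (mul_mem he hf)).symm
    _ = f * e := by rw [mul_inv_rev, inv_of_mem h he, inv_of_mem h hf]

theorem le_centralizer_of_mem (h : Ctx V) {e : G} (he : e ∈ V) :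
    V ≤ centralizer ({e} : Set G) :=
  fun _ hf => mem_centralizer_singleton_iff.mpr (comm_of_mem h hf he)

theorem le_centralizer_self (h : Ctx V) : V ≤ centralizer (V : Set G) :=
  fun _ hf => mem_centralizer_iff.mpr fun _ hg => comm_of_mem h hg hf

theorem centralizer_le_singleton {e : G} (he : e ∈ V) :
    centralizer (V : Set G) ≤ centralizer ({e} : Set G) :=
  centralizer_le (Set.singleton_subset_iff.mpr he)

theorem conj_mem_of_normalizer {g f : G} (hg : g ∈ normalizer (V : Set G)) (hf : f ∈ V) :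
    g * f * g⁻¹ ∈ V :=
  (mem_normalizer_iff.mp hg f).mp hf

theorem exists_odd_pow_mem (h : Ctx V) {w : G} (hw : w ∈ normalizer (V : Set G)) :
    ∃ t : ℕ, Odd t ∧ w ^ t ∈ V := by
  refine ⟨V.relIndex (normalizer (V : Set G)), ?_, ?_⟩
  · exact h.sylow.of_dvd_nat (relIndex_dvd_index_of_le le_normalizer)
  · exact Subgroup.pow_index_mem (V.subgroupOf (normalizer (V : Set G))) ⟨w, hw⟩

theorem mem_centralizer_of_sq (h : Ctx V) {w : G} (hw : w ∈ normalizer (V : Set G))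
    (h2 : w ^ 2 ∈ centralizer (V : Set G)) : w ∈ centralizer (V : Set G) := by
  obtain ⟨t, ⟨s, hs⟩, ht⟩ := exists_odd_pow_mem h hw
  have h3 := le_centralizer_self h ht
  rw [hs, pow_succ, pow_mul] at h3
  exact (mul_mem_cancel_left (pow_mem h2 s)).mp h3

/-- An element of `N(V)` fixing an involution of `V` centralises `V`. -/
theorem mem_centralizer_of_fix (h : Ctx V) {w e : G} (hw : w ∈ normalizer (V : Set G))
    (he : e ∈ V) (e1 : e ≠ 1) (hfix : w * e * w⁻¹ = e) : w ∈ centralizer (V : Set G) := by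
  apply mem_centralizer_of_sq h hw
  rw [mem_centralizer_iff]
  intro f hf
  have key : w * (w * f * w⁻¹) * w⁻¹ = f := by
    by_cases f1 : f = 1
    · subst f1; simp
    by_cases fe : f = e
    · subst fe; rw [hfix, hfix]
    have inj : ∀ {x y : G}, w * x * w⁻¹ = w * y * w⁻¹ → x = y := fun {x y} hxy =>
      mul_left_cancel (mul_right_cancel hxy)
    have hf' := conj_mem_of_normalizer hw hf
    by_cases hff : w * f * w⁻¹ = f
    · rw [hff, hff]
    have n1 : w * f * w⁻¹ ≠ 1 := fun hc => f1 (inj (hc.trans (by simp)))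
    have ne : w * f * w⁻¹ ≠ e := fun hc => fe (inj (hc.trans hfix.symm))
    have h2 : w * f * w⁻¹ = e * f :=
      eq_mul_of_ne h he hf hf' e1 f1 (Ne.symm fe) n1 ne hff
    calc w * (w * f * w⁻¹) * w⁻¹ = (w * e * w⁻¹) * (w * f * w⁻¹) := by nth_rw 1 [h2]; group
      _ = f := by rw [hfix, h2, ← mul_assoc, mul_self_of_mem h he, one_mul]
  calc f * w ^ 2 = (w * (w * f * w⁻¹) * w⁻¹) * w ^ 2 := by rw [key]
    _ = w ^ 2 * f := by rw [pow_two]; group

theorem exists_fused_conj (h : Ctx V) {M : Subgroup G} (hM : Fused M V) {a e : G} (ha : a ∈ V)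
    (a1 : a ≠ 1) (he : e ∈ V) (e1 : e ≠ 1) :
    ∃ m ∈ M, m ∈ normalizer (V : Set G) ∧ m * a * m⁻¹ = e := by
  obtain ⟨r, hrM, hrN, hrC⟩ := hM
  by_cases hea : e = a
  · exact ⟨1, M.one_mem, one_mem _, by simp [hea]⟩
  by_cases her : e = r * a * r⁻¹
  · exact ⟨r, hrM, hrN, her.symm⟩
  refine ⟨r * r, mul_mem hrM hrM, mul_mem hrN hrN, ?_⟩
  have hrr : r * r * a * (r * r)⁻¹ = r * (r * a * r⁻¹) * r⁻¹ := by group
  have hm1 := conj_mem_of_normalizer hrN ha
  have hm2 := conj_mem_of_normalizer hrN hm1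
  have inj : ∀ {x y : G}, r * x * r⁻¹ = r * y * r⁻¹ → x = y := fun {x y} hxy =>
    mul_left_cancel (mul_right_cancel hxy)
  have n1 : r * a * r⁻¹ ≠ 1 := fun hc => a1 (inj (hc.trans (by simp)))
  have na : r * a * r⁻¹ ≠ a := fun hc => hrC (mem_centralizer_of_fix h hrN ha a1 hc)
  have m1 : r * (r * a * r⁻¹) * r⁻¹ ≠ 1 := fun hc => n1 (inj (hc.trans (by simp)))
  have mr : r * (r * a * r⁻¹) * r⁻¹ ≠ r * a * r⁻¹ := fun hc => na (inj hc)
  have ma : r * (r * a * r⁻¹) * r⁻¹ ≠ a := by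
    intro hc
    apply hrC
    apply mem_centralizer_of_sq h hrN
    exact mem_centralizer_of_fix h (pow_mem hrN 2) ha a1 (by rw [pow_two, hrr, hc])
  rw [hrr, eq_mul_of_ne h ha hm1 he a1 n1 (Ne.symm na) e1 hea her,
    ← eq_mul_of_ne h ha hm1 hm2 a1 n1 (Ne.symm na) m1 ma mr]

/-- Two subgroups of order four inside `M` are conjugate in `M`. -/
theorem exists_conj (h : Ctx V) {M W : Subgroup G} (hVM : V ≤ M) (hWM : W ≤ M)
    (hW : Nat.card W = 4) : ∃ m ∈ M, W.map (MulAut.conj m).toMonoidHom = V := by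
  haveI := Fact.mk Nat.prime_two
  haveI := h.klein
  have hV : Nat.card V = 4 := IsKleinFour.card_four
  have hWi : Odd W.index := by
    have h1 := W.card_mul_index
    rw [← V.card_mul_index, hV, hW] at h1
    rw [Nat.eq_of_mul_eq_mul_left (by norm_num) h1]
    exact h.sylow
  have mk : ∀ X : Subgroup G, X ≤ M → Nat.card X = 4 → Odd X.index →
      ∃ P : Sylow 2 M, (P : Subgroup M) = X.subgroupOf M := by
    intro X hX hc hi
    have hp : IsPGroup 2 (X.subgroupOf M) :=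
      (IsPGroup.of_card (n := 2) (by rw [hc]; rfl)).of_equiv (subgroupOfEquivOfLe hX).symm
    have hn : ¬ 2 ∣ (X.subgroupOf M).index := fun hd =>
      hi.not_two_dvd_nat (hd.trans (relIndex_dvd_index_of_le hX))
    exact ⟨hp.toSylow hn, rfl⟩
  obtain ⟨P, hP⟩ := mk V hVM hV h.sylow
  obtain ⟨Q, hQ⟩ := mk W hWM hW hWi
  obtain ⟨g, hg⟩ := MulAction.exists_smul_eq M Q P
  refine ⟨g, g.2, ?_⟩
  have hg' : ((g • Q : Sylow 2 M) : Subgroup M) = (P : Subgroup M) := congrArg _ hg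
  rw [Sylow.coe_subgroup_smul, hP, hQ] at hg'
  have h3 := congrArg (Subgroup.map M.subtype) hg'
  rw [map_subgroupOf_eq_of_le hVM] at h3
  have h4 : ((MulAut.conj g) • W.subgroupOf M).map M.subtype =
      W.map (MulAut.conj (g : G)).toMonoidHom := by
    rw [Subgroup.pointwise_smul_def]
    ext x
    constructor
    · rintro ⟨_, ⟨y, hy, rfl⟩, rfl⟩
      exact ⟨y, hy, rfl⟩
    · rintro ⟨y, hy, rfl⟩
      exact ⟨_, ⟨⟨y, hWM hy⟩, hy, rfl⟩, rfl⟩
  rw [← h4]; exact h3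

theorem coreK_le_centralizer (e : G) : coreK e ≤ centralizer ({e} : Set G) :=
  map_subtype_le _

theorem odd_card_coreK (e : G) : Odd (Nat.card ↥(coreK e)) := by
  have h : Nat.card ↥(coreK e) =
      Nat.card ↥(Cfsg.pPrimeCore 2 ↥(centralizer ({e} : Set G))) :=
    card_map_of_injective (subtype_injective _)
  rw [h]
  exact Nat.coprime_two_right.mp Thompson.card_pPrimeCore_coprime

theorem coreK_conj {e g k : G} (hg : g ∈ centralizer ({e} : Set G)) (hk : k ∈ coreK e) :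
    g * k * g⁻¹ ∈ coreK e := by
  obtain ⟨k', hk', rfl⟩ := hk
  exact ⟨⟨g, hg⟩ * k' * ⟨g, hg⟩⁻¹, Thompson.instPPrimeCoreNormal.conj_mem k' hk' _, rfl⟩

/-- `C(e) = O(C(e)) V`. -/
theorem exists_coreK_mul (h : Ctx V) {e : G} (he : e ∈ V) (e1 : e ≠ 1) {g : G}
    (hg : g ∈ centralizer ({e} : Set G)) : ∃ k ∈ coreK e, ∃ v ∈ V, g = k * v := by
  haveI := Fact.mk Nat.prime_two
  haveI := h.klein
  set C := centralizer ({e} : Set G) with hC
  have hVC : V ≤ C := le_centralizer_of_mem h he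
  have hp : IsPGroup 2 (V.subgroupOf C) :=
    (IsPGroup.of_card (n := 2) (by rw [IsKleinFour.card_four]; rfl)).of_equiv
      (subgroupOfEquivOfLe hVC).symm
  have hn : ¬ 2 ∣ (V.subgroupOf C).index := fun hd =>
    h.sylow.not_two_dvd_nat (hd.trans (relIndex_dvd_index_of_le hVC))
  let P : Sylow 2 C := hp.toSylow hn
  have hPc : normalizer ((P : Subgroup C) : Set C) ≤ centralizer ((P : Subgroup C) : Set C) := by
    intro x hx
    have hxN : (x : G) ∈ normalizer (V : Set G) := by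
      rw [mem_normalizer_iff]
      intro f
      constructor
      · intro hf
        exact (mem_normalizer_iff.mp hx ⟨f, hVC hf⟩).mp hf
      · intro hf
        have h1 := (mem_normalizer_iff''.mp hx ⟨(x : G) * f * (x : G)⁻¹, hVC hf⟩).mp hf
        simpa [P, mem_subgroupOf, mul_assoc] using h1
    have hfix : (x : G) * e * (x : G)⁻¹ = e := by
      rw [mem_centralizer_singleton_iff.mp x.2, mul_inv_cancel_right]
    have hxc := mem_centralizer_of_fix h hxN he e1 hfix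
    rw [mem_centralizer_iff]
    intro f hf
    exact Subtype.ext (mem_centralizer_iff.mp hxc (f : G) hf)
  have hc := MonoidHom.ker_transferSylow_isComplement' P hPc
  set N := (MonoidHom.transferSylow P hPc).ker
  have hNK : N ≤ Cfsg.pPrimeCore 2 C := by
    refine Thompson.le_pPrimeCore inferInstance ?_
    exact ((Nat.prime_two.coprime_iff_not_dvd).mpr
      (MonoidHom.not_dvd_card_ker_transferSylow P hPc)).symm
  have hmem : (⟨g, hg⟩ : C) ∈ N ⊔ (P : Subgroup C) := by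
    rw [hc.sup_eq_top]; exact mem_top _
  obtain ⟨k, hk, v, hv, hkv⟩ := mem_sup_of_normal_left.mp hmem
  exact ⟨k, ⟨k, hNK hk, rfl⟩, v, hv, (congrArg Subtype.val hkv).symm⟩

theorem mem_coreK_of_odd (h : Ctx V) {e x : G} (he : e ∈ V) (e1 : e ≠ 1)
    (hx : x ∈ centralizer ({e} : Set G)) (ho : Odd (orderOf x)) : x ∈ coreK e := by
  apply mem_of_sq_mem _ ho
  obtain ⟨k, hk, v, hv, rfl⟩ := exists_coreK_mul h he e1 hx
  have : (k * v) ^ 2 = k * (v * k * v⁻¹) * (v * v) := by rw [pow_two]; group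
  rw [this, mul_self_of_mem h hv, mul_one]
  exact mul_mem hk (coreK_conj (le_centralizer_of_mem h he hv) hk)

theorem coreD_le_centralizer : coreD V ≤ centralizer (V : Set G) := map_subtype_le _

theorem odd_card_coreD : Odd (Nat.card ↥(coreD V)) := by
  have h : Nat.card ↥(coreD V) = Nat.card ↥(Cfsg.oddCore ↥(centralizer (V : Set G))) :=
    card_map_of_injective (subtype_injective _)
  rw [h]
  exact Nat.coprime_two_right.mp Thompson.card_pPrimeCore_coprime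

theorem coreD_le_coreK (h : Ctx V) {a : G} (ha : a ∈ V) (a1 : a ≠ 1) : coreD V ≤ coreK a :=
  fun _ hx => mem_coreK_of_odd h ha a1 (centralizer_le_singleton ha (coreD_le_centralizer hx))
    (odd_orderOf_of_mem odd_card_coreD hx)

theorem coreK_inf_le_coreD {a : G} (ha : a ∈ V) :
    coreK a ⊓ centralizer (V : Set G) ≤ coreD V := by
  set C := centralizer (V : Set G)
  have hn : ((coreK a).subgroupOf C).Normal := by
    refine ⟨fun x hx g => ?_⟩
    rw [mem_subgroupOf] at hx ⊢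
    exact coreK_conj (centralizer_le_singleton ha g.2) hx
  have ho : (Nat.card ↥((coreK a).subgroupOf C)).Coprime 2 := by
    rw [Nat.coprime_two_right]
    exact (odd_card_coreK a).of_dvd_nat (card_comap_dvd_of_injective _ _ (subtype_injective _))
  rintro x ⟨hxK, hxC⟩
  exact ⟨⟨x, hxC⟩, Thompson.le_pPrimeCore hn ho hxK, rfl⟩

theorem mem_coreD_of_odd (h : Ctx V) {a x : G} (ha : a ∈ V) (a1 : a ≠ 1)
    (hx : x ∈ centralizer (V : Set G)) (ho : Odd (orderOf x)) : x ∈ coreD V :=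
  coreK_inf_le_coreD ha ⟨mem_coreK_of_odd h ha a1 (centralizer_le_singleton ha hx) ho, hx⟩

/-- Elements of `O(C(a))` fixed by a second involution lie in `O(C(V))`. -/
theorem mem_coreD_of_fix (h : Ctx V) {a b x : G} (hp : Pair V a b) (hx : x ∈ coreK a)
    (hb : b * x * b⁻¹ = x) : x ∈ coreD V := by
  refine coreK_inf_le_coreD hp.ha ⟨hx, mem_centralizer_iff.mpr fun f hf => ?_⟩
  have hxa : x * a = a * x := mem_centralizer_singleton_iff.mp (coreK_le_centralizer a hx)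
  have hbx : b * x = x * b := by
    calc b * x = b * x * b⁻¹ * b := by group
      _ = x * b := by rw [hb]
  by_cases f1 : f = 1
  · subst f1; simp
  by_cases fa : f = a
  · subst fa; exact hxa.symm
  by_cases fb : f = b
  · subst fb; exact hbx
  rw [eq_mul_of_ne h hp.ha hp.hb hf hp.a1 hp.b1 hp.ne f1 fa fb, mul_assoc, hbx, ← mul_assoc,
    ← hxa, mul_assoc]

theorem exists_pair (h : Ctx V) {a : G} (ha : a ∈ V) (a1 : a ≠ 1) : ∃ b, Pair V a b := by
  by_contra hcon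
  push Not at hcon
  haveI := h.klein
  have hsub : (V : Set G) ⊆ {1, a} := by
    intro f hf
    by_contra hne
    simp only [Set.mem_insert_iff, Set.mem_singleton_iff, not_or] at hne
    exact hcon f ⟨ha, hf, a1, hne.1, Ne.symm hne.2⟩
  have h1 := Set.ncard_le_ncard hsub
  rw [Set.ncard_pair (Ne.symm a1), ← Nat.card_coe_set_eq, SetLike.coe_sort_coe,
    IsKleinFour.card_four] at h1
  omega

theorem centralizer_ne_top (h : Ctx V) {x : G} (hx1 : x ≠ 1) :
    centralizer ({x} : Set G) ≠ ⊤ := by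
  intro htop
  haveI := h.simple
  have hxc : x ∈ center G := by
    rw [mem_center_iff]
    intro g
    have : g ∈ centralizer ({x} : Set G) := htop ▸ mem_top g
    exact mem_centralizer_singleton_iff.mp this
  rcases (Subgroup.Normal.eq_bot_or_eq_top (inferInstance : (center G).Normal)) with hc | hc
  · exact hx1 (by rwa [hc, mem_bot] at hxc)
  · obtain ⟨r, -, -, hr⟩ := h.fused
    refine hr (mem_centralizer_iff.mpr fun f _ => ?_)
    exact mem_center_iff.mp (hc ▸ mem_top r) f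

theorem solvable_of_not_four_dvd {L : Subgroup G} (hL : ¬ 4 ∣ Nat.card L) :
    Group.IsSolvable L := by
  haveI := Fact.mk Nat.prime_two
  obtain ⟨P⟩ : Nonempty (Sylow 2 L) := inferInstance
  obtain ⟨k, hk⟩ := P.isPGroup'.exists_card_eq
  have hk2 : k < 2 := by
    by_contra hc
    exact hL ((pow_dvd_pow 2 (not_lt.mp hc)).trans (hk ▸ P.1.card_subgroup_dvd_card))
  haveI : IsCyclic P := by
    rcases (show k = 0 ∨ k = 1 by omega) with rfl | rfl
    · haveI : Subsingleton P := (Nat.card_eq_one_iff_unique.mp (by simpa using hk)).1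
      infer_instance
    · exact isCyclic_of_prime_card (p := 2) (by simpa using hk)
  have hPc : normalizer ((P : Subgroup L) : Set L) ≤ centralizer ((P : Subgroup L) : Set L) := by
    intro x hx
    rw [mem_centralizer_iff]
    intro f hf
    by_cases f1 : f = 1
    · subst f1; simp
    have hf' : x * f * x⁻¹ ∈ (P : Subgroup L) := (mem_normalizer_iff.mp hx f).mp hf
    have hk1 : k = 1 := by
      rcases (show k = 0 ∨ k = 1 by omega) with rfl | rfl
      · haveI : Subsingleton P := (Nat.card_eq_one_iff_unique.mp (by simpa using hk)).1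
        exact absurd (congrArg Subtype.val (Subsingleton.elim (⟨f, hf⟩ : P) 1)) f1
      · rfl
    subst hk1
    have hP2 : Nat.card P = 2 := by simpa using hk
    obtain ⟨u, v, -, huv⟩ := Nat.card_eq_two_iff.mp hP2
    have h01 : ∀ z : P, z = 1 ∨ z = ⟨f, hf⟩ := by
      intro z
      have hz : z ∈ ({u, v} : Set P) := huv ▸ Set.mem_univ z
      have ho : (1 : P) ∈ ({u, v} : Set P) := huv ▸ Set.mem_univ _
      have hfv : (⟨f, hf⟩ : P) ∈ ({u, v} : Set P) := huv ▸ Set.mem_univ _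
      have hne : (1 : P) ≠ ⟨f, hf⟩ := fun hc => f1 (congrArg Subtype.val hc).symm
      simp only [Set.mem_insert_iff, Set.mem_singleton_iff] at hz ho hfv
      grind
    rcases h01 ⟨_, hf'⟩ with h1 | h1
    · have h2 : x * f * x⁻¹ = 1 := congrArg Subtype.val h1
      exact absurd (by simpa using h2) f1
    · have h2 : x * f * x⁻¹ = f := congrArg Subtype.val h1
      calc f * x = x * f * x⁻¹ * x := by rw [h2]
        _ = x * f := by group
  set φ := MonoidHom.transferSylow P hPc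
  haveI : Group.IsSolvable φ.ker := by
    refine PF14.feitThompson _ ?_
    rw [← Nat.not_even_iff_odd, even_iff_two_dvd]
    exact MonoidHom.not_dvd_card_ker_transferSylow P hPc
  haveI : Group.IsSolvable P := Group.isSolvable_of_comm fun x y => mul_comm' x y
  exact Group.isSolvable_of_ker_le_range φ.ker.subtype φ (by simp)

end CtxLemmas

/-- The situation of `BetaStmt`. -/
structure Setup [Finite G] (V : Subgroup G) (a b : G) (q : ℕ) (C : Subgroup G) (y : G) : Prop where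
  ctx : Ctx V
  hp : Pair V a b
  hq : q.Prime
  hCK : C ≤ coreK a
  hcard : Nat.card C = q ^ 3
  hnc : ¬ IsMulCommutative C
  hexp : ∀ x ∈ C, x ^ q = 1
  hKN : coreK a ≤ normalizer (C : Set G)
  hVN : V ≤ normalizer (C : Set G)
  hCD : C ⊓ coreD V = zpowers y
  hy : orderOf y = q
  fusedCent : ∀ x ∈ coreD V, x ≠ 1 → (∃ k : ℕ, orderOf x = q ^ k) →
    Fused (centralizer ({x} : Set G)) V
  negCyc : ∀ M : Subgroup G, M ≠ ⊤ → V ≤ M → Fused M V →
    q ∣ Nat.card ↥(coreD V ⊓ M) → ∀ Y : Subgroup G, Y ≤ coreK a ⊓ M → IsPGroup q Y →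
      V ≤ normalizer (Y : Set G) →
        IsCyclic ↥(⁅Y, V⁆) ∧ ⁅Y, V⁆ ⊓ coreO M = ⊥ ∧ ∀ x ∈ ⁅Y, V⁆, x ∈ invSet M a b
  topM : ∀ M : Subgroup G, M ≠ ⊤ → V ≤ M → Fused M V → Top M V
  order : Nat.card G * Nat.card ↥(coreD V) ^ 2 < 96 * Nat.card ↥(coreK a) ^ 3

/-- The centre of `C` as a subgroup of `G`. -/
def cenZ (C : Subgroup G) : Subgroup G := C ⊓ centralizer (C : Set G)

/-- Facts about the abelian subgroup `A` of inverted elements. -/
structure Frame (b y : G) (q : ℕ) (C A : Subgroup G) : Prop where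
  le : A ≤ C
  card : Nat.card A = q ^ 2
  comm : ∀ x ∈ A, ∀ x' ∈ A, x * x' = x' * x
  zle : cenZ C ≤ A
  inv : ∀ x ∈ A, b * x * b⁻¹ = x⁻¹
  disj : A ⊓ zpowers y = ⊥
  mem : ∀ x ∈ C, b * x * b⁻¹ = x⁻¹ → x ∈ A
  cardZ : Nat.card (cenZ C) = q

section SetupLemmas

variable [Finite G] {V : Subgroup G} {a b : G} {q : ℕ} {C : Subgroup G} {y : G}

namespace Setup

theorem yC (S : Setup V a b q C y) : y ∈ C :=
  (show y ∈ C ⊓ coreD V from S.hCD ▸ mem_zpowers y).1

theorem yD (S : Setup V a b q C y) : y ∈ coreD V :=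
  (show y ∈ C ⊓ coreD V from S.hCD ▸ mem_zpowers y).2

theorem y1 (S : Setup V a b q C y) : y ≠ 1 := by
  intro h
  have := S.hy
  rw [h, orderOf_one] at this
  exact S.hq.one_lt.ne this

theorem two_lt (S : Setup V a b q C y) : 2 < q := by
  have h1 : q ∣ Nat.card ↥(coreK a) :=
    (dvd_pow_self q (by norm_num : (3 : ℕ) ≠ 0)).trans (S.hcard ▸ card_dvd_of_le S.hCK)
  have h2 := (odd_card_coreK a).of_dvd_nat h1
  have := S.hq.two_le
  rcases h2 with ⟨k, hk⟩
  omega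

theorem DleK (S : Setup V a b q C y) : coreD V ≤ coreK a := coreD_le_coreK S.ctx S.hp.ha S.hp.a1

theorem isPGroup_of_le (S : Setup V a b q C y) {Y : Subgroup G} (hY : Y ≤ C) : IsPGroup q Y :=
  (IsPGroup.of_card S.hcard).to_le hY

theorem oddC (S : Setup V a b q C y) {x : G} (hx : x ∈ C) : Odd (orderOf x) :=
  odd_orderOf_of_mem (odd_card_coreK a) (S.hCK hx)

theorem le_centralizer_of_D (S : Setup V a b q C y) {x : G} (hx : x ∈ coreD V) :
    V ≤ centralizer ({x} : Set G) := fun f hf =>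
  mem_centralizer_singleton_iff.mpr (mem_centralizer_iff.mp (coreD_le_centralizer hx) f hf)

theorem fix_of_D (S : Setup V a b q C y) {x f : G} (hx : x ∈ coreD V) (hf : f ∈ V) :
    f * x * f⁻¹ = x := by
  rw [mem_centralizer_singleton_iff.mp (S.le_centralizer_of_D hx hf), mul_inv_cancel_right]

/-- `b`-invariant subgroups of `O(C(a))` are normalised by `V`. -/
theorem V_le_normalizer (S : Setup V a b q C y) {Y : Subgroup G} (hY : Y ≤ coreK a)
    (hb : ∀ x ∈ Y, b * x * b⁻¹ ∈ Y) : V ≤ normalizer (Y : Set G) := by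
  intro f hf
  have hconj : ∀ x ∈ Y, f * x * f⁻¹ ∈ Y := by
    intro x hx
    have hxa : x * a = a * x := mem_centralizer_singleton_iff.mp (coreK_le_centralizer a (hY hx))
    by_cases f1 : f = 1
    · subst f1; simpa using hx
    by_cases fa : f = a
    · subst fa; rwa [← hxa, mul_inv_cancel_right]
    by_cases fb : f = b
    · subst fb; exact hb x hx
    have hab := eq_mul_of_ne S.ctx S.hp.ha S.hp.hb hf S.hp.a1 S.hp.b1 S.hp.ne f1 fa fb
    rw [hab, comm_of_mem S.ctx S.hp.ha S.hp.hb]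
    have : b * a * x * (b * a)⁻¹ = b * (a * x * a⁻¹) * b⁻¹ := by group
    rw [this, ← hxa, mul_inv_cancel_right]
    exact hb x hx
  rw [mem_normalizer_iff]
  refine fun x => ⟨hconj x, fun hx => ?_⟩
  have h2 := hconj _ hx
  have hff := mul_self_of_mem S.ctx hf
  have hfi := inv_of_mem S.ctx hf
  have heq : f * (f * x * f⁻¹) * f⁻¹ = (f * f) * x * (f * f)⁻¹ := by group
  rw [heq, hff] at h2
  simpa using h2

/-- An inverted element of `Y` lies in `[Y, V]`. -/
theorem mem_comm_of_inv (S : Setup V a b q C y) {Y : Subgroup G} {u : G} (hu : u ∈ Y)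
    (ho : Odd (orderOf u)) (hinv : b * u * b⁻¹ = u⁻¹) : u ∈ ⁅Y, V⁆ := by
  apply mem_of_sq_mem _ ho
  have h := commutator_mem_commutator hu S.hp.hb
  have h2 : ⁅u, b⁆ = u ^ 2 := by
    have h3 : b * u⁻¹ * b⁻¹ = u := by
      have h4 := congrArg (·⁻¹) hinv
      simpa [mul_assoc] using h4
    rw [commutatorElement_def, pow_two]
    calc u * b * u⁻¹ * b⁻¹ = u * (b * u⁻¹ * b⁻¹) := by group
      _ = u * u := by rw [h3]
  rwa [h2] at h

theorem decomp (S : Setup V a b q C y) {Y : Subgroup G} (hY : Y ≤ C)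
    (hb : ∀ x ∈ Y, b * x * b⁻¹ ∈ Y) {x : G} (hx : x ∈ Y) :
    ∃ c ∈ Y ⊓ coreD V, ∃ u ∈ Y, b * u * b⁻¹ = u⁻¹ ∧ x = c * u := by
  set w := x⁻¹ * (b * x * b⁻¹) with hw
  have hwY : w ∈ Y := mul_mem (inv_mem hx) (hb x hx)
  have hbb := mul_self_of_mem S.ctx S.hp.hb
  have hbi := inv_of_mem S.ctx S.hp.hb
  have hbw : b * w * b⁻¹ = w⁻¹ := by
    have h1 : b * w * b⁻¹ = (b * x⁻¹ * b⁻¹) * ((b * b) * x * (b * b)⁻¹) := by rw [hw]; group
    rw [h1, hbb, hw, mul_inv_rev]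
    simp [mul_assoc]
  obtain ⟨n, hn⟩ := exists_sqrt (S.oddC (hY hwY))
  set u := w ^ n with hu
  have hbu : b * u * b⁻¹ = u⁻¹ := by rw [hu, conj_pow_eq, hbw, inv_pow]
  have huY : u ∈ Y := pow_mem hwY n
  refine ⟨x * u, ?_, u⁻¹, inv_mem huY, ?_, by group⟩
  · refine Subgroup.mem_inf.mpr ⟨mul_mem hx huY, ?_⟩
    refine mem_coreD_of_fix S.ctx S.hp (S.hCK (hY (mul_mem hx huY))) ?_
    have h1 : b * (x * u) * b⁻¹ = x * (x⁻¹ * (b * x * b⁻¹)) * (b * u * b⁻¹) := by group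
    rw [h1, hbu, ← hw, ← hn, pow_two]
    group
  · have := congrArg (·⁻¹) hbu
    simpa [mul_assoc] using this

theorem bconj_mem (S : Setup V a b q C y) {x : G} (hx : x ∈ C) : b * x * b⁻¹ ∈ C :=
  (mem_normalizer_iff.mp (S.hVN S.hp.hb) x).mp hx

theorem dvd_card_inf (S : Setup V a b q C y) {x : G} (hxD : x ∈ coreD V) (hx1 : x ≠ 1) {k : ℕ}
    (hk : orderOf x = q ^ k) : q ∣ Nat.card ↥(coreD V ⊓ centralizer ({x} : Set G)) := by
  have hle : zpowers x ≤ coreD V ⊓ centralizer ({x} : Set G) :=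
    le_inf (zpowers_le.mpr hxD)
      (zpowers_le.mpr (mem_centralizer_singleton_iff.mpr rfl))
  refine dvd_trans ?_ (card_dvd_of_le hle)
  rw [Nat.card_zpowers, hk]
  refine dvd_pow_self q ?_
  rintro rfl
  exact hx1 (orderOf_eq_one_iff.mp (by simpa using hk))

/-- The moved part of a subgroup of `C` centralising a `q`-element of `D` is small. -/
theorem comm_small (S : Setup V a b q C y) {x : G} (hxD : x ∈ coreD V) (hx1 : x ≠ 1)
    (hk : ∃ k : ℕ, orderOf x = q ^ k) {Y : Subgroup G} (hY : Y ≤ C)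
    (hYx : Y ≤ centralizer ({x} : Set G)) (hVY : V ≤ normalizer (Y : Set G)) :
    Nat.card ↥(⁅Y, V⁆) ≤ q ∧ ⁅Y, V⁆ ⊓ coreO (centralizer ({x} : Set G)) = ⊥ ∧
      ∀ u ∈ ⁅Y, V⁆, u ∈ invSet (centralizer ({x} : Set G)) a b := by
  obtain ⟨k, hk⟩ := hk
  obtain ⟨h1, h2, h3⟩ := S.negCyc _ (centralizer_ne_top S.ctx hx1) (S.le_centralizer_of_D hxD)
    (S.fusedCent x hxD hx1 ⟨k, hk⟩) (S.dvd_card_inf hxD hx1 hk) Y
    (le_inf (hY.trans S.hCK) hYx) (S.isPGroup_of_le hY) hVY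
  refine ⟨?_, h2, h3⟩
  have hle : ⁅Y, V⁆ ≤ C := (commutator_mono hY le_rfl).trans (le_normalizer_iff_commutator_le_left.mp S.hVN)
  haveI := h1
  rw [← IsCyclic.exponent_eq_card]
  exact Nat.le_of_dvd S.hq.pos (Monoid.exponent_dvd_of_forall_pow_eq_one fun u =>
    Subtype.ext (by simpa using S.hexp u (hle u.2)))

theorem kill (S : Setup V a b q C y) {x : G} (hxD : x ∈ coreD V) (hx1 : x ≠ 1)
    (hk : ∃ k : ℕ, orderOf x = q ^ k) {Y : Subgroup G} (hY : Y ≤ C)
    (hYx : Y ≤ centralizer ({x} : Set G)) (hVY : V ≤ normalizer (Y : Set G))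
    {z v : G} (hzY : z ∈ Y) (hvY : v ∈ Y) (hz : b * z * b⁻¹ = z⁻¹) (hv : b * v * b⁻¹ = v⁻¹)
    (hz1 : z ≠ 1) (hvz : v ∉ zpowers z) : False := by
  obtain ⟨hT, -, -⟩ := S.comm_small hxD hx1 hk hY hYx hVY
  have hzT := S.mem_comm_of_inv hzY (S.oddC (hY hzY)) hz
  have hvT := S.mem_comm_of_inv hvY (S.oddC (hY hvY)) hv
  have heq : zpowers z = ⁅Y, V⁆ := by
    refine Subgroup.eq_of_le_of_card_ge (zpowers_le.mpr hzT) (hT.trans ?_)
    rw [Nat.card_zpowers, orderOf_eq_of_pow_prime S.hq hz1 (S.hexp z (hY hzY))]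
  exact hvz (heq ▸ hvT)

theorem y_not_central (S : Setup V a b q C y) : ¬ C ≤ centralizer ({y} : Set G) := by
  intro hC
  obtain ⟨hT, -, -⟩ := S.comm_small S.yD S.y1 ⟨1, by rw [S.hy, pow_one]⟩ le_rfl hC S.hVN
  have h := card_le_mul_of_cover C (zpowers y) ⁅C, V⁆ fun x hx => by
    obtain ⟨c, hc, u, hu, hinv, rfl⟩ := S.decomp le_rfl (fun _ => S.bconj_mem) hx
    exact ⟨c, S.hCD ▸ hc, u, S.mem_comm_of_inv hu (S.oddC hu) hinv, rfl⟩
  rw [Nat.card_zpowers, S.hy, S.hcard] at h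
  have h2 := h.trans (Nat.mul_le_mul_left q hT)
  have h3 : q * q < q ^ 3 := by
    have := S.two_lt
    nlinarith [Nat.mul_pos S.hq.pos S.hq.pos]
  omega

theorem Z_inf (S : Setup V a b q C y) {z : G} (hz : z ∈ cenZ C) (hzy : z ∈ zpowers y) : z = 1 := by
  by_contra h1
  apply S.y_not_central
  have h2 := zpowers_eq_of_mem S.hq S.hy hzy h1
  have hy2 : y ∈ centralizer (C : Set G) :=
    (zpowers_le.mpr hz.2) (h2 ▸ mem_zpowers y)
  intro x hx
  exact mem_centralizer_singleton_iff.mpr (mem_centralizer_iff.mp hy2 x hx)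

theorem Z_bconj (S : Setup V a b q C y) {z : G} (hz : z ∈ cenZ C) : b * z * b⁻¹ ∈ cenZ C := by
  refine Subgroup.mem_inf.mpr ⟨S.bconj_mem hz.1, mem_centralizer_iff.mpr fun x hx => ?_⟩
  have hbb := mul_self_of_mem S.ctx S.hp.hb
  have hbi := inv_of_mem S.ctx S.hp.hb
  have h1 := mem_centralizer_iff.mp hz.2 (b * x * b⁻¹) (S.bconj_mem hx)
  have hx' : b * (b * x * b⁻¹) * b⁻¹ = x := by
    have : b * (b * x * b⁻¹) * b⁻¹ = (b * b) * x * (b * b)⁻¹ := by group
    rw [this, hbb]; simp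
  calc x * (b * z * b⁻¹) = (b * (b * x * b⁻¹) * b⁻¹) * (b * z * b⁻¹) := by rw [hx']
    _ = b * ((b * x * b⁻¹) * z) * b⁻¹ := by group
    _ = b * (z * (b * x * b⁻¹)) * b⁻¹ := by rw [h1]
    _ = (b * z * b⁻¹) * (b * (b * x * b⁻¹) * b⁻¹) := by group
    _ = _ := by rw [hx']

/-- An element of a `b`-invariant abelian subgroup meeting `D` trivially is inverted. -/
theorem inv_of_abelian (S : Setup V a b q C y) {Y : Subgroup G} (hY : Y ≤ C)
    (hb : ∀ x ∈ Y, b * x * b⁻¹ ∈ Y) (hcomm : ∀ x ∈ Y, ∀ x' ∈ Y, x * x' = x' * x)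
    (hd : ∀ x ∈ Y, x ∈ zpowers y → x = 1) {x : G} (hx : x ∈ Y) : b * x * b⁻¹ = x⁻¹ := by
  have hbb := mul_self_of_mem S.ctx S.hp.hb
  have hc : x * (b * x * b⁻¹) ∈ Y := mul_mem hx (hb x hx)
  have hD : x * (b * x * b⁻¹) ∈ coreD V := by
    refine mem_coreD_of_fix S.ctx S.hp (S.hCK (hY hc)) ?_
    have h1 : b * (x * (b * x * b⁻¹)) * b⁻¹ = (b * x * b⁻¹) * ((b * b) * x * (b * b)⁻¹) := by group
    rw [h1, hbb, hcomm x hx _ (hb x hx)]
    simp
  have h2 := hd _ hc (S.hCD ▸ Subgroup.mem_inf.mpr ⟨hY hc, hD⟩)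
  exact (eq_inv_of_mul_eq_one_right h2)

theorem Z_comm {z x : G} (hz : z ∈ cenZ C) (hx : x ∈ C) : x * z = z * x :=
  mem_centralizer_iff.mp hz.2 x hx

theorem Z_inv (S : Setup V a b q C y) {z : G} (hz : z ∈ cenZ C) : b * z * b⁻¹ = z⁻¹ :=
  S.inv_of_abelian inf_le_left (fun _ => S.Z_bconj) (fun _ hx _ hx' => Z_comm hx' hx.1)
    (fun _ => S.Z_inf) hz

theorem exists_Z_ne (S : Setup V a b q C y) : ∃ z ∈ cenZ C, z ≠ 1 := by
  haveI := Fact.mk S.hq
  haveI : Nontrivial C := ⟨⟨⟨y, S.yC⟩, 1, fun h => S.y1 (congrArg Subtype.val h)⟩⟩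
  haveI := (IsPGroup.of_card S.hcard).center_nontrivial
  obtain ⟨z, hz⟩ := exists_ne (1 : center C)
  refine ⟨(z : C), Subgroup.mem_inf.mpr ⟨(z : C).2, mem_centralizer_iff.mpr fun x hx => ?_⟩, ?_⟩
  · exact congrArg Subtype.val (mem_center_iff.mp z.2 ⟨x, hx⟩)
  · exact fun h => hz (Subtype.ext (Subtype.ext h))

theorem exists_frame (S : Setup V a b q C y) : ∃ A, Frame b y q C A := by
  haveI := Fact.mk S.hq
  obtain ⟨v, hvC, hv, hvZ⟩ : ∃ v ∈ C, b * v * b⁻¹ = v⁻¹ ∧ v ∉ cenZ C := by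
    by_contra hcon
    push Not at hcon
    apply S.y_not_central
    intro x hx
    obtain ⟨c, hc, u, hu, hinv, rfl⟩ := S.decomp le_rfl (fun _ => S.bconj_mem) hx
    rw [S.hCD] at hc
    refine mul_mem ?_ (mem_centralizer_singleton_iff.mpr (Z_comm (hcon u hu hinv) S.yC).symm)
    obtain ⟨i, rfl⟩ := hc
    exact zpow_mem (mem_centralizer_singleton_iff.mpr rfl) i
  set A := C ⊓ centralizer ({v} : Set G) with hA
  have hAC : A ≤ C := inf_le_left
  have hvA : v ∈ A := Subgroup.mem_inf.mpr ⟨hvC, mem_centralizer_singleton_iff.mpr rfl⟩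
  have hZA : cenZ C ≤ A := fun z hz =>
    Subgroup.mem_inf.mpr ⟨hz.1, mem_centralizer_singleton_iff.mpr (Z_comm hz hvC).symm⟩
  obtain ⟨i, hi, hiA⟩ := (Nat.dvd_prime_pow S.hq).mp (S.hcard ▸ card_dvd_of_le hAC)
  obtain ⟨j, hj, hjZ⟩ := (Nat.dvd_prime_pow S.hq).mp (hiA ▸ card_dvd_of_le hZA)
  have hj1 : j ≠ 0 := by
    rintro rfl
    obtain ⟨z, hz, hz1⟩ := S.exists_Z_ne
    rw [pow_zero, card_eq_one] at hjZ
    exact hz1 (by rwa [hjZ, mem_bot] at hz)
  have hji : j ≠ i := by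
    rintro rfl
    have : cenZ C = A := Subgroup.eq_of_le_of_card_ge hZA (by rw [hiA, hjZ])
    exact hvZ (this ▸ hvA)
  have hi3 : i ≠ 3 := by
    rintro rfl
    have hAe : A = C := Subgroup.eq_of_le_of_card_ge hAC (by rw [hiA, S.hcard])
    refine hvZ (Subgroup.mem_inf.mpr ⟨hvC, mem_centralizer_iff.mpr fun x hx => ?_⟩)
    exact mem_centralizer_singleton_iff.mp (show x ∈ A by rw [hAe]; exact hx).2
  obtain ⟨rfl, rfl⟩ : i = 2 ∧ j = 1 := by omega
  rw [pow_one] at hjZ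
  have hcomm : ∀ x ∈ A, ∀ x' ∈ A, x * x' = x' * x := fun x hx x' hx' =>
    congrArg Subtype.val
      ((IsPGroup.isMulCommutative_of_card_eq_prime_sq hiA).is_comm.comm ⟨x, hx⟩ ⟨x', hx'⟩)
  have hb : ∀ x ∈ A, b * x * b⁻¹ ∈ A := by
    intro x hx
    refine Subgroup.mem_inf.mpr ⟨S.bconj_mem hx.1, mem_centralizer_singleton_iff.mpr ?_⟩
    have hvx : v⁻¹ * x = x * v⁻¹ :=
      ((show Commute x v from mem_centralizer_singleton_iff.mp hx.2).inv_right).eq.symm
    have hbv : b * v⁻¹ * b⁻¹ = v := by simpa [mul_assoc] using congrArg (·⁻¹) hv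
    calc b * x * b⁻¹ * v = b * x * b⁻¹ * (b * v⁻¹ * b⁻¹) := by rw [hbv]
      _ = b * (x * v⁻¹) * b⁻¹ := by group
      _ = b * (v⁻¹ * x) * b⁻¹ := by rw [hvx]
      _ = (b * v⁻¹ * b⁻¹) * (b * x * b⁻¹) := by group
      _ = v * (b * x * b⁻¹) := by rw [hbv]
  have hd : ∀ x ∈ A, x ∈ zpowers y → x = 1 := by
    intro x hx hxy
    by_contra hx1
    have hyA : y ∈ A := (zpowers_le.mpr hx) (zpowers_eq_of_mem S.hq S.hy hxy hx1 ▸ mem_zpowers y)
    obtain ⟨z, hz, hz1⟩ := S.exists_Z_ne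
    refine S.kill S.yD S.y1 ⟨1, by rw [S.hy, pow_one]⟩ hAC ?_
      (S.V_le_normalizer (hAC.trans S.hCK) hb) (hZA hz) hvA (S.Z_inv hz) hv hz1 ?_
    · exact fun w hw => mem_centralizer_singleton_iff.mpr (hcomm w hw y hyA)
    · exact fun h => hvZ ((zpowers_le.mpr hz) h)
  have hinv : ∀ x ∈ A, b * x * b⁻¹ = x⁻¹ := fun x => S.inv_of_abelian hAC hb hcomm hd
  have hdisj : A ⊓ zpowers y = ⊥ := eq_bot_iff.mpr fun x hx => mem_bot.mpr (hd x hx.1 hx.2)
  refine ⟨A, hAC, hiA, hcomm, hZA, hinv, hdisj, ?_, hjZ⟩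
  intro x hx hxinv
  obtain ⟨c, hc, w, hw, rfl⟩ := exists_mul_of_card C (zpowers y) A (zpowers_le.mpr S.yC) hAC
    (by rw [inf_comm]; exact hdisj) (by rw [S.hcard, Nat.card_zpowers, S.hy, hiA]; ring) x hx
  have hcD : c ∈ coreD V := (zpowers_le.mpr S.yD) hc
  have h1 : b * (c * w) * b⁻¹ = (b * c * b⁻¹) * (b * w * b⁻¹) := by group
  rw [h1, S.fix_of_D hcD S.hp.hb, hinv w hw, mul_inv_rev] at hxinv
  -- `hxinv : c * w⁻¹ = w⁻¹ * c⁻¹`
  have h2 : w * c * w⁻¹ = c⁻¹ := by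
    calc w * c * w⁻¹ = w * (c * w⁻¹) := by group
      _ = c⁻¹ := by rw [hxinv]; group
  have h3 : w ^ 2 ∈ centralizer ({c} : Set G) := by
    rw [mem_centralizer_singleton_iff, pow_two]
    calc w * w * c = w * (w * c * w⁻¹) * w := by group
      _ = w * c⁻¹ * w⁻¹ * (w * w) := by rw [h2]; group
      _ = (w * c * w⁻¹)⁻¹ * (w * w) := by group
      _ = c * (w * w) := by rw [h2, inv_inv]
  have h4 := mem_centralizer_singleton_iff.mp (mem_of_sq_mem _ (S.oddC (hAC hw)) h3)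
  rw [h4, mul_inv_cancel_right] at h2
  have hc1 : c = 1 := eq_one_of_sq (S.oddC (zpowers_le.mpr S.yC hc)) (by
    rw [pow_two]
    nth_rw 2 [h2]
    exact mul_inv_cancel c)
  rw [hc1, one_mul]; exact hw

theorem cenZ_eq_map : cenZ C = (center C).map C.subtype := by
  ext z
  constructor
  · intro hz
    exact ⟨⟨z, hz.1⟩, mem_center_iff.mpr fun g => Subtype.ext (Z_comm hz g.2), rfl⟩
  · rintro ⟨z, hz, rfl⟩
    exact Subgroup.mem_inf.mpr ⟨z.2, mem_centralizer_iff.mpr fun x hx =>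
      congrArg Subtype.val (mem_center_iff.mp hz ⟨x, hx⟩)⟩

theorem comm_mem_Z (S : Setup V a b q C y) {A : Subgroup G} (F : Frame b y q C A) {x x' : G}
    (hx : x ∈ C) (hx' : x' ∈ C) : x * x' * x⁻¹ * x'⁻¹ ∈ cenZ C := by
  haveI := Fact.mk S.hq
  have hc : Nat.card (center C) = q := by
    rw [← F.cardZ, cenZ_eq_map, card_map_of_injective (subtype_injective C)]
  have hquot : Nat.card (C ⧸ center C) = q ^ 2 := by
    have := card_eq_card_quotient_mul_card_subgroup (center C)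
    rw [hc, S.hcard, pow_succ] at this
    exact (Nat.eq_of_mul_eq_mul_right S.hq.pos this).symm
  have h1 := (IsPGroup.isMulCommutative_of_card_eq_prime_sq hquot).is_comm.comm
    (QuotientGroup.mk ⟨x, hx⟩) (QuotientGroup.mk ⟨x', hx'⟩)
  rw [cenZ_eq_map]
  refine ⟨⟨x, hx⟩ * ⟨x', hx'⟩ * ⟨x, hx⟩⁻¹ * ⟨x', hx'⟩⁻¹, ?_, rfl⟩
  apply (QuotientGroup.eq_one_iff _).mp
  simp only [QuotientGroup.mk_mul, QuotientGroup.mk_inv]
  rw [h1]
  group

theorem zpowers_eq_Z (S : Setup V a b q C y) {A : Subgroup G} (F : Frame b y q C A) {z : G}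
    (hz : z ∈ cenZ C) (hz1 : z ≠ 1) : zpowers z = cenZ C := by
  refine Subgroup.eq_of_le_of_card_ge (zpowers_le.mpr hz) ?_
  rw [F.cardZ, Nat.card_zpowers, orderOf_eq_of_pow_prime S.hq hz1 (S.hexp z hz.1)]

theorem pow_of_mem_zpowers {g t : G} (h : g ∈ zpowers t) : ∃ i : ℕ, g = t ^ i := by
  obtain ⟨i, hi⟩ := (isOfFinOrder_of_finite t).mem_powers_iff_mem_zpowers.mpr h
  exact ⟨i, hi.symm⟩

theorem exists_outside (S : Setup V a b q C y) {A : Subgroup G} (F : Frame b y q C A) :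
    ∃ v ∈ A, v ∉ cenZ C := by
  by_contra hcon
  push Not at hcon
  have h := card_le_of_le (show A ≤ cenZ C from hcon)
  rw [F.card, F.cardZ, pow_two] at h
  have := S.two_lt
  nlinarith

theorem decompA (S : Setup V a b q C y) {A : Subgroup G} (F : Frame b y q C A) {x : G}
    (hx : x ∈ C) : ∃ c ∈ zpowers y, ∃ w ∈ A, x = c * w :=
  exists_mul_of_card C (zpowers y) A (zpowers_le.mpr S.yC) F.le
    (by rw [inf_comm]; exact F.disj)
    (by rw [S.hcard, Nat.card_zpowers, S.hy, F.card]; ring) x hx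

theorem comm_y_Z (S : Setup V a b q C y) {A : Subgroup G} (F : Frame b y q C A) {w : G}
    (hw : w ∈ A) (hwy : w * y = y * w) : w ∈ cenZ C := by
  refine Subgroup.mem_inf.mpr ⟨F.le hw, mem_centralizer_iff.mpr fun x hx => ?_⟩
  obtain ⟨c, hc, w', hw', rfl⟩ := S.decompA F hx
  obtain ⟨i, rfl⟩ := hc
  have h1 : Commute w (y ^ i) := (show Commute w y from hwy).zpow_right i
  have h2 : Commute w w' := F.comm w hw w' hw'
  exact (h1.mul_right h2).eq.symm

theorem Z_commute {A : Subgroup G} {z x : G} (hz : z ∈ cenZ C) (hx : x ∈ C) : Commute x z :=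
  Z_comm hz hx

/-- `y` is conjugated by `A` to all elements of `y Z`. -/
theorem shift (S : Setup V a b q C y) {A : Subgroup G} (F : Frame b y q C A) {z' : G}
    (hz' : z' ∈ cenZ C) : ∃ w ∈ A, w * y * w⁻¹ = y * z' := by
  obtain ⟨v, hv, hvZ⟩ := S.exists_outside F
  set t := y⁻¹ * v * y * v⁻¹ with ht
  have htZ : t ∈ cenZ C := by
    have := S.comm_mem_Z F (inv_mem S.yC) (F.le hv)
    simpa [ht] using this
  have ht1 : t ≠ 1 := by
    intro h
    refine hvZ (S.comm_y_Z F hv ?_)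
    calc v * y = y * (y⁻¹ * v * y * v⁻¹) * v := by group
      _ = y * v := by rw [← ht, h, mul_one]
  rw [← S.zpowers_eq_Z F htZ ht1] at hz'
  obtain ⟨i, rfl⟩ := pow_of_mem_zpowers hz'
  refine ⟨v ^ i, pow_mem hv i, ?_⟩
  induction i with
  | zero => simp
  | succ n ih =>
    have hvt : v * t ^ n = t ^ n * v := ((Z_commute (A := A) htZ (F.le hv)).pow_right n).eq
    calc v ^ (n + 1) * y * (v ^ (n + 1))⁻¹ = v * (v ^ n * y * (v ^ n)⁻¹) * v⁻¹ := by
          rw [pow_succ']; group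
      _ = v * (y * t ^ n) * v⁻¹ := by rw [ih (pow_mem (mem_zpowers t) n)]
      _ = (v * y * v⁻¹) * (v * t ^ n * v⁻¹) := by group
      _ = (v * y * v⁻¹) * t ^ n := by rw [hvt, mul_inv_cancel_right]
      _ = y * t * t ^ n := by rw [ht]; group
      _ = y * t ^ (n + 1) := by rw [pow_succ']; group

/-- `y` conjugates `v` to all elements of `v Z`. -/
theorem shift' (S : Setup V a b q C y) {A : Subgroup G} (F : Frame b y q C A) {v z' : G}
    (hv : v ∈ A) (hvZ : v ∉ cenZ C) (hz' : z' ∈ cenZ C) :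
    ∃ c ∈ zpowers y, c * v * c⁻¹ = v * z' := by
  set t := v⁻¹ * y * v * y⁻¹ with ht
  have htZ : t ∈ cenZ C := by
    have := S.comm_mem_Z F (inv_mem (F.le hv)) S.yC
    simpa [ht] using this
  have ht1 : t ≠ 1 := by
    intro h
    refine hvZ (S.comm_y_Z F hv ?_)
    calc v * y = v * (v⁻¹ * y * v * y⁻¹) * y := by rw [← ht, h, mul_one]
      _ = y * v := by group
  rw [← S.zpowers_eq_Z F htZ ht1] at hz'
  obtain ⟨i, rfl⟩ := pow_of_mem_zpowers hz'
  refine ⟨y ^ i, pow_mem (mem_zpowers y) i, ?_⟩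
  clear hz'
  induction i with
  | zero => simp
  | succ n ih =>
    have hyt : y * t ^ n = t ^ n * y := ((Z_commute (A := A) htZ S.yC).pow_right n).eq
    calc y ^ (n + 1) * v * (y ^ (n + 1))⁻¹ = y * (y ^ n * v * (y ^ n)⁻¹) * y⁻¹ := by
          rw [pow_succ']; group
      _ = y * (v * t ^ n) * y⁻¹ := by rw [ih]
      _ = (y * v * y⁻¹) * (y * t ^ n * y⁻¹) := by group
      _ = (y * v * y⁻¹) * t ^ n := by rw [hyt, mul_inv_cancel_right]
      _ = v * t * t ^ n := by rw [ht]; group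
      _ = v * t ^ (n + 1) := by rw [pow_succ']; group

theorem Z_kconj (S : Setup V a b q C y) {k z : G} (hk : k ∈ coreK a) (hz : z ∈ cenZ C) :
    k * z * k⁻¹ ∈ cenZ C := by
  refine Subgroup.mem_inf.mpr ⟨(mem_normalizer_iff.mp (S.hKN hk) z).mp hz.1,
    mem_centralizer_iff.mpr fun x hx => ?_⟩
  have hx' : k⁻¹ * x * k ∈ C := (mem_normalizer_iff''.mp (S.hKN hk) x).mp hx
  calc x * (k * z * k⁻¹) = k * ((k⁻¹ * x * k) * z) * k⁻¹ := by group
    _ = k * (z * (k⁻¹ * x * k)) * k⁻¹ := by rw [Z_comm hz hx']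
    _ = k * z * k⁻¹ * x := by group

theorem Z_ne_kconj (S : Setup V a b q C y) {k : G} (hk : k ∈ coreK a) :
    k * y * k⁻¹ ∉ cenZ C := by
  intro hz
  have h := S.Z_kconj (inv_mem hk) hz
  have h2 : k⁻¹ * (k * y * k⁻¹) * k⁻¹⁻¹ = y := by group
  rw [h2] at h
  exact S.y1 (S.Z_inf h (mem_zpowers y))

theorem conj_mem_zpowers_y (S : Setup V a b q C y) {d : G} (hd : d ∈ coreD V) :
    d * y * d⁻¹ ∈ zpowers y := by
  rw [← S.hCD]
  exact Subgroup.mem_inf.mpr ⟨(mem_normalizer_iff.mp (S.hKN (S.DleK hd)) y).mp S.yC,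
    mul_mem (mul_mem hd S.yD) (inv_mem hd)⟩

/-- All `q`-elements of `D` lie in `⟨y⟩`. -/
theorem qelem (S : Setup V a b q C y) {A : Subgroup G} (F : Frame b y q C A) {x : G}
    (hxD : x ∈ coreD V) {k : ℕ} (hk : orderOf x = q ^ k) : x ∈ zpowers y := by
  haveI := Fact.mk S.hq
  have hxq : x ^ q ^ k = 1 := hk ▸ pow_orderOf_eq_one x
  have hxK := S.DleK hxD
  have hxy : x * y * x⁻¹ = y :=
    fix_of_prime S.hq hxq S.hy (pow_of_mem_zpowers (S.conj_mem_zpowers_y hxD))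
  obtain ⟨z, hzZ, hz1⟩ := S.exists_Z_ne
  have hzo := orderOf_eq_of_pow_prime S.hq hz1 (S.hexp z hzZ.1)
  have hZeq := S.zpowers_eq_Z F hzZ hz1
  have hxz : x * z * x⁻¹ = z := fix_of_prime S.hq hxq hzo
    (pow_of_mem_zpowers (by rw [hZeq]; exact S.Z_kconj hxK hzZ))
  obtain ⟨v, hvA, hvZ⟩ := S.exists_outside F
  have hv1 : v ≠ 1 := fun h => hvZ (h ▸ one_mem _)
  have hvo := orderOf_eq_of_pow_prime S.hq hv1 (S.hexp v (F.le hvA))
  have hdj : zpowers v ⊓ cenZ C = ⊥ := by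
    refine eq_bot_iff.mpr fun w hw => mem_bot.mpr ?_
    by_contra hw1
    exact hvZ ((zpowers_le.mpr hw.2) (zpowers_eq_of_mem S.hq hvo hw.1 hw1 ▸ mem_zpowers v))
  have hAdec : ∀ w ∈ A, ∃ c ∈ zpowers v, ∃ u ∈ cenZ C, w = c * u :=
    exists_mul_of_card A (zpowers v) (cenZ C) (zpowers_le.mpr hvA) F.zle hdj
      (by rw [F.card, Nat.card_zpowers, hvo, F.cardZ, pow_two])
  have hxv : x * v * x⁻¹ ∈ A := by
    refine F.mem _ ((mem_normalizer_iff.mp (S.hKN hxK) v).mp (F.le hvA)) ?_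
    have hbx : b * x = x * b := (mem_centralizer_iff.mp (coreD_le_centralizer hxD) b S.hp.hb)
    have hbx' : b * x * b⁻¹ = x := by rw [hbx, mul_inv_cancel_right]
    calc b * (x * v * x⁻¹) * b⁻¹ = (b * x * b⁻¹) * (b * v * b⁻¹) * (b * x * b⁻¹)⁻¹ := by group
      _ = (x * v * x⁻¹)⁻¹ := by rw [hbx', F.inv v hvA]; group
  obtain ⟨c, hc, u, hu, hxv'⟩ := hAdec _ hxv
  obtain ⟨i, rfl⟩ := pow_of_mem_zpowers hc
  -- iterate: `x ^ n` maps `v` into `v ^ (i ^ n) Z`
  have hn : ∀ n : ℕ, ∃ u' ∈ cenZ C, x ^ n * v * (x ^ n)⁻¹ = v ^ (i ^ n) * u' := by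
    intro n
    induction n with
    | zero => exact ⟨1, one_mem _, by simp⟩
    | succ n ih =>
      obtain ⟨u', hu', ih⟩ := ih
      refine ⟨u ^ (i ^ n) * (x * u' * x⁻¹), mul_mem (pow_mem hu _) (S.Z_kconj hxK hu'), ?_⟩
      calc x ^ (n + 1) * v * (x ^ (n + 1))⁻¹ = x * (x ^ n * v * (x ^ n)⁻¹) * x⁻¹ := by
            rw [pow_succ']; group
        _ = x * v ^ (i ^ n) * x⁻¹ * (x * u' * x⁻¹) := by rw [ih]; group
        _ = (v ^ i * u) ^ (i ^ n) * (x * u' * x⁻¹) := by rw [conj_pow_eq, hxv']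
        _ = v ^ (i ^ (n + 1)) * (u ^ (i ^ n) * (x * u' * x⁻¹)) := by
            rw [(Z_commute (A := A) hu (pow_mem (F.le hvA) i)).mul_pow, ← pow_mul, pow_succ',
              mul_assoc]
  obtain ⟨u', hu', hnq⟩ := hn (q ^ k)
  rw [hxq] at hnq
  simp only [one_mul, inv_one, mul_one] at hnq
  have hi1 : v ^ i = v := by
    have h1 : v ^ (i ^ q ^ k) * v⁻¹ = u'⁻¹ := by
      have h5 : v ^ (i ^ q ^ k) = v * u'⁻¹ := eq_mul_inv_iff_mul_eq.mpr hnq.symm
      rw [h5, Z_comm (inv_mem hu') (F.le hvA), mul_inv_cancel_right]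
    have h2 : v ^ (i ^ q ^ k) * v⁻¹ ∈ zpowers v ⊓ cenZ C := Subgroup.mem_inf.mpr
      ⟨mul_mem (pow_mem (mem_zpowers v) _) (inv_mem (mem_zpowers v)), h1 ▸ inv_mem hu'⟩
    rw [hdj, mem_bot, mul_inv_eq_one] at h2
    have h3 : v ^ (i ^ q ^ k) = v ^ 1 := by rw [pow_one]; exact h2
    rw [pow_eq_pow_iff_modEq, hvo, ← ZMod.natCast_eq_natCast_iff, Nat.cast_pow,
      ZMod.pow_card_pow] at h3
    nth_rw 2 [← pow_one v]
    rw [pow_eq_pow_iff_modEq, hvo, ← ZMod.natCast_eq_natCast_iff]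
    exact h3
  rw [hi1] at hxv'
  obtain ⟨c', hc', hcv⟩ := S.shift' F hvA hvZ hu
  -- `x' = c'⁻¹ x` centralises `v` and `z`
  obtain ⟨j, rfl⟩ := pow_of_mem_zpowers hc'
  have hcx : Commute (y ^ j)⁻¹ x := by
    have : Commute y x := by
      show y * x = x * y
      calc y * x = x * y * x⁻¹ * x := by rw [hxy]
        _ = x * y := by group
    exact (this.pow_left j).inv_left
  set x' := (y ^ j)⁻¹ * x with hx'
  have hx'D : x' ∈ coreD V := mul_mem (inv_mem (pow_mem S.yD j)) hxD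
  by_cases hx'1 : x' = 1
  · have : x = y ^ j := (inv_mul_eq_one.mp hx'1).symm
    rw [this]; exact pow_mem (mem_zpowers y) j
  exfalso
  have hx'k : ∃ m : ℕ, orderOf x' = q ^ m := by
    have h1 : x' ^ q ^ (k + 1) = 1 := by
      rw [hx', hcx.mul_pow, inv_pow, ← pow_mul, mul_comm j, pow_mul]
      have h2 : y ^ q ^ (k + 1) = 1 := by
        rw [pow_succ', pow_mul, ← S.hy, pow_orderOf_eq_one, one_pow]
      have h3 : x ^ q ^ (k + 1) = 1 := by rw [pow_succ, pow_mul, hxq, one_pow]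
      rw [h2, h3]; simp
    obtain ⟨m, -, hm⟩ := (Nat.dvd_prime_pow S.hq).mp (orderOf_dvd_of_pow_eq_one h1)
    exact ⟨m, hm⟩
  have hx'v : x' * v = v * x' := by
    have h1 : x' * v * x'⁻¹ = v := by
      calc x' * v * x'⁻¹ = (y ^ j)⁻¹ * (x * v * x⁻¹) * y ^ j := by rw [hx']; group
        _ = v := by rw [hxv', ← hcv]; group
    calc x' * v = x' * v * x'⁻¹ * x' := by group
      _ = v * x' := by rw [h1]
  have hx'z : x' * z = z * x' := by
    have h1 : Commute x z := by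
      show x * z = z * x
      calc x * z = x * z * x⁻¹ * x := by group
        _ = z * x := by rw [hxz]
    have h2 : Commute (y ^ j)⁻¹ z :=
      Z_commute (A := A) hzZ (inv_mem (pow_mem S.yC j))
    exact (h2.mul_left h1).eq
  have hAx : A ≤ centralizer ({x'} : Set G) := by
    intro w hw
    obtain ⟨c, hc, u, hu, rfl⟩ := hAdec w hw
    refine mul_mem ?_ ?_
    · exact (zpowers_le.mpr (mem_centralizer_singleton_iff.mpr hx'v.symm)) hc
    · rw [← hZeq] at hu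
      exact (zpowers_le.mpr (mem_centralizer_singleton_iff.mpr hx'z.symm)) hu
  refine S.kill hx'D hx'1 hx'k F.le hAx
    (S.V_le_normalizer (F.le.trans S.hCK) fun w hw => F.inv w hw ▸ inv_mem hw)
    (F.zle hzZ) hvA (F.inv z (F.zle hzZ)) (F.inv v hvA) hz1 ?_
  rw [hZeq]; exact hvZ

theorem qprime_mem (S : Setup V a b q C y) {A : Subgroup G} (F : Frame b y q C A) {x : G}
    (hx : x ∈ centralizer (V : Set G)) (ho : orderOf x = q) : x ∈ zpowers y :=
  S.qelem F (mem_coreD_of_odd S.ctx S.hp.ha S.hp.a1 hx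
    (ho ▸ S.hq.odd_of_ne_two (Nat.ne_of_gt S.two_lt))) (k := 1) (by rw [ho, pow_one])

/-- Conjugates of `y` inside `⟨y⟩` come from `D`. -/
theorem conjugates_in_zpowers (S : Setup V a b q C y) {A : Subgroup G} (F : Frame b y q C A)
    {h : G} (hh : h * y * h⁻¹ ∈ zpowers y) : h * y * h⁻¹ ∈ conjSet (coreD V) y := by
  haveI := S.ctx.klein
  set g := h * y * h⁻¹ with hg
  set M := centralizer ({y} : Set G) with hM
  have hgo : orderOf g = q := by rw [hg, orderOf_conj_eq, S.hy]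
  have hg1 : g ≠ 1 := fun h0 => S.hq.one_lt.ne (by rw [← hgo, h0, orderOf_one])
  have hyg : zpowers g = zpowers y := zpowers_eq_of_mem S.hq S.hy hh hg1
  have hVy : V ≤ M := S.le_centralizer_of_D S.yD
  have hWM : V.map (MulAut.conj h).toMonoidHom ≤ M := by
    rintro _ ⟨f, hf, rfl⟩
    have hfy : f * y = y * f := mem_centralizer_singleton_iff.mp (hVy hf)
    change h * f * h⁻¹ ∈ M
    have h1 : h * f * h⁻¹ ∈ centralizer ({g} : Set G) := by
      rw [mem_centralizer_singleton_iff, hg]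
      calc h * f * h⁻¹ * (h * y * h⁻¹) = h * (f * y) * h⁻¹ := by group
        _ = h * (y * f) * h⁻¹ := by rw [hfy]
        _ = h * y * h⁻¹ * (h * f * h⁻¹) := by group
    obtain ⟨i, hi⟩ := pow_of_mem_zpowers (show y ∈ zpowers g from hyg ▸ mem_zpowers y)
    rw [mem_centralizer_singleton_iff, hi]
    exact ((show Commute (h * f * h⁻¹) g from
      mem_centralizer_singleton_iff.mp h1).pow_right i).eq
  obtain ⟨m, hm, hmW⟩ := exists_conj S.ctx hVy hWM (by
    rw [card_map_of_injective (MulAut.conj h).injective]; exact IsKleinFour.card_four)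
  have hN : m * h ∈ normalizer (V : Set G) := by
    rw [mem_normalizer_iff]
    intro f
    constructor
    · intro hf
      rw [← hmW]
      exact ⟨h * f * h⁻¹, ⟨f, hf, rfl⟩, by simp [MulAut.conj_apply, mul_assoc]⟩
    · intro hf
      rw [← hmW] at hf
      obtain ⟨_, ⟨f', hf', rfl⟩, he⟩ := hf
      have he' : (m * h) * f' * (m * h)⁻¹ = (m * h) * f * (m * h)⁻¹ := by
        rw [← he]; simp [MulAut.conj_apply, mul_assoc]
      exact mul_left_cancel (mul_right_cancel he') ▸ hf'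
  have hmg : m * g = g * m := by
    obtain ⟨i, hi⟩ := pow_of_mem_zpowers (show g ∈ zpowers y from hh)
    rw [hi]
    exact ((show Commute m y from mem_centralizer_singleton_iff.mp hm).pow_right i).eq
  have hg' : (m * h) * y * (m * h)⁻¹ = g := by
    calc (m * h) * y * (m * h)⁻¹ = m * g * m⁻¹ := by rw [hg]; group
      _ = g := by rw [hmg, mul_inv_cancel_right]
  have he := conj_mem_of_normalizer hN S.hp.ha
  have he1 : (m * h) * a * (m * h)⁻¹ ≠ 1 := fun h0 => S.hp.a1 (conj_eq_one_iff.mp h0)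
  obtain ⟨r, hrM, hrN, hra⟩ := exists_fused_conj S.ctx
    (S.fusedCent y S.yD S.y1 ⟨1, by rw [S.hy, pow_one]⟩) S.hp.ha S.hp.a1 he he1
  set w := r⁻¹ * (m * h) with hw
  have hwN : w ∈ normalizer (V : Set G) := mul_mem (inv_mem hrN) hN
  have hwa : w * a * w⁻¹ = a := by
    calc w * a * w⁻¹ = r⁻¹ * ((m * h) * a * (m * h)⁻¹) * r := by rw [hw]; group
      _ = a := by rw [← hra]; group
  have hwV := mem_centralizer_of_fix S.ctx hwN S.hp.ha S.hp.a1 hwa
  obtain ⟨k, hk, v, hv, hkv⟩ := exists_coreK_mul S.ctx S.hp.ha S.hp.a1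
    (centralizer_le_singleton S.hp.ha hwV)
  have hkD : k ∈ coreD V := coreK_inf_le_coreD S.hp.ha (Subgroup.mem_inf.mpr ⟨hk, by
    have : k = w * v⁻¹ := by rw [hkv]; group
    rw [this]; exact mul_mem hwV (inv_mem (le_centralizer_self S.ctx hv))⟩)
  refine ⟨k, hkD, ?_⟩
  have hrk : r * (k * y * k⁻¹) = k * y * k⁻¹ * r := by
    obtain ⟨i, hi⟩ := pow_of_mem_zpowers (S.conj_mem_zpowers_y hkD)
    rw [hi]
    exact ((show Commute r y from mem_centralizer_singleton_iff.mp hrM).pow_right i).eq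
  calc k * y * k⁻¹ = r * (k * y * k⁻¹) * r⁻¹ := by rw [hrk, mul_inv_cancel_right]
    _ = r * (k * (v * y * v⁻¹) * k⁻¹) * r⁻¹ := by rw [S.fix_of_D S.yD hv]
    _ = r * (w * y * w⁻¹) * r⁻¹ := by rw [hkv]; group
    _ = (m * h) * y * (m * h)⁻¹ := by rw [hw]; group
    _ = g := hg'

theorem conjSet_D_sub (S : Setup V a b q C y) : conjSet (coreD V) y ⊆ (zpowers y : Set G) := by
  rintro _ ⟨d, hd, rfl⟩
  exact S.conj_mem_zpowers_y hd

theorem conjSet_D_pos (S : Setup V a b q C y) : 0 < (conjSet (coreD V) y).ncard :=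
  (Set.ncard_pos (Set.toFinite _)).mpr ⟨y, 1, one_mem _, by simp⟩

theorem mem_coreO_y (S : Setup V a b q C y) {g : G} (hg : g ∈ zpowers y) :
    g ∈ coreO (centralizer ({y} : Set G)) := by
  set M := centralizer ({y} : Set G)
  have hle : zpowers y ≤ M := zpowers_le.mpr (mem_centralizer_singleton_iff.mpr rfl)
  have hn : ((zpowers y).subgroupOf M).Normal := by
    refine ⟨fun x hx m => ?_⟩
    rw [mem_subgroupOf] at hx ⊢
    obtain ⟨i, hi⟩ := hx
    have h1 : (m : G) * y = y * m := mem_centralizer_singleton_iff.mp m.2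
    have h2 : ((m * x * m⁻¹ : M) : G) = (x : G) := by
      simp only [Subgroup.coe_mul, Subgroup.coe_inv, ← hi]
      rw [((show Commute (m : G) y from h1).zpow_right i).eq, mul_inv_cancel_right]
    rw [h2, ← hi]
    exact zpow_mem (mem_zpowers y) i
  have ho : (Nat.card ↥((zpowers y).subgroupOf M)).Coprime 2 := by
    rw [Nat.card_congr (subgroupOfEquivOfLe hle).toEquiv, Nat.card_zpowers, S.hy,
      Nat.coprime_two_right]
    exact S.hq.odd_of_ne_two (Nat.ne_of_gt S.two_lt)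
  exact ⟨⟨g, hle hg⟩, Thompson.le_pPrimeCore hn ho hg, rfl⟩

theorem Z_facts (S : Setup V a b q C y) {z : G} (hz : z ∈ cenZ C) (hz1 : z ≠ 1) :
    z ∈ invSet (centralizer ({y} : Set G)) a b ∧ z ∉ coreO (centralizer ({y} : Set G)) := by
  have hle : cenZ C ≤ C := inf_le_left
  obtain ⟨-, h2, h3⟩ := S.comm_small S.yD S.y1 ⟨1, by rw [S.hy, pow_one]⟩ hle
    (fun w hw => mem_centralizer_singleton_iff.mpr (Z_comm hw S.yC).symm)
    (S.V_le_normalizer (hle.trans S.hCK) fun _ => S.Z_bconj)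
  have hzT := S.mem_comm_of_inv hz (S.oddC hz.1) (S.Z_inv hz)
  refine ⟨h3 z hzT, fun hO => hz1 ?_⟩
  rw [← mem_bot, ← h2]
  exact Subgroup.mem_inf.mpr ⟨hzT, hO⟩

theorem count_bound (S : Setup V a b q C y) :
    (conjSet (⊤ : Subgroup G) y).ncard * (conjSet (coreD V) y).ncard ^ 2 <
      4 * (conjSet (coreK a) y).ncard ^ 3 := by
  obtain ⟨z, hz, hz1⟩ := S.exists_Z_ne
  obtain ⟨hzi, hzO⟩ := S.Z_facts hz hz1
  set M := centralizer ({y} : Set G) with hM
  have hT := (S.topM M (centralizer_ne_top S.ctx S.y1) (S.le_centralizer_of_D S.yD)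
    (S.fusedCent y S.yD S.y1 ⟨1, by rw [S.hy, pow_one]⟩)).count a b S.hp q 1 S.hq le_rfl
    (Nat.ne_of_gt S.two_lt) ⟨z, hzi, by
      rw [pow_one, orderOf_eq_of_pow_prime S.hq hz1 (S.hexp z hz.1)], by simpa using hzO⟩
  have h1 := card_conjSet (⊤ : Subgroup G) y
  rw [top_inf_eq, card_top] at h1
  have h2 := card_conjSet (coreK a) y
  have h3 := card_conjSet (coreD V) y
  have h4 := S.order
  rw [← hM] at h1 h2 h3
  rw [← h1, ← h2, ← h3] at h4
  set I := (conjSet (⊤ : Subgroup G) y).ncard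
  set Y := (conjSet (coreK a) y).ncard
  set δ := (conjSet (coreD V) y).ncard
  set m := Nat.card M
  set k := Nat.card ↥(coreK a ⊓ M)
  set d := Nat.card ↥(coreD V ⊓ M)
  have h5 : I * δ ^ 2 * (m * d ^ 2) < 4 * Y ^ 3 * (m * d ^ 2) := by
    calc I * δ ^ 2 * (m * d ^ 2) = I * m * (δ * d) ^ 2 := by ring
      _ < 96 * (Y * k) ^ 3 := h4
      _ = 4 * Y ^ 3 * (24 * k ^ 3) := by ring
      _ ≤ 4 * Y ^ 3 * (m * d ^ 2) := Nat.mul_le_mul_left _ hT.1.le
  exact Nat.lt_of_mul_lt_mul_right h5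

theorem Y_bound (S : Setup V a b q C y) {A : Subgroup G} (F : Frame b y q C A) :
    (conjSet (coreK a) y).ncard ≤ q * (q + 1) * (conjSet (coreD V) y).ncard := by
  classical
  set Y := conjSet (coreK a) y with hY
  set δ := (conjSet (coreD V) y).ncard
  let P : Finset (G × ℕ) := (Set.toFinite Y).toFinset ×ˢ Finset.Ioo 0 q
  have hP : P.card = Y.ncard * (q - 1) := by
    rw [Finset.card_product, ← Set.ncard_eq_toFinset_card, Nat.card_Ioo, Nat.sub_zero]
  have hmemP : ∀ p ∈ P, (∃ k ∈ coreK a, k * y * k⁻¹ = p.1) ∧ 0 < p.2 ∧ p.2 < q := by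
    intro p hp
    rw [Finset.mem_product, Set.Finite.mem_toFinset, Finset.mem_Ioo] at hp
    exact hp
  have hord : ∀ p ∈ P, orderOf p.1 = q := by
    intro p hp
    obtain ⟨⟨k, -, hk⟩, -⟩ := hmemP p hp
    rw [← hk, orderOf_conj_eq, S.hy]
  have hgen : ∀ p ∈ P, zpowers (p.1 ^ p.2) = zpowers p.1 := by
    intro p hp
    obtain ⟨-, h1, h2⟩ := hmemP p hp
    refine zpowers_eq_of_mem S.hq (hord p hp) (pow_mem (mem_zpowers _) _) fun h => ?_
    have := Nat.le_of_dvd h1 (hord p hp ▸ orderOf_dvd_of_pow_eq_one h)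
    omega
  have hmem : ∀ p ∈ P, p.1 ^ p.2 ∈ (C : Set G) \ (cenZ C : Set G) := by
    intro p hp
    obtain ⟨⟨k, hk, hkp⟩, -⟩ := hmemP p hp
    have hC : p.1 ∈ C := hkp ▸ (mem_normalizer_iff.mp (S.hKN hk) y).mp S.yC
    refine ⟨pow_mem hC _, fun hz => S.Z_ne_kconj hk ?_⟩
    rw [hkp]
    exact (zpowers_le.mpr hz) (hgen p hp ▸ mem_zpowers p.1)
  have hfib : ∀ c ∈ (C : Set G) \ (cenZ C : Set G),
      (P.filter fun p => p.1 ^ p.2 = c).card ≤ δ := by
    intro c _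
    rcases (P.filter fun p => p.1 ^ p.2 = c).eq_empty_or_nonempty with he | ⟨p₁, hp₁⟩
    · rw [he]; simp
    rw [Finset.mem_filter] at hp₁
    obtain ⟨⟨k₁, hk₁, hkp₁⟩, -⟩ := hmemP p₁ hp₁.1
    rw [show δ = (Set.toFinite (conjSet (coreD V) y)).toFinset.card from
      Set.ncard_eq_toFinset_card _ _]
    refine Finset.card_le_card_of_injOn (fun p => k₁⁻¹ * p.1 * k₁) ?_ ?_
    · intro p hp
      rw [Finset.mem_coe, Finset.mem_filter] at hp
      rw [Finset.mem_coe, Set.Finite.mem_toFinset]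
      obtain ⟨⟨k, hk, hkp⟩, -⟩ := hmemP p hp.1
      have h1 : k₁⁻¹ * p.1 * k₁ = (k₁⁻¹ * k) * y * (k₁⁻¹ * k)⁻¹ := by rw [← hkp]; group
      show k₁⁻¹ * p.1 * k₁ ∈ conjSet (coreD V) y
      rw [h1]
      refine S.conjugates_in_zpowers F ?_
      rw [← h1]
      have h2 : p.1 ∈ zpowers p₁.1 := by
        rw [← hgen p₁ hp₁.1, hp₁.2, ← hp.2, hgen p hp.1]; exact mem_zpowers _
      obtain ⟨i, hi⟩ := pow_of_mem_zpowers h2
      have h3 : k₁⁻¹ * p.1 * k₁ = y ^ i := by rw [hi, ← hkp₁, ← conj_pow_eq]; group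
      rw [h3]
      exact pow_mem (mem_zpowers y) i
    · intro p hp p' hp' heq
      rw [Finset.mem_coe, Finset.mem_filter] at hp hp'
      have h1 : p.1 = p'.1 := mul_left_cancel (mul_right_cancel heq)
      have h2 : p.1 ^ p.2 = p.1 ^ p'.2 := by rw [hp.2, ← hp'.2, h1]
      rw [pow_eq_pow_iff_modEq, hord p hp.1] at h2
      exact Prod.ext h1 (h2.eq_of_lt_of_lt (hmemP p hp.1).2.2 (hmemP p' hp'.1).2.2)
  have h := card_le_mul_of_fibres P (fun p => p.1 ^ p.2) _ (Set.toFinite _) hmem δ hfib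
  have hc : ((C : Set G) \ (cenZ C : Set G)).ncard = q ^ 3 - q := by
    rw [Set.ncard_sdiff (show (cenZ C : Set G) ⊆ (C : Set G) from fun _ h => h.1),
      ← Nat.card_coe_set_eq, ← Nat.card_coe_set_eq, SetLike.coe_sort_coe, SetLike.coe_sort_coe,
      S.hcard, F.cardZ]
  rw [hP, hc] at h
  obtain ⟨t, rfl⟩ : ∃ t, q = t + 1 := ⟨q - 1, by have := S.hq.pos; omega⟩
  have ht : 0 < t := by have := S.two_lt; omega
  have h3 : (t + 1) ^ 3 - (t + 1) = t * ((t + 1) * (t + 2)) := by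
    apply Nat.sub_eq_of_eq_add
    ring
  rw [h3, Nat.add_sub_cancel] at h
  refine Nat.le_of_mul_le_mul_left ?_ ht
  calc t * Y.ncard = Y.ncard * t := mul_comm _ _
    _ ≤ δ * (t * ((t + 1) * (t + 2))) := h
    _ = t * ((t + 1) * (t + 1 + 1) * δ) := by ring

/-- The elements of `C` congruent to a nontrivial element of `Z` modulo `O(C(y))`. -/
def seed (V C : Subgroup G) (y : G) : Set G :=
  {g | ∃ y' ∈ conjSet (coreD V) y, ∃ z' ∈ cenZ C, z' ≠ 1 ∧ y' * z' = g}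

theorem card_seed (S : Setup V a b q C y) {A : Subgroup G} (F : Frame b y q C A) :
    (seed V C y).ncard = (conjSet (coreD V) y).ncard * (q - 1) := by
  have heq : seed V C y =
      (fun p : G × G => p.1 * p.2) '' (conjSet (coreD V) y ×ˢ ((cenZ C : Set G) \ {1})) := by
    ext g
    simp only [seed, Set.mem_ofPred_eq, Set.mem_image, Set.mem_prod, Prod.exists, Set.mem_sdiff,
      Set.mem_singleton_iff, SetLike.mem_coe]
    grind
  rw [heq, Set.InjOn.ncard_image, Set.ncard_prod,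
    Set.ncard_sdiff_singleton_of_mem (s := (cenZ C : Set G)) (one_mem _),
    ← Nat.card_coe_set_eq (cenZ C : Set G), SetLike.coe_sort_coe, F.cardZ]
  rintro ⟨y₁, z₁⟩ ⟨hy₁, hz₁, -⟩ ⟨y₂, z₂⟩ ⟨hy₂, hz₂, -⟩ h
  simp only at h
  have h1 : y₂⁻¹ * y₁ = z₂ * z₁⁻¹ := by
    rw [eq_mul_inv_iff_mul_eq, mul_assoc, h, inv_mul_cancel_left]
  have h2 : y₂⁻¹ * y₁ = 1 := S.Z_inf (h1 ▸ mul_mem hz₂ (inv_mem hz₁))
    (mul_mem (inv_mem (S.conjSet_D_sub hy₂)) (S.conjSet_D_sub hy₁))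
  rw [inv_mul_eq_one] at h2
  subst h2
  rw [mul_left_cancel h]

/-- Seeds are `O(C(a))`-conjugates of `y`, symmetrically. -/
theorem seed_sym (S : Setup V a b q C y) {A : Subgroup G} (F : Frame b y q C A) {s : G}
    (hs : s ∈ seed V C y) : ∃ k : G, k * y * k⁻¹ = s ∧ k⁻¹ * y * k ∈ seed V C y := by
  obtain ⟨_, ⟨d, hd, rfl⟩, z', hz', hz'1, rfl⟩ := hs
  set z'' := d⁻¹ * z' * d with hz''
  have hz''Z : z'' ∈ cenZ C := by simpa [hz''] using S.Z_kconj (inv_mem (S.DleK hd)) hz'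
  have hz''1 : z'' ≠ 1 := fun h => hz'1 (by
    calc z' = d * (d⁻¹ * z' * d) * d⁻¹ := by group
      _ = 1 := by rw [← hz'', h]; group)
  obtain ⟨w, hw, hwy⟩ := S.shift F hz''Z
  refine ⟨d * w, ?_, ?_⟩
  · calc d * w * y * (d * w)⁻¹ = d * (w * y * w⁻¹) * d⁻¹ := by group
      _ = d * y * d⁻¹ * z' := by rw [hwy, hz'']; group
  · obtain ⟨j, hj⟩ := pow_of_mem_zpowers (S.conj_mem_zpowers_y (inv_mem hd))
    rw [inv_inv] at hj
    have hwz : w⁻¹ * z''⁻¹ = z''⁻¹ * w⁻¹ := Z_comm (inv_mem hz''Z) (inv_mem (F.le hw))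
    have hyw : w⁻¹ * y * w = y * z''⁻¹ := by
      have h1 : y = w * y * w⁻¹ * z''⁻¹ := by rw [hwy, mul_inv_cancel_right]
      calc w⁻¹ * y * w = w⁻¹ * (w * y * w⁻¹ * z''⁻¹) * w := by rw [← h1]
        _ = y * (w⁻¹ * z''⁻¹) * w := by group
        _ = y * z''⁻¹ := by rw [hwz]; group
    have h2 : (d * w)⁻¹ * y * (d * w) = y ^ j * z''⁻¹ ^ j := by
      calc (d * w)⁻¹ * y * (d * w) = w⁻¹ * (d⁻¹ * y * d) * w⁻¹⁻¹ := by group
        _ = (w⁻¹ * y * w) ^ j := by rw [hj, conj_pow_eq, inv_inv]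
        _ = _ := by rw [hyw, (Z_commute (A := A) (inv_mem hz''Z) S.yC).mul_pow]
    rw [h2]
    refine ⟨y ^ j, ⟨d⁻¹, inv_mem hd, by rw [inv_inv]; exact hj⟩, z''⁻¹ ^ j,
      pow_mem (inv_mem hz''Z) j, fun h => ?_, rfl⟩
    have h3 : q ∣ j := by
      have h4 := orderOf_dvd_of_pow_eq_one h
      rwa [orderOf_inv, orderOf_eq_of_pow_prime S.hq hz''1 (S.hexp z'' hz''Z.1)] at h4
    have h5 : y ^ j = 1 := orderOf_dvd_iff_pow_eq_one.mp (S.hy.symm ▸ h3)
    rw [h5] at hj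
    exact S.y1 (by
      calc y = d * (d⁻¹ * y * d) * d⁻¹ := by group
        _ = 1 := by rw [hj]; group)

theorem false_of_setup (S : Setup V a b q C y) : False := by
  classical
  obtain ⟨A, F⟩ := S.exists_frame
  haveI := S.ctx.klein
  set M := centralizer ({y} : Set G) with hM
  have hMne := centralizer_ne_top S.ctx S.y1
  have hVM : V ≤ M := S.le_centralizer_of_D S.yD
  have hT := S.topM M hMne hVM (S.fusedCent y S.yD S.y1 ⟨1, by rw [S.hy, pow_one]⟩)
  set Γ : Set G := {g : G | ∃ m ∈ M, ∃ s ∈ seed V C y, m * s * m⁻¹ = g} with hΓ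
  -- properties of the seed
  have hseedM : ∀ s ∈ seed V C y, ∃ x ∈ invSet M a b,
      x ^ q ∈ coreO M ∧ x ∉ coreO M ∧ s ∈ M ∧ s * x⁻¹ ∈ coreO M := by
    rintro s ⟨y', hy', z', hz', hz'1, rfl⟩
    obtain ⟨h1, h2⟩ := S.Z_facts hz' hz'1
    refine ⟨z', h1, by rw [S.hexp z' hz'.1]; exact one_mem _, h2, mul_mem ?_ h1.1, ?_⟩
    · exact zpowers_le.mpr (mem_centralizer_singleton_iff.mpr rfl) (S.conjSet_D_sub hy')
    · rw [mul_inv_cancel_right]; exact S.mem_coreO_y (S.conjSet_D_sub hy')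
  obtain ⟨z, hz, hz1⟩ := S.exists_Z_ne
  obtain ⟨hzi, hzO⟩ := S.Z_facts hz hz1
  have hN := (hT.count a b S.hp q 1 S.hq le_rfl (Nat.ne_of_gt S.two_lt) ⟨z, hzi, by
      rw [pow_one, orderOf_eq_of_pow_prime S.hq hz1 (S.hexp z hz.1)], by simpa using hzO⟩).2
    (seed V C y) (fun s hs => by
      obtain ⟨x, hx, -, h2, h3, h4⟩ := hseedM s hs
      exact ⟨x, hx, h2, h3, h4⟩)
  rw [pow_one, ← hΓ, S.card_seed F] at hN
  have hbad := hT.borel a b S.hp q S.hq (Nat.ne_of_gt S.two_lt) (seed V C y) hseedM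
  have hΓM : ∀ g ∈ Γ, g * y = y * g := by
    rintro g ⟨m, hm, s, hs, rfl⟩
    obtain ⟨x, -, -, -, hsM, -⟩ := hseedM s hs
    exact mem_centralizer_singleton_iff.mp (mul_mem (mul_mem hm hsM) (inv_mem hm))
  have hsym : ∀ g ∈ Γ, ∃ h : G, h * y * h⁻¹ = g ∧ h⁻¹ * y * h ∈ Γ := by
    rintro g ⟨m, hm, s, hs, rfl⟩
    obtain ⟨k, hk1, hk2⟩ := S.seed_sym F hs
    refine ⟨m * k, by rw [← hk1]; group, 1, one_mem _, _, hk2, ?_⟩
    have hmy : m * y = y * m := mem_centralizer_singleton_iff.mp hm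
    symm
    calc (m * k)⁻¹ * y * (m * k) = k⁻¹ * (m⁻¹ * (y * m)) * k := by group
      _ = 1 * (k⁻¹ * y * k) * 1⁻¹ := by rw [← hmy]; group
  choose! hh hh1 hh2 using hsym
  -- bad elements
  let Bad : G → Set G := fun g₀ => {g : G | (∃ m ∈ M, ∃ s ∈ seed V C y, m * s * m⁻¹ = g) ∧
    ∃ L : Subgroup G, L ≤ M ∧ Group.IsSolvable L ∧
      (∀ W : Subgroup G, W ≤ L → ¬ IsKleinFour W) ∧ g₀ ∈ L ∧ g ∈ L}
  let Γf : Finset G := (Set.toFinite Γ).toFinset
  have hΓf : ∀ g, g ∈ Γf ↔ g ∈ Γ := fun g => Set.Finite.mem_toFinset _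
  set N := Γ.ncard with hNdef
  have hNf : Γf.card = N := (Set.ncard_eq_toFinset_card _ _).symm
  let good : G → Finset G := fun m => Γf.filter fun g' => g' ∉ Bad ((hh m)⁻¹ * y * hh m)
  have hgood : ∀ m ∈ Γf, 2 * N ≤ 3 * (good m).card := by
    intro m hm
    have h1 : 3 * (Bad ((hh m)⁻¹ * y * hh m)).ncard ≤ N := hbad _ (hh2 m ((hΓf m).mp hm))
    have h2 := Finset.card_filter_add_card_filter_not
      (s := Γf) (fun g' => g' ∈ Bad ((hh m)⁻¹ * y * hh m))
    have h3 : (Γf.filter fun g' => g' ∈ Bad ((hh m)⁻¹ * y * hh m)).card =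
        (Bad ((hh m)⁻¹ * y * hh m)).ncard := by
      rw [← Set.ncard_coe_finset]
      congr 1
      ext g
      simp only [Finset.coe_filter, Set.mem_ofPred_eq, hΓf]
      exact ⟨fun h => h.2, fun h => ⟨h.1, h⟩⟩
    simp only [good]
    omega
  let P : Finset (Σ _ : G, G) := Γf.sigma good
  have hP : 2 * (N * N) ≤ 3 * P.card := by
    rw [Finset.card_sigma, Finset.mul_sum]
    calc 2 * (N * N) = ∑ _m ∈ Γf, 2 * N := by rw [Finset.sum_const, smul_eq_mul, hNf]; ring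
      _ ≤ _ := Finset.sum_le_sum hgood
  set δ := (conjSet (coreD V) y).ncard
  set T := conjSet (⊤ : Subgroup G) y
  have hmap : ∀ p ∈ P, hh p.1 * p.2 * (hh p.1)⁻¹ ∈ T := by
    intro p hp
    rw [Finset.mem_sigma] at hp
    obtain ⟨m, hm, s, hs, hms⟩ := (hΓf p.2).mp (Finset.mem_filter.mp hp.2).1
    obtain ⟨k, hk, -⟩ := S.seed_sym F hs
    exact ⟨hh p.1 * (m * k), mem_top _, by rw [← hms, ← hk]; group⟩
  have hfib : ∀ g ∈ T, (P.filter fun p => hh p.1 * p.2 * (hh p.1)⁻¹ = g).card ≤ δ := by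
    intro g _
    rcases (P.filter fun p => hh p.1 * p.2 * (hh p.1)⁻¹ = g).eq_empty_or_nonempty with
      he | ⟨p₁, hp₁⟩
    · rw [he]; simp
    rw [Finset.mem_filter, Finset.mem_sigma] at hp₁
    obtain ⟨⟨hm₁, hg₁⟩, heq₁⟩ := hp₁
    rw [Finset.mem_filter] at hg₁
    set h₁ := hh p₁.1 with hh₁
    rw [show δ = (Set.toFinite (conjSet (coreD V) y)).toFinset.card from
      Set.ncard_eq_toFinset_card _ _]
    refine Finset.card_le_card_of_injOn (fun p => h₁⁻¹ * p.1 * h₁) ?_ ?_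
    · intro p hp
      rw [Finset.mem_coe, Finset.mem_filter, Finset.mem_sigma] at hp
      obtain ⟨⟨hm₂, hg₂⟩, heq₂⟩ := hp
      rw [Finset.mem_filter] at hg₂
      rw [Finset.mem_coe, Set.Finite.mem_toFinset]
      set h₂ := hh p.1 with hh₂
      have hy₂ : h₂ * y * h₂⁻¹ = p.1 := hh1 _ ((hΓf _).mp hm₂)
      set e := h₁⁻¹ * p.1 * h₁ with he
      have hee : e = (h₁⁻¹ * h₂) * y * (h₁⁻¹ * h₂)⁻¹ := by rw [he, ← hy₂]; group
      show e ∈ conjSet (coreD V) y
      rw [hee]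
      refine S.conjugates_in_zpowers F ?_
      rw [← hee]
      by_contra hne
      apply hg₁.2
      set g₀ := h₁⁻¹ * y * h₁ with hg₀
      set L := M ⊓ centralizer ({e} : Set G) with hL
      have hg₀Γ : g₀ ∈ Γ := hh2 _ ((hΓf _).mp hm₁)
      have hg₀L : g₀ ∈ L := by
        refine Subgroup.mem_inf.mpr ⟨mem_centralizer_singleton_iff.mpr (hΓM _ hg₀Γ),
          mem_centralizer_singleton_iff.mpr ?_⟩
        have h1 : p.1 * y = y * p.1 := hΓM _ ((hΓf _).mp hm₂)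
        calc g₀ * e = h₁⁻¹ * (y * p.1) * h₁ := by rw [hg₀, he]; group
          _ = h₁⁻¹ * (p.1 * y) * h₁ := by rw [h1]
          _ = e * g₀ := by rw [hg₀, he]; group
      have hg₁L : p₁.2 ∈ L := by
        refine Subgroup.mem_inf.mpr ⟨mem_centralizer_singleton_iff.mpr
          (hΓM _ ((hΓf _).mp hg₁.1)), mem_centralizer_singleton_iff.mpr ?_⟩
        have h1 : p.2 * y = y * p.2 := hΓM _ ((hΓf _).mp hg₂.1)
        have h2 : p₁.2 = (h₁⁻¹ * h₂) * p.2 * (h₁⁻¹ * h₂)⁻¹ := by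
          calc p₁.2 = h₁⁻¹ * (h₁ * p₁.2 * h₁⁻¹) * h₁ := by group
            _ = h₁⁻¹ * (h₂ * p.2 * h₂⁻¹) * h₁ := by rw [heq₁, heq₂]
            _ = _ := by group
        rw [h2, hee]
        calc _ = (h₁⁻¹ * h₂) * (p.2 * y) * (h₁⁻¹ * h₂)⁻¹ := by group
          _ = (h₁⁻¹ * h₂) * (y * p.2) * (h₁⁻¹ * h₂)⁻¹ := by rw [h1]
          _ = _ := by group
      -- a four-group in `L` would force `e ∈ ⟨y⟩`
      have hno : ∀ W : Subgroup G, W ≤ L → Nat.card W = 4 → False := by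
        intro W hW hW4
        obtain ⟨x, -, hx⟩ := exists_conj S.ctx (M := (⊤ : Subgroup G)) le_top le_top hW4
        have hin : ∀ u : G, orderOf u = q → (∀ f ∈ W, f * u = u * f) →
            x * u * x⁻¹ ∈ zpowers y := by
          intro u hu hWu
          refine S.qprime_mem F (mem_centralizer_iff.mpr fun f hf => ?_)
            (by rw [orderOf_conj_eq, hu])
          rw [SetLike.mem_coe, ← hx] at hf
          obtain ⟨f', hf', rfl⟩ := hf
          simp only [MulEquiv.coe_toMonoidHom, MulAut.conj_apply]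
          calc x * f' * x⁻¹ * (x * u * x⁻¹) = x * (f' * u) * x⁻¹ := by group
            _ = x * (u * f') * x⁻¹ := by rw [hWu f' hf']
            _ = _ := by group
        have h1 := hin y S.hy fun f hf => mem_centralizer_singleton_iff.mp (hW hf).1
        have h2 := hin e (by rw [hee, orderOf_conj_eq, S.hy]) fun f hf =>
          mem_centralizer_singleton_iff.mp (hW hf).2
        have hy1 : x * y * x⁻¹ ≠ 1 := fun h => S.y1 (conj_eq_one_iff.mp h)
        rw [← zpowers_eq_of_mem S.hq S.hy h1 hy1] at h2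
        obtain ⟨i, hi⟩ := pow_of_mem_zpowers h2
        rw [← conj_pow_eq] at hi
        exact hne ((mul_left_cancel (mul_right_cancel hi)) ▸ pow_mem (mem_zpowers y) i)
      refine ⟨(hΓf _).mp hg₁.1, L, inf_le_left, ?_, ?_, hg₀L, hg₁L⟩
      · refine solvable_of_not_four_dvd fun h4 => ?_
        haveI := Fact.mk Nat.prime_two
        obtain ⟨W, hW⟩ := Sylow.exists_subgroup_card_pow_prime 2 (n := 2) (by simpa using h4)
        refine hno (W.map L.subtype) (map_subtype_le _) ?_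
        rw [card_map_of_injective (subtype_injective L), hW]
        rfl
      · exact fun W hW hK => hno W hW hK.card_four
    · intro p hp p' hp' heq
      rw [Finset.mem_coe, Finset.mem_filter] at hp hp'
      have h1 : p.1 = p'.1 := mul_left_cancel (mul_right_cancel heq)
      have h2 : p.2 = p'.2 := by
        have h3 := hp.2.trans hp'.2.symm
        rw [h1] at h3
        exact mul_left_cancel (mul_right_cancel h3)
      exact Sigma.ext h1 (heq_of_eq h2)
  have hcount := card_le_mul_of_fibres P _ T (Set.toFinite _) hmap δ hfib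
  have hδ := S.conjSet_D_pos
  have hI := S.count_bound
  have hY := S.Y_bound F
  set I := T.ncard
  set Y := (conjSet (coreK a) y).ncard
  -- arithmetic
  obtain ⟨t, rfl⟩ : ∃ t, q = t + 3 := ⟨q - 3, by have := S.two_lt; omega⟩
  have e1 : t + 3 - 1 = t + 2 := rfl
  rw [e1] at hN
  have a1 : 2 * (N * N) ≤ 3 * (δ * I) := hP.trans (Nat.mul_le_mul_left 3 hcount)
  have a2 : I * δ ^ 2 < 4 * ((t + 3) * (t + 4) * δ) ^ 3 :=
    hI.trans_le (Nat.mul_le_mul_left 4 (Nat.pow_le_pow_left hY 3))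
  have a3 : 2 * ((6 * (t + 3) ^ 2 * (δ * (t + 2))) * (6 * (t + 3) ^ 2 * (δ * (t + 2)))) * δ ^ 2 ≤
      3 * δ * (I * δ ^ 2) := by
    calc _ ≤ 2 * (N * N) * δ ^ 2 := by gcongr
      _ ≤ 3 * (δ * I) * δ ^ 2 := by gcongr
      _ = _ := by ring
  have a4 : 3 * δ * (I * δ ^ 2) < 3 * δ * (4 * ((t + 3) * (t + 4) * δ) ^ 3) :=
    Nat.mul_lt_mul_of_pos_left a2 (by omega)
  have a5 := a3.trans_lt a4
  have a6 : 12 * (t + 3) ^ 3 * (t + 4) ^ 3 * δ ^ 4 ≤ 72 * (t + 3) ^ 4 * (t + 2) ^ 2 * δ ^ 4 := by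
    refine Nat.mul_le_mul_right _ ?_
    have : (t + 4) ^ 3 ≤ 6 * (t + 3) * (t + 2) ^ 2 := by ring_nf; omega
    calc 12 * (t + 3) ^ 3 * (t + 4) ^ 3 ≤ 12 * (t + 3) ^ 3 * (6 * (t + 3) * (t + 2) ^ 2) := by
          gcongr
      _ = _ := by ring
  have a7 : 72 * (t + 3) ^ 4 * (t + 2) ^ 2 * δ ^ 4 < 12 * (t + 3) ^ 3 * (t + 4) ^ 3 * δ ^ 4 := by
    refine lt_of_eq_of_lt ?_ (a5.trans_eq ?_) <;> ring
  omega

end Setup

end SetupLemmas

end Cfsg.Agent.GW66.Beta

namespace Cfsg.Agent.GW66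

universe u

open Subgroup
open scoped commutatorElement

theorem beta (hTop : TopStmt.{u}) (hFC : FusedCentStmt.{u}) (hNC : NegCyclicStmt.{u})
    (hOrd : OrderStmt.{u}) : BetaStmt.{u} := by
  intro G _ _ V hctx hdor a q C ha ha1 hq hdiv hCK hcard hnc hexp hKN hVN hCD
  obtain ⟨b, hp⟩ := Beta.exists_pair hctx ha ha1
  haveI := Fact.mk hq
  obtain ⟨⟨y, hy⟩, hy1'⟩ := (Subgroup.ne_bot_iff_exists_ne_one (H := C ⊓ coreD V)).mp (by
    intro h
    rw [h, card_bot] at hCD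
    exact hq.one_lt.ne hCD)
  have hy1 : y ≠ 1 := fun h => hy1' (Subtype.ext h)
  have hyo : orderOf y = q := Beta.orderOf_eq_of_pow_prime hq hy1 (hexp y hy.1)
  exact Beta.Setup.false_of_setup
    { ctx := hctx
      hp := hp
      hq := hq
      hCK := hCK
      hcard := hcard
      hnc := hnc
      hexp := hexp
      hKN := hKN
      hVN := hVN
      hCD := (Subgroup.eq_of_le_of_card_ge (zpowers_le.mpr hy)
        (by rw [hCD, Nat.card_zpowers, hyo])).symm
      hy := hyo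
      fusedCent := fun x hx hx1 hk => hFC G V hctx hdor a q hq ha ha1 hdiv x hx hx1 hk
      negCyc := fun M hM hVM hF hd Y hY hYp hVY =>
        hNC G V hctx hdor M a b q hM hVM hF hp hq hd Y hY hYp hVY
      topM := fun M hM hVM hF => hTop G V hctx M hM hVM hF
      order := hOrd G V hctx a ha ha1 }

end Cfsg.Agent.GW66
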