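import Cfsg.Agent.GW66.CharDefs
import Cfsg.Agent.GW66.Basic

/-!
# Linear characters of `O(C(a))` invariant under `C(a)`
-/

set_option autoImplicit false

namespace Cfsg.Agent.GW66

open Subgroup
open scoped ComplexConjugate commutatorElement

universe u

variable {G : Type u} [Group G] [Finite G] {V : Subgroup G}

theorem coreK_le (a : G) : coreK a ≤ centralizer ({a} : Set G) := coreO_le _

theorem sectK (hV : IsKleinFour V) {a : G} (ha : a ∈ V) (h1 : a ≠ 1) :
    Sect a (coreK a) :=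
  ⟨klein_orderOf hV ha h1, fun _ hk => (mem_centralizer_singleton_iff.mp (coreK_le a hk)).symm,
    odd_card_coreK a⟩

theorem coreK_inf_klein (hV : IsKleinFour V) {a x : G} (hx : x ∈ coreK a) (hxV : x ∈ V) :
    x = 1 := by
  by_contra h1
  have h := (odd_card_coreK a).of_dvd_nat (orderOf_dvd_natCard _ hx)
  rw [klein_orderOf hV hxV h1] at h
  exact Nat.not_even_iff_odd.mpr h even_two

theorem centralizer_card (hV : IsKleinFour V) (hodd : Odd V.index) {a : G} (ha : a ∈ V)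
    (h1 : a ≠ 1) : Nat.card (centralizer ({a} : Set G)) = 4 * Nat.card (coreK a) := by
  let f : ↥(coreK a) × ↥V → ↥(centralizer ({a} : Set G)) := fun p =>
    ⟨(p.1 : G) * p.2, mul_mem (coreK_le a p.1.2) (le_centralizer_of_mem hV ha p.2.2)⟩
  have hinj : Function.Injective f := by
    rintro ⟨k, v⟩ ⟨k', v'⟩ h
    have h' : (k : G) * v = k' * v' := congrArg Subtype.val h
    obtain ⟨k, hk0⟩ := k
    obtain ⟨v, hv0⟩ := v
    obtain ⟨k', hk0'⟩ := k'
    obtain ⟨v', hv0'⟩ := v'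
    simp only at h'
    have e : k'⁻¹ * k = v' * v⁻¹ :=
      calc k'⁻¹ * k = k'⁻¹ * (k * v) * v⁻¹ := by group
        _ = k'⁻¹ * (k' * v') * v⁻¹ := by rw [h']
        _ = _ := by group
    have hone : k'⁻¹ * k = 1 :=
      coreK_inf_klein hV (mul_mem (inv_mem hk0') hk0) (e ▸ mul_mem hv0' (inv_mem hv0))
    have hk : k = k' := (inv_mul_eq_one.mp hone).symm
    subst hk
    exact Prod.ext rfl (Subtype.ext (mul_left_cancel h'))
  have hsurj : Function.Surjective f := by
    intro x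
    obtain ⟨k, hk, v, hv, he⟩ := centralizer_decomp hV hodd ha h1
      (mem_centralizer_singleton_iff.mp x.2)
    exact ⟨⟨⟨k, hk⟩, ⟨v, hv⟩⟩, Subtype.ext he.symm⟩
  rw [← Nat.card_eq_of_bijective f ⟨hinj, hsurj⟩, Nat.card_prod, hV.card_four, mul_comm]

/-- Every element of `K` is `d u` with `d` fixed and `u` inverted by `b`. -/
theorem coreK_decomp (hV : IsKleinFour V) (hodd : Odd V.index) {a b : G} (h : Pair V a b) {x : G}
    (hx : x ∈ coreK a) : ∃ d ∈ coreD V, ∃ u ∈ coreK a, b * u * b⁻¹ = u⁻¹ ∧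
      u ∈ coreU V a ∧ x = d * u := by
  have hbx : b * x * b⁻¹ ∈ coreK a :=
    (mem_normalizer_iff.mp (le_normalizer_coreK hV h.ha h.hb) x).mp hx
  have hb2 : b * b = 1 := klein_sq hV h.hb
  have hbi : b⁻¹ = b := klein_inv hV h.hb
  set w := x⁻¹ * (b * x * b⁻¹) with hw
  have hwK : w ∈ coreK a := mul_mem (inv_mem hx) hbx
  have hwU : w ∈ coreU V a := by
    have : w = ⁅x⁻¹, b⁆ := by rw [hw, commutatorElement_def]; group
    rw [this]
    exact commutator_mem_commutator (inv_mem hx) h.hb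
  have hwinv : b * w * b⁻¹ = w⁻¹ := by
    rw [hw]
    calc b * (x⁻¹ * (b * x * b⁻¹)) * b⁻¹ = (b * x⁻¹ * b⁻¹) * ((b * b) * x * (b * b)⁻¹) := by group
      _ = _ := by rw [hb2]; group
  have hodd' : Odd (orderOf w) := (odd_card_coreK a).of_dvd_nat (orderOf_dvd_natCard _ hwK)
  obtain ⟨j, hj⟩ := hodd'
  set u := w ^ (j + 1) with hu
  have hu2 : u * u = w := by
    rw [hu, ← pow_add, show j + 1 + (j + 1) = orderOf w + 1 by omega, pow_succ, pow_orderOf_eq_one,
      one_mul]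
  have huinv : b * u * b⁻¹ = u⁻¹ := by rw [hu, ← conj_pow, hwinv, inv_pow]
  have hd : b * (x * u) * b⁻¹ = x * u := by
    calc b * (x * u) * b⁻¹ = x * w * (b * u * b⁻¹) := by rw [hw]; group
      _ = x * (u * u) * u⁻¹ := by rw [huinv, hu2]
      _ = x * u := by group
  refine ⟨x * u, (mem_coreD_iff_pair hV hodd h).mpr
    ⟨mul_mem hx (pow_mem hwK _), (mul_inv_eq_iff_eq_mul.mp hd).symm⟩, u⁻¹,
    inv_mem (pow_mem hwK _), ?_, inv_mem (pow_mem hwU _), by group⟩
  calc b * u⁻¹ * b⁻¹ = (b * u * b⁻¹)⁻¹ := by group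
    _ = _ := by rw [huinv]

theorem coreU_le_coreK (hV : IsKleinFour V) {a : G} (ha : a ∈ V) : coreU V a ≤ coreK a :=
  commutator_le.mpr fun k hk v hv => by
    rw [commutatorElement_def, show k * v * k⁻¹ * v⁻¹ = k * (v * k⁻¹ * v⁻¹) by group]
    exact mul_mem hk ((mem_normalizer_iff.mp (le_normalizer_coreK hV ha hv) _).mp (inv_mem hk))

theorem conj_mem_coreU (hV : IsKleinFour V) (hodd : Odd V.index) {a c x : G} (ha : a ∈ V)
    (h1 : a ≠ 1) (hc : c ∈ centralizer ({a} : Set G)) (hx : x ∈ coreU V a) :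
    c * x * c⁻¹ ∈ coreU V a := by
  have hk : ∀ k ∈ coreK a, ∀ x ∈ coreU V a, k * x * k⁻¹ ∈ coreU V a := by
    intro k hk x hx
    suffices coreU V a ≤ (coreU V a).comap (MulAut.conj k).toMonoidHom by
      have := this hx
      simpa using this
    refine commutator_le.mpr fun y hy v hv => ?_
    rw [mem_comap]
    have : (MulAut.conj k).toMonoidHom ⁅y, v⁆ = ⁅k * y, v⁆ * ⁅k, v⁆⁻¹ := by
      simp only [MulEquiv.coe_toMonoidHom, MulAut.conj_apply, commutatorElement_def]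
      group
    rw [this]
    exact mul_mem (commutator_mem_commutator (mul_mem hk hy) hv)
      (inv_mem (commutator_mem_commutator hk hv))
  obtain ⟨k, hkK, v, hv, rfl⟩ := centralizer_decomp hV hodd ha h1
    (mem_centralizer_singleton_iff.mp hc)
  have hvx : v * x * v⁻¹ ∈ coreU V a := by
    suffices coreU V a ≤ (coreU V a).comap (MulAut.conj v).toMonoidHom by
      have := this hx
      simpa using this
    refine commutator_le.mpr fun y hy w hw => ?_
    rw [mem_comap]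
    have : (MulAut.conj v).toMonoidHom ⁅y, w⁆ = ⁅v * y * v⁻¹, v * w * v⁻¹⁆ := by
      simp only [MulEquiv.coe_toMonoidHom, MulAut.conj_apply, commutatorElement_def]
      group
    rw [this]
    exact commutator_mem_commutator
      ((mem_normalizer_iff.mp (le_normalizer_coreK hV ha hv) y).mp hy)
      (mul_mem (mul_mem hv hw) (inv_mem hv))
  have := hk k hkK _ hvx
  simpa [mul_assoc] using this

namespace Lin

variable {a : G} {μ ν : G → ℂ}

theorem toIsLinOn (h : Lin a μ) : IsLinOn (coreK a) μ := ⟨h.one, h.mul⟩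

theorem map_pow (h : Lin a μ) {x : G} (hx : x ∈ coreK a) (n : ℕ) : μ (x ^ n) = μ x ^ n := by
  induction n with
  | zero => simp [h.one]
  | succ n ih => rw [pow_succ, h.mul _ (pow_mem hx n) _ hx, ih, pow_succ]

theorem eq_one_of_inverted (h : Lin a μ) {b x : G} (hb : b ∈ centralizer ({a} : Set G))
    (hx : x ∈ coreK a) (hinv : b * x * b⁻¹ = x⁻¹) : μ x = 1 := by
  have h2 : μ x ^ 2 = 1 := by
    have := h.inv b hb x hx
    rw [hinv] at this
    have h' := h.mul x hx x⁻¹ (inv_mem hx)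
    rw [mul_inv_cancel, h.one, this] at h'
    rw [pow_two]; exact h'.symm
  obtain ⟨j, hj⟩ := (odd_card_coreK a).of_dvd_nat (orderOf_dvd_natCard _ hx)
  have := h.map_pow hx (orderOf x)
  rw [pow_orderOf_eq_one, h.one, hj, pow_succ, pow_mul, h2, one_pow, one_mul] at this
  exact this.symm

/-- `μ` only depends on the part fixed by `V`. -/
theorem apply_mul (hV : IsKleinFour V) {b d x : G} (hp : Pair V a b) (h : Lin a μ)
    (hd : d ∈ coreK a) (hx : x ∈ coreK a) (hinv : b * x * b⁻¹ = x⁻¹) : μ (d * x) = μ d := by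
  rw [h.mul d hd x hx, h.eq_one_of_inverted (le_centralizer_of_mem hV hp.ha hp.hb) hx hinv,
    mul_one]

theorem ext_coreD (hV : IsKleinFour V) (hodd : Odd V.index) (ha : a ∈ V) (h1 : a ≠ 1)
    (hμ : Lin a μ) (hν : Lin a ν) (he : ∀ d ∈ coreD V, μ d = ν d) : μ = ν := by
  obtain ⟨b, hp⟩ := exists_pair_of_mem hV ha h1
  funext x
  by_cases hx : x ∈ coreK a
  · obtain ⟨d, hd, u, hu, hinv, -, rfl⟩ := coreK_decomp hV hodd hp hx
    have hdK := coreD_le_coreK hV hodd ha h1 hd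
    rw [hμ.apply_mul hV hp hdK hu hinv, hν.apply_mul hV hp hdK hu hinv, he d hd]
  · rw [hμ.out x hx, hν.out x hx]

end Lin

theorem lin_linOne (a : G) : Lin a (linOne a) where
  one := Set.indicator_of_mem (one_mem (coreK a)) _
  mul x hx y hy := by
    simp only [linOne]
    rw [Set.indicator_of_mem (mul_mem hx hy : x * y ∈ coreK a), Set.indicator_of_mem hx,
      Set.indicator_of_mem hy, mul_one]
  inv c hc x hx := by
    simp only [linOne]
    have hm : c * x * c⁻¹ ∈ coreK a :=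
      (mem_normalizer_iff.mp (le_normalizer_coreO (centralizer ({a} : Set G)) hc) x).mp hx
    rw [Set.indicator_of_mem hm, Set.indicator_of_mem hx]
  out x hx := Set.indicator_of_notMem hx _

theorem linExists : LinExistsStmt.{u} := by
  intro G _ _ V hC a ha h1 hU f
  classical
  have hV := hC.klein
  have hodd := hC.sylow
  obtain ⟨b, hp⟩ := exists_pair_of_mem hV ha h1
  have huniq : ∀ d ∈ coreD V, ∀ d' ∈ coreD V, ∀ u ∈ coreU V a, ∀ u' ∈ coreU V a,
      d * u = d' * u' → d = d' := by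
    intro d hd d' hd' u hu u' hu' he
    have hm : d'⁻¹ * d ∈ coreU V a ⊓ coreD V := by
      refine Subgroup.mem_inf.mpr ⟨?_, mul_mem (inv_mem hd') hd⟩
      rw [show d'⁻¹ * d = u' * u⁻¹ by
        calc d'⁻¹ * d = d'⁻¹ * (d * u) * u⁻¹ := by group
          _ = d'⁻¹ * (d' * u') * u⁻¹ := by rw [he]
          _ = _ := by group]
      exact mul_mem hu' (inv_mem hu)
    rw [hU, mem_bot] at hm
    exact (inv_mul_eq_one.mp hm).symm
  choose dd hdd uu huu _ huU hxe using fun (x : ↥(coreK a)) => coreK_decomp hV hodd hp x.2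
  let μ : G → ℂ := fun x => if hx : x ∈ coreK a then f ⟨dd ⟨x, hx⟩, hdd _⟩ else 0
  have hval : ∀ d (hd : d ∈ coreD V), ∀ u ∈ coreU V a, μ (d * u) = f ⟨d, hd⟩ := by
    intro d hd u hu
    have hxK : d * u ∈ coreK a :=
      mul_mem (coreD_le_coreK hV hodd ha h1 hd) (coreU_le_coreK hV ha hu)
    simp only [μ, dif_pos hxK]
    exact congrArg f (Subtype.ext (huniq _ (hdd _) d hd _ (huU _) u hu (hxe ⟨d * u, hxK⟩).symm))
  have hdecomp : ∀ x ∈ coreK a, ∃ d, ∃ _ : d ∈ coreD V, ∃ u ∈ coreU V a, x = d * u :=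
    fun x hx => ⟨_, hdd ⟨x, hx⟩, _, huU ⟨x, hx⟩, hxe ⟨x, hx⟩⟩
  have hDc : ∀ d ∈ coreD V, d ∈ centralizer ({a} : Set G) := fun d hd =>
    coreK_le a (coreD_le_coreK hV hodd ha h1 hd)
  have hd0 : ∀ d (hd : d ∈ coreD V), μ d = f ⟨d, hd⟩ := fun d hd => by
    simpa using hval d hd 1 (one_mem _)
  have hmul : ∀ x ∈ coreK a, ∀ y ∈ coreK a, μ (x * y) = μ x * μ y := by
    intro x hx y hy
    obtain ⟨d, hd, u, hu, rfl⟩ := hdecomp x hx
    obtain ⟨d', hd', u', hu', rfl⟩ := hdecomp y hy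
    rw [hval d hd u hu, hval d' hd' u' hu', ← map_mul,
      show d * u * (d' * u') = d * d' * (d'⁻¹ * u * d'⁻¹⁻¹ * u') by group,
      hval (d * d') (mul_mem hd hd') _
        (mul_mem (conj_mem_coreU hV hodd ha h1 (inv_mem (hDc d' hd')) hu) hu')]
    rfl
  have hone : μ 1 = 1 := by
    rw [hd0 1 (one_mem _)]
    exact map_one f
  have hinv : ∀ c ∈ centralizer ({a} : Set G), ∀ x ∈ coreK a, μ (c * x * c⁻¹) = μ x := by
    intro c hc x hx
    obtain ⟨d, hd, u, hu, rfl⟩ := hdecomp x hx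
    obtain ⟨k, hk, v, hv, rfl⟩ := centralizer_decomp hV hodd ha h1
      (mem_centralizer_singleton_iff.mp hc)
    have hvd : v * d * v⁻¹ = d := mul_inv_eq_iff_eq_mul.mpr
      (mem_centralizer_iff.mp (le_centralizer_coreD V hd) v hv)
    have hvu := conj_mem_coreU hV hodd ha h1 (le_centralizer_of_mem hV ha hv) hu
    have hinvk : μ k * μ k⁻¹ = 1 := by rw [← hmul k hk _ (inv_mem hk), mul_inv_cancel, hone]
    have hvxK : d * (v * u * v⁻¹) ∈ coreK a :=
      mul_mem (coreD_le_coreK hV hodd ha h1 hd) (coreU_le_coreK hV ha hvu)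
    rw [show k * v * (d * u) * (k * v)⁻¹ = k * ((v * d * v⁻¹) * (v * u * v⁻¹)) * k⁻¹ by group, hvd,
      hmul _ (mul_mem hk hvxK) _ (inv_mem hk), hmul k hk _ hvxK, mul_right_comm, hinvk, one_mul,
      hval d hd _ hvu, hval d hd u hu]
  have hμ : Lin a μ := ⟨hone, hmul, hinv, fun x hx => dif_neg hx⟩
  exact ⟨μ, hμ, fun d => hd0 d d.2, fun ν hν hνd =>
    Lin.ext_coreD hV hodd ha h1 hν hμ fun d hd => by rw [hd0 d hd]; exact hνd ⟨d, hd⟩⟩

end Cfsg.Agent.GW66
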