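import Cfsg.Agent.GW66.Defs
import Cfsg.Agent.GW66.Phi
import Cfsg.Prelude.Def_Characters
import Cfsg.Prelude.Def_Blocks

/-!
# The character half: interfaces

Owners: `PhiStmt` helper82 (CharPhi.lean), `SepStmt`, `PrincipalStmt`, `LinExistsStmt` helper86,
`ArithPrincipalStmt`, `ArithFixedStmt`, `ArithMovedStmt`, `ThreeKillStmt` helper54.
-/

set_option autoImplicit false

namespace Cfsg.Agent.GW66

open Subgroup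
open scoped ComplexConjugate

universe u

variable {G : Type u} [Group G]

/-- A linear character of `K = O(C(a))` invariant under `C(a)`, extended by zero. -/
structure Lin (a : G) (μ : G → ℂ) : Prop where
  one : μ 1 = 1
  mul : ∀ x ∈ coreK a, ∀ y ∈ coreK a, μ (x * y) = μ x * μ y
  inv : ∀ c ∈ centralizer ({a} : Set G), ∀ x ∈ coreK a, μ (c * x * c⁻¹) = μ x
  out : ∀ x, x ∉ coreK a → μ x = 0

/-- `32|K|³ / (|D|²|G|)`. -/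
noncomputable def orderRatio (V : Subgroup G) (a : G) : ℚ :=
  32 * (Nat.card ↥(coreK a) : ℚ) ^ 3 / ((Nat.card ↥(coreD V) : ℚ) ^ 2 * (Nat.card G : ℚ))

/-- The trivial element of `Lin a`. -/
noncomputable def linOne (a : G) : G → ℂ := Set.indicator (coreK a : Set G) fun _ => 1

/-- Integrality, orthogonality, degree and class-constant equations, parity, congruence. -/
def PhiStmt : Prop :=
  ∀ (G : Type u) [Group G] [Finite G] (V : Subgroup G), Ctx V → ∀ a : G, a ∈ V → a ≠ 1 →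
    (∀ μ, Lin a μ → ∀ χ : IrrCharacter G, ∃ z : ℤ, delta a (coreK a) μ (χ : G → ℂ) = (z : ℂ)) ∧
    (∀ μ, Lin a μ → (∑ᶠ χ : IrrCharacter G, delta a (coreK a) μ (χ : G → ℂ) * delta a (coreK a) μ (χ : G → ℂ)) = 4) ∧
    (∀ μ ν, Lin a μ → Lin a ν → μ ≠ ν →
      (∑ᶠ χ : IrrCharacter G, delta a (coreK a) μ (χ : G → ℂ) * delta a (coreK a) ν (χ : G → ℂ)) = 0) ∧
    (∀ μ, Lin a μ →
      (∑ᶠ χ : IrrCharacter G, delta a (coreK a) μ (χ : G → ℂ) * (χ : G → ℂ) 1) = 0) ∧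
    (∀ μ, Lin a μ →
      (∑ᶠ χ : IrrCharacter G, delta a (coreK a) μ (χ : G → ℂ) * (χ : G → ℂ) a ^ 2 / (χ : G → ℂ) 1) =
        (orderRatio V a : ℂ)) ∧
    (∀ μ ν, Lin a μ → Lin a ν → ∀ r ∈ normalizer (V : Set G),
      (∀ d ∈ coreD V, ν d = μ (r * d * r⁻¹)) → ∀ (χ : IrrCharacter G) (z z' : ℤ),
        delta a (coreK a) μ (χ : G → ℂ) = (z : ℂ) → delta a (coreK a) ν (χ : G → ℂ) = (z' : ℂ) → (2 : ℤ) ∣ z - z')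

/-- Separation: the value at `a` only involves the orbit of `μ` under `N(V)`. -/
def SepStmt : Prop :=
  ∀ (G : Type u) [Group G] [Finite G] (V : Subgroup G), Ctx V → ∀ a : G, a ∈ V → a ≠ 1 →
    ∀ O : Finset (G → ℂ), (∀ ν ∈ O, Lin a ν) →
      (∀ ν ∈ O, ∀ n ∈ normalizer (V : Set G), ∃ ν' ∈ O,
        ∀ d ∈ coreD V, ν' d = ν (n * d * n⁻¹)) →
      (∀ ν ∈ O, ∀ ν' ∈ O, ∃ n ∈ normalizer (V : Set G), ∀ d ∈ coreD V, ν' d = ν (n * d * n⁻¹)) →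
      ∀ μ ∈ O, ∀ χ : IrrCharacter G, delta a (coreK a) μ (χ : G → ℂ) ≠ 0 →
        (χ : G → ℂ) a = ∑ ν ∈ O, delta a (coreK a) ν (χ : G → ℂ)

/-- The principal block equations, in rationals. -/
def PrincipalStmt : Prop :=
  ∀ (G : Type u) [Group G] [Finite G] (V : Subgroup G), Ctx V → ∀ a : G, a ∈ V → a ≠ 1 →
    ∃ ε e₂ e₃ e₄ : ℤ, (ε = 1 ∨ ε = -1) ∧ 1 < e₂ ∧ 1 < e₃ ∧ 1 < e₄ ∧
      (4 : ℤ) ∣ e₂ - 1 ∧ (4 : ℤ) ∣ e₃ - ε ∧ (4 : ℤ) ∣ e₄ + 1 ∧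
      1 + e₂ + ε * e₃ - e₄ = 0 ∧
      orderRatio V a = 1 + 1 / (e₂ : ℚ) + (ε : ℚ) / (e₃ : ℚ) - 1 / (e₄ : ℚ) ∧
      (∀ e : ℤ, e = e₃ ∨ e = e₄ → ∃ χ : IrrCharacter G, (χ : G → ℂ) 1 = (e : ℂ))

/-- A character of `O(C(V))` that kills `[O(C(a)),V]` extends uniquely. -/
def LinExistsStmt : Prop :=
  ∀ (G : Type u) [Group G] [Finite G] (V : Subgroup G), Ctx V → ∀ a : G, a ∈ V → a ≠ 1 →
    coreU V a ⊓ coreD V = ⊥ → ∀ f : ↥(coreD V) →* ℂ,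
      ∃ μ, Lin a μ ∧ (∀ d : ↥(coreD V), μ (d : G) = f d) ∧
        ∀ ν, Lin a ν → (∀ d : ↥(coreD V), ν (d : G) = f d) → ν = μ

/-- A faithful character of degree three forces `O(C(V)) = 1`. -/
def ThreeKillStmt : Prop :=
  ∀ (G : Type u) [Group G] [Finite G] (V : Subgroup G), Ctx V → ∀ χ : IrrCharacter G,
    (χ : G → ℂ) 1 = 3 → coreD V = ⊥

/-- Degree equations of the principal block against a second orbit. -/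
def ArithPrincipalStmt : Prop :=
  ∀ (ε e₂ e₃ e₄ : ℤ) (s : ℚ), (ε = 1 ∨ ε = -1) → 1 < e₂ → 1 < e₃ → 1 < e₄ →
    (4 : ℤ) ∣ e₂ - 1 → (4 : ℤ) ∣ e₃ - ε → (4 : ℤ) ∣ e₄ + 1 → 1 + e₂ + ε * e₃ - e₄ = 0 →
    s = 1 + 1 / (e₂ : ℚ) + (ε : ℚ) / (e₃ : ℚ) - 1 / (e₄ : ℚ) →
    (1 / 3 < s) ∧
      ((s < 3 / 5 ∨ ∃ e : ℤ, 0 < e ∧ (4 : ℤ) ∣ e + 1 ∧ s = 8 / (e : ℚ)) → e₃ = 3 ∨ e₄ = 3)

/-- An orbit of length one. -/
def ArithFixedStmt : Prop :=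
  ∀ (ι : Type u) [Fintype ι] (δ e : ι → ℤ) (s : ℚ), (∀ i, 0 < e i) →
    (∀ i, δ i ≠ 0 → 1 < e i ∧ (4 : ℤ) ∣ e i - δ i) →
    (∑ i, δ i * δ i = 4) → (∑ i, δ i * e i = 0) →
    (s = ∑ i, (δ i : ℚ) * (δ i : ℚ) ^ 2 / (e i : ℚ)) → s < 3 / 5

/-- An orbit of length three. -/
def ArithMovedStmt : Prop :=
  ∀ (ι : Type u) [Fintype ι] (δ : Fin 3 → ι → ℤ) (e : ι → ℤ) (s : ℚ), (∀ i, 0 < e i) →
    (∀ i, δ 0 i ≠ 0 → (4 : ℤ) ∣ e i - (δ 0 i + δ 1 i + δ 2 i)) →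
    (∀ i j k, (2 : ℤ) ∣ δ j i - δ k i) →
    (∀ j, ∑ i, δ j i * δ j i = 4) → (∀ j k, j ≠ k → ∑ i, δ j i * δ k i = 0) →
    (∀ j, ∑ i, δ j i * e i = 0) →
    (s = ∑ i, (δ 0 i : ℚ) * ((δ 0 i + δ 1 i + δ 2 i : ℤ) : ℚ) ^ 2 / (e i : ℚ)) → 0 < s →
    ∃ e₀ : ℤ, 0 < e₀ ∧ (4 : ℤ) ∣ e₀ + 1 ∧ s = 8 / (e₀ : ℚ)

end Cfsg.Agent.GW66
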