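import Mathlib

/-!
# The degree equations of the four-group problem

`e` is a function of degrees and `d` the signs of the constituents of an induced class function of
norm four vanishing at the identity.
-/

set_option autoImplicit false

namespace Cfsg.Agent.GW66

variable {X : Type*}

private theorem pos_ge {e : ℕ} {d : ℤ} (he : 1 < e) (hmod : (4 : ℤ) ∣ (e : ℤ) - d) (hd : d = 1) :
    5 ≤ e := by omega

private theorem neg_ge {e : ℕ} {d : ℤ} (he : 1 < e) (hmod : (4 : ℤ) ∣ (e : ℤ) - d) (hd : d = -1) :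
    3 ≤ e := by omega

theorem inv_le {e k : ℕ} (hk : 0 < k) (h : k ≤ e) : (1 : ℚ) / e ≤ 1 / k := by
  apply one_div_le_one_div_of_le
  · exact_mod_cast hk
  · exact_mod_cast h

theorem inv_pos' {e : ℕ} (h : 1 < e) : (0 : ℚ) < 1 / e := by
  have : (0 : ℚ) < e := by exact_mod_cast (by omega : 0 < e)
  positivity

/-- Four nonprincipal constituents: the sum is less than `3/5`. -/
theorem fixed_sum_lt (T : Finset X) (hT : T.card = 4) (e : X → ℕ) (d : X → ℤ)
    (hd : ∀ x ∈ T, d x = 1 ∨ d x = -1) (he : ∀ x ∈ T, 1 < e x)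
    (hmod : ∀ x ∈ T, (4 : ℤ) ∣ (e x : ℤ) - d x) (hsum : ∑ x ∈ T, d x * e x = 0) :
    ∑ x ∈ T, (d x : ℚ) / e x < 3 / 5 := by
  classical
  obtain ⟨x₀, hx₀, hd₀⟩ : ∃ x ∈ T, d x = -1 := by
    by_contra hno
    have hlt : (0 : ℤ) < ∑ x ∈ T, d x * e x := by
      apply Finset.sum_pos
      · intro x hx
        rcases hd x hx with h | h
        · rw [h, one_mul]; exact_mod_cast (Nat.lt_of_lt_of_le Nat.zero_lt_one (he x hx).le)
        · exact absurd ⟨x, hx, h⟩ hno
      · exact Finset.card_pos.mp (by omega)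
    omega
  rw [← Finset.sum_erase_add T _ hx₀]
  have h1 : ∑ x ∈ T.erase x₀, (d x : ℚ) / e x ≤ (T.erase x₀).card • (1 / 5 : ℚ) := by
    apply Finset.sum_le_card_nsmul
    intro x hx
    have hxT := Finset.mem_of_mem_erase hx
    rcases hd x hxT with h | h
    · rw [h, Int.cast_one]
      simpa using inv_le (k := 5) (by norm_num) (pos_ge (he x hxT) (hmod x hxT) h)
    · rw [h, Int.cast_neg, Int.cast_one, neg_div]
      have := inv_pos' (he x hxT)
      linarith
  rw [Finset.card_erase_of_mem hx₀, hT] at h1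
  simp only [nsmul_eq_mul] at h1
  norm_num at h1
  rw [hd₀]
  have := inv_pos' (he x₀ hx₀)
  push_cast
  rw [neg_div]
  linarith

theorem case_two_pos {a b c : ℕ} (ha : 1 < a) (hb : 1 < b) (hc : 1 < c)
    (hma : (4 : ℤ) ∣ (a : ℤ) - 1) (hmb : (4 : ℤ) ∣ (b : ℤ) - 1) (hsum : 1 + (a : ℤ) + b = c) :
    (1 : ℚ) < 1 + 1 / a + 1 / b - 1 / c ∧ ∀ n : ℕ, n % 4 = 3 →
      1 + (1 : ℚ) / a + 1 / b - 1 / c ≠ 8 / n := by
  have hc' : c = 1 + a + b := by omega
  have ha5 : 5 ≤ a := by omega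
  have hb5 : 5 ≤ b := by omega
  have hca : (1 : ℚ) / c < 1 / a := by
    apply one_div_lt_one_div_of_lt
    · exact_mod_cast (by omega : 0 < a)
    · exact_mod_cast (by omega : a < c)
  have h5a : (1 : ℚ) / a ≤ 1 / 5 := by simpa using inv_le (k := 5) (by norm_num) ha5
  have h5b : (1 : ℚ) / b ≤ 1 / 5 := by simpa using inv_le (k := 5) (by norm_num) hb5
  have hb0 := inv_pos' hb
  have hc0 := inv_pos' hc
  refine ⟨by linarith, fun n hn heq => ?_⟩
  have hn0 : (0 : ℚ) < n := by exact_mod_cast (by omega : 0 < n)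
  have hlt : (n : ℚ) < 8 := by
    by_contra h8
    have : (8 : ℚ) / n ≤ 1 := by rw [div_le_one hn0]; linarith
    linarith
  have hn7 : n = 3 ∨ n = 7 := by
    have : n < 8 := by exact_mod_cast hlt
    omega
  rcases hn7 with rfl | rfl
  · have : (1 : ℚ) / a + 1 / b - 1 / c < 1 := by linarith
    push_cast at heq
    linarith
  have hint : 7 * ((b : ℤ) * c + a * c - a * b) = a * b * c := by
    have h1 : (a : ℚ) ≠ 0 := by exact_mod_cast (by omega : a ≠ 0)
    have h2 : (b : ℚ) ≠ 0 := by exact_mod_cast (by omega : b ≠ 0)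
    have h3 : (c : ℚ) ≠ 0 := by exact_mod_cast (by omega : c ≠ 0)
    field_simp at heq
    have : (7 : ℚ) * ((b : ℚ) * c + a * c - a * b) = a * b * c := by
      push_cast at heq ⊢
      linear_combination heq
    exact_mod_cast this
  -- the smaller of `a`, `b` is at most 13
  have key : ∀ u v : ℤ, 5 ≤ u → u ≤ v → u % 4 = 1 → v % 4 = 1 →
      7 * (v * (1 + u + v) + u * (1 + u + v) - u * v) = u * v * (1 + u + v) → False := by
    intro u v hu huv hum hvm h
    have hu13 : u ≤ 13 := by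
      by_contra hu14
      have h17 : 17 ≤ u := by omega
      have hv0 : 0 < v := by omega
      have hw0 : 0 < 1 + u + v := by omega
      nlinarith [mul_nonneg (mul_nonneg (sub_nonneg.2 h17) hv0.le) hw0.le,
        mul_nonneg (sub_nonneg.2 huv) hw0.le, mul_pos hv0 hw0,
        mul_nonneg (show (0 : ℤ) ≤ u by omega) hv0.le]
    have hv : v ≤ 40 := by
      by_contra hv41
      interval_cases u <;> nlinarith
    interval_cases u <;> interval_cases v <;> omega
  have hcz : (c : ℤ) = 1 + a + b := by exact_mod_cast hc'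
  rw [hcz] at hint
  rcases le_total a b with hab | hab
  · exact key a b (by omega) (by exact_mod_cast hab) (by omega) (by omega) hint
  · refine key b a (by omega) (by exact_mod_cast hab) (by omega) (by omega) ?_
    linear_combination hint

theorem case_one_pos {a b c : ℕ} (hb : 7 ≤ b) (hc : 7 ≤ c)
    (hmb : (4 : ℤ) ∣ (b : ℤ) + 1) (hmc : (4 : ℤ) ∣ (c : ℤ) + 1) (hsum : 1 + (a : ℤ) = b + c) :
    (5 / 7 : ℚ) < 1 + 1 / a - 1 / b - 1 / c ∧ ∀ n : ℕ, n % 4 = 3 →
      1 + (1 : ℚ) / a - 1 / b - 1 / c ≠ 8 / n := by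
  have hb7 : (1 : ℚ) / b ≤ 1 / 7 := by simpa using inv_le (k := 7) (by norm_num) hb
  have hc7 : (1 : ℚ) / c ≤ 1 / 7 := by simpa using inv_le (k := 7) (by norm_num) hc
  have ha0 : (0 : ℚ) < 1 / a := inv_pos' (by omega)
  refine ⟨by linarith, fun n hn heq => ?_⟩
  have hn0 : (0 : ℚ) < n := by exact_mod_cast (by omega : 0 < n)
  have hab : (1 : ℚ) / a < 1 / b := by
    apply one_div_lt_one_div_of_lt
    · exact_mod_cast (by omega : 0 < b)
    · exact_mod_cast (by omega : b < a)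
  have hc0 : (0 : ℚ) < 1 / c := inv_pos' (by omega)
  have h1 : (8 : ℚ) / n < 1 := by linarith
  have h2 : (5 / 7 : ℚ) < 8 / n := by linarith
  rw [div_lt_one hn0] at h1
  rw [lt_div_iff₀ hn0] at h2
  have hn11 : n = 11 := by
    have h1' : 8 < n := by exact_mod_cast h1
    have h2' : n < 12 := by
      by_contra h12
      have : (12 : ℚ) ≤ n := by exact_mod_cast (by omega : 12 ≤ n)
      linarith
    omega
  subst hn11
  rcases (by omega : b = 7 ∨ c = 7 ∨ (11 ≤ b ∧ 11 ≤ c)) with rfl | rfl | ⟨hb11, hc11⟩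
  · have hac : (a : ℚ) = c + 6 := by exact_mod_cast (by omega : a = c + 6)
    rw [hac] at heq
    have hc7' : (7 : ℚ) ≤ c := by exact_mod_cast hc
    have h91 : (c : ℚ) * (c + 6) ≥ 91 := by nlinarith
    have hd : (1 : ℚ) / c - 1 / (c + 6) ≤ 6 / 91 := by
      rw [div_sub_div _ _ (by positivity) (by positivity)]
      rw [show (1 : ℚ) * ((c : ℚ) + 6) - c * 1 = 6 by ring]
      exact div_le_div_of_nonneg_left (by norm_num) (by norm_num) h91
    push_cast at heq
    linarith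
  · have hac : (a : ℚ) = b + 6 := by exact_mod_cast (by omega : a = b + 6)
    rw [hac] at heq
    have hb7' : (7 : ℚ) ≤ b := by exact_mod_cast hb
    have h91 : (b : ℚ) * (b + 6) ≥ 91 := by nlinarith
    have hd : (1 : ℚ) / b - 1 / (b + 6) ≤ 6 / 91 := by
      rw [div_sub_div _ _ (by positivity) (by positivity)]
      rw [show (1 : ℚ) * ((b : ℚ) + 6) - b * 1 = 6 by ring]
      exact div_le_div_of_nonneg_left (by norm_num) (by norm_num) h91
    push_cast at heq
    linarith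
  · have hb' : (1 : ℚ) / b ≤ 1 / 11 := by simpa using inv_le (k := 11) (by norm_num) hb11
    have hc' : (1 : ℚ) / c ≤ 1 / 11 := by simpa using inv_le (k := 11) (by norm_num) hc11
    push_cast at heq
    linarith

/-- The principal constituents: the sum exceeds one third. -/
theorem one_third_lt (T : Finset X) (hT : T.card = 3) (e : X → ℕ) (d : X → ℤ)
    (hd : ∀ x ∈ T, d x = 1 ∨ d x = -1) (he : ∀ x ∈ T, 1 < e x)
    (hmod : ∀ x ∈ T, (4 : ℤ) ∣ (e x : ℤ) - d x) (hsum : 1 + ∑ x ∈ T, d x * e x = 0) :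
    (1 / 3 : ℚ) < 1 + ∑ x ∈ T, (d x : ℚ) / e x := by
  classical
  obtain ⟨x, y, z, hxy, hxz, hyz, rfl⟩ := Finset.card_eq_three.mp hT
  simp only [Finset.mem_insert, Finset.mem_singleton, forall_eq_or_imp, forall_eq] at hd he hmod
  rw [Finset.sum_insert (by simp [hxy, hxz]), Finset.sum_insert (by simp [hyz]),
    Finset.sum_singleton] at hsum ⊢
  obtain ⟨dx, dy, dz⟩ := hd
  obtain ⟨ex, ey, ez⟩ := he
  obtain ⟨mx, my, mz⟩ := hmod
  have := inv_pos' ex; have := inv_pos' ey; have := inv_pos' ez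
  rcases dx with dx | dx <;> rcases dy with dy | dy <;> rcases dz with dz | dz <;>
    rw [dx, dy, dz] at hsum ⊢ <;> push_cast <;> (try simp only [neg_div]) <;>
    first
    | (exfalso; omega)
    | linarith
    | (have h1 : (1 : ℚ) / e x ≤ 1 / 3 := by
          simpa using inv_le (k := 3) (by norm_num) (show 3 ≤ e x by omega)
       have h2 : (1 : ℚ) / e y ≤ 1 / 3 := by
          simpa using inv_le (k := 3) (by norm_num) (show 3 ≤ e y by omega)
       have h3 : (1 : ℚ) / e z ≤ 1 / 3 := by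
          simpa using inv_le (k := 3) (by norm_num) (show 3 ≤ e z by omega)
       linarith)

/-- Some principal constituent has degree three. -/
theorem exists_degree_three (T : Finset X) (hT : T.card = 3) (e : X → ℕ) (d : X → ℤ)
    (hd : ∀ x ∈ T, d x = 1 ∨ d x = -1) (he : ∀ x ∈ T, 1 < e x)
    (hmod : ∀ x ∈ T, (4 : ℤ) ∣ (e x : ℤ) - d x) (hsum : 1 + ∑ x ∈ T, d x * e x = 0)
    (hs : 1 + ∑ x ∈ T, (d x : ℚ) / e x < 3 / 5 ∨
      ∃ n : ℕ, n % 4 = 3 ∧ 1 + ∑ x ∈ T, (d x : ℚ) / e x = 8 / n) :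
    ∃ x ∈ T, e x = 3 := by
  classical
  by_contra hno
  obtain ⟨x, y, z, hxy, hxz, hyz, rfl⟩ := Finset.card_eq_three.mp hT
  simp only [Finset.mem_insert, Finset.mem_singleton, exists_eq_or_imp, exists_eq_left,
    not_or] at hno
  simp only [Finset.mem_insert, Finset.mem_singleton, forall_eq_or_imp, forall_eq] at hd he hmod
  rw [Finset.sum_insert (by simp [hxy, hxz]), Finset.sum_insert (by simp [hyz]),
    Finset.sum_singleton] at hsum
  rw [Finset.sum_insert (by simp [hxy, hxz]), Finset.sum_insert (by simp [hyz]),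
    Finset.sum_singleton] at hs
  obtain ⟨dx, dy, dz⟩ := hd
  obtain ⟨ex, ey, ez⟩ := he
  obtain ⟨mx, my, mz⟩ := hmod
  obtain ⟨nx, ny, nz⟩ := hno
  have P2 : ∀ a b c : ℕ, 1 < a → 1 < b → 1 < c → (4 : ℤ) ∣ (a : ℤ) - 1 → (4 : ℤ) ∣ (b : ℤ) - 1 →
      1 + (a : ℤ) + b = c → 1 + ∑ i ∈ ({x, y, z} : Finset X), (d i : ℚ) / e i
        = 1 + 1 / a + 1 / b - 1 / c → False := by
    intro a b c ha hb hc hma hmb hab heq
    rw [Finset.sum_insert (by simp [hxy, hxz]), Finset.sum_insert (by simp [hyz]),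
      Finset.sum_singleton] at heq
    obtain ⟨h1, h2⟩ := case_two_pos ha hb hc hma hmb hab
    rw [heq] at hs
    rcases hs with h | ⟨n, hn, h⟩
    · linarith
    · exact h2 n hn h
  have P1 : ∀ a b c : ℕ, 7 ≤ b → 7 ≤ c → (4 : ℤ) ∣ (b : ℤ) + 1 → (4 : ℤ) ∣ (c : ℤ) + 1 →
      1 + (a : ℤ) = b + c → 1 + ∑ i ∈ ({x, y, z} : Finset X), (d i : ℚ) / e i
        = 1 + 1 / a - 1 / b - 1 / c → False := by
    intro a b c hb hc hmb hmc hab heq
    rw [Finset.sum_insert (by simp [hxy, hxz]), Finset.sum_insert (by simp [hyz]),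
      Finset.sum_singleton] at heq
    obtain ⟨h1, h2⟩ := case_one_pos hb hc hmb hmc hab
    rw [heq] at hs
    rcases hs with h | ⟨n, hn, h⟩
    · linarith
    · exact h2 n hn h
  rw [Finset.sum_insert (by simp [hxy, hxz]), Finset.sum_insert (by simp [hyz]),
    Finset.sum_singleton] at P1 P2
  rcases dx with dx | dx <;> rcases dy with dy | dy <;> rcases dz with dz | dz <;>
    rw [dx, dy, dz] at hsum P1 P2 <;> simp only [dx, dy, dz] at mx my mz
  · omega
  · exact P2 (e x) (e y) (e z) ex ey ez mx my (by omega) (by push_cast; ring)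
  · exact P2 (e x) (e z) (e y) ex ez ey mx mz (by omega) (by push_cast; ring)
  · exact P1 (e x) (e y) (e z) (by omega) (by omega) (by omega) (by omega) (by omega)
      (by push_cast; ring)
  · exact P2 (e y) (e z) (e x) ey ez ex my mz (by omega) (by push_cast; ring)
  · exact P1 (e y) (e x) (e z) (by omega) (by omega) (by omega) (by omega) (by omega)
      (by push_cast; ring)
  · exact P1 (e z) (e x) (e y) (by omega) (by omega) (by omega) (by omega) (by omega)
      (by push_cast; ring)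
  · omega

/-- `±1` from a Boolean. -/
def bsign (b : Bool) : ℤ := if b then 1 else -1

private theorem hadamard : ∀ a0 a1 a2 a3 b0 b1 b2 b3 : Bool,
    bsign a0 * bsign b0 + bsign a1 * bsign b1 + bsign a2 * bsign b2 + bsign a3 * bsign b3 = 0 →
    ∀ c0 c1 c2 c3 : Bool,
    bsign a0 * bsign c0 + bsign a1 * bsign c1 + bsign a2 * bsign c2 + bsign a3 * bsign c3 = 0 →
    bsign b0 * bsign c0 + bsign b1 * bsign c1 + bsign b2 * bsign c2 + bsign b3 * bsign c3 = 0 →
    (bsign a0 * bsign a1 + bsign b0 * bsign b1 + bsign c0 * bsign c1 +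
        bsign a0 * bsign b0 * bsign c0 * (bsign a1 * bsign b1 * bsign c1) = 0 ∧
      bsign a0 * bsign a2 + bsign b0 * bsign b2 + bsign c0 * bsign c2 +
        bsign a0 * bsign b0 * bsign c0 * (bsign a2 * bsign b2 * bsign c2) = 0 ∧
      bsign a0 * bsign a3 + bsign b0 * bsign b3 + bsign c0 * bsign c3 +
        bsign a0 * bsign b0 * bsign c0 * (bsign a3 * bsign b3 * bsign c3) = 0 ∧
      bsign a1 * bsign a2 + bsign b1 * bsign b2 + bsign c1 * bsign c2 +
        bsign a1 * bsign b1 * bsign c1 * (bsign a2 * bsign b2 * bsign c2) = 0 ∧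
      bsign a1 * bsign a3 + bsign b1 * bsign b3 + bsign c1 * bsign c3 +
        bsign a1 * bsign b1 * bsign c1 * (bsign a3 * bsign b3 * bsign c3) = 0 ∧
      bsign a2 * bsign a3 + bsign b2 * bsign b3 + bsign c2 * bsign c3 +
        bsign a2 * bsign b2 * bsign c2 * (bsign a3 * bsign b3 * bsign c3) = 0) ∧
    (bsign a0 + bsign a1 + bsign a2 + bsign a3 = 0 → bsign b0 + bsign b1 + bsign b2 + bsign b3 = 0 →
      bsign c0 + bsign c1 + bsign c2 + bsign c3 = 0 →
      bsign a0 * (bsign a0 + bsign b0 + bsign c0) ^ 2 +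
        bsign a1 * (bsign a1 + bsign b1 + bsign c1) ^ 2 +
        bsign a2 * (bsign a2 + bsign b2 + bsign c2) ^ 2 +
        bsign a3 * (bsign a3 + bsign b3 + bsign c3) ^ 2 = -8 ∨
      (bsign a0 * (bsign a0 + bsign b0 + bsign c0) ^ 2 +
        bsign a1 * (bsign a1 + bsign b1 + bsign c1) ^ 2 +
        bsign a2 * (bsign a2 + bsign b2 + bsign c2) ^ 2 +
        bsign a3 * (bsign a3 + bsign b3 + bsign c3) ^ 2 = 8 ∧
        (bsign a0 + bsign b0 + bsign c0) % 4 = 3)) := by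
  decide +kernel

private theorem exists_bsign {z : ℤ} (h : z = 1 ∨ z = -1) : ∃ b : Bool, bsign b = z := by
  rcases h with h | h
  · exact ⟨true, by simp [bsign, h]⟩
  · exact ⟨false, by simp [bsign, h]⟩

/-- Three orthogonal rows of signs on four degrees. -/
theorem moved_sum (T : Finset X) (hT : T.card = 4) (e : X → ℕ) (d : Fin 3 → X → ℤ)
    (hd : ∀ i, ∀ x ∈ T, d i x = 1 ∨ d i x = -1) (he : ∀ x ∈ T, 0 < e x)
    (hmod : ∀ x ∈ T, (4 : ℤ) ∣ (e x : ℤ) + 3 * ∑ i, d i x)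
    (horth : ∀ i j, i ≠ j → ∑ x ∈ T, d i x * d j x = 0)
    (hsum : ∀ i, ∑ x ∈ T, d i x * e x = 0) :
    ∑ x ∈ T, (d 0 x : ℚ) * (∑ i, (d i x : ℚ)) ^ 2 / e x ≤ 0 ∨
      ∃ n : ℕ, n % 4 = 3 ∧ ∑ x ∈ T, (d 0 x : ℚ) * (∑ i, (d i x : ℚ)) ^ 2 / e x = 8 / n := by
  classical
  let f : Fin 4 ≃ T := (T.equivFinOfCardEq hT).symm
  have tr : ∀ {M : Type} [AddCommMonoid M] (g : X → M),
      ∑ x ∈ T, g x = g (f 0) + g (f 1) + g (f 2) + g (f 3) := by
    intro M _ g
    rw [← Finset.sum_coe_sort, ← f.sum_comp]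
    simp [Fin.sum_univ_four]
  have h01 := horth 0 1 (by decide)
  have h02 := horth 0 2 (by decide)
  have h12 := horth 1 2 (by decide)
  have s0 := hsum 0
  have s1 := hsum 1
  have s2 := hsum 2
  rw [tr] at h01 h02 h12 s0 s1 s2
  have hb : ∀ (i : Fin 3) (k : Fin 4), ∃ b : Bool, bsign b = d i (f k) :=
    fun i k => exists_bsign (hd i _ (f k).2)
  choose b hb using hb
  have hm := hmod _ (f 0).2
  rw [Fin.sum_univ_three] at hm
  simp only [← hb] at h01 h02 h12 s0 s1 s2 hm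
  obtain ⟨⟨o01, o02, o03, o12, o13, o23⟩, hrow⟩ := hadamard (b 0 0) (b 0 1) (b 0 2) (b 0 3)
    (b 1 0) (b 1 1) (b 1 2) (b 1 3) h01 (b 2 0) (b 2 1) (b 2 2) (b 2 3) h02 h12
  have sq : ∀ z : Bool, bsign z * bsign z = 1 := by decide
  let e' : Fin 4 → ℤ := fun k => (e (f k) : ℤ)
  let w : Fin 4 → ℤ := fun k => bsign (b 0 k) * bsign (b 1 k) * bsign (b 2 k)
  let C : ℤ := w 0 * e' 0 + w 1 * e' 1 + w 2 * e' 2 + w 3 * e' 3
  have c0 : 4 * e' 0 = w 0 * C := by
    simp only [C, w, e']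
    linear_combination (bsign (b 0 0)) * s0 + (bsign (b 1 0)) * s1 + (bsign (b 2 0)) * s2
      - (e (f 1) : ℤ) * o01 - (e (f 2) : ℤ) * o02 - (e (f 3) : ℤ) * o03
      - (e (f 0) : ℤ) * sq (b 0 0) - (e (f 0) : ℤ) * sq (b 1 0) - (e (f 0) : ℤ) * sq (b 2 0)
      - (e (f 0) : ℤ) * bsign (b 1 0) ^ 2 * bsign (b 2 0) ^ 2 * sq (b 0 0)
      - (e (f 0) : ℤ) * bsign (b 2 0) ^ 2 * sq (b 1 0) - (e (f 0) : ℤ) * sq (b 2 0)
  have c1 : 4 * e' 1 = w 1 * C := by
    simp only [C, w, e']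
    linear_combination (bsign (b 0 1)) * s0 + (bsign (b 1 1)) * s1 + (bsign (b 2 1)) * s2
      - (e (f 0) : ℤ) * o01 - (e (f 2) : ℤ) * o12 - (e (f 3) : ℤ) * o13
      - (e (f 1) : ℤ) * sq (b 0 1) - (e (f 1) : ℤ) * sq (b 1 1) - (e (f 1) : ℤ) * sq (b 2 1)
      - (e (f 1) : ℤ) * bsign (b 1 1) ^ 2 * bsign (b 2 1) ^ 2 * sq (b 0 1)
      - (e (f 1) : ℤ) * bsign (b 2 1) ^ 2 * sq (b 1 1) - (e (f 1) : ℤ) * sq (b 2 1)
  have c2 : 4 * e' 2 = w 2 * C := by
    simp only [C, w, e']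
    linear_combination (bsign (b 0 2)) * s0 + (bsign (b 1 2)) * s1 + (bsign (b 2 2)) * s2
      - (e (f 0) : ℤ) * o02 - (e (f 1) : ℤ) * o12 - (e (f 3) : ℤ) * o23
      - (e (f 2) : ℤ) * sq (b 0 2) - (e (f 2) : ℤ) * sq (b 1 2) - (e (f 2) : ℤ) * sq (b 2 2)
      - (e (f 2) : ℤ) * bsign (b 1 2) ^ 2 * bsign (b 2 2) ^ 2 * sq (b 0 2)
      - (e (f 2) : ℤ) * bsign (b 2 2) ^ 2 * sq (b 1 2) - (e (f 2) : ℤ) * sq (b 2 2)
  have c3 : 4 * e' 3 = w 3 * C := by
    simp only [C, w, e']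
    linear_combination (bsign (b 0 3)) * s0 + (bsign (b 1 3)) * s1 + (bsign (b 2 3)) * s2
      - (e (f 0) : ℤ) * o03 - (e (f 1) : ℤ) * o13 - (e (f 2) : ℤ) * o23
      - (e (f 3) : ℤ) * sq (b 0 3) - (e (f 3) : ℤ) * sq (b 1 3) - (e (f 3) : ℤ) * sq (b 2 3)
      - (e (f 3) : ℤ) * bsign (b 1 3) ^ 2 * bsign (b 2 3) ^ 2 * sq (b 0 3)
      - (e (f 3) : ℤ) * bsign (b 2 3) ^ 2 * sq (b 1 3) - (e (f 3) : ℤ) * sq (b 2 3)
  have hw : ∀ k, w k = 1 ∨ w k = -1 := by
    intro k
    simp only [w]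
    cases b 0 k <;> cases b 1 k <;> cases b 2 k <;> simp [bsign]
  have hpos : ∀ k, 0 < e' k := fun k => by
    simp only [e']; exact_mod_cast he _ (f k).2
  have eq1 : e' 1 = e' 0 := by
    have := hpos 0; have := hpos 1
    rcases hw 0 with h | h <;> rcases hw 1 with h' | h' <;> rw [h] at c0 <;> rw [h'] at c1 <;> omega
  have eq2 : e' 2 = e' 0 := by
    have := hpos 0; have := hpos 2
    rcases hw 0 with h | h <;> rcases hw 2 with h' | h' <;> rw [h] at c0 <;> rw [h'] at c2 <;> omega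
  have eq3 : e' 3 = e' 0 := by
    have := hpos 0; have := hpos 3
    rcases hw 0 with h | h <;> rcases hw 3 with h' | h' <;> rw [h] at c0 <;> rw [h'] at c3 <;> omega
  simp only [e'] at eq1 eq2 eq3
  have hne : (e (f 0) : ℤ) ≠ 0 := by exact_mod_cast (he _ (f 0).2).ne'
  rw [eq1, eq2, eq3] at s0 s1 s2
  have r0 : bsign (b 0 0) + bsign (b 0 1) + bsign (b 0 2) + bsign (b 0 3) = 0 :=
    (mul_eq_zero.mp (by linear_combination s0 :
      (bsign (b 0 0) + bsign (b 0 1) + bsign (b 0 2) + bsign (b 0 3)) * (e (f 0) : ℤ) = 0)).resolve_right hne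
  have r1 : bsign (b 1 0) + bsign (b 1 1) + bsign (b 1 2) + bsign (b 1 3) = 0 :=
    (mul_eq_zero.mp (by linear_combination s1 :
      (bsign (b 1 0) + bsign (b 1 1) + bsign (b 1 2) + bsign (b 1 3)) * (e (f 0) : ℤ) = 0)).resolve_right hne
  have r2 : bsign (b 2 0) + bsign (b 2 1) + bsign (b 2 2) + bsign (b 2 3) = 0 :=
    (mul_eq_zero.mp (by linear_combination s2 :
      (bsign (b 2 0) + bsign (b 2 1) + bsign (b 2 2) + bsign (b 2 3)) * (e (f 0) : ℤ) = 0)).resolve_right hne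
  have q1 : e (f 1) = e (f 0) := by exact_mod_cast eq1
  have q2 : e (f 2) = e (f 0) := by exact_mod_cast eq2
  have q3 : e (f 3) = e (f 0) := by exact_mod_cast eq3
  rw [tr]
  simp only [Fin.sum_univ_three, ← hb, q1, q2, q3]
  rcases hrow r0 r1 r2 with h | ⟨h, h3⟩
  · left
    rw [← add_div, ← add_div, ← add_div]
    have h' := congrArg (fun z : ℤ => (z : ℚ)) h
    push_cast at h'
    rw [h']
    exact div_nonpos_of_nonpos_of_nonneg (by norm_num) (Nat.cast_nonneg _)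
  · right
    refine ⟨e (f 0), by omega, ?_⟩
    rw [← add_div, ← add_div, ← add_div]
    have h' := congrArg (fun z : ℤ => (z : ℚ)) h
    push_cast at h'
    rw [h']

end Cfsg.Agent.GW66
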