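import Cfsg.Agent.GW66.CharDefs
import Cfsg.Agent.GW66.Basic
import Cfsg.Agent.GW66.DegreeArith
import Cfsg.Agent.Lib.CharClifford.Central

/-!
# Degree equations and the character of degree three
-/

set_option autoImplicit false

namespace Cfsg.Agent.GW66

open Subgroup Module

universe u

/-! ## Arithmetic -/

theorem arithPrincipal : ArithPrincipalStmt := by
  intro ε e₂ e₃ e₄ s hε h2 h3 h4 m2 m3 m4 hsum hs
  obtain ⟨a, rfl⟩ := Int.eq_ofNat_of_zero_le (show 0 ≤ e₂ by omega)
  obtain ⟨b, rfl⟩ := Int.eq_ofNat_of_zero_le (show 0 ≤ e₃ by omega)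
  obtain ⟨c, rfl⟩ := Int.eq_ofNat_of_zero_le (show 0 ≤ e₄ by omega)
  push_cast at hs
  have ha0 := inv_pos' (e := a) (by omega)
  have hex : (s < 3 / 5 ∨ ∃ e : ℤ, 0 < e ∧ (4 : ℤ) ∣ e + 1 ∧ s = 8 / (e : ℚ)) →
      s < 3 / 5 ∨ ∃ n : ℕ, n % 4 = 3 ∧ s = 8 / (n : ℚ) := by
    rintro (h | ⟨e, he0, he4, he⟩)
    · exact Or.inl h
    · obtain ⟨n, rfl⟩ := Int.eq_ofNat_of_zero_le he0.le
      exact Or.inr ⟨n, by omega, by rw [he]; push_cast; rfl⟩
  rcases hε with rfl | rfl
  · have hs' : s = 1 + 1 / (a : ℚ) + 1 / (b : ℚ) - 1 / (c : ℚ) := by rw [hs]; push_cast; ring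
    obtain ⟨h1, hn⟩ := case_two_pos (a := a) (b := b) (c := c) (by omega) (by omega) (by omega)
      m2 m3 (by omega)
    rw [← hs'] at h1
    refine ⟨by linarith, fun h => ?_⟩
    rcases hex h with h | ⟨n, hn4, hn8⟩
    · linarith
    · exact absurd (hs'.symm.trans hn8) (hn n hn4)
  · have hs' : s = 1 + 1 / (a : ℚ) - 1 / (b : ℚ) - 1 / (c : ℚ) := by rw [hs]; push_cast; ring
    have hb3 : (1 : ℚ) / b ≤ 1 / 3 := by
      simpa using inv_le (k := 3) (by norm_num) (show 3 ≤ b by omega)
    have hc3 : (1 : ℚ) / c ≤ 1 / 3 := by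
      simpa using inv_le (k := 3) (by norm_num) (show 3 ≤ c by omega)
    refine ⟨by linarith, fun h => ?_⟩
    by_contra hno
    obtain ⟨h1, hn⟩ := case_one_pos (a := a) (b := b) (c := c) (by omega) (by omega)
      (by omega) (by omega) (by omega)
    rcases hex h with h | ⟨n, hn4, hn8⟩
    · linarith
    · exact hn n hn4 (hs'.symm.trans hn8)

private theorem support_four {ι : Type*} [Fintype ι] (δ e : ι → ℤ) (he : ∀ i, 0 < e i)
    (hsq : ∑ i, δ i * δ i = 4) (hsum : ∑ i, δ i * e i = 0) :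
    (∀ i, δ i = 0 ∨ δ i = 1 ∨ δ i = -1) ∧
      (Finset.univ.filter fun i => δ i ≠ 0).card = 4 := by
  classical
  have hterm : ∀ i, δ i = 0 ∨ δ i = 1 ∨ δ i = -1 := by
    intro i
    by_contra h
    simp only [not_or] at h
    obtain ⟨h0, h1, h1'⟩ := h
    have h4 : 4 ≤ δ i * δ i := by
      rcases (show δ i ≤ -2 ∨ 2 ≤ δ i by omega) with hl | hl <;> nlinarith
    have hrest : ∀ j, j ≠ i → δ j = 0 := by
      intro j hj
      have hle : δ i * δ i + δ j * δ j ≤ ∑ k, δ k * δ k := by
        refine (Finset.sum_pair (f := fun k => δ k * δ k) hj.symm).symm.trans_le ?_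
        exact Finset.sum_le_sum_of_subset_of_nonneg (Finset.subset_univ _)
          fun k _ _ => mul_self_nonneg (δ k)
      exact mul_self_eq_zero.mp (le_antisymm (by linarith) (mul_self_nonneg _))
    rw [Finset.sum_eq_single i (fun j _ hj => by rw [hrest j hj, zero_mul])
      (fun hi => absurd (Finset.mem_univ i) hi)] at hsum
    rcases mul_eq_zero.mp hsum with h | h
    · exact h0 h
    · exact (he i).ne' h
  refine ⟨hterm, ?_⟩
  have h : ∑ i, δ i * δ i = ∑ i, if δ i ≠ 0 then (1 : ℤ) else 0 :=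
    Finset.sum_congr rfl fun i _ => by rcases hterm i with h | h | h <;> simp [h]
  rw [hsq, ← Finset.sum_filter, Finset.sum_const, nsmul_eq_mul, mul_one] at h
  exact_mod_cast h.symm

theorem arithFixed : ArithFixedStmt.{u} := by
  intro ι _ δ e s he hmod hsq hsum hs
  classical
  obtain ⟨hterm, hcard⟩ := support_four δ e he hsq hsum
  set T := Finset.univ.filter fun i => δ i ≠ 0
  have hne : ∀ i ∈ T, δ i ≠ 0 := fun i hi => (Finset.mem_filter.mp hi).2
  have hout : ∀ i ∉ T, δ i = 0 := fun i hi => by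
    by_contra h
    exact hi (Finset.mem_filter.mpr ⟨Finset.mem_univ i, h⟩)
  have hnat : ∀ i, ((e i).toNat : ℤ) = e i := fun i => Int.toNat_of_nonneg (he i).le
  have hlt := fixed_sum_lt T hcard (fun i => (e i).toNat) δ
    (fun i hi => (hterm i).resolve_left (hne i hi))
    (fun i hi => by have := (hmod i (hne i hi)).1; omega)
    (fun i hi => by rw [hnat]; exact (hmod i (hne i hi)).2)
    (by
      simp only [hnat]
      rw [← hsum]
      exact Finset.sum_subset (Finset.subset_univ _) fun i _ hi => by rw [hout i hi, zero_mul])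
  rw [hs, ← Finset.sum_subset (Finset.subset_univ T) fun i _ hi => by rw [hout i hi]; simp]
  refine lt_of_eq_of_lt (Finset.sum_congr rfl fun i hi => ?_) hlt
  have hq : (((e i).toNat : ℕ) : ℚ) = (e i : ℚ) := by exact_mod_cast hnat i
  rw [hq]
  rcases (hterm i).resolve_left (hne i hi) with h | h <;> simp [h]

theorem arithMoved : ArithMovedStmt.{u} := by
  intro ι _ δ e s he hmod hpar hsq horth hsum hs hpos
  classical
  have H := fun j => support_four (δ j) e he (hsq j) (hsum j)
  set T := Finset.univ.filter fun i => δ 0 i ≠ 0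
  have hne : ∀ j, ∀ i ∈ T, δ j i = 1 ∨ δ j i = -1 := fun j i hi => by
    have h0 := (Finset.mem_filter.mp hi).2
    have := hpar i 0 j
    rcases (H 0).1 i with h | h | h <;> rcases (H j).1 i with h' | h' | h' <;> omega
  have hout : ∀ j, ∀ i ∉ T, δ j i = 0 := fun j i hi => by
    have h0 : δ 0 i = 0 := by
      by_contra h
      exact hi (Finset.mem_filter.mpr ⟨Finset.mem_univ i, h⟩)
    have := hpar i 0 j
    rcases (H j).1 i with h' | h' | h' <;> omega
  have hnat : ∀ i, ((e i).toNat : ℤ) = e i := fun i => Int.toNat_of_nonneg (he i).le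
  have hres := moved_sum T (H 0).2 (fun i => (e i).toNat) δ hne
    (fun i _ => by have := he i; omega)
    (fun i hi => by
      have h4 := hmod i (Finset.mem_filter.mp hi).2
      rw [hnat, Fin.sum_univ_three]
      omega)
    (fun j k hjk => by
      rw [← horth j k hjk]
      exact Finset.sum_subset (Finset.subset_univ _) fun i _ hi => by rw [hout j i hi, zero_mul])
    (fun j => by
      simp only [hnat]
      rw [← hsum j]
      exact Finset.sum_subset (Finset.subset_univ _) fun i _ hi => by rw [hout j i hi, zero_mul])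
  have heq : ∑ i ∈ T, (δ 0 i : ℚ) * (∑ j, (δ j i : ℚ)) ^ 2 / ((e i).toNat : ℕ) = s := by
    rw [hs, ← Finset.sum_subset (Finset.subset_univ T) fun i _ hi => by rw [hout 0 i hi]; simp]
    refine Finset.sum_congr rfl fun i _ => ?_
    have hq : (((e i).toNat : ℕ) : ℚ) = (e i : ℚ) := by exact_mod_cast hnat i
    rw [hq, Fin.sum_univ_three]
    push_cast
    rfl
  rw [heq] at hres
  rcases hres with h | ⟨n, hn, h⟩
  · exact absurd hpos (not_lt.mpr h)
  · exact ⟨n, by omega, by omega, by rw [h]; push_cast; rfl⟩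

/-! ## A character of degree three -/

section Three

variable {G : Type u} [Group G] (ρ : Representation ℂ G (Fin 3 → ℂ))

local notation "W" => (Fin 3 → ℂ)

/-- The projection on the fixed space of an involution. -/
noncomputable def fixProj (x : G) : Module.End ℂ W := (1 / 2 : ℂ) • (1 + ρ x)

private theorem rho_sq {x : G} (hx : x * x = 1) : ρ x * ρ x = 1 := by
  rw [← map_mul, hx, map_one]

private theorem fixProj_idem {x : G} (hx : x * x = 1) :
    IsIdempotentElem (fixProj ρ x) := by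
  unfold IsIdempotentElem fixProj
  rw [smul_mul_smul_comm, mul_add, mul_one, add_mul, one_mul, rho_sq ρ hx]
  module

private theorem idem_trace (p : Module.End ℂ W) (hp : IsIdempotentElem p) :
    LinearMap.trace ℂ W p = (finrank ℂ (LinearMap.range p) : ℂ) :=
  (LinearMap.IsIdempotentElem.isProj_range p hp).trace

private theorem trace_one' : LinearMap.trace ℂ W (1 : Module.End ℂ W) = 3 := by
  rw [LinearMap.trace_one]
  simp

variable {V : Subgroup G} [Finite G]

private theorem three_data (hC : Ctx V) (hf : ∀ g, ρ g = 1 → g = 1) {a b : G} (h : Pair V a b) :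
    1 + ρ a + ρ b + ρ (a * b) = 0 ∧ finrank ℂ (LinearMap.range (fixProj ρ a)) = 1 := by
  have ha2 := klein_sq hC.klein h.ha
  have hb2 := klein_sq hC.klein h.hb
  have hcomm : ρ b * ρ a = ρ a * ρ b := by
    rw [← map_mul, ← map_mul, klein_comm hC.klein h.hb h.ha]
  have hconj : ∀ y ∈ V, y ≠ 1 → LinearMap.trace ℂ W (ρ y) = LinearMap.trace ℂ W (ρ a) := by
    intro y hy hy1
    obtain ⟨g, hg⟩ := isConj_iff.mp (hC.isConj_involution (klein_orderOf hC.klein h.ha h.a1)
      (klein_orderOf hC.klein hy hy1))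
    rw [← hg]
    exact Representation.char_conj ρ a g
  set A := ρ a with hA
  set B := ρ b with hB
  have hAB : ρ (a * b) = A * B := map_mul ρ a b
  have hA2 : A * A = 1 := rho_sq ρ ha2
  have hB2 : B * B = 1 := rho_sq ρ hb2
  set p : Module.End ℂ W := (1 / 4 : ℂ) • (1 + A + B + A * B) with hp
  have hpi : IsIdempotentElem p := by
    have h1 : A * (A * B) = B := by rw [← mul_assoc, hA2, one_mul]
    have h2 : B * (A * B) = A := by rw [← mul_assoc, hcomm, mul_assoc, hB2, mul_one]
    have h3 : A * B * (A * B) = 1 := by rw [mul_assoc, h2, hA2]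
    have h4 : A * B * A = B := by rw [mul_assoc, hcomm, h1]
    have h5 : A * B * B = A := by rw [mul_assoc, hB2, mul_one]
    unfold IsIdempotentElem
    rw [hp, smul_mul_smul_comm]
    simp only [mul_add, add_mul, mul_one, one_mul, hA2, hB2, hcomm, h1, h2, h3, h4, h5]
    module
  have hc := h.third hC.klein
  have tb := hconj b h.hb h.b1
  have tc := hconj (a * b) hc.hb hc.b1
  rw [hAB] at tc
  have e1 := idem_trace p hpi
  rw [hp, map_smul, map_add, map_add, map_add, trace_one', tb, tc, smul_eq_mul, ← hp] at e1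
  have e2 := idem_trace _ (fixProj_idem ρ ha2)
  rw [fixProj, map_smul, map_add, trace_one', smul_eq_mul, ← fixProj] at e2
  set m := finrank ℂ (LinearMap.range p) with hm
  set n := finrank ℂ (LinearMap.range (fixProj ρ a)) with hn
  have hn3 : n ≤ 3 := le_trans (Submodule.finrank_le _) (by simp)
  have hne : n ≠ 3 := by
    intro h3
    have hq : IsIdempotentElem (1 - fixProj ρ a) := (fixProj_idem ρ ha2).one_sub
    have htr : LinearMap.trace ℂ W (1 - fixProj ρ a) = 0 := by
      rw [map_sub, trace_one', idem_trace _ (fixProj_idem ρ ha2), ← hn, h3]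
      norm_num
    have h0 : fixProj ρ a = 1 :=
      (sub_eq_zero.mp (LinearMap.IsIdempotentElem.eq_zero_of_trace_eq_zero hq htr)).symm
    refine h.a1 (hf a ?_)
    have := congrArg (fun f : Module.End ℂ W => (2 : ℂ) • f - 1) h0
    simp only [fixProj, smul_smul] at this
    norm_num at this
    rw [two_smul, add_sub_cancel_left] at this
    exact this
  have hrel : 2 * (m : ℤ) + 3 = 3 * n := by
    have : (2 * (m : ℂ) + 3) = 3 * n := by rw [← e1, ← e2]; ring
    exact_mod_cast this
  have hm0 : m = 0 ∧ n = 1 := by omega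
  refine ⟨?_, hm0.2⟩
  have hp0 : p = 0 := LinearMap.range_eq_bot.mp (Submodule.finrank_eq_zero.mp hm0.1)
  rw [hAB]
  rw [hp] at hp0
  exact (smul_eq_zero.mp hp0).resolve_left (by norm_num)

private theorem exists_line {p : Module.End ℂ W} (hp : IsIdempotentElem p)
    (h1 : finrank ℂ (LinearMap.range p) = 1) :
    ∃ v : W, v ≠ 0 ∧ p v = v ∧ ∀ w, ∃ k : ℂ, p w = k • v := by
  obtain ⟨⟨v, hv⟩, hv0, hall⟩ := finrank_eq_one_iff'.mp h1
  refine ⟨v, fun e => hv0 (Subtype.ext e), ?_, fun w => ?_⟩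
  · obtain ⟨w, rfl⟩ := hv
    exact LinearMap.congr_fun hp w
  · obtain ⟨k, hk⟩ := hall ⟨p w, ⟨w, rfl⟩⟩
    exact ⟨k, (congrArg Subtype.val hk).symm⟩

/-- A common eigenbasis of a four-group. -/
private structure Frame3 (a b : G) (va vb vc : W) : Prop where
  na : va ≠ 0
  nb : vb ≠ 0
  nc : vc ≠ 0
  Aa : ρ a va = va
  Ab : ρ a vb = -vb
  Ac : ρ a vc = -vc
  Ba : ρ b va = -va
  Bb : ρ b vb = vb
  Bc : ρ b vc = -vc
  span : ∀ w : W, ∃ x y z : ℂ, w = x • va + y • vb + z • vc

private theorem exists_frame (hC : Ctx V) (hf : ∀ g, ρ g = 1 → g = 1) {a b : G} (h : Pair V a b) :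
    ∃ va vb vc, Frame3 ρ a b va vb vc := by
  have hc := h.third hC.klein
  obtain ⟨hz, ra⟩ := three_data ρ hC hf h
  obtain ⟨-, rb⟩ := three_data ρ hC hf h.symm
  obtain ⟨-, rc⟩ := three_data ρ hC hf hc.symm
  have hab : a * b = b * a := klein_comm hC.klein h.ha h.hb
  have ha2 := klein_sq hC.klein h.ha
  have hb2 := klein_sq hC.klein h.hb
  obtain ⟨va, na, pa, sa⟩ := exists_line (fixProj_idem ρ ha2) ra
  obtain ⟨vb, nb, pb, sb⟩ := exists_line (fixProj_idem ρ hb2) rb
  obtain ⟨vc, nc, pc, sc⟩ := exists_line (fixProj_idem ρ (klein_sq hC.klein hc.hb)) rc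
  have fix : ∀ {x : G} {v : W}, fixProj ρ x v = v → ρ x v = v := by
    intro x v hv
    simp only [fixProj, LinearMap.smul_apply, LinearMap.add_apply, Module.End.one_apply] at hv
    linear_combination (norm := module) (2 : ℂ) • hv
  have Aa := fix pa
  have Bb := fix pb
  have Cc := fix pc
  have hz' : ∀ v : W, v + ρ a v + ρ b v + ρ (a * b) v = 0 := fun v => by
    simpa using LinearMap.congr_fun hz v
  have hCv : ∀ v : W, ρ (a * b) v = ρ a (ρ b v) := fun v => by rw [map_mul]; rfl
  have hCv' : ∀ v : W, ρ (a * b) v = ρ b (ρ a v) := fun v => by rw [hab, map_mul]; rfl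
  have Ba : ρ b va = -va := by
    have := hz' va
    rw [hCv', Aa] at this
    linear_combination (norm := module) (1 / 2 : ℂ) • this
  have Ab : ρ a vb = -vb := by
    have := hz' vb
    rw [hCv, Bb] at this
    linear_combination (norm := module) (1 / 2 : ℂ) • this
  have hBA : ρ b vc = ρ a vc := by
    have h2 : ρ b (ρ b (ρ a vc)) = ρ a vc := by
      rw [← Module.End.mul_apply, rho_sq ρ hb2, Module.End.one_apply]
    rw [← hCv', Cc] at h2
    exact h2
  have Ac : ρ a vc = -vc := by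
    have := hz' vc
    rw [Cc, hBA] at this
    linear_combination (norm := module) (1 / 2 : ℂ) • this
  refine ⟨va, vb, vc, na, nb, nc, Aa, Ab, Ac, Ba, Bb, hBA.trans Ac, fun w => ?_⟩
  obtain ⟨x, hx⟩ := sa w
  obtain ⟨y, hy⟩ := sb w
  obtain ⟨z, hz₁⟩ := sc w
  refine ⟨x, y, z, ?_⟩
  rw [← hx, ← hy, ← hz₁]
  simp only [fixProj, LinearMap.smul_apply, LinearMap.add_apply, Module.End.one_apply]
  linear_combination (norm := module) -(1 / 2 : ℂ) • hz' w

variable {ρ}

private theorem Frame3.indep {a b : G} {va vb vc : W} (F : Frame3 ρ a b va vb vc) {x y z : ℂ}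
    (h : x • va + y • vb + z • vc = 0) : x = 0 ∧ y = 0 ∧ z = 0 := by
  have h1 := congrArg (ρ a) h
  have h2 := congrArg (ρ b) h
  simp only [map_add, map_smul, F.Aa, F.Ab, F.Ac, F.Ba, F.Bb, F.Bc, map_zero] at h1 h2
  have hx : x • va = 0 := by linear_combination (norm := module) (1 / 2 : ℂ) • h + (1 / 2 : ℂ) • h1
  have hy : y • vb = 0 := by linear_combination (norm := module) (1 / 2 : ℂ) • h + (1 / 2 : ℂ) • h2
  have hz : z • vc = 0 := by linear_combination (norm := module) h - hx - hy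
  exact ⟨(smul_eq_zero.mp hx).resolve_right F.na, (smul_eq_zero.mp hy).resolve_right F.nb,
    (smul_eq_zero.mp hz).resolve_right F.nc⟩

private theorem Frame3.minus {a b : G} {va vb vc : W} (F : Frame3 ρ a b va vb vc) {w : W}
    (h : ρ a w = -w) : ∃ y z : ℂ, w = y • vb + z • vc := by
  obtain ⟨x, y, z, rfl⟩ := F.span w
  simp only [map_add, map_smul, F.Aa, F.Ab, F.Ac] at h
  exact ⟨y, z, by linear_combination (norm := module) (1 / 2 : ℂ) • h⟩

private theorem Frame3.plus {a b : G} {va vb vc : W} (F : Frame3 ρ a b va vb vc) {w : W}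
    (h : ρ a w = w) : ∃ x : ℂ, w = x • va := by
  obtain ⟨x, y, z, rfl⟩ := F.span w
  simp only [map_add, map_smul, F.Aa, F.Ab, F.Ac] at h
  exact ⟨x, by linear_combination (norm := module) -(1 / 2 : ℂ) • h⟩

private theorem Frame3.ext {a b : G} {va vb vc : W} (F : Frame3 ρ a b va vb vc)
    {f g : Module.End ℂ W} (ha : f va = g va) (hb : f vb = g vb) (hc : f vc = g vc) : f = g := by
  refine LinearMap.ext fun w => ?_
  obtain ⟨x, y, z, rfl⟩ := F.span w
  simp only [map_add, map_smul, ha, hb, hc]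

private theorem comm_apply {x y : G} (h : x * y = y * x) (v : W) :
    ρ x (ρ y v) = ρ y (ρ x v) := by
  rw [← Module.End.mul_apply, ← map_mul, h, map_mul]; rfl

private theorem rho_inv_apply (x : G) (v : W) : ρ x⁻¹ (ρ x v) = v := by
  rw [← Module.End.mul_apply, ← map_mul, inv_mul_cancel, map_one, Module.End.one_apply]

/-- An odd order subgroup fixing a line and commuting with the involution is commutative. -/
private theorem odd_comm (hf : ∀ g, ρ g = 1 → g = 1) {a b : G} {va vb vc : W}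
    (F : Frame3 ρ a b va vb vc) (K : Subgroup G) (hodd : Odd (Nat.card K))
    (hK : ∀ k ∈ K, k * a = a * k) : ∀ x ∈ K, ∀ y ∈ K, x * y = y * x := by
  classical
  let E : Submodule ℂ W :=
    { carrier := {w | ρ a w = -w}
      zero_mem' := by simp
      add_mem' := fun {u v} hu hv => by
        simp only [Set.mem_setOf_eq] at hu hv ⊢
        rw [map_add, hu, hv]; abel
      smul_mem' := fun c v hv => by
        simp only [Set.mem_setOf_eq] at hv ⊢
        rw [map_smul, hv, smul_neg] }
  have hinv : ∀ k ∈ K, ∀ w ∈ E, ρ k w ∈ E := by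
    intro k hk w hw
    show ρ a (ρ k w) = -(ρ k w)
    rw [← comm_apply (hK k hk), show ρ a w = -w from hw, map_neg]
  let ρK : Representation ℂ K W := ρ.comp K.subtype
  let σ₀ : Subrepresentation ρK := ⟨E, fun k v hv => hinv k k.2 v hv⟩
  let σ := σ₀.toRepresentation
  let B₂ : Fin 2 → E := ![⟨vb, F.Ab⟩, ⟨vc, F.Ac⟩]
  have hli : LinearIndependent ℂ B₂ := by
    rw [Fintype.linearIndependent_iff]
    intro g hg
    have hg' := congrArg Subtype.val hg
    simp only [Fin.sum_univ_two, Submodule.coe_add, Submodule.coe_smul, ZeroMemClass.coe_zero,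
      B₂, Matrix.cons_val_zero, Matrix.cons_val_one] at hg'
    obtain ⟨-, h0, h1⟩ := F.indep (x := 0) (by rw [zero_smul, zero_add]; exact hg')
    intro i
    fin_cases i
    · exact h0
    · exact h1
  have hspan : ⊤ ≤ Submodule.span ℂ (Set.range B₂) := by
    rintro ⟨w, hw⟩ -
    obtain ⟨y, z, rfl⟩ := F.minus hw
    exact (Submodule.mem_span_range_iff_exists_fun ℂ).mpr ⟨![y, z], Subtype.ext (by
      simp [Fin.sum_univ_two, B₂])⟩
  have hdim : finrank ℂ E = 2 := by
    rw [finrank_eq_card_basis (Basis.mk hli hspan)]; rfl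
  obtain ⟨w, hwE, hw0, hline⟩ : ∃ w ∈ E, w ≠ 0 ∧ ∀ k ∈ K, ∃ l : ℂ, ρ k w = l • w := by
    by_contra hno
    have hirr : σ.IsIrreducible := by
      haveI : Nontrivial (Subrepresentation σ) := ⟨⟨⊥, ⊤, fun e => by
        have e' := congrArg Subrepresentation.toSubmodule e
        have hmem : (⟨vb, F.Ab⟩ : E) ∈ (⊥ : Subrepresentation σ).toSubmodule :=
          e' ▸ Submodule.mem_top
        exact F.nb (congrArg Subtype.val ((Submodule.mem_bot ℂ).mp hmem))⟩⟩
      refine { eq_bot_or_eq_top := fun S => ?_ }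
      have hle : finrank ℂ S.toSubmodule ≤ 2 := hdim ▸ Submodule.finrank_le S.toSubmodule
      rcases (by omega : finrank ℂ S.toSubmodule = 0 ∨ finrank ℂ S.toSubmodule = 1 ∨
          finrank ℂ S.toSubmodule = 2) with h | h | h
      · exact Or.inl (Subrepresentation.toSubmodule_injective (Submodule.finrank_eq_zero.mp h))
      · exfalso
        have h' : finrank ℂ ↥(S.toSubmodule.map E.subtype : Submodule ℂ W) = 1 :=
          (LinearEquiv.finrank_eq (Submodule.equivMapOfInjective E.subtype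
            E.injective_subtype S.toSubmodule)).symm.trans h
        obtain ⟨⟨v, hv⟩, hv0, hall⟩ := finrank_eq_one_iff'.mp h'
        obtain ⟨v', hv', rfl⟩ := hv
        refine hno ⟨(v' : W), v'.2, fun e => hv0 (Subtype.ext e), fun k hk => ?_⟩
        obtain ⟨l, hl⟩ := hall ⟨_, σ ⟨k, hk⟩ v', S.apply_mem_toSubmodule ⟨k, hk⟩ hv', rfl⟩
        exact ⟨l, (congrArg Subtype.val hl).symm⟩
      · exact Or.inr (Subrepresentation.toSubmodule_injective
          (Submodule.eq_top_of_finrank_eq (h.trans hdim.symm)))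
    haveI : σ.IsIrreducible := hirr
    have h2 := CharClifford.finrank_dvd_card σ
    rw [show finrank ℂ σ₀.toSubmodule = 2 from hdim] at h2
    exact (Nat.not_even_iff_odd.mpr hodd) (even_iff_two_dvd.mpr h2)
  obtain ⟨p, q, rfl⟩ := F.minus (show ρ a w = -w from hwE)
  -- a second vector of the plane
  obtain ⟨z, hzE, hzw, hsp⟩ : ∃ z : W, ρ a z = -z ∧ (∀ c : ℂ, z ≠ c • (p • vb + q • vc)) ∧
      ∀ v : W, ρ a v = -v → ∃ α β : ℂ, v = α • z + β • (p • vb + q • vc) := by
    by_cases hq : q = 0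
    · have hp : p ≠ 0 := fun hp => hw0 (by simp [hp, hq])
      refine ⟨vc, F.Ac, fun c hc => ?_, fun v hv => ?_⟩
      · have := (F.indep (x := 0) (y := c * p) (z := c * q - 1) (by
          linear_combination (norm := module) -hc)).2.2
        rw [hq, mul_zero, zero_sub, neg_eq_zero] at this
        exact one_ne_zero this
      · obtain ⟨y, z, rfl⟩ := F.minus hv
        refine ⟨z, y / p, ?_⟩
        subst hq
        match_scalars <;> field_simp <;> ring
    · refine ⟨vb, F.Ab, fun c hc => ?_, fun v hv => ?_⟩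
      · obtain ⟨-, h1, h2⟩ := F.indep (x := 0) (y := c * p - 1) (z := c * q) (by
          linear_combination (norm := module) -hc)
        rcases mul_eq_zero.mp h2 with hc0 | hq0
        · rw [hc0, zero_mul, zero_sub, neg_eq_zero] at h1
          exact one_ne_zero h1
        · exact hq hq0
      · obtain ⟨y, z, rfl⟩ := F.minus hv
        refine ⟨y - z / q * p, z / q, ?_⟩
        match_scalars <;> field_simp <;> ring
  set w := p • vb + q • vc with hw
  have hdat : ∀ k ∈ K, ∃ s l μ ν : ℂ, s ≠ 0 ∧ l ≠ 0 ∧ μ ≠ 0 ∧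
      ρ k va = s • va ∧ ρ k w = l • w ∧ ρ k z = μ • z + ν • w := by
    intro k hk
    obtain ⟨s, hs⟩ := F.plus (show ρ a (ρ k va) = ρ k va by
      rw [← comm_apply (hK k hk), F.Aa])
    obtain ⟨l, hl⟩ := hline k hk
    obtain ⟨μ, ν, hμν⟩ := hsp (ρ k z) (hinv k hk z hzE)
    have hinj : ∀ v : W, ρ k v = 0 → v = 0 := fun v hv => by
      rw [← rho_inv_apply (ρ := ρ) k v, hv, map_zero]
    have hl0 : l ≠ 0 := fun e => hw0 (hinj w (by rw [hl, e, zero_smul]))
    refine ⟨s, l, μ, ν, fun e => F.na (hinj va (by rw [hs, e, zero_smul])), hl0, fun e => ?_,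
      hs, hl, hμν⟩
    refine hzw (ν / l) (sub_eq_zero.mp (hinj _ ?_))
    rw [map_sub, map_smul, hμν, hl, e, smul_smul, div_mul_cancel₀ _ hl0]
    module
  intro g hg k hk
  obtain ⟨x, hxg⟩ : ∃ x, x * (k * g) = g * k := ⟨g * k * (k * g)⁻¹, by group⟩
  have hxK : x ∈ K := by
    have : x = g * k * (k * g)⁻¹ := eq_mul_inv_of_mul_eq hxg
    rw [this]
    exact mul_mem (mul_mem hg hk) (inv_mem (mul_mem hk hg))
  obtain ⟨s₁, l₁, μ₁, ν₁, hs₁0, hl₁0, hμ₁0, hs₁, hl₁, hz₁⟩ := hdat g hg
  obtain ⟨s₂, l₂, μ₂, ν₂, hs₂0, hl₂0, hμ₂0, hs₂, hl₂, hz₂⟩ := hdat k hk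
  have hx : ∀ v : W, ρ x (ρ k (ρ g v)) = ρ g (ρ k v) := fun v => by
    simp only [← Module.End.mul_apply, ← map_mul, hxg]
  have x1 := hx va
  have x2 := hx w
  have x3 := hx z
  simp only [hs₁, hs₂, map_smul, smul_smul] at x1
  simp only [hl₁, hl₂, map_smul, smul_smul] at x2
  rw [mul_comm s₂ s₁] at x1
  rw [mul_comm l₂ l₁] at x2
  have xa : ρ x va = va := smul_right_injective W (mul_ne_zero hs₁0 hs₂0) x1
  have xw : ρ x w = w := smul_right_injective W (mul_ne_zero hl₁0 hl₂0) x2
  simp only [hz₁, hz₂, hl₁, hl₂, map_add, map_smul, smul_add, smul_smul, xw] at x3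
  set c : ℂ := (μ₂ * ν₁ + ν₂ * l₁ - μ₁ * ν₂ - ν₁ * l₂) / (μ₁ * μ₂) with hc
  have hμ : μ₁ * μ₂ ≠ 0 := mul_ne_zero hμ₁0 hμ₂0
  have xz : ρ x z = z + c • w := by
    refine smul_right_injective W hμ ?_
    simp only [hc, smul_add, smul_smul, mul_div_cancel₀ _ hμ]
    linear_combination (norm := module) x3
  have hpow : ∀ n : ℕ, ρ (x ^ n) z = z + ((n : ℂ) * c) • w := by
    intro n
    induction n with
    | zero => simp
    | succ n ih =>
      rw [pow_succ', map_mul, Module.End.mul_apply, ih, map_add, map_smul, xz, xw]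
      push_cast
      module
  have hc0 : c = 0 := by
    have h0 := hpow (orderOf x)
    rw [pow_orderOf_eq_one, map_one, Module.End.one_apply, left_eq_add, smul_eq_zero] at h0
    have := h0.resolve_right hw0
    exact (mul_eq_zero.mp this).resolve_left (Nat.cast_ne_zero.mpr (orderOf_pos x).ne')
  have hall : ∀ v, ρ a v = -v → ρ x v = v := fun v hv => by
    obtain ⟨α, β, rfl⟩ := hsp v hv
    rw [map_add, map_smul, map_smul, xw, xz, hc0, zero_smul, add_zero]
  have : x = 1 := hf x (F.ext (f := ρ x) (g := 1) (by simpa using xa)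
    (by simpa using hall vb F.Ab) (by simpa using hall vc F.Ac))
  rw [this, one_mul] at hxg
  exact hxg.symm

/-- Either `O(C(a))` centralises `b`, or `O(C(V))` is scalar on the `-1`-space of `a`. -/
private theorem central_or_scalar (hC : Ctx V) (hf : ∀ g, ρ g = 1 → g = 1) {a b : G}
    (h : Pair V a b) :
    (∀ k ∈ coreK a, k * b = b * k) ∨
      ∀ d ∈ coreD V, ∃ l : ℂ, ∀ v : W, ρ a v = -v → ρ d v = l • v := by
  obtain ⟨va, vb, vc, F⟩ := exists_frame ρ hC hf h
  have hab := odd_comm hf F (coreK a) (odd_card_coreK a)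
    (fun k hk => ((mem_coreK_iff hC.klein hC.sylow h.ha h.a1).mp hk).2)
  have hd : ∀ d ∈ coreD V, ∃ y z : ℂ, ρ d vb = y • vb ∧ ρ d vc = z • vc := by
    intro d hd
    have hcent := mem_centralizer_iff.mp (le_centralizer_coreD V hd)
    have e1 := comm_apply (ρ := ρ) (hcent a h.ha)
    have e2 := comm_apply (ρ := ρ) (hcent b h.hb)
    obtain ⟨y, z, hy⟩ := F.minus (show ρ a (ρ d vb) = -(ρ d vb) by rw [e1, F.Ab, map_neg])
    obtain ⟨y', z', hz⟩ := F.minus (show ρ a (ρ d vc) = -(ρ d vc) by rw [e1, F.Ac, map_neg])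
    have hy2 := e2 vb
    have hz2 := e2 vc
    rw [F.Bb, hy] at hy2
    rw [F.Bc, map_neg, hz] at hz2
    simp only [map_add, map_smul, F.Bb, F.Bc] at hy2 hz2
    have hz0 := (F.indep (x := 0) (y := 0) (z := 2 * z) (by
      linear_combination (norm := module) -hy2)).2.2
    have hy0 := (F.indep (x := 0) (y := 2 * y') (z := 0) (by
      linear_combination (norm := module) hz2)).2.1
    rw [mul_eq_zero] at hz0 hy0
    exact ⟨y, z', by rw [hy, hz0.resolve_left two_ne_zero, zero_smul, add_zero],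
      by rw [hz, hy0.resolve_left two_ne_zero, zero_smul, zero_add]⟩
  by_cases hs : ∀ d ∈ coreD V, ∀ y z : ℂ, ρ d vb = y • vb → ρ d vc = z • vc → y = z
  · refine Or.inr fun d hdD => ?_
    obtain ⟨y, z, hy, hz⟩ := hd d hdD
    refine ⟨y, fun v hv => ?_⟩
    obtain ⟨α, β, rfl⟩ := F.minus hv
    rw [map_add, map_smul, map_smul, hy, hz, ← hs d hdD y z hy hz]
    module
  refine Or.inl fun k hk => ?_
  simp only [not_forall] at hs
  obtain ⟨d, hdD, y, z, hy, hz, hne⟩ := hs
  have hka : k * a = a * k := ((mem_coreK_iff hC.klein hC.sylow h.ha h.a1).mp hk).2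
  have hkd := comm_apply (ρ := ρ) (hab k hk d (coreD_le_coreK hC.klein hC.sylow h.ha h.a1 hdD))
  have e1 := comm_apply (ρ := ρ) hka
  obtain ⟨s, hs'⟩ := F.plus (show ρ a (ρ k va) = ρ k va by rw [← e1, F.Aa])
  obtain ⟨p, q, hp⟩ := F.minus (show ρ a (ρ k vb) = -(ρ k vb) by rw [← e1, F.Ab, map_neg])
  obtain ⟨p', q', hp'⟩ := F.minus (show ρ a (ρ k vc) = -(ρ k vc) by rw [← e1, F.Ac, map_neg])
  have k1 := hkd vb
  have k2 := hkd vc
  rw [hy, map_smul, hp] at k1
  rw [hz, map_smul, hp'] at k2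
  simp only [map_add, map_smul, hy, hz] at k1 k2
  have hq := (F.indep (x := 0) (y := 0) (z := q * (y - z)) (by
    linear_combination (norm := module) k1)).2.2
  have hp0 := (F.indep (x := 0) (y := p' * (z - y)) (z := 0) (by
    linear_combination (norm := module) k2)).2.1
  rw [mul_eq_zero] at hq hp0
  have hq0 : q = 0 := hq.resolve_right (sub_ne_zero.mpr hne)
  have hp'0 : p' = 0 := hp0.resolve_right (sub_ne_zero.mpr (Ne.symm hne))
  refine inv_mul_eq_one.mp (hf _ ?_) |>.symm
  have key : ρ (k * b) = ρ (b * k) := by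
    rw [map_mul, map_mul]
    refine F.ext ?_ ?_ ?_
    · simp [Module.End.mul_apply, F.Ba, hs']
    · simp [Module.End.mul_apply, F.Bb, hp, hq0]
    · simp [Module.End.mul_apply, F.Bc, hp', hp'0]
  rw [map_mul, key, ← map_mul, inv_mul_cancel, map_one]

end Three

/-- A character of degree three kills `O(C(V))`. -/
theorem threeKill (hSE : SEKillStmt.{u}) : ThreeKillStmt.{u} := by
  intro G _ _ V hC χ hdeg
  obtain ⟨χ, n, ρ, hirr, rfl⟩ := χ
  have hn : n = 3 := by
    have h := hdeg
    rw [show ((⟨ρ.character, n, ρ, hirr, rfl⟩ : Cfsg.IrrCharacter G) : G → ℂ) 1 =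
      ρ.character 1 from rfl, Representation.char_one, Module.finrank_fin_fun] at h
    exact_mod_cast h
  subst hn
  have hf : ∀ g, ρ g = 1 → g = 1 := by
    haveI := hC.simple
    let φ : G →* Module.End ℂ (Fin 3 → ℂ) := ρ
    rcases (inferInstance : φ.ker.Normal).eq_bot_or_eq_top with h | h
    · intro g hg
      exact mem_bot.mp (h ▸ (MonoidHom.mem_ker.mpr hg : g ∈ φ.ker))
    · exfalso
      have hone : ∀ g, ρ g = 1 := fun g => MonoidHom.mem_ker.mp (h ▸ mem_top g : g ∈ φ.ker)
      let e : Fin 3 → ℂ := Pi.single 0 1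
      have he : e ≠ 0 := fun he => by simpa [e] using congrFun he 0
      let L : Subrepresentation ρ := ⟨Submodule.span ℂ {e}, fun g v hv => by
        rw [hone g]; exact hv⟩
      haveI := hirr
      rcases eq_bot_or_eq_top L with hL | hL
      · have hmem : e ∈ L.toSubmodule := Submodule.mem_span_singleton_self e
        rw [hL] at hmem
        exact he ((Submodule.mem_bot ℂ).mp hmem)
      · have h1 : finrank ℂ L.toSubmodule = 1 := finrank_span_singleton he
        rw [show L.toSubmodule = ⊤ by rw [hL]; rfl, finrank_top, Module.finrank_fin_fun] at h1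
        omega
  have hkill : ∀ a b, Pair V a b → (∀ k ∈ coreK a, k * b = b * k) → coreD V = ⊥ := by
    intro a b h hk
    refine hSE G V hC (normalizer (V : Set G)) a ?_ h.ha h.a1 ?_ ?_
    · exact fun e => hC.not_normal (normalizer_eq_top_iff.mp e)
    · intro x hx
      obtain ⟨k, hkK, v, hv, rfl⟩ := centralizer_decomp hC.klein hC.sylow h.ha h.a1
        (mem_centralizer_singleton_iff.mp hx)
      have hkD := (mem_coreD_iff_pair hC.klein hC.sylow h).mpr ⟨hkK, hk k hkK⟩
      exact mul_mem ((Subgroup.centralizer_le_normalizer _) (le_centralizer_coreD V hkD))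
        (le_normalizer hv)
    · obtain ⟨r, hr, hrc⟩ := hC.exists_fusing
      exact ⟨r, hr, hr, hrc⟩
  obtain ⟨a, b, h⟩ : ∃ a b, Pair V a b := by
    haveI : Nontrivial ↥V := by
      rw [← Finite.one_lt_card_iff_nontrivial, hC.klein.card_four]; norm_num
    obtain ⟨⟨a, ha⟩, ha1⟩ := exists_ne (1 : ↥V)
    have ha1' : a ≠ 1 := fun e => ha1 (Subtype.ext e)
    exact ⟨a, exists_pair_of_mem hC.klein ha ha1'⟩
  rcases central_or_scalar hC hf h with hk | hsa
  · exact hkill a b h hk
  rcases central_or_scalar hC hf h.symm with hk | hsb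
  · exact hkill b a h.symm hk
  rw [eq_bot_iff]
  intro d hd
  obtain ⟨va, vb, vc, F⟩ := exists_frame ρ hC hf h
  obtain ⟨l, hl⟩ := hsa d hd
  obtain ⟨m, hm⟩ := hsb d hd
  have hlm : l = m := smul_left_injective ℂ F.nc ((hl vc F.Ac).symm.trans (hm vc F.Bc))
  have hd1 : ρ d = l • 1 := F.ext (by rw [hm va F.Ba, hlm]; rfl) (by rw [hl vb F.Ab]; rfl)
    (by rw [hl vc F.Ac]; rfl)
  by_contra hne
  refine hC.centralizer_ne_top (fun e => hne (mem_bot.mpr e)) (eq_top_iff.mpr fun g _ => ?_)
  rw [mem_centralizer_singleton_iff]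
  refine inv_mul_eq_one.mp (hf _ ?_) |>.symm
  have key : ρ (g * d) = ρ (d * g) := by
    rw [map_mul, map_mul, hd1, smul_mul_assoc, mul_smul_comm, one_mul, mul_one]
  rw [map_mul, key, ← map_mul, inv_mul_cancel, map_one]

end Cfsg.Agent.GW66
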