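import Cfsg.Agent.GW66.CharKill
import Cfsg.Agent.GW66.CharPhi
import Cfsg.Agent.GW66.CharSep82
import Cfsg.Agent.GW66.DegreeKill

/-!
# The character half, wired
-/

set_option autoImplicit false

namespace Cfsg.Agent.GW66

universe u

theorem orderStmt : OrderStmt.{u} := orderStmt_of arithPrincipal

theorem charKill_of_sep (hSep : SepStmt.{u}) (hSE : SEKillStmt.{u}) : CharKillStmt.{u} :=
  charKill_of phiStmt hSep (threeKill hSE) arithPrincipal arithFixed arithMoved

theorem charKill (hSE : SEKillStmt.{u}) : CharKillStmt.{u} := charKill_of_sep sepStmt hSE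

end Cfsg.Agent.GW66
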