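import Cfsg.Agent.GW66.CharBase
import Cfsg.Agent.GW66.CharPrincipal
import Mathlib.GroupTheory.FiniteAbelian.Duality
import Cfsg.Agent.PF14.Compose

/-!
# Extendible linear characters force `O(C(V)) = 1`
-/

set_option autoImplicit false

namespace Cfsg.Agent.GW66

open Subgroup

universe u

variable {G : Type u} [Group G] [Finite G] {V : Subgroup G}

theorem conj_coreD (hV : IsKleinFour V) (hodd : Odd V.index) {n d : G}
    (hn : n ∈ normalizer (V : Set G)) (hd : d ∈ coreD V) : n * d * n⁻¹ ∈ coreD V := by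
  rw [mem_coreD_iff hV hodd] at hd ⊢
  refine ⟨?_, mem_centralizer_iff.mpr fun v hv => ?_⟩
  · rw [show orderOf (n * d * n⁻¹) = orderOf d from MulEquiv.orderOf_eq (MulAut.conj n) d]
    exact hd.1
  · have hv' : n⁻¹ * v * n ∈ V := by
      have := (mem_normalizer_iff.mp (inv_mem hn) v).mp hv
      rwa [inv_inv] at this
    have h := mem_centralizer_iff.mp hd.2 _ hv'
    calc v * (n * d * n⁻¹) = n * ((n⁻¹ * v * n) * d) * n⁻¹ := by group
      _ = n * (d * (n⁻¹ * v * n)) * n⁻¹ := by rw [h]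
      _ = _ := by group

/-- The action of the normaliser of `V` on the linear characters of `O(C(V))`. -/
def twistD (hV : IsKleinFour V) (hodd : Odd V.index) {n : G} (hn : n ∈ normalizer (V : Set G))
    (f : ↥(coreD V) →* ℂ) : ↥(coreD V) →* ℂ where
  toFun d := f ⟨n * (d : G) * n⁻¹, conj_coreD hV hodd hn d.2⟩
  map_one' := by
    rw [← map_one f]
    exact congrArg f (Subtype.ext (by simp))
  map_mul' x y := by
    rw [← map_mul]
    exact congrArg f (Subtype.ext (by simp [mul_assoc]))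

theorem twistD_apply (hV : IsKleinFour V) (hodd : Odd V.index) {n : G}
    (hn : n ∈ normalizer (V : Set G)) (f : ↥(coreD V) →* ℂ) (d : ↥(coreD V)) :
    twistD hV hodd hn f d = f ⟨n * (d : G) * n⁻¹, conj_coreD hV hodd hn d.2⟩ := rfl

theorem twistD_twistD (hV : IsKleinFour V) (hodd : Odd V.index) {n m : G}
    (hn : n ∈ normalizer (V : Set G)) (hm : m ∈ normalizer (V : Set G)) (f : ↥(coreD V) →* ℂ) :
    twistD hV hodd hm (twistD hV hodd hn f) = twistD hV hodd (mul_mem hn hm) f :=
  MonoidHom.ext fun d => congrArg f (Subtype.ext (by simp [mul_assoc]))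

theorem twistD_centralizer (hV : IsKleinFour V) (hodd : Odd V.index) {z : G}
    (hz : z ∈ centralizer (V : Set G)) (hzn : z ∈ normalizer (V : Set G))
    (f : ↥(coreD V) →* ℂ) : twistD hV hodd hzn f = f := by
  obtain ⟨a, ha, h1⟩ : ∃ a ∈ V, a ≠ 1 := by
    by_contra h
    push Not at h
    have : V ≤ ⊥ := fun x hx => mem_bot.mpr (h x hx)
    have := card_le_of_le this
    rw [hV.card_four, card_bot] at this
    omega
  obtain ⟨b, hp⟩ := exists_pair_of_mem hV ha h1
  obtain ⟨k, hk, v, hv, rfl⟩ := centralizer_decomp hV hodd ha h1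
    (mem_centralizer_iff.mp hz a ha).symm
  have hkD : k ∈ coreD V := by
    refine (mem_coreD_iff_pair hV hodd hp).mpr ⟨hk, ?_⟩
    have h := (mem_centralizer_iff.mp hz b hp.hb).symm
    rw [mul_assoc, klein_comm hV hv hp.hb, ← mul_assoc, ← mul_assoc] at h
    exact mul_right_cancel h
  refine MonoidHom.ext fun d => ?_
  have hvd : v * (d : G) * v⁻¹ = d := mul_inv_eq_iff_eq_mul.mpr
    (mem_centralizer_iff.mp (le_centralizer_coreD V d.2) v hv)
  have : (⟨k * v * (d : G) * (k * v)⁻¹, conj_coreD hV hodd hzn d.2⟩ : ↥(coreD V)) =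
      ⟨k, hkD⟩ * d * ⟨k, hkD⟩⁻¹ := Subtype.ext (by
    simp only [Subgroup.coe_mul, InvMemClass.coe_inv]
    conv_rhs => rw [← hvd]
    group)
  rw [twistD_apply, this, map_mul, map_mul, mul_right_comm, ← map_mul, mul_inv_cancel, map_one,
    one_mul]

theorem exists_nontrivial_hom (hne : coreD V ≠ ⊥) :
    ∃ f : ↥(coreD V) →* ℂ, f ≠ 1 := by
  classical
  haveI : Nontrivial ↥(coreD V) := nontrivial_iff_ne_bot _ |>.mpr hne
  haveI : Group.IsSolvable ↥(coreD V) := PF14.feitThompson _ (odd_card_coreD V)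
  obtain ⟨d, hd⟩ : ∃ d : ↥(coreD V), d ∉ commutator ↥(coreD V) := by
    by_contra h
    push Not at h
    exact (Group.IsSolvable.commutator_lt_top_of_nontrivial ↥(coreD V)).ne
      (eq_top_iff.mpr fun x _ => h x)
  have hd' : Abelianization.of d ≠ 1 := fun e => hd (by
    rwa [← MonoidHom.mem_ker, Abelianization.ker_of] at e)
  obtain ⟨φ, hφ⟩ := CommGroup.exists_apply_ne_one_of_hasEnoughRootsOfUnity
    (G := Abelianization ↥(coreD V)) (M := ℂ) hd'
  refine ⟨((Units.coeHom ℂ).comp φ).comp Abelianization.of, fun e => hφ ?_⟩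
  have := DFunLike.congr_fun e d
  exact Units.ext (by simpa using this)

theorem fusing_cube (hV : IsKleinFour V) (hodd : Odd V.index) {r : G}
    (hr : r ∈ normalizer (V : Set G)) (hrc : r ∉ centralizer (V : Set G)) :
    r * r * r ∈ centralizer (V : Set G) := by
  obtain ⟨a, ha, h1⟩ : ∃ a ∈ V, a ≠ 1 := by
    by_contra h
    push Not at h
    have : V ≤ ⊥ := fun x hx => mem_bot.mpr (h x hx)
    have := card_le_of_le this
    rw [hV.card_four, card_bot] at this
    omega
  refine centralizes_of_fix hV hodd (mul_mem (mul_mem hr hr) hr) ha h1 ?_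
  have hb : r * a * r⁻¹ ∈ V := (mem_normalizer_iff.mp hr a).mp ha
  have hc : r * (r * a * r⁻¹) * r⁻¹ ∈ V := (mem_normalizer_iff.mp hr _).mp hb
  have hx : r * (r * (r * a * r⁻¹) * r⁻¹) * r⁻¹ ∈ V := (mem_normalizer_iff.mp hr _).mp hc
  have hne : ∀ y ∈ V, y ≠ 1 → r * y * r⁻¹ ≠ y := fun y hy hy1 e =>
    hrc (centralizes_of_fix hV hodd hr hy hy1 (mul_inv_eq_iff_eq_mul.mp e))
  have hb1 : r * a * r⁻¹ ≠ 1 := fun e => h1 (by simpa using e)
  have hc1 : r * (r * a * r⁻¹) * r⁻¹ ≠ 1 := fun e => hb1 (by simpa using e)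
  rcases fusing_orbit hV hodd hr hrc ha h1 hx (fun e => hc1 (by simpa using e)) with e | e | e
  · calc r * r * r * a = (r * (r * (r * a * r⁻¹) * r⁻¹) * r⁻¹) * (r * r * r) := by group
      _ = _ := by rw [e]
  · exfalso
    have e' : r * (r * a * r⁻¹) * r⁻¹ = a := (MulAut.conj r).injective (by simpa using e)
    have hp : Pair V a (r * a * r⁻¹) := ⟨ha, hb, h1, hb1, (hne a ha h1).symm⟩
    refine hne _ (hp.third hV).hb (hp.third hV).b1 ?_
    calc r * (a * (r * a * r⁻¹)) * r⁻¹ = r * a * r⁻¹ * (r * (r * a * r⁻¹) * r⁻¹) := by group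
      _ = r * a * r⁻¹ * a := by rw [e']
      _ = a * (r * a * r⁻¹) := klein_comm hV hb ha
  · exact absurd e (hne _ hc hc1)

theorem charKill_of (hPhi : PhiStmt.{u}) (hSep : SepStmt.{u}) (h3 : ThreeKillStmt.{u})
    (hAP : ArithPrincipalStmt) (hAF : ArithFixedStmt.{u}) (hAM : ArithMovedStmt.{u}) :
    CharKillStmt.{u} := by
  intro G _ _ V hC hU
  classical
  by_contra hne
  haveI := Fintype.ofFinite G
  have hV := hC.klein
  have hodd := hC.sylow
  obtain ⟨a, ha, h1⟩ : ∃ a ∈ V, a ≠ 1 := by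
    by_contra h
    push Not at h
    have : V ≤ ⊥ := fun x hx => mem_bot.mpr (h x hx)
    have := card_le_of_le this
    rw [hV.card_four, card_bot] at this
    omega
  have ha2 := klein_orderOf hV ha h1
  obtain ⟨ε, e₂, e₃, e₄, hε, g2, g3, g4, c2, c3, c4, hrel, hs, hdeg3⟩ :=
    principalStmt G V hC a ha h1
  obtain ⟨hthird, hfin⟩ := hAP ε e₂ e₃ e₄ _ hε g2 g3 g4 c2 c3 c4 hrel hs
  suffices orderRatio V a < 3 / 5 ∨
      ∃ e : ℤ, 0 < e ∧ (4 : ℤ) ∣ e + 1 ∧ orderRatio V a = 8 / (e : ℚ) by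
    rcases hfin this with e | e
    · obtain ⟨χ, hχ⟩ := hdeg3 e₃ (Or.inl rfl)
      exact hne (h3 G V hC χ (by rw [hχ, e]; norm_num))
    · obtain ⟨χ, hχ⟩ := hdeg3 e₄ (Or.inr rfl)
      exact hne (h3 G V hC χ (by rw [hχ, e]; norm_num))
  obtain ⟨hInt, hN, hO, hD, hS, hPar⟩ := hPhi G V hC a ha h1
  -- the characters
  obtain ⟨f, hf⟩ := exists_nontrivial_hom (V := V) hne
  obtain ⟨r, hr, hrc⟩ := hC.exists_fusing
  set F : ℕ → (↥(coreD V) →* ℂ) := fun i => twistD hV hodd (pow_mem hr i) f with hF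
  have hF0 : F 0 = f := MonoidHom.ext fun d => congrArg f (Subtype.ext (by simp))
  have horb : ∀ n (hn : n ∈ normalizer (V : Set G)), ∃ i < 3, twistD hV hodd hn f = F i := by
    intro n hn
    have hx : n * a * n⁻¹ ∈ V := (mem_normalizer_iff.mp hn a).mp ha
    have hx1 : n * a * n⁻¹ ≠ 1 := fun e => h1 (by simpa using e)
    have key : ∀ i : ℕ, n * a * n⁻¹ = r ^ i * a * (r ^ i)⁻¹ → twistD hV hodd hn f = F i := by
      intro i hi
      set z := (r ^ i)⁻¹ * n with hz
      have hzn : z ∈ normalizer (V : Set G) := mul_mem (inv_mem (pow_mem hr i)) hn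
      have hzc : z ∈ centralizer (V : Set G) := by
        refine centralizes_of_fix hV hodd hzn ha h1 ?_
        calc z * a = (r ^ i)⁻¹ * (n * a * n⁻¹) * n := by rw [hz]; group
          _ = _ := by rw [hi, hz]; group
      have : twistD hV hodd hn f = twistD hV hodd (mul_mem (pow_mem hr i) hzn) f :=
        MonoidHom.ext fun d => congrArg f (Subtype.ext (by simp [hz]))
      rw [this, ← twistD_twistD hV hodd (pow_mem hr i) hzn, twistD_centralizer hV hodd hzc hzn]
    rcases fusing_orbit hV hodd hr hrc ha h1 hx hx1 with e | e | e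
    · exact ⟨0, by norm_num, key 0 (by rw [e]; group)⟩
    · exact ⟨1, by norm_num, key 1 (by rw [e]; group)⟩
    · exact ⟨2, by norm_num, key 2 (by rw [e, pow_two, mul_inv_rev]; simp only [mul_assoc])⟩
  choose μ hμ hμd hμu using fun i : ℕ => linExists G V hC a ha h1 (hU a ha h1) (F i)
  have hμeq : ∀ i j, F i = F j → μ i = μ j := fun i j h => hμu j _ (hμ i) fun d => by
    rw [hμd i d, h]
  have hμne : ∀ i j, F i ≠ F j → μ i ≠ μ j := fun i j h e => h (MonoidHom.ext fun d => by
    rw [← hμd i d, ← hμd j d, e])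
  have hrel' : ∀ i n, n ∈ normalizer (V : Set G) → ∃ j < 3,
      ∀ d ∈ coreD V, μ j d = μ i (n * d * n⁻¹) := by
    intro i n hn
    obtain ⟨j, hj, he⟩ := horb (r ^ i * n) (mul_mem (pow_mem hr i) hn)
    refine ⟨j, hj, fun d hd => ?_⟩
    rw [hμd j ⟨d, hd⟩, ← he, ← twistD_twistD hV hodd (pow_mem hr i) hn]
    exact (hμd i ⟨n * d * n⁻¹, conj_coreD hV hodd hn hd⟩).symm
  have htrans : ∀ i j, ∀ d ∈ coreD V, μ j d = μ i ((r ^ i)⁻¹ * r ^ j * d * ((r ^ i)⁻¹ * r ^ j)⁻¹) := by
    intro i j d hd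
    have hn : (r ^ i)⁻¹ * r ^ j ∈ normalizer (V : Set G) :=
      mul_mem (inv_mem (pow_mem hr i)) (pow_mem hr j)
    rw [hμd j ⟨d, hd⟩]
    refine Eq.trans ?_ (hμd i ⟨_, conj_coreD hV hodd hn hd⟩).symm
    exact congrArg f (Subtype.ext (by simp [mul_assoc]))
  choose z hz using fun (i : ℕ) (χ : Cfsg.IrrCharacter G) => hInt (μ i) (hμ i) χ
  choose e x he hee hxx hec _ using fun χ : Cfsg.IrrCharacter G =>
    ZStar.klein_char_data (P := (IsPGroup.of_card (p := 2) (G := V) (n := 2)
      (by rw [hV.card_four]; rfl)).toSylow (by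
        rw [← even_iff_two_dvd]; exact Nat.not_even_iff_odd.mpr hodd)) hV ha ha2
      (fun s t hs ht => hC.isConj_involution hs ht) χ
  have hzero : ∀ i, F i ≠ 1 → ∀ χ : Cfsg.IrrCharacter G, z i χ ≠ 0 → 1 < e χ := by
    intro i hi χ hχ
    rcases (show e χ = 1 ∨ 1 < e χ by have := he χ; omega) with h | h
    · exfalso
      apply hχ
      have hone := ctx_irr_eq_one hC χ (by rw [hee χ, h, Int.cast_one])
      have h0 : delta a (coreK a) (μ i) (χ : G → ℂ) = 0 := by
        rw [delta, hone]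
        have hcong : (∑ᶠ k : ↥(coreK a), (1 : ℂ) * (starRingEnd ℂ) (μ i k)) =
            ∑ᶠ k : ↥(coreK a), linOne a k * (starRingEnd ℂ) (μ i k) :=
          finsum_congr fun k => by rw [linOne, Set.indicator_of_mem k.2]
        rw [hcong, (lin_linOne a).toIsLinOn.sum_mul_conj (hμ i).toIsLinOn, if_neg]
        intro hall
        refine hi (MonoidHom.ext fun d => ?_)
        have hdK := coreD_le_coreK hV hodd ha h1 d.2
        rw [← hμd i d, ← hall _ hdK, linOne, Set.indicator_of_mem hdK, MonoidHom.one_apply]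
      exact_mod_cast (hz i χ).symm.trans h0
    · exact h
  have hne' : ∀ i, F i ≠ 1 := fun i h => hf (MonoidHom.ext fun d => by
    have hm : (r ^ i)⁻¹ * (d : G) * (r ^ i) ∈ coreD V := by
      have := conj_coreD hV hodd (inv_mem (pow_mem hr i)) d.2
      rwa [inv_inv] at this
    have := DFunLike.congr_fun h ⟨_, hm⟩
    rw [MonoidHom.one_apply, hF, twistD_apply] at this
    rw [MonoidHom.one_apply, ← this]
    exact congrArg f (Subtype.ext (by simp [mul_assoc])))
  have hnorm : ∀ i, ∑ χ, z i χ * z i χ = 4 := fun i => by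
    have h := hN (μ i) (hμ i)
    rw [finsum_eq_sum_of_fintype] at h
    simp only [hz] at h
    exact_mod_cast h
  have hdeg : ∀ i, ∑ χ, z i χ * e χ = 0 := fun i => by
    have h := hD (μ i) (hμ i)
    rw [finsum_eq_sum_of_fintype] at h
    simp only [hz, hee] at h
    exact_mod_cast h
  have hsum : ∀ i, orderRatio V a = ∑ χ, (z i χ : ℚ) * (x χ : ℚ) ^ 2 / (e χ : ℚ) := fun i => by
    have h := hS (μ i) (hμ i)
    rw [finsum_eq_sum_of_fintype] at h
    simp only [hz, hee, hxx] at h
    have : ((∑ χ, (z i χ : ℚ) * (x χ : ℚ) ^ 2 / (e χ : ℚ) : ℚ) : ℂ) =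
        ((orderRatio V a : ℚ) : ℂ) := by push_cast; exact h
    exact_mod_cast this.symm
  by_cases hfix : F 1 = F 0
  · -- an orbit of length one
    left
    have hall : ∀ j < 3, F j = F 0 := by
      intro j hj
      interval_cases j
      · rfl
      · exact hfix
      · have : F 2 = twistD hV hodd hr (F 1) := MonoidHom.ext fun d =>
          congrArg f (Subtype.ext (by simp [pow_two, mul_assoc]))
        rw [this, hfix, hF0]
        calc twistD hV hodd hr f = F 1 := MonoidHom.ext fun d => congrArg f (Subtype.ext (by simp))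
          _ = _ := by rw [hfix, hF0]
    have hsep : ∀ χ : Cfsg.IrrCharacter G, z 0 χ ≠ 0 → x χ = z 0 χ := by
      intro χ hχ
      have h := hSep G V hC a ha h1 {μ 0} (fun ν hν => by
          rw [Finset.mem_singleton.mp hν]; exact hμ 0)
        (fun ν hν n hn => by
          obtain ⟨j, hj, hjd⟩ := hrel' 0 n hn
          rw [Finset.mem_singleton.mp hν]
          exact ⟨μ 0, Finset.mem_singleton_self _, fun d hd => by
            rw [← hjd d hd, hμeq j 0 (hall j hj)]⟩)
        (fun ν hν ν' hν' => by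
          rw [Finset.mem_singleton.mp hν, Finset.mem_singleton.mp hν']
          exact ⟨_, mul_mem (inv_mem (pow_mem hr 0)) (pow_mem hr 0), htrans 0 0⟩)
        (μ 0) (Finset.mem_singleton_self _) χ (by rw [hz]; exact_mod_cast hχ)
      rw [Finset.sum_singleton, hz, hxx] at h
      exact_mod_cast h
    refine hAF (Cfsg.IrrCharacter G) (z 0) e _ he (fun χ hχ => ⟨hzero 0 (hne' 0) χ hχ, ?_⟩)
      (hnorm 0) (hdeg 0) ?_
    · rw [← hsep χ hχ]; exact hec χ
    · rw [hsum 0]
      refine Finset.sum_congr rfl fun χ _ => ?_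
      by_cases hχ : z 0 χ = 0
      · simp [hχ]
      · rw [hsep χ hχ]
  · -- an orbit of length three
    right
    have hstep : ∀ i, F (i + 1) = twistD hV hodd hr (F i) := fun i => MonoidHom.ext fun d =>
      congrArg f (Subtype.ext (by simp [pow_succ, mul_assoc]))
    have h30 : F 3 = F 0 := by
      have hz3 : r * r * r ∈ centralizer (V : Set G) := fusing_cube hV hodd hr hrc
      calc F 3 = twistD hV hodd (mul_mem (mul_mem hr hr) hr) f := MonoidHom.ext fun d =>
            congrArg f (Subtype.ext (by simp [pow_succ, mul_assoc]))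
        _ = F 0 := by rw [twistD_centralizer hV hodd hz3 (mul_mem (mul_mem hr hr) hr), hF0]
    have h02 : F 0 ≠ F 2 := fun h => hfix <|
      calc F 1 = twistD hV hodd hr (F 0) := hstep 0
        _ = twistD hV hodd hr (F 2) := by rw [h]
        _ = F 3 := (hstep 2).symm
        _ = F 0 := h30
    have h12 : F 1 ≠ F 2 := fun h => h02 <|
      calc F 0 = F 3 := h30.symm
        _ = twistD hV hodd hr (F 2) := hstep 2
        _ = twistD hV hodd hr (F 1) := by rw [h]
        _ = F 2 := (hstep 1).symm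
    have hi01 : μ 0 ≠ μ 1 := hμne _ _ fun h => hfix h.symm
    have hi02 : μ 0 ≠ μ 2 := hμne _ _ h02
    have hi12 : μ 1 ≠ μ 2 := hμne _ _ h12
    have hmem : ∀ ν ∈ ({μ 0, μ 1, μ 2} : Finset (G → ℂ)), ∃ i < 3, ν = μ i := by
      intro ν hν
      simp only [Finset.mem_insert, Finset.mem_singleton] at hν
      rcases hν with rfl | rfl | rfl
      · exact ⟨0, by norm_num, rfl⟩
      · exact ⟨1, by norm_num, rfl⟩
      · exact ⟨2, by norm_num, rfl⟩
    have hin : ∀ i < 3, μ i ∈ ({μ 0, μ 1, μ 2} : Finset (G → ℂ)) := by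
      intro i hi
      interval_cases i <;> simp
    have hsep : ∀ χ : Cfsg.IrrCharacter G, z 0 χ ≠ 0 → x χ = z 0 χ + z 1 χ + z 2 χ := by
      intro χ hχ
      have h := hSep G V hC a ha h1 {μ 0, μ 1, μ 2}
        (fun ν hν => by obtain ⟨i, -, rfl⟩ := hmem ν hν; exact hμ i)
        (fun ν hν n hn => by
          obtain ⟨i, -, rfl⟩ := hmem ν hν
          obtain ⟨j, hj, hjd⟩ := hrel' i n hn
          exact ⟨μ j, hin j hj, hjd⟩)
        (fun ν hν ν' hν' => by
          obtain ⟨i, -, rfl⟩ := hmem ν hν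
          obtain ⟨j, -, rfl⟩ := hmem ν' hν'
          exact ⟨_, mul_mem (inv_mem (pow_mem hr i)) (pow_mem hr j), htrans i j⟩)
        (μ 0) (hin 0 (by norm_num)) χ (by rw [hz]; exact_mod_cast hχ)
      rw [Finset.sum_insert (by simp [hi01, hi02]), Finset.sum_pair hi12, hz, hz, hz, hxx,
        ← add_assoc] at h
      exact_mod_cast h
    have hpar : ∀ χ i, (2 : ℤ) ∣ z i χ - z (i + 1) χ := fun χ i =>
      hPar (μ i) (μ (i + 1)) (hμ i) (hμ (i + 1)) r hr (fun d hd => by
        rw [hμd (i + 1) ⟨d, hd⟩, hstep i]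
        exact (hμd i ⟨r * d * r⁻¹, conj_coreD hV hodd hr hd⟩).symm) χ _ _ (hz i χ) (hz (i + 1) χ)
    refine hAM (Cfsg.IrrCharacter G) ![z 0, z 1, z 2] e _ he (fun χ hχ => ?_) (fun χ j k => ?_)
      (fun j => by fin_cases j <;> exact hnorm _) (fun j k hjk => ?_)
      (fun j => by fin_cases j <;> exact hdeg _) ?_ (by linarith)
    · have := hec χ
      rw [hsep χ hχ] at this
      exact this
    · have d01 := hpar χ 0
      have d12 := hpar χ 1
      simp only [zero_add, show (1 : ℕ) + 1 = 2 from rfl] at d01 d12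
      fin_cases j <;> fin_cases k <;> simp <;> omega
    · have horth : ∀ i j, μ i ≠ μ j → ∑ χ, z i χ * z j χ = 0 := fun i j hij => by
        have h := hO (μ i) (μ j) (hμ i) (hμ j) hij
        rw [finsum_eq_sum_of_fintype] at h
        simp only [hz] at h
        exact_mod_cast h
      fin_cases j <;> fin_cases k <;>
        first
        | exact absurd rfl hjk
        | exact horth 0 1 hi01
        | exact horth 0 2 hi02
        | exact horth 1 0 hi01.symm
        | exact horth 1 2 hi12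
        | exact horth 2 0 hi02.symm
        | exact horth 2 1 hi12.symm
    · rw [hsum 0]
      refine Finset.sum_congr rfl fun χ _ => ?_
      by_cases hχ : z 0 χ = 0
      · simp [hχ]
      · rw [hsep χ hχ]; rfl

end Cfsg.Agent.GW66
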