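import Cfsg.Agent.GW66.CharSep82

/-!
# Separation

`Cfsg.Agent.GW66.sepStmt` is proved in `CharSep82.lean`; this module re-exports it.
-/
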