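import Cfsg.Agent.GW66.Basic
import Cfsg.Agent.Lib.Coprime.Action
import Cfsg.Agent.Lib.Coprime.Abelian
import Cfsg.Agent.Lib.Coprime.Hall
import Cfsg.Agent.Lib.PGroup.Basic

/-!
# The moved part of an invariant `p`-subgroup, and fusion in centralisers of `p`-elements of
`O(C(V))`
-/

set_option autoImplicit false

namespace Cfsg.Agent.GW66

open Subgroup
open scoped commutatorElement

universe u

variable {G : Type u} [Group G] [Finite G] {V : Subgroup G}

omit [Finite G] in
theorem fused_mono {M M' V : Subgroup G} (h : M ≤ M') (hf : Fused M V) : Fused M' V :=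
  let ⟨g, hg, h1, h2⟩ := hf
  ⟨g, h hg, h1, h2⟩

/-- The odd core of a normal subgroup lies in the odd core. -/
theorem coreO_le_of_normalizer {C M : Subgroup G} (hCM : C ≤ M)
    (hn : M ≤ normalizer (C : Set G)) : coreO C ≤ coreO M := by
  intro x hx
  have hn' : M ≤ normalizer (coreO C : Set G) :=
    hn.trans (Coprime.normalizer_le_normalizer_map C (Cfsg.oddCore ↥C))
  have hle : coreO C ≤ M := (coreO_le C).trans hCM
  haveI : ((coreO C).subgroupOf M).Normal :=
    ⟨fun k hk g => mem_subgroupOf.mpr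
      (Coprime.conj_mem_of_mem_normalizer (g := (g : G)) (x := (k : G)) (hn' g.2)
        (mem_subgroupOf.mp hk))⟩
  have hodd : (Nat.card ((coreO C).subgroupOf M)).Coprime 2 := by
    rw [Nat.card_congr (subgroupOfEquivOfLe hle).toEquiv]
    exact Nat.coprime_two_right.mpr (odd_card_coreO C)
  exact ⟨⟨x, hle hx⟩, Thompson.le_pPrimeCore inferInstance hodd (mem_subgroupOf.mpr hx), rfl⟩

theorem klein_coprime (hV : IsKleinFour V) {K : Subgroup G} (h : Odd (Nat.card K)) :
    (Nat.card V).Coprime (Nat.card K) := by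
  rw [hV.card_four, show (4 : ℕ) = 2 ^ 2 from rfl]
  exact Nat.Coprime.pow_left 2 (Nat.coprime_two_left.mpr h)

theorem klein_isSolvable (hV : IsKleinFour V) : Group.IsSolvable V :=
  Group.isSolvable_of_comm fun x y => Subtype.ext (klein_comm hV x.2 y.2)

/-- The generators of `[Y, V]` are inverted by `b`. -/
theorem conj_commutator_eq_inv (hV : IsKleinFour V) {b y : G} (hb : b ∈ V) :
    b * ⁅y, b⁆ * b⁻¹ = ⁅y, b⁆⁻¹ := by
  rw [commutatorElement_def, klein_inv hV hb]
  calc b * (y * b * y⁻¹ * b) * b = b * y * b * y⁻¹ * (b * b) := by group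
    _ = b * y * b * y⁻¹ := by rw [klein_sq hV hb, mul_one]
    _ = b⁻¹ * y * b⁻¹ * y⁻¹ := by rw [klein_inv hV hb]
    _ = (y * b * y⁻¹ * b)⁻¹ := by group

/-- `[Y, V]` is generated by the commutators with `b` if `a` centralises `Y`. -/
theorem commutator_le_of_pair (hV : IsKleinFour V) {Y H : Subgroup G} {a b : G} (h : Pair V a b)
    (hYa : ∀ y ∈ Y, y * a = a * y) (hYn : V ≤ normalizer (Y : Set G))
    (hb : ∀ y ∈ Y, ⁅y, b⁆ ∈ H) : ⁅Y, V⁆ ≤ H := by
  refine commutator_le.mpr fun y hy v hv => ?_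
  have hone : ⁅y, a⁆ = 1 := commutatorElement_eq_one_iff_mul_comm.mpr (hYa y hy)
  rcases klein_cases hV h hv with rfl | rfl | rfl | rfl
  · rw [commutatorElement_one_right]; exact one_mem _
  · rw [hone]; exact one_mem _
  · exact hb y hy
  · have hc : ⁅y, b⁆ ∈ Y :=
      Coprime.commutator_le_of_le_normalizer hYn (commutator_mem_commutator hy h.hb)
    have e : ⁅y, a * b⁆ = ⁅y, b⁆ := by
      calc ⁅y, a * b⁆ = ⁅y, a⁆ * (a * ⁅y, b⁆ * a⁻¹) := by
            simp only [commutatorElement_def]; group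
        _ = ⁅y, b⁆ := by rw [hone, one_mul, ← hYa _ hc, mul_inv_cancel_right]
    rw [e]
    exact hb y hy

/-- The moved part of an invariant `p`-subgroup of `C(a) ∩ M` is cyclic and inverted. -/
theorem negCyclic (hTop : TopStmt.{u}) : NegCyclicStmt.{u} := by
  classical
  intro G _ _ V hctx hdor M a b p hM hVM hfus hpair hp hdvd Y hY hYp hYV
  have hV := hctx.klein
  have hT := hTop G V hctx M hM hVM hfus
  haveI : Fact p.Prime := ⟨hp⟩
  have hYK : Y ≤ coreK a := hY.trans inf_le_left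
  have hYM : Y ≤ M := hY.trans inf_le_right
  have hYa : ∀ y ∈ Y, y * a = a * y := fun y hy =>
    ((mem_coreK_iff hV hctx.sylow hpair.ha hpair.a1).mp (hYK hy)).2
  have hYodd : Odd (Nat.card Y) := (odd_card_coreK a).of_dvd_nat (card_dvd_of_le hYK)
  have hYs : ∀ y ∈ Y, Odd (orderOf y) := fun y hy =>
    hYodd.of_dvd_nat (orderOf_dvd_natCard _ hy)
  set Z := ⁅Y, V⁆ with hZ
  have hZY : Z ≤ Y := Coprime.commutator_le_of_le_normalizer hYV
  have hYp' : IsPGroup p ↥Y := hYp
  -- the part of `Y` in the odd core is centralised by `V`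
  set R₁ := Y ⊓ coreO M with hR₁
  have hVR₁ : V ≤ normalizer (R₁ : Set G) :=
    Coprime.le_normalizer_inf hYV (hVM.trans (le_normalizer_coreO M))
  have hR₁V : V ≤ centralizer (R₁ : Set G) :=
    hdor M hM hVM hfus p hp hdvd R₁ inf_le_right (hYp'.to_le inf_le_left) hVR₁
  have hYR₁ : Y ≤ normalizer (R₁ : Set G) :=
    Coprime.le_normalizer_inf le_normalizer (hYM.trans (le_normalizer_coreO M))
  have hVbot : ⁅V, R₁⁆ = ⊥ := commutator_eq_bot_iff_le_centralizer.mpr hR₁V
  -- hence centralised by `Z`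
  have hZR₁ : Z ≤ centralizer (R₁ : Set G) := by
    rw [← commutator_eq_bot_iff_le_centralizer]
    refine commutator_commutator_eq_bot_of_rotate ?_ ?_
    · rw [hVbot, commutator_bot_left]
    · have h1 : ⁅R₁, Y⁆ ≤ R₁ := Coprime.commutator_le_of_le_normalizer hYR₁
      refine le_bot_iff.mp ((commutator_mono h1 le_rfl).trans ?_)
      rw [commutator_comm, hVbot]
  set R := Z ⊓ coreO M with hR
  have hRR₁ : R ≤ R₁ := inf_le_inf_right _ hZY
  have hRZ : R ≤ Z := inf_le_left
  -- the generators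
  let S : Set G := {c | ∃ y ∈ Y, c = ⁅y, b⁆}
  have hSZ : ∀ c ∈ S, c ∈ Z := by
    rintro c ⟨y, hy, rfl⟩
    exact commutator_mem_commutator hy hpair.hb
  have hSI : ∀ c ∈ S, c ∈ invSet M a b := fun c hc => by
    have hcY := hZY (hSZ c hc)
    obtain ⟨y, hy, rfl⟩ := hc
    exact ⟨hYM hcY, hYs _ hcY, hYa _ hcY, conj_commutator_eq_inv hV hpair.hb⟩
  obtain ⟨x, hxS, hxmax⟩ := (Set.toFinite S).exists_maximalFor
    (fun c => Nat.card ↥(zpowers c ⊔ R)) S ⟨⁅(1 : G), b⁆, 1, one_mem _, rfl⟩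
  have hgen : ∀ c ∈ S, c ∈ zpowers x ⊔ R := by
    intro c hc
    have hp' : ∀ {z}, z ∈ S → ∃ i : ℕ, orderOf z = p ^ i := fun {z} hz => by
      obtain ⟨i, hi⟩ := hYp'.exists_orderOf_eq_pow ⟨z, hZY (hSZ z hz)⟩
      exact ⟨i, by rw [← hi, Subgroup.orderOf_mk]⟩
    rcases hT.chain a b hpair p hp c (hSI c hc) x (hSI x hxS) (hp' hc) (hp' hxS) with
      ⟨n, hn⟩ | ⟨n, hn⟩
    · have hr : c * (x ^ n)⁻¹ ∈ R :=
        Subgroup.mem_inf.mpr ⟨mul_mem (hSZ c hc) (inv_mem (pow_mem (hSZ x hxS) n)), hn⟩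
      have := mul_mem (Subgroup.mem_sup_right (S := zpowers x) hr)
        (Subgroup.mem_sup_left (T := R) (pow_mem (mem_zpowers x) n))
      simpa using this
    · have hr : x * (c ^ n)⁻¹ ∈ R :=
        Subgroup.mem_inf.mpr ⟨mul_mem (hSZ x hxS) (inv_mem (pow_mem (hSZ c hc) n)), hn⟩
      have hxc : zpowers x ⊔ R ≤ zpowers c ⊔ R := by
        refine sup_le (zpowers_le.mpr ?_) le_sup_right
        have := mul_mem (Subgroup.mem_sup_right (S := zpowers c) hr)
          (Subgroup.mem_sup_left (T := R) (pow_mem (mem_zpowers c) n))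
        simpa using this
      have := eq_of_le_of_card_ge hxc (hxmax hc (card_le_of_le hxc))
      exact this.symm ▸ mem_sup_left (mem_zpowers c)
  have hZle : Z ≤ zpowers x ⊔ R :=
    commutator_le_of_pair hV hpair hYa hYV fun y hy => hgen _ ⟨y, hy, rfl⟩
  -- `Z` is abelian
  have hxZ := hSZ x hxS
  have hxc : zpowers x ⊔ R ≤ centralizer ({x} : Set G) := by
    refine sup_le (zpowers_le.mpr (mem_centralizer_singleton_iff.mpr rfl)) fun r hr => ?_
    exact mem_centralizer_singleton_iff.mpr (mem_centralizer_iff.mp (hZR₁ hxZ) r (hRR₁ hr))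
  have hZc : Z ≤ centralizer (Z : Set G) := by
    refine hZle.trans (sup_le (zpowers_le.mpr ?_) fun r hr => ?_)
    · exact mem_centralizer_iff.mpr fun z hz =>
        mem_centralizer_singleton_iff.mp (hxc (hZle hz))
    · exact mem_centralizer_iff.mpr fun z hz =>
        (mem_centralizer_iff.mp (hZR₁ hz) r (hRR₁ hr)).symm
  haveI : IsMulCommutative Z := ⟨⟨fun z w => Subtype.ext
    (mem_centralizer_iff.mp (hZc w.2) z z.2)⟩⟩
  -- the part in the odd core is trivial
  have hRbot : R = ⊥ := by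
    have hcop := klein_coprime hV (hYodd.of_dvd_nat (card_dvd_of_le hZY))
    have h0 := Coprime.commutator_inf_centralizer_eq_bot V Z
      (Coprime.le_normalizer_commutator_right V Y) hcop
    rw [hZ, Coprime.commutator_commutator_eq V Y hYV (klein_coprime hV hYodd)
      (Or.inl (klein_isSolvable hV)), ← hZ] at h0
    refine le_bot_iff.mp (le_trans (le_inf hRZ ?_) h0.le)
    exact hRR₁.trans (le_centralizer_iff.mp hR₁V)
  have hZx : Z = zpowers x := by
    refine le_antisymm ?_ (zpowers_le.mpr hxZ)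
    rwa [hRbot, sup_bot_eq] at hZle
  refine ⟨hZx ▸ Subgroup.isCyclic_zpowers x, hRbot, fun z hz => ?_⟩
  have hzY := hZY hz
  refine ⟨hYM hzY, hYs _ hzY, hYa _ hzY, ?_⟩
  obtain ⟨i, rfl⟩ := mem_zpowers_iff.mp (hZx ▸ hz : z ∈ zpowers x)
  rw [← conj_zpow, (hSI x hxS).2.2.2, inv_zpow]

/-- A fusing element may be chosen to normalise a given Sylow subgroup of `O(C(V))`. -/
theorem exists_fusing_normalizer (hctx : Ctx V) {p : ℕ} [Fact p.Prime]
    (P : Sylow p ↥(coreD V)) :
    ∃ r, r ∈ normalizer (V : Set G) ∧ r ∉ centralizer (V : Set G) ∧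
      r ∈ normalizer (((P : Subgroup ↥(coreD V)).map (coreD V).subtype : Subgroup G) : Set G) := by
  obtain ⟨r, hr, hrc⟩ := hctx.exists_fusing
  set Q₀ := (P : Subgroup ↥(coreD V)).map (coreD V).subtype with hQ₀
  have hrD : r ∈ normalizer ((coreD V) : Set G) :=
    Coprime.normalizer_le_normalizer_map _ (Cfsg.oddCore ↥(centralizer (V : Set G)))
      (Coprime.le_normalizer_centralizer (le_refl (normalizer (V : Set G))) hr)
  set f : G →* G := ((MulAut.conj r : G ≃* G) : G →* G) with hf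
  have hle : Q₀.map f ≤ (coreD V) := by
    rintro _ ⟨y, hy, rfl⟩
    exact Coprime.conj_mem_of_mem_normalizer hrD ((map_subtype_le _) hy)
  have hcard : Nat.card ((Q₀.map f).subgroupOf (coreD V)) = p ^ (Nat.card ↥(coreD V)).factorization p := by
    rw [Nat.card_congr (subgroupOfEquivOfLe hle).toEquiv,
      card_map_of_injective (MulAut.conj r).injective, card_map_of_injective (coreD V).subtype_injective]
    exact P.card_eq_multiplicity
  obtain ⟨d, hd⟩ := MulAction.exists_smul_eq ↥(coreD V) P (Sylow.ofCard _ hcard)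
  have hd' : Q₀.map ((MulAut.conj (d : G) : G ≃* G) : G →* G) = Q₀.map f := by
    have h := congrArg (fun T : Sylow p ↥(coreD V) => (T : Subgroup ↥(coreD V)).map (coreD V).subtype) hd
    simp only [Sylow.coe_ofCard, map_subgroupOf_eq_of_le hle] at h
    rw [← h, hQ₀, map_map]
    show _ = ((P : Subgroup ↥(coreD V)).map
      ((MulAut.conj d : ↥(coreD V) ≃* ↥(coreD V)) : ↥(coreD V) →* ↥(coreD V))).map
        (coreD V).subtype
    rw [map_map]
    refine congrArg (fun e : ↥(coreD V) →* G => (P : Subgroup ↥(coreD V)).map e)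
      (MonoidHom.ext fun z => ?_)
    simp
  have hdV : (d : G) ∈ centralizer (V : Set G) := le_centralizer_coreD V d.2
  refine ⟨(d : G)⁻¹ * r, mul_mem (inv_mem (centralizer_le_normalizer _ hdV)) hr,
    fun h => hrc ?_, ?_⟩
  · have := mul_mem hdV h
    rwa [mul_inv_cancel_left] at this
  · rw [mem_normalizer_iff_map_conj_eq]
    calc Q₀.map ((MulAut.conj ((d : G)⁻¹ * r) : G ≃* G) : G →* G)
        = (Q₀.map f).map ((MulAut.conj (d : G)⁻¹ : G ≃* G) : G →* G) := by
          rw [map_map (g := ((MulAut.conj (d : G)⁻¹ : G ≃* G) : G →* G))]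
          refine congrArg (fun e : G →* G => Q₀.map e) (MonoidHom.ext fun z => ?_)
          simp [hf, mul_assoc]
      _ = Q₀ := by
          rw [← hd', map_map]
          conv_rhs => rw [← map_id Q₀]
          refine congrArg (fun e : G →* G => Q₀.map e) (MonoidHom.ext fun z => ?_)
          simp [mul_assoc]

/-- The centraliser of a Sylow `p`-subgroup of `O(C(V))` is fused if `p` divides `|O(C(a)):O(C(V))|`. -/
theorem fused_centralizer_sylow (hctx : Ctx V) (hdor : Dormant V) {a : G} (ha : a ∈ V)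
    (ha1 : a ≠ 1) {p : ℕ} [hp : Fact p.Prime] (hidx : p ∣ (coreD V).relIndex (coreK a))
    (P : Sylow p ↥(coreD V)) (hP : (P : Subgroup ↥(coreD V)) ≠ ⊥) :
    Fused (centralizer (((P : Subgroup ↥(coreD V)).map (coreD V).subtype : Subgroup G) : Set G))
      V := by
  have hV := hctx.klein
  set K := coreK a with hK
  set Q₀ := (P : Subgroup ↥(coreD V)).map (coreD V).subtype with hQ₀
  have hQ₀D : Q₀ ≤ (coreD V) := map_subtype_le _
  have hDK : (coreD V) ≤ K := coreD_le_coreK hV hctx.sylow ha ha1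
  have hQ₀p : IsPGroup p ↥Q₀ := P.isPGroup'.map _
  have hVQ₀ : V ≤ centralizer (Q₀ : Set G) :=
    le_centralizer_iff.mp (hQ₀D.trans (le_centralizer_coreD V))
  have hVQ₀n : V ≤ normalizer (Q₀ : Set G) := hVQ₀.trans (centralizer_le_normalizer _)
  have hVK : V ≤ normalizer (K : Set G) := le_normalizer_coreK hV ha
  obtain ⟨Q, hQQ, hQV⟩ := Coprime.exists_invariant_sylow_ge V K hVK
    (klein_coprime hV (odd_card_coreK a)) (Or.inl (klein_isSolvable hV)) p Q₀
    (hQ₀D.trans hDK) hQ₀p hVQ₀n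
  set Q' := (Q : Subgroup ↥K).map K.subtype with hQ'
  have hQ'K : Q' ≤ K := map_subtype_le _
  have hQ'p : IsPGroup p ↥Q' := Q.isPGroup'.map _
  set N := Q' ⊓ normalizer (Q₀ : Set G) with hN
  have hNp : IsPGroup p ↥N := hQ'p.to_le inf_le_left
  have hVN : V ≤ normalizer (N : Set G) :=
    Coprime.le_normalizer_inf hQV (Coprime.le_normalizer_normalizer hVQ₀n)
  -- `N` is not centralised by `V`
  have hNV : ¬ N ≤ centralizer (V : Set G) := by
    intro hle
    have hND : N ≤ (coreD V) := fun z hz => (mem_coreD_iff hV hctx.sylow).mpr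
      ⟨(odd_card_coreK a).of_dvd_nat (orderOf_dvd_natCard _ (hQ'K hz.1)), hle hz⟩
    have hNeq : N = Q₀ := by
      refine le_antisymm (fun z hz => ?_) (le_inf hQQ le_normalizer)
      have h1 : (P : Subgroup ↥(coreD V)) ≤ N.subgroupOf (coreD V) := fun w hw =>
        mem_subgroupOf.mpr ⟨hQQ ⟨w, hw, rfl⟩, le_normalizer ⟨w, hw, rfl⟩⟩
      have h2 := P.is_maximal' (hNp.of_equiv (subgroupOfEquivOfLe hND).symm) h1
      refine ⟨⟨z, hND hz⟩, ?_, rfl⟩
      rw [← h2]
      exact mem_subgroupOf.mpr hz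
    have hQeq : Q' = Q₀ := by
      by_contra hne
      have hne' : Q₀.subgroupOf Q' ≠ ⊤ := fun e =>
        hne (le_antisymm (subgroupOf_eq_top.mp e) hQQ)
      haveI := hQ'p.isNilpotent
      obtain ⟨z, hzn, hzQ⟩ := SetLike.exists_of_lt
        (Group.normalizerCondition_of_isNilpotent _ (lt_top_iff_ne_top.mpr hne'))
      refine hzQ (mem_subgroupOf.mpr (hNeq ▸ ⟨z.2, ?_⟩ : (z : G) ∈ Q₀))
      refine Coprime.mem_normalizer_of_le_iff (fun w hw => ?_) (fun w hw => ?_)
      · exact Coprime.conj_mem_of_mem_normalizer hzn (x := (⟨w, hQQ hw⟩ : ↥Q')) hw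
      · exact Coprime.conj_mem_of_mem_normalizer' hzn (x := (⟨w, hQQ hw⟩ : ↥Q')) hw
    have hQi : ¬ p ∣ Q'.relIndex K := by
      rw [hQ', relIndex, ← comap_subtype, comap_map_eq_self_of_injective K.subtype_injective]
      exact Q.not_dvd_index
    exact hQi (hidx.trans (relIndex_dvd_of_le_left K (hQeq ▸ hQ₀D)))
  set T := ⁅N, V⁆ with hT
  have hTN : T ≤ N := Coprime.commutator_le_of_le_normalizer hVN
  have hTQ : T ≤ centralizer (Q₀ : Set G) := by
    have hb : ⁅V, Q₀⁆ = ⊥ := commutator_eq_bot_iff_le_centralizer.mpr hVQ₀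
    rw [← commutator_eq_bot_iff_le_centralizer]
    refine commutator_commutator_eq_bot_of_rotate ?_ ?_
    · rw [hb, commutator_bot_left]
    · have h1 : ⁅Q₀, N⁆ ≤ Q₀ := Coprime.commutator_le_of_le_normalizer inf_le_right
      refine le_bot_iff.mp ((commutator_mono h1 le_rfl).trans ?_)
      rw [commutator_comm, hb]
  by_contra hun
  obtain ⟨r, hr, hrc, hrQ⟩ := exists_fusing_normalizer hctx P
  set M := normalizer (Q₀ : Set G) with hM
  have hQ₀1 : Q₀ ≠ ⊥ := fun e => hP (by rwa [hQ₀, map_eq_bot_iff_of_injective _ (coreD V).subtype_injective] at e)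
  have hQ₀top : Q₀ ≠ ⊤ := fun e => hctx.ne_top <| by
    have hV' : V ≤ (coreD V) := e.symm.le.trans hQ₀D |>.trans' le_top
    have h2 : 4 ∣ Nat.card (coreD V) := hV.card_four ▸ card_dvd_of_le hV'
    exact absurd ((odd_card_coreD V).of_dvd_nat h2) (by decide)
  have hdvd : p ∣ Nat.card ↥(coreD V ⊓ M) :=
    (PGroup.dvd_card_of_ne_bot (G := ↥Q₀) hQ₀p (H := (⊤ : Subgroup ↥Q₀))
      (fun e => hQ₀1 (by
        rw [← card_eq_one, ← card_top (G := ↥Q₀), e, card_bot]))).trans
      (by rw [card_top]; exact card_dvd_of_le (le_inf hQ₀D le_normalizer))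
  have hTO : T ≤ coreO (centralizer (Q₀ : Set G)) := fun z hz =>
    unfused_odd_mem hV hctx.sylow hVQ₀ hun (hTQ hz)
      ((odd_card_coreK a).of_dvd_nat (orderOf_dvd_natCard _ (hQ'K (hTN hz).1)))
  have hTV : V ≤ centralizer (T : Set G) :=
    hdor M (hctx.normalizer_ne_top hQ₀1 hQ₀top) hVQ₀n ⟨r, hrQ, hr, hrc⟩ p hp.out hdvd T
      (hTO.trans (coreO_le_of_normalizer (centralizer_le_normalizer _)
        (Coprime.le_normalizer_centralizer le_rfl)))
      (hNp.to_le hTN) (Coprime.le_normalizer_commutator_right V N)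
  have hTT : ⁅T, V⁆ = T := Coprime.commutator_commutator_eq V N hVN
    (klein_coprime hV ((odd_card_coreK a).of_dvd_nat
      (card_dvd_of_le (inf_le_left.trans hQ'K)))) (Or.inl (klein_isSolvable hV))
  have hTbot : T = ⊥ := by
    rw [← hTT, commutator_eq_bot_iff_le_centralizer]
    exact le_centralizer_iff.mp hTV
  exact hNV (commutator_eq_bot_iff_le_centralizer.mp hTbot)

/-- The centraliser of a `p`-element of `O(C(V))` is fused. -/
theorem fusedCent : FusedCentStmt.{u} := by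
  intro G _ _ V hctx hdor a p hp ha ha1 hidx y hy hy1 ⟨k, hk⟩
  haveI : Fact p.Prime := ⟨hp⟩
  have hz : IsPGroup p ↥(zpowers (⟨y, hy⟩ : ↥(coreD V))) := IsPGroup.of_card (n := k) (by
    rw [Nat.card_zpowers, Subgroup.orderOf_mk, hk])
  obtain ⟨P, hP⟩ := hz.exists_le_sylow
  have hyP : (⟨y, hy⟩ : ↥(coreD V)) ∈ (P : Subgroup ↥(coreD V)) := hP (mem_zpowers _)
  refine fused_mono (centralizer_le ?_) (fused_centralizer_sylow hctx hdor ha ha1 hidx P
    fun e => hy1 (by
      rw [e, mem_bot] at hyP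
      exact congrArg (Subtype.val (α := G)) hyP))
  rintro x rfl
  exact ⟨_, hyP, rfl⟩

end Cfsg.Agent.GW66
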