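import Cfsg.Agent.GW66.Defs
import Cfsg.Agent.ZStar.SmallTwo
import Cfsg.Agent.PF14.Compose
import Cfsg.Agent.S0201
import Cfsg.Agent.S2117
import Cfsg.Agent.Lib.LinearGroup.Simple
import Cfsg.Agent.Lib.LinearGroup.Card
import Cfsg.Agent.Lib.Schur.Perfect
import Cfsg.Agent.Lib.Dickson.Solvable
import Cfsg.Agent.BenderCons37.Basic
import Cfsg.Agent.InvChar.ZStarApps

/-!
# Quaternion Sylow 2-subgroups with cyclic intersections

The consumer of `KleinStmt` for nonsolvable groups whose Sylow 2-subgroups are generalised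
quaternion and meet in cyclic groups (helper71).
-/

set_option autoImplicit false
set_option linter.style.haveILetI false

namespace Cfsg.Agent.GW66.ConsQuat71

open Subgroup

universe u

variable {G : Type u} [Group G] [Finite G]

theorem feit {X : Type u} [Group X] [Finite X] (h : Odd (Nat.card X)) : Group.IsSolvable X :=
  PF14.feitThompson X h

/-- A group with a normal 2-complement is solvable. -/
theorem solvable_of_complement (h : Cfsg.HasNormalPComplement 2 G) : Group.IsSolvable G := by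
  haveI : Fact (Nat.Prime 2) := ⟨Nat.prime_two⟩
  obtain ⟨P, N, hN, hc⟩ := h
  have hodd : Odd (Nat.card N) := by
    rw [← hc.index_eq_card]
    exact Nat.odd_iff.2 (Nat.two_dvd_ne_zero.1 P.not_dvd_index)
  haveI : Group.IsSolvable N := feit hodd
  haveI hp : IsPGroup 2 (G ⧸ N) := by
    obtain ⟨k, hk⟩ := IsPGroup.iff_card.1 P.2
    exact IsPGroup.of_card (n := k) (by rw [← Subgroup.index_eq_card, hc.symm.index_eq_card, hk])
  haveI := hp.isNilpotent
  haveI : Group.IsSolvable (G ⧸ N) := inferInstance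
  exact Group.isSolvable_of_ker_le_range N.subtype (QuotientGroup.mk' N)
    (by rw [QuotientGroup.ker_mk', Subgroup.range_subtype])

/-- A set `⟨a⟩ ∪ b⟨a⟩` with `a⁴ = 1` has at most eight elements. -/
theorem card_le_eight {Q : Subgroup G} {a b : G} (ha : a ∈ Q) (hb : b ∈ Q) (h4 : a ^ 4 = 1)
    (h : ∀ x ∈ Q, ∃ i : ℤ, x = a ^ i ∨ x = b * a ^ i) : Nat.card Q ≤ 8 := by
  let f : Fin 4 × Bool → Q := fun p =>
    ⟨(if p.2 then b else 1) * a ^ (p.1 : ℕ),
      mul_mem (by split <;> [exact hb; exact one_mem _]) (pow_mem ha _)⟩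
  have hf : Function.Surjective f := by
    rintro ⟨x, hx⟩
    obtain ⟨i, hi⟩ := h x hx
    have hmod : a ^ i = a ^ ((i % 4).toNat : ℕ) := by
      rw [← zpow_natCast, Int.toNat_of_nonneg (Int.emod_nonneg _ (by norm_num))]
      exact zpow_eq_zpow_emod i (by exact_mod_cast h4)
    have hlt : (i % 4).toNat < 4 := by omega
    rcases hi with hi | hi
    · exact ⟨(⟨_, hlt⟩, false), Subtype.ext (by simp [f, hi, hmod])⟩
    · exact ⟨(⟨_, hlt⟩, true), Subtype.ext (by simp [f, hi, hmod])⟩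
  refine (Nat.card_le_card_of_surjective f hf).trans (le_of_eq ?_)
  simp

theorem pow_four_of_rotation {a b y : G} (hr : ZStar.Q8Rotation a b y) : a ^ 4 = 1 := by
  rw [show 4 = 2 + 2 from rfl, pow_add, pow_two]
  exact hr.pow_four

/-- The Sylow 2-subgroups are quaternion of order eight. -/
theorem sylow_q8 (hns : ¬ Group.IsSolvable G)
    (hQ : ∀ S : Sylow 2 G, ∃ n : ℕ,
      Nonempty (↥(S : Subgroup G) ≃* QuaternionGroup (2 ^ (n + 1))))
    (hC : ∀ S T : Sylow 2 G, S ≠ T → IsCyclic ↥((S : Subgroup G) ⊓ (T : Subgroup G)))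
    (S : Sylow 2 G) : Nonempty (↥(S : Subgroup G) ≃* QuaternionGroup 2) := by
  haveI : Fact (Nat.Prime 2) := ⟨Nat.prime_two⟩
  obtain ⟨n, ⟨e⟩⟩ := hQ S
  rcases Nat.eq_zero_or_pos n with rfl | hn
  · exact ⟨e⟩
  exfalso
  haveI : NeZero (2 ^ (n + 1)) := ⟨by positivity⟩
  obtain ⟨Q, a, b, y, hQS, hr, haQ, hy, hgen⟩ :=
    ZStar.exists_rotation_of_no_complement S e fun h => hns (solvable_of_complement h)
  have hbQ : b ∈ Q := hr.conj_a ▸ (mem_normalizer_iff.mp hy a).mp haQ
  have hab : a * b ≠ b * a := fun h => by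
    have h2 := hr.inverts
    rw [← h, mul_inv_cancel_right, eq_inv_iff_mul_eq_one] at h2
    exact hr.sq_ne h2
  have h4 := pow_four_of_rotation hr
  have hQp : IsPGroup 2 Q := S.2.to_le hQS
  -- `Q` has order eight
  have ha4 : orderOf a = 4 := orderOf_eq_prime_pow (p := 2) (n := 1)
    (by rw [pow_one, pow_two]; exact hr.sq_ne) h4
  obtain ⟨m, hm⟩ := IsPGroup.iff_card.1 hQp
  have hQ8 : Nat.card Q = 2 ^ 3 := by
    have hle := card_le_eight haQ hbQ h4 hgen
    have hza : zpowers a ≤ Q := zpowers_le.2 haQ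
    have hdvd := Subgroup.card_dvd_of_le hza
    rw [Nat.card_zpowers, ha4] at hdvd
    have hne : Nat.card Q ≠ 4 := fun h => by
      have he : zpowers a = Q :=
        Subgroup.eq_of_le_of_card_ge hza (by rw [Nat.card_zpowers, ha4, h])
      obtain ⟨i, hi⟩ := mem_zpowers_iff.1 (he.symm ▸ hbQ : b ∈ zpowers a)
      exact hab (by rw [← hi]; exact (Commute.self_zpow a i).eq)
    have : 0 < Nat.card Q := Nat.card_pos
    rw [hm] at hle hdvd hne this ⊢
    have hm3 : m ≤ 3 := (Nat.pow_le_pow_iff_right (by norm_num)).1 hle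
    interval_cases m <;> simp_all
  -- the normalizer has 2-subgroups of order sixteen
  set N : Subgroup G := normalizer (Q : Set G) with hN
  have hcardS : Nat.card ↥(S : Subgroup G) = 4 * 2 ^ (n + 1) := by
    rw [Nat.card_congr e.toEquiv, Nat.card_eq_fintype_card, QuaternionGroup.card]
  have hN16 : 2 ^ (3 + 1) ∣ Nat.card N := Sylow.prime_pow_dvd_card_normalizer
    (dvd_trans (by
      rw [hcardS, show 4 * 2 ^ (n + 1) = 2 ^ (n + 3) by ring]
      exact pow_dvd_pow 2 (by omega)) (Subgroup.card_subgroup_dvd_card (S : Subgroup G))) hQ8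
  obtain ⟨P⟩ := (Sylow.nonempty : Nonempty (Sylow 2 N))
  have hP16 : 16 ≤ Nat.card P :=
    Nat.le_of_dvd Nat.card_pos (P.pow_dvd_card_of_pow_dvd_card hN16)
  haveI hQn : (Q.subgroupOf N).Normal := normal_in_normalizer
  have hQle : ∀ R : Sylow 2 N, Q ≤ (R : Subgroup N).map N.subtype := fun R x hx => by
    have h1 : IsPGroup 2 ↥(Q.subgroupOf N ⊔ (R : Subgroup N)) :=
      IsPGroup.to_sup_of_normal_left (hQp.comap_subtype) R.2
    have h2 := R.3 h1 le_sup_right
    exact ⟨⟨x, le_normalizer hx⟩, h2 ▸ mem_sup_left hx, rfl⟩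
  set yN : N := ⟨y, hy⟩
  obtain ⟨S₁, hS₁⟩ := (P.2.map N.subtype).exists_le_sylow
  by_cases hyP : yN • P = P
  · obtain ⟨n₁, ⟨e₁⟩⟩ := hQ S₁
    haveI : NeZero (2 ^ (n₁ + 1)) := ⟨by positivity⟩
    obtain ⟨a₀, t, hq⟩ := ZStar.quatSylow_of_equiv e₁
    have hyn : y ∈ normalizer (((P : Subgroup N).map N.subtype : Subgroup G) : Set G) :=
      le_normalizer_map N.subtype ⟨yN, Sylow.smul_eq_iff_mem_normalizer.1 hyP, rfl⟩
    have hyc : y ∉ centralizer (((P : Subgroup N).map N.subtype : Subgroup G) : Set G) := fun h => by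
      have h1 : a * y = y * a := mem_centralizer_iff.1 h a (hQle P haQ)
      have h2 := hr.conj_a
      rw [← h1, mul_inv_cancel_right] at h2
      exact hab (by rw [← h2])
    obtain ⟨a', b', y', hr', ha', hy', hgen'⟩ := hq.exists_rotation S₁.2 hS₁ hyn hr.odd hyc
    have hb' : b' ∈ (P : Subgroup N).map N.subtype :=
      hr'.conj_a ▸ (mem_normalizer_iff.mp hy' a').mp ha'
    have h8 := card_le_eight ha' hb' (pow_four_of_rotation hr') hgen'
    rw [Subgroup.card_map_of_injective N.subtype_injective] at h8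
    omega
  · obtain ⟨S₂, hS₂⟩ := ((yN • P).2.map N.subtype).exists_le_sylow
    have hne : S₁ ≠ S₂ := fun h => by
      subst h
      have hp : IsPGroup 2 ↥((S₁ : Subgroup G).comap N.subtype) := S₁.2.comap_subtype
      have e1 := P.3 hp (map_le_iff_le_comap.1 hS₁)
      have e2 := (yN • P).3 hp (map_le_iff_le_comap.1 hS₂)
      exact hyP (Sylow.ext (e2.symm.trans e1))
    haveI := hC S₁ S₂ hne
    obtain ⟨g, hg⟩ := IsCyclic.exists_generator (α := ↥((S₁ : Subgroup G) ⊓ (S₂ : Subgroup G)))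
    obtain ⟨i, hi⟩ := mem_zpowers_iff.1 (hg ⟨a, hS₁ (hQle _ haQ), hS₂ (hQle _ haQ)⟩)
    obtain ⟨j, hj⟩ := mem_zpowers_iff.1 (hg ⟨b, hS₁ (hQle _ hbQ), hS₂ (hQle _ hbQ)⟩)
    have h1 := (Commute.zpow_zpow_self g i j).eq
    rw [hi, hj] at h1
    exact hab (congrArg Subtype.val h1)

theorem q8_sq : ∀ u : QuaternionGroup 2, u * u = 1 ∨ u * u = QuaternionGroup.a 2 := by decide

theorem q8_involution :
    ∀ u : QuaternionGroup 2, u * u = 1 → u = 1 ∨ u = QuaternionGroup.a 2 := by decide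

/-- The Sylow 2-subgroups modulo the odd core. -/
theorem sylow_q8_bar (h : ∀ S : Sylow 2 G, Nonempty (↥(S : Subgroup G) ≃* QuaternionGroup 2))
    (O : Subgroup G) [O.Normal] (hO : Odd (Nat.card O)) (T : Sylow 2 (G ⧸ O)) :
    Nonempty (↥(T : Subgroup (G ⧸ O)) ≃* QuaternionGroup 2) := by
  haveI : Fact (Nat.Prime 2) := ⟨Nat.prime_two⟩
  obtain ⟨S, rfl⟩ := Sylow.mapSurjective_surjective (QuotientGroup.mk'_surjective O) 2 T
  obtain ⟨e⟩ := h S
  let f : ↥(S : Subgroup G) →* G ⧸ O := (QuotientGroup.mk' O).comp (S : Subgroup G).subtype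
  have hf : Function.Injective f := by
    rw [injective_iff_map_eq_one]
    intro x hx
    have hxO : (x : G) ∈ O := (QuotientGroup.eq_one_iff _).1 hx
    obtain ⟨k, hk⟩ := S.2 x
    have hcop : (2 ^ k).Coprime (Nat.card O) := (Nat.coprime_two_left.2 hO).pow_left k
    refine orderOf_eq_one_iff.1 (Nat.eq_one_of_dvd_coprimes hcop (orderOf_dvd_of_pow_eq_one hk) ?_)
    rw [← Subgroup.orderOf_coe]
    exact Subgroup.orderOf_dvd_natCard _ hxO
  have hr : f.range = ((S.mapSurjective (QuotientGroup.mk'_surjective O)) : Subgroup (G ⧸ O)) := by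
    rw [MonoidHom.range_comp, Subgroup.range_subtype, Sylow.coe_mapSurjective]
  exact ⟨((MulEquiv.subgroupCongr hr.symm).trans (MonoidHom.ofInjective hf).symm).trans e⟩

theorem exists_sq_ne_one {F : Type} [Field F] [Fintype F] (h : 3 < Fintype.card F) :
    ∃ a : F, a ≠ 0 ∧ a ^ 2 ≠ 1 := by
  classical
  by_contra hc
  have hsub : (Finset.univ : Finset F) ⊆ {0, 1, -1} := fun x _ => by
    by_cases hx : x = 0
    · simp [hx]
    · have h2 : x ^ 2 = 1 := by
        by_contra h2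
        exact hc ⟨x, hx, h2⟩
      rcases sq_eq_one_iff.1 h2 with h1 | h1 <;> simp [h1]
  have := (Finset.card_le_card hsub).trans Finset.card_le_three
  rw [Finset.card_univ] at this
  omega

/-- The quotient by a central 2-subgroup keeps the odd core trivial. Copied from `CISylow69.Local` to keep the imports small. -/
theorem oddCore_quotient_central (A : Subgroup G) [A.Normal] (hA : IsPGroup 2 A)
    (hc : A ≤ Subgroup.center G) (hO : Cfsg.oddCore G = ⊥) : Cfsg.oddCore (G ⧸ A) = ⊥ := by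
  set q := QuotientGroup.mk' A
  haveI : Fact (Nat.Prime 2) := ⟨Nat.prime_two⟩
  obtain ⟨k, hk⟩ := hA.exists_card_eq
  have hodd : Odd (Nat.card (Cfsg.oddCore (G ⧸ A))) := InvChar.odd_oddCore
  haveI : (Cfsg.oddCore (G ⧸ A)).Normal := Thompson.sSup_normal fun N hN => hN.1
  set N := (Cfsg.oddCore (G ⧸ A)).comap q with hN
  have hAN : A ≤ N := fun a ha => by
    show q a ∈ Cfsg.oddCore (G ⧸ A)
    rw [show q a = 1 from (QuotientGroup.eq_one_iff a).2 ha]; exact one_mem _
  have hidx : (A.subgroupOf N).index = Nat.card (Cfsg.oddCore (G ⧸ A)) := by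
    have h1 := Thompson.card_comap_quotient A (Cfsg.oddCore (G ⧸ A))
    have h2 := Subgroup.card_mul_index (A.subgroupOf N)
    rw [Nat.card_congr (Subgroup.subgroupOfEquivOfLe hAN).toEquiv] at h2
    exact Nat.eq_of_mul_eq_mul_left Nat.card_pos (h2.trans (h1.trans (mul_comm _ _)))
  obtain ⟨W, hW⟩ := Subgroup.exists_right_complement'_of_coprime (N := A.subgroupOf N) (by
    rw [hidx, Nat.card_congr (Subgroup.subgroupOfEquivOfLe hAN).toEquiv, hk]
    exact (Nat.coprime_two_left.2 hodd).pow_left k)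
  have hWcard : Nat.card W = Nat.card (Cfsg.oddCore (G ⧸ A)) := hidx ▸ hW.symm.index_eq_card.symm
  -- the odd order elements of `N`
  have hmem : ∀ x : N, Odd (orderOf (x : G)) → x ∈ W := by
    intro x hx
    obtain ⟨⟨⟨a, ha⟩, ⟨w, hw⟩⟩, rfl⟩ := hW.2 x
    have hcm : Commute a w := Subtype.ext ((Subgroup.mem_center_iff.1 (hc ha) (w : G)).symm)
    have haa : a ^ Nat.card (A.subgroupOf N) = 1 :=
      congrArg Subtype.val (pow_card_eq_one' (x := (⟨a, ha⟩ : A.subgroupOf N)))
    rw [Subgroup.orderOf_coe] at hx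
    have h1 : (a * w) ^ Nat.card (A.subgroupOf N) ∈ W := by
      rw [hcm.mul_pow, haa, one_mul]
      exact W.pow_mem hw _
    have hcop : (orderOf (a * w)).Coprime (Nat.card (A.subgroupOf N)) := by
      rw [Nat.card_congr (Subgroup.subgroupOfEquivOfLe hAN).toEquiv, hk]
      exact (Nat.coprime_two_right.2 hx).pow_right k
    obtain ⟨m, hm⟩ := exists_pow_eq_self_of_coprime hcop.symm
    show a * w ∈ W
    rw [← hm]
    exact W.pow_mem h1 m
  have hWn : (W.map N.subtype).Normal := by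
    refine ⟨?_⟩
    rintro _ ⟨w, hw, rfl⟩ g
    have hg : g * (w : G) * g⁻¹ ∈ N := (inferInstance : N.Normal).conj_mem _ w.2 g
    refine ⟨⟨_, hg⟩, hmem _ ?_, rfl⟩
    show Odd (orderOf (g * (w : G) * g⁻¹))
    rw [TwoFusionB.orderOf_conj_eq, Subgroup.orderOf_coe]
    exact (hWcard ▸ hodd).of_dvd_nat (W.orderOf_dvd_natCard hw)
  have hbot : Nat.card (W.map N.subtype) = 1 := by
    rw [Subgroup.card_eq_one, eq_bot_iff, ← hO]
    refine Thompson.le_pPrimeCore hWn (Nat.coprime_two_right.2 ?_)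
    rwa [Subgroup.card_map_of_injective N.subtype_injective, hWcard]
  rw [Subgroup.card_map_of_injective N.subtype_injective, hWcard, Subgroup.card_eq_one] at hbot
  exact hbot

/-- Nonsolvable groups with quaternion Sylow 2-subgroups meeting in cyclic groups. -/
theorem quatSection (hK : KleinStmt.{u}) (hns : ¬ Group.IsSolvable G)
    (hQ : ∀ S : Sylow 2 G, ∃ n : ℕ,
      Nonempty (↥(S : Subgroup G) ≃* QuaternionGroup (2 ^ (n + 1))))
    (hC : ∀ S T : Sylow 2 G, S ≠ T → IsCyclic ↥((S : Subgroup G) ⊓ (T : Subgroup G))) :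
    (∀ S : Sylow 2 G, Nonempty (↥(S : Subgroup G) ≃* QuaternionGroup 2)) ∧
    ∃ (G₁ : Subgroup G) (_ : G₁.Normal) (_ : ((Cfsg.oddCore G).subgroupOf G₁).Normal),
      Odd G₁.index ∧ Cfsg.oddCore G ≤ G₁ ∧
      ∃ (F : Type) (_ : Field F) (_ : Fintype F),
        (Fintype.card F % 8 = 3 ∨ Fintype.card F % 8 = 5) ∧ 3 < Fintype.card F ∧
        Nonempty (↥G₁ ⧸ (Cfsg.oddCore G).subgroupOf G₁ ≃*
          Matrix.SpecialLinearGroup (Fin 2) F) := by
  haveI : Fact (Nat.Prime 2) := ⟨Nat.prime_two⟩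
  have hq8 := sylow_q8 hns hQ hC
  refine ⟨hq8, ?_⟩
  set O := Cfsg.oddCore G with hOdef
  haveI hOn : O.Normal := Thompson.instPPrimeCoreNormal
  have hOodd : Odd (Nat.card O) := InvChar.odd_oddCore
  set q : G →* G ⧸ O := QuotientGroup.mk' O with hq
  have hbar : Cfsg.oddCore (G ⧸ O) = ⊥ := BenderCons37.oddCore_quotient
  have hT := sylow_q8_bar hq8 O hOodd
  obtain ⟨T⟩ := (Sylow.nonempty : Nonempty (Sylow 2 (G ⧸ O)))
  obtain ⟨eT⟩ := hT T
  set Z := Subgroup.center (G ⧸ O) with hZdef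
  have hZ2 : Nat.card Z = 2 := S0201.result T 0 eT fun N hN hodd =>
    le_bot_iff.1 (hbar ▸ InvChar.le_oddCore hN hodd)
  have hZp : IsPGroup 2 Z := IsPGroup.of_card (n := 1) (by simpa using hZ2)
  have hZT : ∀ R : Sylow 2 (G ⧸ O), Z ≤ (R : Subgroup (G ⧸ O)) := fun R =>
    le_sup_left.trans (R.3 (IsPGroup.to_sup_of_normal_left hZp R.2) le_sup_right).le
  -- the involution
  obtain ⟨⟨z, hz⟩, hzo⟩ := exists_prime_orderOf_dvd_card' (G := Z) 2 (hZ2 ▸ dvd_rfl)
  rw [Subgroup.orderOf_mk] at hzo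
  have hinv : ∀ x : G ⧸ O, orderOf x = 2 → x ∈ Z := by
    intro x hx
    obtain ⟨R, hR⟩ := (IsPGroup.of_card (G := zpowers x) (p := 2) (n := 1)
      (by rw [Nat.card_zpowers, hx, pow_one])).exists_le_sylow
    obtain ⟨eR⟩ := hT R
    have key : ∀ v : ↥(R : Subgroup (G ⧸ O)), orderOf v = 2 → eR v = QuaternionGroup.a 2 :=
      fun v hv => by
        have h1 : eR v * eR v = 1 := by
          rw [← map_mul, ← pow_two, orderOf_dvd_iff_pow_eq_one.1 hv.dvd, map_one]
        refine (q8_involution _ h1).resolve_left fun h => ?_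
        rw [map_eq_one_iff _ eR.injective] at h
        rw [h, orderOf_one] at hv
        norm_num at hv
    have := eR.injective ((key ⟨x, hR (mem_zpowers x)⟩ (by rw [Subgroup.orderOf_mk, hx])).trans
      (key ⟨z, hZT R hz⟩ (by rw [Subgroup.orderOf_mk, hzo])).symm)
    rw [show x = z from congrArg Subtype.val this]
    exact hz
  -- the quotient by the centre
  set π : G ⧸ O →* (G ⧸ O) ⧸ Z := QuotientGroup.mk' Z with hπ
  set V : Sylow 2 ((G ⧸ O) ⧸ Z) := T.mapSurjective (QuotientGroup.mk'_surjective Z) with hV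
  have hVcard : Nat.card V = 4 := by
    let f : ↥(T : Subgroup (G ⧸ O)) →* (G ⧸ O) ⧸ Z := π.comp (T : Subgroup (G ⧸ O)).subtype
    have hk : f.ker = Z.subgroupOf (T : Subgroup (G ⧸ O)) := by
      ext x
      exact QuotientGroup.eq_one_iff _
    have hr : f.range = (V : Subgroup ((G ⧸ O) ⧸ Z)) := by
      rw [MonoidHom.range_comp, Subgroup.range_subtype, hV, Sylow.coe_mapSurjective]
    have h1 := f.ker.card_mul_index
    rw [Subgroup.index_ker, hr, hk, Nat.card_congr (subgroupOfEquivOfLe (hZT T)).toEquiv, hZ2,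
      Nat.card_congr eT.toEquiv, show Nat.card (QuaternionGroup 2) = 8 by
        rw [Nat.card_eq_fintype_card, QuaternionGroup.card]] at h1
    omega
  have hVsq : ∀ v ∈ (V : Subgroup ((G ⧸ O) ⧸ Z)), v * v = 1 := by
    intro v hv
    rw [hV, Sylow.coe_mapSurjective] at hv
    obtain ⟨x, hx, rfl⟩ := hv
    rw [← map_mul, ← MonoidHom.mem_ker, QuotientGroup.ker_mk']
    by_cases h1 : x * x = 1
    · rw [h1]; exact one_mem _
    refine hinv _ (orderOf_eq_prime ?_ h1)
    have h2 : eT ⟨x, hx⟩ ^ 4 = 1 := by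
      rcases q8_sq (eT ⟨x, hx⟩) with h | h
      · rw [show 4 = 2 * 2 from rfl, pow_mul, pow_two (eT ⟨x, hx⟩), h, one_pow]
      · rw [show 4 = 2 * 2 from rfl, pow_mul, pow_two (eT ⟨x, hx⟩), h]; decide
    rw [← map_pow, map_eq_one_iff _ eT.injective] at h2
    rw [← pow_two, ← pow_mul]
    exact congrArg Subtype.val h2
  haveI : Nontrivial ↥(V : Subgroup ((G ⧸ O) ⧸ Z)) :=
    Finite.one_lt_card_iff_nontrivial.1 (by rw [hVcard]; norm_num)
  have hVk : IsKleinFour ↥(V : Subgroup ((G ⧸ O) ⧸ Z)) :=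
    ⟨hVcard, (Monoid.exponent_eq_prime_iff Nat.prime_two).2 fun g hg =>
      orderOf_eq_prime (Subtype.ext (by rw [pow_two]; exact hVsq g g.2)) hg⟩
  have hnsK : ¬ Group.IsSolvable ((G ⧸ O) ⧸ Z) := fun hsol => hns <| by
    haveI := hsol
    haveI : Group.IsSolvable Z :=
      isSolvable_of_comm fun a b => Subtype.ext (mem_center_iff.1 b.2 a)
    haveI : Group.IsSolvable (G ⧸ O) := Group.isSolvable_of_ker_le_range Z.subtype π
      (by rw [hπ, QuotientGroup.ker_mk', Subgroup.range_subtype])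
    haveI : Group.IsSolvable O := feit hOodd
    exact Group.isSolvable_of_ker_le_range O.subtype q
      (by rw [hq, QuotientGroup.ker_mk', Subgroup.range_subtype])
  have hVfus : Fused (⊤ : Subgroup ((G ⧸ O) ⧸ Z)) (V : Subgroup ((G ⧸ O) ⧸ Z)) := by
    by_contra hf
    have hle : normalizer ((V : Subgroup ((G ⧸ O) ⧸ Z)) : Set ((G ⧸ O) ⧸ Z)) ≤
        centralizer ((V : Subgroup ((G ⧸ O) ⧸ Z)) : Set ((G ⧸ O) ⧸ Z)) := fun g hg => by
      by_contra hc
      exact hf ⟨g, mem_top g, hg, hc⟩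
    exact hnsK (solvable_of_complement
      ⟨V, _, inferInstance, MonoidHom.ker_transferSylow_isComplement' V hle⟩)
  obtain ⟨N, hNn, hNodd, F, fF, fFt, hmod, ⟨eN⟩⟩ := hK _ (V : Subgroup ((G ⧸ O) ⧸ Z)) hVk
    (Nat.odd_iff.2 (Nat.two_dvd_ne_zero.1 V.not_dvd_index)) hVfus
  have hKcore : Cfsg.oddCore ((G ⧸ O) ⧸ Z) = ⊥ :=
    oddCore_quotient_central Z hZp le_rfl hbar
  -- the map to the simple section
  set r : G ⧸ O →* ((G ⧸ O) ⧸ Z) ⧸ Cfsg.oddCore ((G ⧸ O) ⧸ Z) :=
    (QuotientGroup.mk' _).comp π with hrdef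
  have hrsurj : Function.Surjective r :=
    (QuotientGroup.mk'_surjective _).comp (QuotientGroup.mk'_surjective _)
  have hrker : ∀ x, r x = 1 ↔ x ∈ Z := fun x => by
    rw [hrdef, MonoidHom.comp_apply, QuotientGroup.mk'_apply, QuotientGroup.eq_one_iff, hKcore,
      Subgroup.mem_bot, hπ, QuotientGroup.mk'_apply, QuotientGroup.eq_one_iff]
  have hq3 : 3 < Fintype.card F := by
    by_contra hle
    have h3 : Fintype.card F = 3 := by omega
    have h12 : Nat.card N = 12 := by
      have h1 := LinearGroup.gcd_mul_card_PSL_two (F := F)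
      rw [Nat.card_eq_fintype_card (α := F), h3, ← Nat.card_congr eN.toEquiv] at h1
      norm_num at h1
      omega
    haveI : Group.IsSolvable N := Dickson.isSolvable_of_card_two_three (Or.inr (Or.inl h12))
    haveI := OddOrderGlue.isSolvable_of_odd_quotient PF14.feitThompson.{u} N hNodd
    haveI : Group.IsSolvable (Cfsg.oddCore ((G ⧸ O) ⧸ Z)) := feit InvChar.odd_oddCore
    exact hnsK (Group.isSolvable_of_ker_le_range (Cfsg.oddCore ((G ⧸ O) ⧸ Z)).subtype
      (QuotientGroup.mk' (Cfsg.oddCore ((G ⧸ O) ⧸ Z)))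
      (by rw [QuotientGroup.ker_mk', Subgroup.range_subtype]))
  set E : Subgroup (G ⧸ O) := N.comap r with hE
  have hEodd : Odd E.index := by rw [hE, index_comap_of_surjective N hrsurj]; exact hNodd
  let σ : E →* Matrix.ProjectiveSpecialLinearGroup (Fin 2) F :=
    eN.toMonoidHom.comp ((r.comp E.subtype).codRestrict N fun x => x.2)
  have hσ : Function.Surjective σ := fun p => by
    obtain ⟨x, hx⟩ := hrsurj (eN.symm p : ((G ⧸ O) ⧸ Z) ⧸ Cfsg.oddCore ((G ⧸ O) ⧸ Z))
    refine ⟨⟨x, show r x ∈ N by rw [hx]; exact (eN.symm p).2⟩, ?_⟩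
    show eN ⟨r x, _⟩ = p
    rw [← eN.eq_symm_apply]
    exact Subtype.ext hx
  have hσker : σ.ker = Z.subgroupOf E := by
    ext x
    rw [MonoidHom.mem_ker, mem_subgroupOf, ← hrker]
    show eN ⟨r x, _⟩ = 1 ↔ _
    rw [map_eq_one_iff _ eN.injective, ← Subtype.coe_inj]
    rfl
  have hσc : σ.ker ≤ Subgroup.center E := by
    rw [hσker]
    intro x hx
    exact mem_center_iff.2 fun y => Subtype.ext (mem_center_iff.1 hx y)
  have hZE : Z ≤ E := fun x hx => by
    show r x ∈ N
    rw [(hrker x).2 hx]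
    exact one_mem _
  have hcardσ : Nat.card σ.ker = 2 := by
    rw [hσker, Nat.card_congr (subgroupOfEquivOfLe hZE).toEquiv, hZ2]
  have hodd : Fintype.card F % 2 = 1 := by omega
  have hPSL : 2 * Nat.card (Matrix.ProjectiveSpecialLinearGroup (Fin 2) F) =
      Nat.card (Matrix.SpecialLinearGroup (Fin 2) F) := by
    have h1 := LinearGroup.gcd_mul_card_PSL_two (F := F)
    rw [LinearGroup.card_SL_two]
    rwa [Nat.gcd_eq_left (by rw [Nat.card_eq_fintype_card]; omega)] at h1
  have h4 : 2 ∣ Nat.card (Matrix.ProjectiveSpecialLinearGroup (Fin 2) F) := by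
    have h1 : 2 ^ 2 ∣ Fintype.card F ^ 2 - 1 := by
      obtain ⟨k, hk⟩ : ∃ k, Fintype.card F = 2 * k + 1 := ⟨Fintype.card F / 2, by omega⟩
      rw [hk, show (2 * k + 1) ^ 2 = 2 ^ 2 * (k * k + k) + 1 by ring, Nat.add_sub_cancel]
      exact dvd_mul_right _ _
    have h2 : 2 ^ 2 ∣ 2 * Nat.card (Matrix.ProjectiveSpecialLinearGroup (Fin 2) F) := by
      rw [hPSL, LinearGroup.card_SL_two, Nat.card_eq_fintype_card]
      exact Dvd.dvd.mul_left h1 _
    omega
  -- a subgroup mapping onto the simple group is everything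
  have htop : ∀ R : Subgroup E, R.map σ = ⊤ → R = ⊤ := by
    intro R hR
    have h2 : 2 ∣ Nat.card R := by
      have h5 := Subgroup.card_map_dvd R σ
      rw [hR, Subgroup.card_top] at h5
      exact h4.trans h5
    obtain ⟨⟨x, hxR⟩, hx⟩ := exists_prime_orderOf_dvd_card' (G := R) 2 h2
    rw [Subgroup.orderOf_mk] at hx
    have hxk : x ∈ σ.ker := by
      rw [hσker, mem_subgroupOf]
      exact hinv _ (by rw [Subgroup.orderOf_coe, hx])
    have hle : σ.ker ≤ R := by
      have hzk : zpowers x = σ.ker := Subgroup.eq_of_le_of_card_ge (zpowers_le.2 hxk)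
        (by rw [hcardσ, Nat.card_zpowers, hx])
      rw [← hzk]
      exact zpowers_le.2 hxR
    rw [← Subgroup.comap_top σ, ← hR, Subgroup.comap_map_eq, sup_eq_left.2 hle]
  have hsq := exists_sq_ne_one hq3
  have hperfSL : Group.IsPerfect (Matrix.SpecialLinearGroup (Fin 2) F) :=
    ⟨LinearGroup.commutator_SL_eq_top' fun _ => hsq⟩
  obtain ⟨η, hη⟩ := Schur.exists_lift_of_trivial hperfSL
    (S2117.result (F := F) (by omega) (by omega))
    (QuotientGroup.mk' (Subgroup.center (Matrix.SpecialLinearGroup (Fin 2) F))) σ hσ hσc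
  have hηs : Function.Surjective η := MonoidHom.range_eq_top.1 (htop _ (by
    rw [← MonoidHom.range_comp, hη, MonoidHom.range_eq_top]
    exact QuotientGroup.mk'_surjective _))
  have hcardE : Nat.card E = Nat.card (Matrix.SpecialLinearGroup (Fin 2) F) := by
    rw [← hPSL, ← σ.ker.card_mul_index, Subgroup.index_ker, hcardσ,
      MonoidHom.range_eq_top.2 hσ, Subgroup.card_top]
  let eE : Matrix.SpecialLinearGroup (Fin 2) F ≃* E :=
    MulEquiv.ofBijective η ((Nat.bijective_iff_surjective_and_card _).2 ⟨hηs, hcardE.symm⟩)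
  -- pull back to the group
  haveI hEn : E.Normal := Subgroup.Normal.comap hNn r
  refine ⟨E.comap q, Subgroup.Normal.comap hEn q, inferInstance, ?_, fun x hx => ?_, F, fF, fFt,
    hmod, hq3, ?_⟩
  · rw [index_comap_of_surjective E (QuotientGroup.mk'_surjective O)]
    exact hEodd
  · show q x ∈ E
    rw [show q x = 1 from (QuotientGroup.eq_one_iff x).2 hx]
    exact one_mem _
  · let f : ↥(E.comap q) →* E := (q.comp (E.comap q).subtype).codRestrict E fun x => x.2
    have hf : Function.Surjective f := fun y => by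
      obtain ⟨x, hx⟩ := QuotientGroup.mk'_surjective O (y : G ⧸ O)
      exact ⟨⟨x, show q x ∈ E by rw [show q x = (y : G ⧸ O) from hx]; exact y.2⟩, Subtype.ext hx⟩
    have hfk : f.ker = O.subgroupOf (E.comap q) := by
      ext x
      rw [MonoidHom.mem_ker, mem_subgroupOf, ← Subtype.coe_inj]
      exact QuotientGroup.eq_one_iff _
    exact ⟨((QuotientGroup.quotientMulEquivOfEq hfk.symm).trans
      (QuotientGroup.quotientKerEquivOfSurjective f hf)).trans eE.symm⟩

end Cfsg.Agent.GW66.ConsQuat71
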