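import Cfsg.Agent.GW66.Basic
import Cfsg.Agent.Lib.Coprime.Action
import Cfsg.Agent.Lib.Coprime.Hall
import Cfsg.Agent.Lib.Thompson.PSolvable
import Cfsg.Agent.OddLocal44.Stability
import Cfsg.Agent.PF14.Compose
import Mathlib.GroupTheory.Perm.Cycle.Type

/-!
# Coprime action of an involution or a four-group on a subgroup of odd order
-/

set_option autoImplicit false
set_option linter.unusedSectionVars false

namespace Cfsg.Agent.GW66

open Subgroup
open scoped commutatorElement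

universe u

variable {G : Type u} [Group G] [Finite G]

theorem isSolvable_of_odd_card (K : Subgroup G) (hK : Odd (Nat.card K)) : Group.IsSolvable K :=
  PF14.feitThompson K hK

theorem coprime_of_two_group {A K : Subgroup G} (hA : IsPGroup 2 A) (hK : Odd (Nat.card K)) :
    (Nat.card A).Coprime (Nat.card K) := by
  haveI : Fact (Nat.Prime 2) := ⟨Nat.prime_two⟩
  obtain ⟨n, hn⟩ := IsPGroup.iff_card.mp hA
  rw [hn]
  exact (Nat.coprime_two_left.mpr hK).pow_left n

theorem isPGroup_klein {V : Subgroup G} (hV : IsKleinFour V) : IsPGroup 2 V :=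
  IsPGroup.of_card (n := 2) (by rw [hV.card_four]; rfl)

theorem isPGroup_zpowers_invol {b : G} (hb : b * b = 1) : IsPGroup 2 (zpowers b) := by
  have hd : orderOf b ∣ 2 := orderOf_dvd_of_pow_eq_one (by rw [pow_two]; exact hb)
  rcases (Nat.dvd_prime Nat.prime_two).mp hd with h | h
  · exact IsPGroup.of_card (n := 0) (by rw [Nat.card_zpowers, h]; rfl)
  · exact IsPGroup.of_card (n := 1) (by rw [Nat.card_zpowers, h]; rfl)

theorem odd_card_of_le {H K : Subgroup G} (h : H ≤ K) (hK : Odd (Nat.card K)) :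
    Odd (Nat.card H) :=
  hK.of_dvd_nat (card_dvd_of_le h)

theorem invol_conj_twice {b : G} (hb : b * b = 1) (y : G) : b * (b * y * b⁻¹) * b⁻¹ = y := by
  rw [show b * (b * y * b⁻¹) * b⁻¹ = b * b * y * (b * b)⁻¹ by group, hb]
  group

/-- An involutive permutation of a finite set of odd order has a fixed point. -/
theorem exists_fixed_of_odd {α : Type*} [Finite α] (hodd : Odd (Nat.card α)) (f : α → α)
    (hf : ∀ x, f (f x) = x) : ∃ x, f x = x := by
  classical
  haveI : Fact (Nat.Prime 2) := ⟨Nat.prime_two⟩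
  haveI := Fintype.ofFinite α
  let σ : Equiv.Perm α := Function.Involutive.toPerm f hf
  refine Equiv.Perm.exists_fixed_point_of_prime (p := 2) (n := 1) ?_ (σ := σ) ?_
  · rw [← Nat.card_eq_fintype_card, ← even_iff_two_dvd]
    exact Nat.not_even_iff_odd.mpr hodd
  · ext x
    rw [pow_one, pow_two, Equiv.Perm.mul_apply, Equiv.Perm.one_apply]
    exact hf x

/-- A coset stable under `b` has a representative centralised by `b`. -/
theorem exists_fixed_rep {b : G} (hb : b * b = 1) {N : Subgroup G} (hN : Odd (Nat.card N))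
    (hbN : b ∈ normalizer (N : Set G)) {x : G} (hx : x⁻¹ * (b * x * b⁻¹) ∈ N) :
    ∃ n ∈ N, b * (x * n) = x * n * b := by
  have hmem : ∀ n : N, x⁻¹ * (b * (x * n) * b⁻¹) ∈ N := fun n => by
    have h := mul_mem hx ((mem_normalizer_iff.mp hbN n).mp n.2)
    convert h using 1
    group
  obtain ⟨n, hn⟩ := exists_fixed_of_odd hN (fun n => (⟨_, hmem n⟩ : N)) (fun n => Subtype.ext (by
    simp only
    rw [show x * (x⁻¹ * (b * (x * n) * b⁻¹)) = b * (x * n) * b⁻¹ by group, invol_conj_twice hb]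
    group))
  refine ⟨n, n.2, ?_⟩
  have h' : x⁻¹ * (b * (x * n) * b⁻¹) = n := congrArg Subtype.val hn
  calc b * (x * n) = x * (x⁻¹ * (b * (x * n) * b⁻¹)) * b := by group
    _ = x * n * b := by rw [h']

/-- A coset inverted by `b` has a representative inverted by `b`. -/
theorem exists_inverted_rep {b : G} (hb : b * b = 1) {N : Subgroup G} (hN : Odd (Nat.card N))
    (hbN : b ∈ normalizer (N : Set G)) {x : G} (hxN : x ∈ normalizer (N : Set G))
    (hx : x * (b * x * b⁻¹) ∈ N) :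
    ∃ n ∈ N, b * (x * n) * b⁻¹ = (x * n)⁻¹ := by
  have hmem : ∀ n : N, x⁻¹ * (b * (x * n)⁻¹ * b⁻¹) ∈ N := fun n => by
    have h1 : b * (n : G)⁻¹ * b⁻¹ ∈ N := (mem_normalizer_iff.mp hbN _).mp (inv_mem n.2)
    have h2 : x⁻¹ * (b * (n : G)⁻¹ * b⁻¹ * (x * (b * x * b⁻¹))⁻¹) * (x⁻¹)⁻¹ ∈ N :=
      (mem_normalizer_iff.mp (inv_mem hxN) _).mp (mul_mem h1 (inv_mem hx))
    convert h2 using 1
    group
  obtain ⟨n, hn⟩ := exists_fixed_of_odd hN (fun n => (⟨_, hmem n⟩ : N)) (fun n => Subtype.ext (by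
    simp only
    rw [show x * (x⁻¹ * (b * (x * n)⁻¹ * b⁻¹)) = b * (x * n)⁻¹ * b⁻¹ by group,
      show (b * (x * n)⁻¹ * b⁻¹)⁻¹ = b * (x * n) * b⁻¹ by group, invol_conj_twice hb]
    group))
  refine ⟨n, n.2, ?_⟩
  have h' : x⁻¹ * (b * (x * n)⁻¹ * b⁻¹) = n := congrArg Subtype.val hn
  have h'' : b * (x * n)⁻¹ * b⁻¹ = x * n := by
    calc b * (x * n)⁻¹ * b⁻¹ = x * (x⁻¹ * (b * (x * n)⁻¹ * b⁻¹)) := by group
      _ = x * n := by rw [h']
  calc b * (x * n) * b⁻¹ = (b * (x * n)⁻¹ * b⁻¹)⁻¹ := by group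
    _ = (x * n)⁻¹ := by rw [h'']

/-- Every element is a `b`-inverted element times a `b`-centralised one. -/
theorem exists_inverted_mul_fixed {b : G} (hb : b * b = 1) {K : Subgroup G}
    (hK : Odd (Nat.card K)) (hbK : b ∈ normalizer (K : Set G)) {k : G} (hk : k ∈ K) :
    ∃ s ∈ K, ∃ c ∈ K, b * s * b⁻¹ = s⁻¹ ∧ b * c = c * b ∧ k = s * c := by
  set u := k * (b * k⁻¹ * b⁻¹) with hu
  have huK : u ∈ K := mul_mem hk ((mem_normalizer_iff.mp hbK _).mp (inv_mem hk))
  have hui : b * u * b⁻¹ = u⁻¹ := by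
    calc b * u * b⁻¹ = b * k * b⁻¹ * (b * (b * k⁻¹ * b⁻¹) * b⁻¹) := by rw [hu]; group
      _ = b * k * b⁻¹ * k⁻¹ := by rw [invol_conj_twice hb]
      _ = u⁻¹ := by rw [hu]; group
  obtain ⟨j, hj⟩ : Odd (orderOf u) := hK.of_dvd_nat (orderOf_dvd_natCard _ huK)
  set s := u ^ (j + 1) with hs
  have hs2 : s * s = u := by
    rw [hs, ← pow_add, show j + 1 + (j + 1) = orderOf u + 1 by omega, pow_succ, pow_orderOf_eq_one,
      one_mul]
  have hsi : b * s * b⁻¹ = s⁻¹ := by rw [hs, ← conj_pow, hui, inv_pow]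
  refine ⟨s, pow_mem huK _, s⁻¹ * k, mul_mem (inv_mem (pow_mem huK _)) hk, hsi, ?_, by group⟩
  have h : b * (s⁻¹ * k) * b⁻¹ = s⁻¹ * k := by
    calc b * (s⁻¹ * k) * b⁻¹ = (b * s * b⁻¹)⁻¹ * (u⁻¹ * k) := by rw [hu]; group
      _ = s * ((s * s)⁻¹ * k) := by rw [hsi, hs2, inv_inv]
      _ = s⁻¹ * k := by group
  calc b * (s⁻¹ * k) = b * (s⁻¹ * k) * b⁻¹ * b := by group
    _ = s⁻¹ * k * b := by rw [h]

/-- The number of inverted elements is the index of the centraliser. -/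
theorem ncard_inverted_mul_card {b : G} (hb : b * b = 1) {K : Subgroup G}
    (hK : Odd (Nat.card K)) (hbK : b ∈ normalizer (K : Set G)) :
    {x : G | x ∈ K ∧ b * x * b⁻¹ = x⁻¹}.ncard *
      Nat.card ↥(K ⊓ centralizer ({b} : Set G)) = Nat.card K := by
  classical
  set S := {x : G | x ∈ K ∧ b * x * b⁻¹ = x⁻¹} with hS
  set C := K ⊓ centralizer ({b} : Set G) with hC
  let f : ↥S × ↥C → ↥K := fun p => ⟨(p.1 : G) * (p.2 : G), mul_mem p.1.2.1 p.2.2.1⟩
  have hbij : Function.Bijective f := by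
    refine ⟨fun p q h => ?_, fun k => ?_⟩
    · have h' : (p.1 : G) * (p.2 : G) = (q.1 : G) * (q.2 : G) := congrArg Subtype.val h
      have hc : ∀ c : C, b * (c : G) = (c : G) * b := fun c =>
        (mem_centralizer_singleton_iff.mp c.2.2).symm
      set x := (p.1 : G)
      set y := (q.1 : G)
      set d := (q.2 : G) * (p.2 : G)⁻¹ with hd
      have hd' : x = y * d := by
        calc x = x * (p.2 : G) * (p.2 : G)⁻¹ := by group
          _ = y * d := by rw [h', hd]; group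
      have hdb : b * d * b⁻¹ = d := by
        calc b * d * b⁻¹ = b * (q.2 : G) * (b * (p.2 : G))⁻¹ := by rw [hd]; group
          _ = d := by rw [hc, hc, hd]; group
      have hbx : b * x * b⁻¹ = x⁻¹ := p.1.2.2
      have hby : b * y * b⁻¹ = y⁻¹ := q.1.2.2
      have hydy : y * d * y⁻¹ = d⁻¹ := by
        have e : d⁻¹ * y⁻¹ = y⁻¹ * d := by
          calc d⁻¹ * y⁻¹ = x⁻¹ := by rw [hd']; group
            _ = b * x * b⁻¹ := hbx.symm
            _ = b * y * b⁻¹ * (b * d * b⁻¹) := by rw [hd']; group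
            _ = y⁻¹ * d := by rw [hby, hdb]
        calc y * d * y⁻¹ = (y * (d⁻¹ * y⁻¹))⁻¹ := by group
          _ = d⁻¹ := by rw [e, mul_inv_cancel_left]
      have hd1 : d = 1 := by
        have hyK : y ∈ K := q.1.2.1
        have hdK : d ∈ K := mul_mem q.2.2.1 (inv_mem p.2.2.1)
        have hsq : Commute (y ^ 2) d := by
          refine mul_inv_eq_iff_eq_mul.mp ?_
          calc y ^ 2 * d * (y ^ 2)⁻¹ = y * (y * d * y⁻¹) * y⁻¹ := by rw [pow_two]; group
            _ = y * d⁻¹ * y⁻¹ := by rw [hydy]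
            _ = (y * d * y⁻¹)⁻¹ := by group
            _ = d := by rw [hydy, inv_inv]
        obtain ⟨j, hj⟩ : Odd (orderOf y) := hK.of_dvd_nat (orderOf_dvd_natCard _ hyK)
        have hyd : Commute y d := by
          have : y = (y ^ 2) ^ (j + 1) := by
            rw [← pow_mul, show 2 * (j + 1) = orderOf y + 1 by omega, pow_succ, pow_orderOf_eq_one,
              one_mul]
          rw [this]
          exact hsq.pow_left _
        have hdd : d = d⁻¹ := by
          calc d = y * d * y⁻¹ := by rw [hyd.eq]; group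
            _ = d⁻¹ := hydy
        obtain ⟨i, hi⟩ : Odd (orderOf d) := hK.of_dvd_nat (orderOf_dvd_natCard _ hdK)
        have h2 : d ^ 2 = 1 := by rw [pow_two]; exact eq_inv_iff_mul_eq_one.mp hdd
        have := pow_orderOf_eq_one d
        rwa [hi, pow_succ, pow_mul, h2, one_pow, one_mul] at this
      have hxy : x = y := by rw [hd', hd1, mul_one]
      have hpq : (p.2 : G) = (q.2 : G) := by
        have : (q.2 : G) * (p.2 : G)⁻¹ = 1 := hd1
        exact (mul_inv_eq_one.mp this).symm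
      exact Prod.ext (Subtype.ext hxy) (Subtype.ext hpq)
    · obtain ⟨s, hs, c, hc, hsi, hcb, e⟩ := exists_inverted_mul_fixed hb hK hbK k.2
      exact ⟨(⟨s, hs, hsi⟩, ⟨c, hc, mem_centralizer_singleton_iff.mpr hcb.symm⟩),
        Subtype.ext e.symm⟩
  rw [← Nat.card_coe_set_eq, ← Nat.card_prod, Nat.card_eq_of_bijective f hbij]

section Action

variable {A K : Subgroup G}

theorem commA_le (hAK : A ≤ normalizer (K : Set G)) : ⁅K, A⁆ ≤ K :=
  Coprime.commutator_le_of_le_normalizer hAK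

theorem commA_mul_fixed (hA : IsPGroup 2 A) (hK : Odd (Nat.card K))
    (hAK : A ≤ normalizer (K : Set G)) {k : G} (hk : k ∈ K) :
    ∃ x ∈ ⁅K, A⁆, ∃ c ∈ K ⊓ centralizer (A : Set G), k = x * c :=
  Coprime.exists_commutator_mul_centralizer A K hAK (coprime_of_two_group hA hK)
    (Or.inr (isSolvable_of_odd_card K hK)) k hk

theorem commA_sup_fixed (hA : IsPGroup 2 A) (hK : Odd (Nat.card K))
    (hAK : A ≤ normalizer (K : Set G)) : ⁅K, A⁆ ⊔ (K ⊓ centralizer (A : Set G)) = K :=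
  Coprime.commutator_sup_centralizer A K hAK (coprime_of_two_group hA hK)
    (Or.inr (isSolvable_of_odd_card K hK))

theorem commA_commA (hA : IsPGroup 2 A) (hK : Odd (Nat.card K))
    (hAK : A ≤ normalizer (K : Set G)) : ⁅⁅K, A⁆, A⁆ = ⁅K, A⁆ :=
  Coprime.commutator_commutator_eq A K hAK (coprime_of_two_group hA hK)
    (Or.inr (isSolvable_of_odd_card K hK))

/-- An invariant `p`-subgroup lies in an invariant Sylow subgroup of `K`. -/
theorem exists_sylowIn_ge (hA : IsPGroup 2 A) (hK : Odd (Nat.card K))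
    (hAK : A ≤ normalizer (K : Set G)) {p : ℕ} (hp : p.Prime) {U : Subgroup G} (hUK : U ≤ K)
    (hU : IsPGroup p U) (hUA : A ≤ normalizer (U : Set G)) :
    ∃ Q : Subgroup G, U ≤ Q ∧ Q ≤ K ∧ IsPGroup p Q ∧ ¬ p ∣ Q.relIndex K ∧
      A ≤ normalizer (Q : Set G) := by
  haveI : Fact p.Prime := ⟨hp⟩
  obtain ⟨P, hUP, hAP⟩ := Coprime.exists_invariant_sylow_ge A K hAK (coprime_of_two_group hA hK)
    (Or.inr (isSolvable_of_odd_card K hK)) p U hUK hU hUA
  refine ⟨_, hUP, map_subtype_le _, P.isPGroup'.map _, ?_, hAP⟩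
  rw [relIndex, subgroupOf, comap_map_eq_self_of_injective K.subtype_injective]
  exact P.not_dvd_index

theorem exists_sylowIn (hA : IsPGroup 2 A) (hK : Odd (Nat.card K))
    (hAK : A ≤ normalizer (K : Set G)) {p : ℕ} (hp : p.Prime) :
    ∃ Q : Subgroup G, Q ≤ K ∧ IsPGroup p Q ∧ ¬ p ∣ Q.relIndex K ∧
      A ≤ normalizer (Q : Set G) := by
  obtain ⟨Q, -, h⟩ := exists_sylowIn_ge hA hK hAK hp (U := ⊥) bot_le IsPGroup.of_bot
    (fun a _ => mem_normalizer_iff.mpr fun x => by simp [mem_bot])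
  exact ⟨Q, h⟩

/-- Invariant Sylow subgroups of `K` are conjugate under `C_K(A)`. -/
theorem sylowIn_conj (hA : IsPGroup 2 A) (hK : Odd (Nat.card K))
    (hAK : A ≤ normalizer (K : Set G)) {p : ℕ} (hp : p.Prime) {Q₁ Q₂ : Subgroup G}
    (h1 : Q₁ ≤ K) (hp1 : IsPGroup p Q₁) (hi1 : ¬ p ∣ Q₁.relIndex K)
    (ha1 : A ≤ normalizer (Q₁ : Set G)) (h2 : Q₂ ≤ K) (hp2 : IsPGroup p Q₂)
    (hi2 : ¬ p ∣ Q₂.relIndex K) (ha2 : A ≤ normalizer (Q₂ : Set G)) :
    ∃ c ∈ K ⊓ centralizer (A : Set G), Q₁.map (MulAut.conj c).toMonoidHom = Q₂ := by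
  haveI : Fact p.Prime := ⟨hp⟩
  let P₁ : Sylow p K := (hp1.of_equiv (subgroupOfEquivOfLe h1).symm).toSylow hi1
  let P₂ : Sylow p K := (hp2.of_equiv (subgroupOfEquivOfLe h2).symm).toSylow hi2
  have e1 : (P₁ : Subgroup K).map K.subtype = Q₁ := map_subgroupOf_eq_of_le h1
  have e2 : (P₂ : Subgroup K).map K.subtype = Q₂ := map_subgroupOf_eq_of_le h2
  obtain ⟨c, hc, hcP⟩ := Coprime.exists_invariant_sylow_conj A K hAK (coprime_of_two_group hA hK)
    (Or.inr (isSolvable_of_odd_card K hK)) p P₁ P₂ (e1.symm ▸ ha1) (e2.symm ▸ ha2)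
  refine ⟨c, ⟨c.2, hc⟩, ?_⟩
  rw [← e1, ← e2, ← hcP, Sylow.smul_def, Subgroup.map_map]
  exact (congrArg (fun f => Subgroup.map f (P₁ : Subgroup K)) (MonoidHom.ext fun x => by
    simp)).trans (Subgroup.map_map _ _ _).symm

/-- If `A` centralises a Sylow `p`-subgroup of `K` then `⁅K, A⁆` is a `p'`-group, inside
`O_{p'}(K)`. -/
theorem commA_le_pPrimeCore (hA : IsPGroup 2 A) (hK : Odd (Nat.card K))
    (hAK : A ≤ normalizer (K : Set G)) {p : ℕ} (hp : p.Prime) {Q : Subgroup G} (hQK : Q ≤ K)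
    (hQp : IsPGroup p Q) (hQi : ¬ p ∣ Q.relIndex K) (hAQ : A ≤ centralizer (Q : Set G)) :
    ⁅K, A⁆ ≤ (Cfsg.pPrimeCore p ↥K).map K.subtype := by
  classical
  haveI : Fact p.Prime := ⟨hp⟩
  haveI := isSolvable_of_odd_card K hK
  set N₀ := Cfsg.pPrimeCore p ↥K with hN₀
  haveI : N₀.Characteristic :=
    Subgroup.characteristic_iff_map_eq.mpr fun e => Thompson.map_pPrimeCore_equiv e
  let q : ↥K →* ↥K ⧸ N₀ := QuotientGroup.mk' N₀
  have hqs : Function.Surjective q := QuotientGroup.mk'_surjective N₀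
  let R₀ : Subgroup ↥K := (Cfsg.pCore p (↥K ⧸ N₀)).comap q
  let P : Sylow p K := (hQp.of_equiv (subgroupOfEquivOfLe hQK).symm).toSylow hQi
  have hR : ∀ r ∈ R₀, ∀ a (ha : a ∈ A),
      q ⟨a * (r : G) * a⁻¹, (mem_normalizer_iff.mp (hAK ha) _).mp r.2⟩ = q r := by
    intro r hr a ha
    obtain ⟨x, hx, hxr⟩ : q r ∈ (P : Subgroup K).map q :=
      Thompson.pCore_le_sylow (P.mapSurjective hqs) hr
    have hn : r * x⁻¹ ∈ N₀ := by
      rw [← QuotientGroup.ker_mk' N₀, MonoidHom.mem_ker]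
      show q (r * x⁻¹) = 1
      rw [map_mul, map_inv, hxr, mul_inv_cancel]
    have hna := (mem_normalizer_iff.mp
      (Coprime.normalizer_le_normalizer_map K N₀ (hAK ha)) _).mp (mem_map_of_mem K.subtype hn)
    obtain ⟨m, hm, hme⟩ := hna
    have hxc : (x : G) * a = a * (x : G) := mem_centralizer_iff.mp (hAQ ha) _ hx
    have hr' : (⟨a * (r : G) * a⁻¹, (mem_normalizer_iff.mp (hAK ha) _).mp r.2⟩ : K) = m * x := by
      refine Subtype.ext ?_
      show a * (r : G) * a⁻¹ = (m : G) * (x : G)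
      rw [show (m : G) = a * ((r * x⁻¹ : K) : G) * a⁻¹ from hme]
      push_cast
      calc a * (r : G) * a⁻¹ = a * ((r : G) * (x : G)⁻¹) * ((x : G) * a⁻¹) := by group
        _ = a * ((r : G) * (x : G)⁻¹) * (a⁻¹ * (x : G)) := by
          rw [(Commute.inv_right hxc).eq]
        _ = a * ((r : G) * (x : G)⁻¹) * a⁻¹ * (x : G) := by group
    rw [hr', map_mul, hxr, show q m = 1 from (QuotientGroup.eq_one_iff m).mpr hm, one_mul]
  have hcl : centralizer (Cfsg.pCore p (↥K ⧸ N₀) : Set (↥K ⧸ N₀)) ≤ Cfsg.pCore p (↥K ⧸ N₀) :=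
    Thompson.centralizer_pCore_le (OddLocal44.isPSolvable_of_isSolvable (p := p))
      Thompson.pPrimeCore_quotient_pPrimeCore
  have hKR : ∀ k (hk : k ∈ K), ∀ a (ha : a ∈ A), ∃ r ∈ R₀, (r : G) = ⁅k, a⁆ := by
    intro k hk a ha
    let σ : ↥K → ↥K := fun x => ⟨a * (x : G) * a⁻¹, (mem_normalizer_iff.mp (hAK ha) _).mp x.2⟩
    have hσ : ∀ x y, σ (x * y) = σ x * σ y := fun x y => Subtype.ext (by
      show a * ((x : G) * (y : G)) * a⁻¹ = a * (x : G) * a⁻¹ * (a * (y : G) * a⁻¹)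
      group)
    let κ : K := ⟨k, hk⟩
    refine ⟨κ * σ κ⁻¹, hcl (mem_centralizer_iff.mpr fun z hz => ?_), ?_⟩
    · obtain ⟨r, rfl⟩ := hqs z
      have hr : r ∈ R₀ := hz
      have h1 : κ⁻¹ * r * κ ∈ R₀ := by
        simpa using (inferInstance : R₀.Normal).conj_mem r hr κ⁻¹
      have h2 : q (σ κ⁻¹) * q r * (q (σ κ⁻¹))⁻¹ = q (κ⁻¹ * r * κ) := by
        rw [← hR _ h1 a ha, ← hR r hr a ha, ← map_mul, ← map_inv, ← map_mul]
        refine congrArg q (Subtype.ext ?_)
        simp [σ, mul_assoc]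
      have h3 : q (κ * σ κ⁻¹) * q r * (q (κ * σ κ⁻¹))⁻¹ = q r := by
        calc _ = q κ * (q (σ κ⁻¹) * q r * (q (σ κ⁻¹))⁻¹) * (q κ)⁻¹ := by rw [map_mul]; group
          _ = q r := by rw [h2, map_mul, map_mul, map_inv]; group
      exact (mul_inv_eq_iff_eq_mul.mp h3).symm
    · simp [σ, κ, commutatorElement_def, mul_assoc]
  rw [← commA_commA hA hK hAK]
  refine commutator_le.mpr fun y hy a ha => ?_
  obtain ⟨r, hr, rfl⟩ : ∃ r ∈ R₀, (r : G) = y := by
    have : ⁅K, A⁆ ≤ R₀.map K.subtype := commutator_le.mpr fun k hk a ha => by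
      obtain ⟨r, hr, e⟩ := hKR k hk a ha
      exact ⟨r, hr, e⟩
    obtain ⟨r, hr, e⟩ := this hy
    exact ⟨r, hr, e⟩
  refine ⟨r * ⟨a * ((r⁻¹ : K) : G) * a⁻¹, (mem_normalizer_iff.mp (hAK ha) _).mp (r⁻¹ : K).2⟩,
    ?_, ?_⟩
  · rw [SetLike.mem_coe, ← QuotientGroup.eq_one_iff, QuotientGroup.mk_mul]
    show q r * q _ = 1
    rw [hR r⁻¹ (inv_mem hr) a ha, map_inv, mul_inv_cancel]
  · simp [commutatorElement_def, mul_assoc]

end Action

section Four

variable {V K : Subgroup G} {a b : G}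

theorem fixedV_eq (hV : IsKleinFour V) (h : Pair V a b) (haK : K ≤ centralizer ({a} : Set G)) :
    K ⊓ centralizer (V : Set G) = K ⊓ centralizer ({b} : Set G) := by
  refine le_antisymm (inf_le_inf_left _ (centralizer_le (by simp [h.hb]))) fun x hx => ⟨hx.1, ?_⟩
  have ca : Commute x a := mem_centralizer_singleton_iff.mp (haK hx.1)
  have cb : Commute x b := mem_centralizer_singleton_iff.mp hx.2
  refine mem_centralizer_iff.mpr fun y hy => ?_
  rcases klein_cases hV h hy with rfl | rfl | rfl | rfl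
  · rw [one_mul, mul_one]
  · exact ca.eq.symm
  · exact cb.eq.symm
  · exact (ca.mul_right cb).eq.symm

theorem commV_eq (hV : IsKleinFour V) (h : Pair V a b) (haK : K ≤ centralizer ({a} : Set G)) :
    ⁅K, V⁆ = ⁅K, zpowers b⁆ := by
  refine le_antisymm (commutator_le.mpr fun k hk v hv => ?_)
    (commutator_mono le_rfl (zpowers_le.mpr h.hb))
  have ca : Commute k a := mem_centralizer_singleton_iff.mp (haK hk)
  have e1 : ⁅k, a⁆ = 1 := by rw [commutatorElement_eq_one_iff_mul_comm]; exact ca.eq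
  rcases klein_cases hV h hv with rfl | rfl | rfl | rfl
  · simp
  · rw [e1]; exact one_mem _
  · exact commutator_mem_commutator hk (mem_zpowers _)
  · have e : ⁅k, a * b⁆ = a * ⁅k, b⁆ * a⁻¹ := by
      calc ⁅k, a * b⁆ = ⁅k, a⁆ * (a * ⁅k, b⁆ * a⁻¹) := by simp [commutatorElement_def, mul_assoc]
        _ = _ := by rw [e1, one_mul]
    have e' : a * ⁅k, b⁆ * a⁻¹ = ⁅a * k * a⁻¹, a * b * a⁻¹⁆ := by
      simp [commutatorElement_def, mul_assoc]
    rw [e, e', show a * k * a⁻¹ = k by rw [← ca.eq]; group,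
      show a * b * a⁻¹ = b by rw [klein_comm hV h.ha h.hb]; group]
    exact commutator_mem_commutator hk (mem_zpowers _)

theorem mem_normalizer_invol (h : Pair V a b) (hKV : V ≤ normalizer (K : Set G)) :
    b ∈ normalizer (K : Set G) := hKV h.hb

/-- Under `C(a)`, invariance under `b` is invariance under `V`. -/
theorem le_normalizer_of_invol (hV : IsKleinFour V) (h : Pair V a b) {Q : Subgroup G}
    (haQ : Q ≤ centralizer ({a} : Set G)) (hbQ : b ∈ normalizer (Q : Set G)) :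
    V ≤ normalizer (Q : Set G) := by
  have ha : a ∈ normalizer (Q : Set G) :=
    centralizer_le_normalizer _ (mem_centralizer_iff.mpr fun x hx =>
      mem_centralizer_singleton_iff.mp (haQ hx))
  intro v hv
  rcases klein_cases hV h hv with rfl | rfl | rfl | rfl
  · exact one_mem _
  · exact ha
  · exact hbQ
  · exact mul_mem ha hbQ

end Four

end Cfsg.Agent.GW66
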