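import Cfsg.Agent.Fus93.Critical
import Cfsg.Agent.OddLocal43.Coprime
import Cfsg.Agent.Lib.PGroup.Commutator

/-!
# Critical subgroups of odd exponent `p`

For a `p`-subgroup `P` (`p` odd): a critical subgroup `C₀` and the subgroup `C` of the elements
`x ∈ C₀` with `x ^ p = 1`, all as subgroups of the ambient group.
-/

set_option autoImplicit false

namespace Cfsg.Agent.GW66

open Subgroup
open scoped commutatorElement

variable {G : Type*} [Group G]

/-- A critical subgroup `C₀` of `P` together with `C = Ω₁(C₀)`. -/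
structure CriticalPair (p : ℕ) (P C₀ C : Subgroup G) : Prop where
  le_P : C₀ ≤ P
  le_C₀ : C ≤ C₀
  /-- `C₀` and `C` are invariant under everything normalising `P` -/
  normalizer_C₀ : normalizer (P : Set G) ≤ normalizer (C₀ : Set G)
  normalizer_C : normalizer (P : Set G) ≤ normalizer (C : Set G)
  self_centralizing : P ⊓ centralizer (C₀ : Set G) ≤ C₀
  commutator_le : ⁅C₀, P⁆ ≤ C₀ ⊓ centralizer (C₀ : Set G)
  pow_mem : ∀ x ∈ C₀, x ^ p ∈ centralizer (C₀ : Set G)
  mem_iff : ∀ x, x ∈ C ↔ x ∈ C₀ ∧ x ^ p = 1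
  /-- groups of order prime to `p` acting on `P` are faithful on `C₀` and on `C` -/
  faithful_C₀ : ∀ A : Subgroup G, A ≤ normalizer (P : Set G) → (Nat.card A).Coprime p →
    A ≤ centralizer (C₀ : Set G) → A ≤ centralizer (P : Set G)
  faithful_C : ∀ A : Subgroup G, A ≤ normalizer (P : Set G) → (Nat.card A).Coprime p →
    A ≤ centralizer (C : Set G) → A ≤ centralizer (P : Set G)

namespace CriticalPair

variable {p : ℕ} {P C₀ C : Subgroup G}

theorem C_le_P (h : CriticalPair p P C₀ C) : C ≤ P := h.le_C₀.trans h.le_P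

theorem pow_eq_one (h : CriticalPair p P C₀ C) {x : G} (hx : x ∈ C) : x ^ p = 1 :=
  ((h.mem_iff x).mp hx).2

theorem C₀_le_normalizer (h : CriticalPair p P C₀ C) : P ≤ normalizer (C₀ : Set G) :=
  le_normalizer.trans h.normalizer_C₀

theorem P_le_normalizer (h : CriticalPair p P C₀ C) : P ≤ normalizer (C : Set G) :=
  le_normalizer.trans h.normalizer_C

theorem isPGroup_C [hp : Fact p.Prime] (h : CriticalPair p P C₀ C) : IsPGroup p C := fun x =>
  ⟨1, Subtype.ext (by simp [h.pow_eq_one x.2])⟩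

/-- `C` has class at most two. -/
theorem commutator_C_le (h : CriticalPair p P C₀ C) : ⁅C, C⁆ ≤ centralizer (C : Set G) :=
  (commutator_mono h.le_C₀ h.C_le_P).trans
    (h.commutator_le.trans (inf_le_right.trans (centralizer_le h.le_C₀)))

/-- `[C, P] ≤ C ∩ C(C₀)`. -/
theorem commutator_C_P_le (h : CriticalPair p P C₀ C) :
    ⁅C, P⁆ ≤ C ⊓ centralizer (C₀ : Set G) := by
  refine le_inf ?_ ((commutator_mono h.le_C₀ le_rfl).trans (h.commutator_le.trans inf_le_right))
  refine Subgroup.commutator_le.mpr fun x hx g hg => ?_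
  have h1 : g * x⁻¹ * g⁻¹ ∈ C :=
    ((mem_normalizer_iff.mp (h.P_le_normalizer hg) x⁻¹).mp (inv_mem hx))
  have h2 : ⁅x, g⁆ = x * (g * x⁻¹ * g⁻¹) := by group
  rw [h2]
  exact mul_mem hx h1

theorem ne_bot [Finite G] [hp : Fact p.Prime] (h : CriticalPair p P C₀ C) (hP : IsPGroup p P)
    (hne : P ≠ ⊥) : C ≠ ⊥ := by
  intro hC
  have hC₀ : C₀ ≠ ⊥ := fun e => by
    refine hne (le_bot_iff.mp ?_)
    refine le_trans (le_of_eq ?_) (h.self_centralizing.trans (le_of_eq e))
    rw [e]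
    refine (inf_eq_left.mpr fun x _ => ?_).symm
    exact mem_centralizer_iff.mpr fun y hy => by rw [mem_bot.mp hy, one_mul, mul_one]
  haveI := (Subgroup.nontrivial_iff_ne_bot C₀).mpr hC₀
  obtain ⟨n, hn, hcard⟩ := (hP.to_le h.le_P).nontrivial_iff_card.mp inferInstance
  obtain ⟨⟨c, hc⟩, hco⟩ := exists_prime_orderOf_dvd_card' (G := C₀) p (hcard ▸ dvd_pow_self p hn.ne')
  rw [Subgroup.orderOf_mk] at hco
  have hmem : c ∈ C := (h.mem_iff c).mpr ⟨hc, hco ▸ pow_orderOf_eq_one c⟩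
  rw [hC, mem_bot] at hmem
  rw [hmem, orderOf_one] at hco
  exact hp.out.ne_one hco.symm

end CriticalPair

/-- Every `p`-subgroup, `p` odd, has such a pair. -/
theorem exists_criticalPair [Finite G] {p : ℕ} [hp : Fact p.Prime] (hp2 : p ≠ 2) {P : Subgroup G}
    (hP : IsPGroup p P) : ∃ C₀ C : Subgroup G, CriticalPair p P C₀ C := by
  obtain ⟨H, hchar, hcen, hpow, hcomm⟩ := Fus93.exists_critical hP
  haveI := hchar
  haveI : H.Normal := normal_of_characteristic H
  set C₀ := H.map P.subtype with hC₀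
  have hle : C₀ ≤ P := map_subtype_le _
  have hmemH : ∀ {x : G} (hx : x ∈ P), x ∈ C₀ ↔ (⟨x, hx⟩ : P) ∈ H := fun {x} hx =>
    ⟨fun h => by
      obtain ⟨y, hy, rfl⟩ := h
      exact hy, fun h => ⟨⟨x, hx⟩, h, rfl⟩⟩
  -- images of `centralizer H`
  have hcent : ∀ y : P, y ∈ centralizer (H : Set P) → (y : G) ∈ centralizer (C₀ : Set G) := by
    intro y hy
    refine mem_centralizer_iff.mpr ?_
    rintro _ ⟨z, hz, rfl⟩
    exact congrArg Subtype.val (mem_centralizer_iff.mp hy z hz)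
  have hself : P ⊓ centralizer (C₀ : Set G) ≤ C₀ := by
    rintro x ⟨hxP, hxC⟩
    refine (hmemH hxP).mpr (hcen (mem_centralizer_iff.mpr fun z hz => Subtype.ext ?_))
    exact mem_centralizer_iff.mp hxC (z : G) ⟨z, hz, rfl⟩
  have hpow' : ∀ x ∈ C₀, x ^ p ∈ centralizer (C₀ : Set G) := by
    rintro _ ⟨z, hz, rfl⟩
    simpa using hcent _ (hpow z hz)
  have hcl : ⁅C₀, P⁆ ≤ C₀ ⊓ centralizer (C₀ : Set G) := by
    refine Subgroup.commutator_le.mpr ?_
    rintro _ ⟨z, hz, rfl⟩ g hg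
    have h1 := hcomm z⁻¹ (inv_mem hz) ⟨g, hg⟩
    have h2 : z⁻¹⁻¹ * (⟨g, hg⟩ * z⁻¹ * (⟨g, hg⟩ : P)⁻¹) ∈ H :=
      mul_mem (inv_mem (inv_mem hz)) (Normal.conj_mem inferInstance _ (inv_mem hz) _)
    have h3 : ⁅(P.subtype z : G), g⁆ =
        ((z⁻¹⁻¹ * (⟨g, hg⟩ * z⁻¹ * (⟨g, hg⟩ : P)⁻¹) : P) : G) := by
      simp [commutatorElement_def, mul_assoc]
    rw [h3]
    exact ⟨(hmemH (SetLike.coe_mem _)).mpr h2, hcent _ h1⟩
  -- class two, so the elements of order dividing `p` form a subgroup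
  have hG : commutator C₀ ≤ center C₀ := by
    rw [commutator_def]
    refine Subgroup.commutator_le.mpr fun a _ b _ => mem_center_iff.mpr fun c => Subtype.ext ?_
    exact mem_centralizer_iff.mp
      (hcl (commutator_mem_commutator a.2 (hle b.2))).2 c c.2
  let C : Subgroup G :=
    { carrier := {x | x ∈ C₀ ∧ x ^ p = 1}
      one_mem' := ⟨one_mem _, one_pow _⟩
      mul_mem' := fun {a b} ha hb => ⟨mul_mem ha.1 hb.1, by
        have := PGroup.pow_eq_one_mul_classTwo hG hp.out hp2 (a := ⟨a, ha.1⟩) (b := ⟨b, hb.1⟩)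
          (Subtype.ext (by simpa using ha.2)) (Subtype.ext (by simpa using hb.2))
        simpa using congrArg Subtype.val this⟩
      inv_mem' := fun {a} ha => ⟨inv_mem ha.1, by rw [inv_pow, ha.2, inv_one]⟩ }
  have hCle : C ≤ C₀ := fun x hx => hx.1
  have hN₀ : normalizer (P : Set G) ≤ normalizer (C₀ : Set G) := fun g hg =>
    OddLocal43.normalizes_map_characteristic H hg
  have hN : normalizer (P : Set G) ≤ normalizer (C : Set G) := by
    intro g hg
    refine mem_normalizer_iff.mpr fun x => ?_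
    show (x ∈ C₀ ∧ x ^ p = 1) ↔ (g * x * g⁻¹ ∈ C₀ ∧ (g * x * g⁻¹) ^ p = 1)
    rw [← mem_normalizer_iff.mp (hN₀ hg) x, conj_pow, conj_eq_one_iff]
  have hf₀ : ∀ A : Subgroup G, A ≤ normalizer (P : Set G) → (Nat.card A).Coprime p →
      A ≤ centralizer (C₀ : Set G) → A ≤ centralizer (P : Set G) := by
    intro A hA hcop hAC
    obtain ⟨k, hk⟩ := IsPGroup.iff_card.mp hP
    refine OddLocal43.le_centralizer_symm
      (OddLocal43.le_centralizer_of_self_centralizing hP.isNilpotent hA (hk ▸ hcop.pow_right k) ?_)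
    have hC₀A : C₀ ≤ P ⊓ centralizer (A : Set G) :=
      le_inf hle (OddLocal43.le_centralizer_symm hAC)
    exact le_trans (le_trans (inf_le_inf_left _ (centralizer_le hC₀A)) hself) hC₀A
  refine ⟨C₀, C, ⟨hle, hCle, hN₀, hN, hself, hcl, hpow', fun x => Iff.rfl, hf₀, ?_⟩⟩
  intro A hA hcop hAC
  refine hf₀ A hA hcop (OddLocal43.le_centralizer_symm ?_)
  exact OddLocal43.le_centralizer_of_order_p hp2 hcop (hP.to_le hle) (hA.trans hN₀)
    fun x hx hxo => OddLocal43.le_centralizer_symm hAC ⟨hx, hxo ▸ pow_orderOf_eq_one x⟩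

end Cfsg.Agent.GW66
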