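import Cfsg.Agent.GW66.Minimal
import Cfsg.Agent.GW66.Coprime

/-!
# `DormantStmt` from `TopStmt` and `BaseStmt`

Downward induction on a Sylow `p`-subgroup `Q` of `O(C(V)) ∩ M`.
-/

set_option autoImplicit false

namespace Cfsg.Agent.GW66

open Subgroup
open scoped commutatorElement

universe u

variable {G : Type u} [Group G] [Finite G] {V : Subgroup G} {p : ℕ}

/-- A Sylow subgroup of a subgroup of odd order bounds its `p`-subgroups. -/
theorem card_le_sylowIn (hp : p.Prime) {H Q X : Subgroup G} (hQ : Q ≤ H)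
    (hQi : ¬ p ∣ Q.relIndex H) (hX : X ≤ H) (hXp : IsPGroup p X) : Nat.card X ≤ Nat.card Q := by
  have : Fact p.Prime := ⟨hp⟩
  obtain ⟨i, hi⟩ := IsPGroup.iff_card.mp hXp
  have hmul : Q.relIndex H * Nat.card Q = Nat.card H := by
    rw [relIndex, ← Nat.card_congr (subgroupOfEquivOfLe hQ).toEquiv]
    exact (Q.subgroupOf H).index_mul_card
  refine Nat.le_of_dvd Nat.card_pos ?_
  refine Nat.Coprime.dvd_of_dvd_mul_left ?_ (hmul ▸ card_dvd_of_le hX)
  rw [hi]
  exact ((hp.coprime_iff_not_dvd).mpr hQi).pow_left i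

/-- An element normalising `K` and `A` can be corrected by `C_K(A)` to normalise an invariant
Sylow subgroup of `K`. -/
theorem exists_correct {A K Q : Subgroup G} (hA : IsPGroup 2 A) (hK : Odd (Nat.card K))
    (hAK : A ≤ normalizer (K : Set G)) (hp : p.Prime) (hQK : Q ≤ K) (hQp : IsPGroup p Q)
    (hQi : ¬ p ∣ Q.relIndex K) (hAQ : A ≤ normalizer (Q : Set G)) {g : G}
    (hgK : g ∈ normalizer (K : Set G)) (hgA : g ∈ normalizer (A : Set G)) :
    ∃ c ∈ K ⊓ centralizer (A : Set G), c⁻¹ * g ∈ normalizer (Q : Set G) := by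
  have hinj : Function.Injective (MulAut.conj g).toMonoidHom := (MulAut.conj g).injective
  have hKg : K.map (MulAut.conj g).toMonoidHom = K := by
    ext y
    constructor
    · rintro ⟨x, hx, rfl⟩
      exact (conj_mem_iff hgK).mpr hx
    · intro hy
      refine ⟨g⁻¹ * y * g, ?_, by simp [mul_assoc]⟩
      have := (conj_mem_iff (inv_mem hgK) (x := y)).mpr hy
      rwa [inv_inv] at this
  set Q' := Q.map (MulAut.conj g).toMonoidHom with hQ'
  have h2 : Q' ≤ K := (map_mono hQK).trans hKg.le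
  have hi2 : ¬ p ∣ Q'.relIndex K := by
    rw [← hKg, hQ', relIndex_map_map_of_injective _ _ hinj]
    exact hQi
  have ha2 : A ≤ normalizer (Q' : Set G) := Coprime.le_normalizer_of_conj_mem fun a ha y hy => by
    obtain ⟨x, hx, rfl⟩ := hy
    have ha' : g⁻¹ * a * g ∈ A := by
      have := (conj_mem_iff (inv_mem hgA) (x := a)).mpr ha
      rwa [inv_inv] at this
    refine ⟨(g⁻¹ * a * g) * x * (g⁻¹ * a * g)⁻¹, (conj_mem_iff (hAQ ha')).mpr hx, ?_⟩
    simp only [MulEquiv.coe_toMonoidHom, MulAut.conj_apply]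
    group
  obtain ⟨c, hc, hcQ⟩ := sylowIn_conj hA hK hAK hp hQK hQp hQi hAQ h2 (hQp.map _) hi2 ha2
  refine ⟨c, hc, Coprime.mem_normalizer_of_le_iff (fun x hx => ?_) fun x hx => ?_⟩
  · obtain ⟨y, hy, hye⟩ : g * x * g⁻¹ ∈ Q.map (MulAut.conj c).toMonoidHom :=
      hcQ.symm ▸ mem_map_of_mem (MulAut.conj g).toMonoidHom hx
    simp only [MulEquiv.coe_toMonoidHom, MulAut.conj_apply] at hye
    have e : c⁻¹ * g * x * (c⁻¹ * g)⁻¹ = y := by
      calc c⁻¹ * g * x * (c⁻¹ * g)⁻¹ = c⁻¹ * (g * x * g⁻¹) * c := by group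
        _ = y := by rw [← hye]; group
    exact e.symm ▸ hy
  · obtain ⟨y, hy, hye⟩ : c * x * c⁻¹ ∈ Q' :=
      hcQ ▸ mem_map_of_mem (MulAut.conj c).toMonoidHom hx
    simp only [MulEquiv.coe_toMonoidHom, MulAut.conj_apply] at hye
    have e : (c⁻¹ * g)⁻¹ * x * (c⁻¹ * g) = y := by
      calc (c⁻¹ * g)⁻¹ * x * (c⁻¹ * g) = g⁻¹ * (c * x * c⁻¹) * g := by group
        _ = y := by rw [← hye]; group
    exact e.symm ▸ hy

omit [Finite G] in
theorem le_normalizer_zpowers_of_conj {A : Subgroup G} {x : G}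
    (h : ∀ a ∈ A, a * x * a⁻¹ ∈ zpowers x) : A ≤ normalizer (zpowers x : Set G) :=
  Coprime.le_normalizer_of_conj_mem fun a ha y hy => by
    obtain ⟨n, rfl⟩ := mem_zpowers_iff.mp hy
    rw [← conj_zpow]
    exact zpow_mem (h a ha) n

/-- `N(V)` normalises `O(C(V))`. -/
theorem normalizer_le_normalizer_coreD (hV : IsKleinFour V) (hodd : Odd V.index) :
    normalizer (V : Set G) ≤ normalizer (coreD V : Set G) :=
  Coprime.le_normalizer_of_conj_mem fun g hg x hx => by
    obtain ⟨ho, hc⟩ := (mem_coreD_iff hV hodd).mp hx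
    refine (mem_coreD_iff hV hodd).mpr ⟨?_, ?_⟩
    · rwa [show g * x * g⁻¹ = MulAut.conj g x from rfl, MulEquiv.orderOf_eq]
    · exact (conj_mem_iff (Coprime.le_normalizer_centralizer (A := normalizer (V : Set G))
        le_rfl hg)).mpr hc

/-- The downward induction. -/
theorem dormant_aux (hTop : TopStmt.{u}) (hBase : BaseStmt.{u}) (hctx : Ctx V) (hp : p.Prime)
    (n : ℕ) : ∀ (M : Subgroup G), M ≠ ⊤ → V ≤ M → Fused M V → p ∣ Nat.card ↥(coreD V ⊓ M) →
      ∀ X : Subgroup G, X ≤ coreD V ⊓ M → IsPGroup p X →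
        Nat.card ↥(coreD V) ≤ n + Nat.card X →
        ∀ R : Subgroup G, R ≤ coreO M → IsPGroup p R → V ≤ normalizer (R : Set G) →
          V ≤ centralizer (R : Set G) := by
  induction n using Nat.strong_induction_on with
  | _ n ih => ?_
  classical
  intro M hM hVM hfus hdvd X hX hXp hXn R hRW hRp hVR
  have : Fact p.Prime := ⟨hp⟩
  have hV := hctx.klein
  have hodd := hctx.sylow
  set D := coreD V with hD
  set W := coreO M with hW
  set DM := D ⊓ M with hDM
  have hDMo : Odd (Nat.card DM) := odd_card_of_le inf_le_left (odd_card_coreD V)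
  have hp2 : p ≠ 2 := by
    rintro rfl
    exact (Nat.not_even_iff_odd.mpr hDMo) (even_iff_two_dvd.mpr hdvd)
  have hA := isPGroup_klein hV
  have hWo := odd_card_coreO M
  have hMW : M ≤ normalizer (W : Set G) := le_normalizer_coreO M
  have hVW : V ≤ normalizer (W : Set G) := hVM.trans hMW
  have hDC : DM ≤ centralizer (V : Set G) := inf_le_left.trans (le_centralizer_coreD V)
  set CW := W ⊓ centralizer (V : Set G) with hCW
  have hCWD : CW ≤ DM := fun x hx => ⟨(mem_coreD_iff hV hodd).mpr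
    ⟨hWo.of_dvd_nat (orderOf_dvd_natCard _ hx.1), hx.2⟩, coreO_le M hx.1⟩
  have hbot : IsPGroup 2 (⊥ : Subgroup G) := IsPGroup.of_bot
  -- an invariant Sylow subgroup of the odd core through a Sylow subgroup of the fixed part
  obtain ⟨Pw, hPwC, hPwp, hPwi, -⟩ := exists_sylowIn hbot (odd_card_of_le hCWD hDMo)
    bot_le hp
  obtain ⟨S, hPwS, hSW, hSp, hSi, hVS⟩ := exists_sylowIn_ge hA hWo hVW hp
    (hPwC.trans inf_le_left) hPwp (fun v hv => centralizer_le_normalizer _
      (mem_centralizer_iff.mpr fun x hx => (mem_centralizer_iff.mp (hPwC hx).2 v hv).symm))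
  suffices hfix : V ≤ centralizer (S : Set G) by
    obtain ⟨S', hRS', hS'W, hS'p, hS'i, hVS'⟩ := exists_sylowIn_ge hA hWo hVW hp hRW hRp hVR
    obtain ⟨c, hc, hcS⟩ := sylowIn_conj hA hWo hVW hp hSW hSp hSi hVS hS'W hS'p hS'i hVS'
    intro v hv
    refine mem_centralizer_iff.mpr fun y hy => ?_
    obtain ⟨x, hx, rfl⟩ := hcS.symm ▸ hRS' hy
    have h1 : Commute v x := (mem_centralizer_iff.mp (hfix hv) x hx).symm
    have h2 : Commute v c := mem_centralizer_iff.mp hc.2 v hv
    simp only [MulEquiv.coe_toMonoidHom, MulAut.conj_apply]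
    exact ((h2.mul_right h1).mul_right h2.inv_right).eq.symm
  by_contra hmove
  -- a Sylow subgroup of `D ∩ M` normalising it
  set T := DM ⊓ normalizer (S : Set G) with hT
  have hTD : T ≤ DM := inf_le_left
  have hTi : ¬ p ∣ T.relIndex DM := by
    have hsur : Function.Surjective (quotientSubgroupOfEmbeddingOfLE T hCWD) := by
      intro q
      induction q using QuotientGroup.induction_on with | _ d => ?_
      have hdV : (d : G) ∈ normalizer (V : Set G) := centralizer_le_normalizer _ (hDC d.2)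
      obtain ⟨c, hc, hcn⟩ := exists_correct hA hWo hVW hp hSW hSp hSi hVS
        (hMW d.2.2) hdV
      refine ⟨QuotientGroup.mk ⟨c, hc⟩, ?_⟩
      rw [quotientSubgroupOfEmbeddingOfLE_apply_mk]
      refine QuotientGroup.eq.mpr (mem_subgroupOf.mpr ?_)
      show c⁻¹ * (d : G) ∈ DM ⊓ normalizer (S : Set G)
      exact mem_inf.mpr ⟨mul_mem (inv_mem (hCWD hc)) d.2, hcn⟩
    have he : T.relIndex DM = T.relIndex CW := (Nat.card_eq_of_bijective _
      ⟨(quotientSubgroupOfEmbeddingOfLE T hCWD).injective, hsur⟩).symm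
    intro hd
    refine hPwi ((he ▸ hd).trans ?_)
    rw [← inf_relIndex_right T CW]
    exact relIndex_dvd_of_le_left CW (le_inf (le_inf (hPwC.trans hCWD)
      (hPwS.trans le_normalizer)) hPwC)
  obtain ⟨Q, hQT, hQp, hQTi, -⟩ := exists_sylowIn hbot (odd_card_of_le hTD hDMo)
    bot_le hp
  have hQD : Q ≤ DM := hQT.trans hTD
  have hQi : ¬ p ∣ Q.relIndex DM := by
    rw [← relIndex_mul_relIndex _ _ _ hQT hTD]
    exact fun h => (hp.dvd_mul.mp h).elim hQTi hTi
  -- a fusing element normalising both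
  obtain ⟨g, hgM, hgV, hgC⟩ := hfus
  obtain ⟨c, hc, hcn⟩ := exists_correct hA hWo hVW hp hSW hSp hSi hVS (hMW hgM) hgV
  set g₁ := c⁻¹ * g with hg₁
  have hg₁M : g₁ ∈ M := mul_mem (inv_mem (coreO_le M hc.1)) hgM
  have hg₁V : g₁ ∈ normalizer (V : Set G) :=
    mul_mem (inv_mem (centralizer_le_normalizer _ hc.2)) hgV
  have hg₁C : g₁ ∉ centralizer (V : Set G) := fun h => hgC (by
    simpa [hg₁] using mul_mem hc.2 h)
  have hg₁T : g₁ ∈ normalizer (T : Set G) := by
    refine Coprime.le_normalizer_inf (A := zpowers g₁) (H := DM) ?_ ?_ (mem_zpowers _)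
    · exact Coprime.le_normalizer_inf
        (zpowers_le.mpr (normalizer_le_normalizer_coreD hV hodd hg₁V))
        (zpowers_le.mpr (le_normalizer hg₁M))
    · exact Coprime.le_normalizer_normalizer (zpowers_le.mpr hcn)
  obtain ⟨t, ht, htn⟩ := exists_correct hbot (odd_card_of_le hTD hDMo) bot_le hp
    hQT hQp hQTi bot_le hg₁T
    (mem_normalizer_iff.mpr fun y => by simp [mem_bot])
  obtain ⟨htT, -⟩ := ht
  set r := t⁻¹ * g₁ with hr
  have htV : t ∈ centralizer (V : Set G) := hDC (hTD htT)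
  have hrM : r ∈ M := mul_mem (inv_mem (hTD htT).2) hg₁M
  have hrV : r ∈ normalizer (V : Set G) :=
    mul_mem (inv_mem (centralizer_le_normalizer _ htV)) hg₁V
  have hrC : r ∉ centralizer (V : Set G) := fun h => hg₁C (by
    simpa [hr] using mul_mem htV h)
  have hrS : r ∈ normalizer (S : Set G) := mul_mem (inv_mem htT.2) hcn
  have hQV : Q ≤ centralizer (V : Set G) := hQD.trans hDC
  have hQS : Q ≤ normalizer (S : Set G) := hQT.trans inf_le_right
  by_cases hfull : p ∣ Q.relIndex D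
  swap
  · exact hmove (hBase G V hctx p hp (hdvd.trans (card_dvd_of_le inf_le_left)) Q S r
      (hQD.trans inf_le_left) hQp hfull hrV hrC htn hrS hQS hSp hVS)
  -- three commuting inverted elements
  obtain ⟨a₀, ha₀, ha₁⟩ : ∃ a ∈ V, a ≠ 1 := by
    by_contra h
    push Not at h
    exact hgC (mem_centralizer_iff.mpr fun v hv => by rw [h v hv, one_mul, mul_one])
  obtain ⟨x, hx⟩ := exists_triple hV hodd hp hp2 hrV hrC hQp hQV htn hrS hQS hSp hVS hmove
    ha₀ ha₁
  set M' := normalizer (Q : Set G) with hM'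
  have hVM' : V ≤ M' := fun v hv => centralizer_le_normalizer _
    (mem_centralizer_iff.mpr fun y hy => (mem_centralizer_iff.mp (hQV hy) v hv).symm)
  have hQ1 : Q ≠ ⊥ := by
    intro h
    rw [h, relIndex_bot_left] at hQi
    exact hQi hdvd
  have hM'top : M' ≠ ⊤ := hctx.normalizer_ne_top hQ1 fun h => hrC (by
    exact hQV (h ▸ mem_top r))
  have hfus' : Fused M' V := ⟨r, htn, hrV, hrC⟩
  have hQDM' : Q ≤ D ⊓ M' := le_inf (hQD.trans inf_le_left) le_normalizer
  have hdvd' : p ∣ Nat.card ↥(D ⊓ M') := by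
    refine Dvd.dvd.trans ?_ (card_dvd_of_le hQDM')
    obtain ⟨k, hk⟩ := IsPGroup.iff_card.mp hQp
    rcases k with _ | k
    · exact absurd (eq_bot_of_card_eq Q (by simpa using hk)) hQ1
    · exact hk ▸ dvd_pow_self p k.succ_ne_zero
  -- a larger `p`-subgroup of `D ∩ M'`
  obtain ⟨P, hQP, hPD, hPp, hPi, -⟩ := exists_sylowIn_ge hbot (odd_card_coreD V)
    bot_le hp (hQD.trans inf_le_left) hQp bot_le
  set X' := P ⊓ M' with hX'
  have hQX' : Q < X' := by
    have hne : Q.subgroupOf P ≠ ⊤ := fun h => by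
      have : Q = P := le_antisymm hQP (subgroupOf_eq_top.mp h)
      exact hPi (this ▸ hfull)
    have := hPp.isNilpotent
    have hlt := Group.normalizerCondition_of_isNilpotent (G := P) _ hne.lt_top
    obtain ⟨y, hy, hyn⟩ := SetLike.exists_of_lt hlt
    refine lt_of_le_of_ne (le_inf hQP le_normalizer) fun e => hyn (mem_subgroupOf.mpr ?_)
    have : (y : G) ∈ M' := by
      refine Coprime.mem_normalizer_of_le_iff (fun z hz => ?_) fun z hz => ?_
      · exact (mem_normalizer_iff.mp hy ⟨z, hQP hz⟩).mp hz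
      · have := (mem_normalizer_iff.mp (inv_mem hy) ⟨z, hQP hz⟩).mp hz
        simpa [mem_subgroupOf] using this
    exact e.ge ⟨y.2, this⟩
  have hcard : Nat.card X < Nat.card X' := by
    refine (card_le_sylowIn hp hQD hQi hX hXp).trans_lt ?_
    exact lt_of_le_of_ne (card_le_of_le hQX'.le) fun e =>
      hQX'.ne (eq_of_le_of_card_ge hQX'.le e.ge)
  have hX'D : Nat.card X' ≤ Nat.card D := card_le_of_le (inf_le_left.trans hPD)
  have key : ∀ w : G, w ^ p = 1 → w ∈ coreO M' → (∀ v ∈ V, v * w * v⁻¹ ∈ zpowers w) →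
      ∀ v ∈ V, v * w * v⁻¹ = w := by
    intro w hwp hw hwV v hv
    have hwP : IsPGroup p (zpowers w) := by
      rcases (Nat.dvd_prime hp).mp (orderOf_dvd_of_pow_eq_one hwp) with h | h
      · exact IsPGroup.of_card (n := 0) (by rw [Nat.card_zpowers, h]; rfl)
      · exact IsPGroup.of_card (n := 1) (by rw [Nat.card_zpowers, h, pow_one])
    have := ih (Nat.card D - Nat.card X') (by omega) M' hM'top hVM' hfus' hdvd' X'
      (le_inf (inf_le_left.trans hPD) inf_le_right) (hPp.to_le inf_le_left) (by omega)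
      (zpowers w) (zpowers_le.mpr hw) hwP (le_normalizer_zpowers_of_conj hwV)
    exact mul_inv_eq_iff_eq_mul.mpr (mem_centralizer_iff.mp (this hv) w (mem_zpowers w)).symm
  -- the two inverted elements
  set a := a₀ with ha
  set a' := r * a * r⁻¹ with ha'
  obtain ⟨hn1, -⟩ := fusing_ne hV hodd hrV hrC ha₀ ha₁
  have hpair : Pair V a a' := ⟨ha₀, (conj_mem_iff hrV).mpr ha₀, ha₁,
    fun e => ha₁ (conj_eq_one_iff.mp e), hn1.symm⟩
  set y := r * x * r⁻¹ with hy
  have hSo : ∀ w ∈ S, Odd (orderOf w) := fun w hw =>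
    (odd_card_of_le hSW hWo).of_dvd_nat (orderOf_dvd_natCard _ hw)
  have hmemM' : ∀ w, w = x ∨ w = y → w ∈ M' := fun w hw => centralizer_le_normalizer _
    (mem_centralizer_iff.mpr fun q hq => (mem_centralizer_iff.mp (hx.cent hq) w (by
      rcases hw with rfl | rfl <;> simp [y])).symm)
  set e := r⁻¹ * a * r with he
  have he₀ : e ∈ V := by
    have := (conj_mem_iff (inv_mem hrV) (x := a)).mpr ha₀
    rwa [inv_inv] at this
  have hye : a * y * a⁻¹ = y⁻¹ := by
    have h1 : e ≠ 1 := fun h => ha₁ (by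
      rw [show a = r * e * r⁻¹ by rw [he]; group, h]; group)
    have h2 : e ≠ a := fun h => hn1 (by
      calc r * a * r⁻¹ = r * e * r⁻¹ := by rw [h]
        _ = a := by rw [he]; group)
    calc a * y * a⁻¹ = r * (e * x * e⁻¹) * r⁻¹ := by rw [hy, he]; group
      _ = y⁻¹ := by rw [hx.inv e he₀ h1 h2, hy]; group
  have hyc : y * a' = a' * y := by
    calc y * a' = r * (x * a) * r⁻¹ := by rw [hy, ha']; group
      _ = r * (a * x) * r⁻¹ := by rw [hx.comm]
      _ = a' * y := by rw [hy, ha']; group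
  have hxi : a' * x * a'⁻¹ = x⁻¹ := hx.inv a' hpair.hb hpair.b1 hn1
  have hconj : ∀ v ∈ V, v * x * v⁻¹ ∈ zpowers x := by
    intro v hv
    by_cases h1 : v = 1
    · subst h1; simp
    by_cases h2 : v = a
    · subst h2; rw [← hx.comm, mul_inv_cancel_right]; exact mem_zpowers x
    rw [hx.inv v hv h1 h2]
    exact inv_mem (mem_zpowers x)
  have hyp : y ^ p = 1 := by rw [hy, conj_pow, hx.pow]; group
  rcases (hTop G V hctx M' hM'top hVM' hfus').twoInv a a' hpair x
      ⟨hmemM' x (Or.inl rfl), hSo x hx.mem, hx.comm, hxi⟩ y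
      ⟨hmemM' y (Or.inr rfl), hSo y hx.mem₂, hyc, hye⟩ hx.comm₁₂.eq with h | h
  · exact hx.ne (eq_one_of_sq (hSo x hx.mem)
      ((key x hx.pow h hconj a' hpair.hb).symm.trans hxi))
  · have hyconj : ∀ v ∈ V, v * y * v⁻¹ ∈ zpowers y := by
      intro v hv
      have hv' : r⁻¹ * v * r ∈ V := by
        have := (conj_mem_iff (inv_mem hrV) (x := v)).mpr hv
        rwa [inv_inv] at this
      obtain ⟨k, hk⟩ := mem_zpowers_iff.mp (hconj _ hv')
      refine mem_zpowers_iff.mpr ⟨k, ?_⟩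
      rw [hy, conj_zpow, hk]
      group
    have hy1 : y = 1 := eq_one_of_sq (hSo y hx.mem₂)
      ((key y hyp h hyconj a hpair.ha).symm.trans hye)
    exact hx.ne (conj_eq_one_iff.mp hy1)

/-- `V` centralises the invariant `p`-subgroups of the odd cores. -/
theorem dormant (hTop : TopStmt.{u}) (hBase : BaseStmt.{u}) : DormantStmt.{u} := by
  intro G _ _ V hctx M hM hVM hfus p hp hdvd R hR hRp hVR
  exact dormant_aux hTop hBase hctx hp (Nat.card ↥(coreD V)) M hM hVM hfus hdvd ⊥ bot_le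
    IsPGroup.of_bot (Nat.le_add_right _ _) R hR hRp hVR

end Cfsg.Agent.GW66
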