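import Cfsg.Agent.GW66.Defs
import Cfsg.Agent.Bender43.Cores
import Cfsg.Agent.Lib.Coprime.Action
import Cfsg.Agent.Lib.Thompson.Cores
import Mathlib.GroupTheory.Transfer
import Mathlib.GroupTheory.Abelianization.Defs

/-!
`[O(C(a)), V]` meets `O(C(V))` trivially when it centralises an element of `O(C(V))`.
-/

set_option autoImplicit false

namespace Cfsg.Agent.GW66

open Subgroup
open scoped commutatorElement
open Coprime (conj_mem_of_mem_normalizer conj_mem_of_mem_normalizer')

namespace Former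

universe u
variable {G : Type u} [Group G]

theorem coreK_le_centralizer (a : G) : coreK a ≤ centralizer ({a} : Set G) :=
  map_subtype_le _

theorem odd_coreK [Finite G] (a : G) : Odd (Nat.card ↥(coreK a)) := by
  rw [coreK, Cfsg.centralizerPPrimeCore, card_subtype]
  exact Nat.coprime_two_right.mp Thompson.card_pPrimeCore_coprime

theorem centralizer_le_normalizer_coreK (a : G) :
    centralizer ({a} : Set G) ≤ normalizer (coreK a : Set G) :=
  Coprime.le_normalizer_of_conj_mem fun g hg x hx => by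
    obtain ⟨y, hy, rfl⟩ := hx
    exact ⟨_, (Thompson.sSup_normal (fun _ h => h.1) :
      (Cfsg.pPrimeCore 2 ↥(centralizer ({a} : Set G))).Normal).conj_mem y hy ⟨g, hg⟩, rfl⟩

theorem coreK_inf_centralizer_le [Finite G] (V : Subgroup G) {a : G} (ha : a ∈ V) :
    coreK a ⊓ centralizer (V : Set G) ≤ coreD V := by
  intro x hx
  let N : Subgroup (centralizer (V : Set G)) := (coreK a).subgroupOf _
  have hle : centralizer (V : Set G) ≤ centralizer ({a} : Set G) :=
    centralizer_le (by simpa using ha)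
  have hN : N.Normal := ⟨fun n hn g =>
    conj_mem_of_mem_normalizer (centralizer_le_normalizer_coreK a (hle g.2))
      (x := (n : G)) hn⟩
  have hcard : (Nat.card N).Coprime 2 := by
    refine Nat.Coprime.coprime_dvd_left ?_ (Nat.coprime_two_right.mpr (odd_coreK a))
    exact card_comap_dvd_of_injective _ _ (subtype_injective _)
  exact ⟨⟨x, hx.2⟩, Thompson.le_pPrimeCore hN hcard hx.1, rfl⟩

theorem coreO_le (M : Subgroup G) : coreO M ≤ M := map_subtype_le _

theorem le_normalizer_coreO (M : Subgroup G) : M ≤ normalizer (coreO M : Set G) :=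
  Coprime.le_normalizer_of_conj_mem fun g hg x hx => by
    obtain ⟨y, hy, rfl⟩ := hx
    exact ⟨_, (Thompson.sSup_normal (fun _ h => h.1) :
      (Cfsg.oddCore ↥M).Normal).conj_mem y hy ⟨g, hg⟩, rfl⟩

theorem sq_eq_one_of_odd {H : Type*} [Group H] {x : H} (h : x = x⁻¹) {n : ℕ} (hn : Odd n)
    (hx : x ^ n = 1) : x = 1 := by
  obtain ⟨k, rfl⟩ := hn
  have h2 : x ^ 2 = 1 := by rw [pow_two]; exact mul_eq_one_iff_eq_inv.mpr h
  simpa [pow_succ, pow_mul, h2] using hx

/-- A subgroup generated by commuting elements inverted by `σ`, in the image of `π`. -/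
theorem inverted_of_closure {H W : Type*} [Group H] [Group W] (π : H →* W) (σ : H →* H)
    (T : Set H) (hcomm : ∀ x ∈ T, ∀ y ∈ T, Commute (π x) (π y))
    (hinv : ∀ x ∈ T, π (σ x) = (π x)⁻¹) {x : H} (hx : x ∈ closure T) :
    π (σ x) = (π x)⁻¹ := by
  have hle1 : ∀ t ∈ T, ∀ y ∈ closure T, Commute (π t) (π y) := fun t ht y hy => by
    have : closure T ≤ (centralizer ({π t} : Set W)).comap π :=
      (closure_le _).mpr fun z hz => mem_centralizer_singleton_iff.mpr (hcomm t ht z hz).symm.eq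
    exact (mem_centralizer_singleton_iff.mp (this hy) : _).symm
  have hle2 : ∀ y ∈ closure T, ∀ z ∈ closure T, Commute (π y) (π z) := fun y hy z hz => by
    have : closure T ≤ (centralizer ({π z} : Set W)).comap π :=
      (closure_le _).mpr fun t ht => mem_centralizer_singleton_iff.mpr (hle1 t ht z hz).eq
    exact mem_centralizer_singleton_iff.mp (this hy)
  induction hx using closure_induction with
  | mem y hy => exact hinv y hy
  | one => simp
  | mul y z hy hz ihy ihz =>
    rw [map_mul, map_mul, ihy, ihz, map_mul, mul_inv_rev]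
    exact (hle2 y hy z hz).inv_inv.eq
  | inv y hy ih => rw [map_inv, map_inv, ih, map_inv]

theorem fixed_mem_of_commute {H : Type*} [Group H] [Finite H] {W : Type*} [Group W] (π : H →* W)
    (σ : H →* H) (T : Set H) (hcomm : ∀ x ∈ T, ∀ y ∈ T, Commute (π x) (π y))
    (hinv : ∀ x ∈ T, σ x = x⁻¹) {x : H} (hx : x ∈ closure T) (hfix : σ x = x)
    (hodd : Odd (orderOf x)) : π x = 1 := by
  refine sq_eq_one_of_odd ?_ hodd (by rw [← map_pow, pow_orderOf_eq_one, map_one])
  have := inverted_of_closure π σ T hcomm (fun t ht => by rw [hinv t ht, map_inv]) hx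
  rwa [hfix] at this

end Former

open Former

universe u

theorem former (hTop : TopStmt.{u}) (hFC : FusedCentStmt.{u}) (hNC : NegCyclicStmt.{u}) :
    FormerStmt.{u} := by
  intro G _ _ V ctx dorm a q f ha ha1 hq hdvd hfD hf1 hfk hUf
  classical
  haveI := ctx.klein
  set M : Subgroup G := centralizer ({f} : Set G) with hMdef
  have hfused : Fused M V := hFC G V ctx dorm a q hq ha ha1 hdvd f hfD hf1 hfk
  have hVcomm : ∀ x ∈ V, ∀ y ∈ V, x * y = y * x := fun x hx y hy =>
    congrArg Subtype.val ((IsKleinFour.isMulCommutative (G := V)).is_comm.comm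
      (⟨x, hx⟩ : V) ⟨y, hy⟩)
  have hfC : f ∈ centralizer (V : Set G) := map_subtype_le _ hfD
  have hVM : V ≤ M := fun v hv => by
    rw [hMdef, mem_centralizer_singleton_iff]
    exact mem_centralizer_iff.mp hfC v hv
  have hMtop : M ≠ ⊤ := by
    intro h
    have hz : f ∈ center G := mem_center_iff.mpr fun g => by
      have : g ∈ M := h ▸ mem_top g
      rw [hMdef, mem_centralizer_singleton_iff] at this
      exact this
    haveI := ctx.simple
    rcases Subgroup.Normal.eq_bot_or_eq_top (inferInstance : (center G).Normal) with h0 | h1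
    · exact hf1 (by simpa [h0] using hz)
    · obtain ⟨g, -, -, hg⟩ := ctx.fused
      exact hg (mem_centralizer_iff.mpr fun v _ =>
        ((mem_center_iff.mp (h1 ▸ mem_top g)) v))
  have top := hTop G V ctx M hMtop hVM hfused
  -- the second involution
  obtain ⟨b, hbV, hb1, hba⟩ : ∃ b ∈ V, b ≠ 1 ∧ b ≠ a := by
    by_contra h
    push Not at h
    have hsub : (Set.univ : Set V) ⊆ {1, ⟨a, ha⟩} := fun v _ => by
      by_cases hv : (v : G) = 1
      · exact Or.inl (Subtype.ext hv)
      · exact Or.inr (Subtype.ext (h v v.2 hv))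
    have := Set.ncard_le_ncard hsub (Set.toFinite _)
    rw [Set.ncard_univ, IsKleinFour.card_four] at this
    have h2 := Set.ncard_insert_le (1 : V) {⟨a, ha⟩}
    rw [Set.ncard_singleton] at h2
    omega
  have hpair : Pair V a b := ⟨ha, hbV, ha1, hb1, fun h => hba h.symm⟩
  have hsq : ∀ v ∈ V, v * v = 1 := fun v hv =>
    congrArg Subtype.val (IsKleinFour.mul_self (⟨v, hv⟩ : V))
  have hbinv : b⁻¹ = b := inv_eq_of_mul_eq_one_left (hsq b hbV)
  have hVcases : ∀ v ∈ V, v = 1 ∨ v = a ∨ v = b ∨ v = a * b := by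
    intro v hv
    by_contra h
    push Not at h
    obtain ⟨h1, h2, h3, h4⟩ := h
    have : (⟨v, hv⟩ : V) = ⟨a, ha⟩ * ⟨b, hbV⟩ := IsKleinFour.eq_mul_of_ne_all
      (fun e => ha1 (congrArg Subtype.val e)) (fun e => hb1 (congrArg Subtype.val e))
      (fun e => hba (congrArg Subtype.val e).symm)
      (fun e => h1 (congrArg Subtype.val e)) (fun e => h2 (congrArg Subtype.val e))
      (fun e => h3 (congrArg Subtype.val e))
    exact h4 (congrArg Subtype.val this)
  -- basic properties of `U`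
  set K := coreK a with hKdef
  set U := coreU V a with hUdef
  have hUeq : U = ⁅K, V⁆ := rfl
  have hVCa : V ≤ centralizer ({a} : Set G) := fun v hv =>
    mem_centralizer_singleton_iff.mpr (hVcomm v hv a ha)
  have hVK : V ≤ normalizer (K : Set G) := hVCa.trans (centralizer_le_normalizer_coreK a)
  have hV4 : Nat.card V = 4 := IsKleinFour.card_four
  have hcop : ∀ {X : Subgroup G}, X ≤ K → (Nat.card V).Coprime (Nat.card X) := fun {X} hX => by
    rw [hV4, show (4 : ℕ) = 2 ^ 2 by rfl]
    exact Nat.Coprime.pow_left 2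
      (Nat.coprime_two_left.mpr (Odd.of_dvd_nat (odd_coreK a) (card_dvd_of_le hX)))
  have hVsolv : Group.IsSolvable V := by
    haveI := IsKleinFour.isMulCommutative (G := V)
    exact Group.isSolvable_of_comm fun x y => IsMulCommutative.is_comm.comm x y
  have hUK : U ≤ K := Coprime.commutator_le_of_le_normalizer hVK
  have hVU : V ≤ normalizer (U : Set G) := Coprime.le_normalizer_commutator_right V K
  have hUV : ⁅U, V⁆ = U :=
    Coprime.commutator_commutator_eq V K hVK (hcop le_rfl) (Or.inl hVsolv)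
  have hUM : U ≤ M := hUf
  have hUa : ∀ u ∈ U, u * a = a * u := fun u hu =>
    mem_centralizer_singleton_iff.mp (coreK_le_centralizer a (hUK hu))
  have hUodd : ∀ u ∈ U, Odd (orderOf u) := fun u hu =>
    Odd.of_dvd_nat (odd_coreK a) (orderOf_dvd_natCard K (hUK hu))
  set T : Set U := {x | ∃ u ∈ U, (x : G) = ⁅u, b⁆} with hTdef
  have hcl : closure T = ⊤ := by
    rw [eq_top_iff]
    have hle : U ≤ (closure T).map U.subtype := by
      conv_lhs => rw [← hUV]
      refine commutator_le.mpr fun u hu v hv => ?_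
      have hb : ⁅u, b⁆ ∈ U := hUV ▸ commutator_mem_commutator hu hbV
      rcases hVcases v hv with rfl | rfl | rfl | rfl
      · simp
      · have : ⁅u, v⁆ = 1 := commutatorElement_eq_one_iff_mul_comm.mpr (hUa u hu)
        simp [this]
      · exact ⟨⟨_, hb⟩, subset_closure ⟨u, hu, rfl⟩, rfl⟩
      · have : ⁅u, a * b⁆ = ⁅u, b⁆ := by
          have h1 := hUa _ hb
          calc ⁅u, a * b⁆ = u * a * b * u⁻¹ * b⁻¹ * a⁻¹ := by
                rw [commutatorElement_def]; group
            _ = a * ⁅u, b⁆ * a⁻¹ := by rw [hUa u hu, commutatorElement_def]; group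
            _ = ⁅u, b⁆ := by rw [← h1]; group
        exact this ▸ ⟨⟨_, hb⟩, subset_closure ⟨u, hu, rfl⟩, rfl⟩
    intro x _
    obtain ⟨y, hy, hxy⟩ := hle x.2
    rwa [Subtype.ext hxy] at hy
  -- conjugation by `b`
  let σ : U →* U :=
    { toFun := fun x => ⟨b * x * b⁻¹, conj_mem_of_mem_normalizer (hVU hbV) x.2⟩
      map_one' := Subtype.ext (by simp)
      map_mul' := fun x y => Subtype.ext (by simp only [Subgroup.coe_mul]; group) }
  have hσT : ∀ x ∈ T, σ x = x⁻¹ := by
    rintro x ⟨u, hu, hx⟩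
    refine Subtype.ext ?_
    show b * (x : G) * b⁻¹ = (x : G)⁻¹
    rw [hx, commutatorElement_def, hbinv]
    have hbb := hsq b hbV
    simp only [mul_inv_rev, inv_inv, hbinv]
    simp only [mul_assoc, hbb, mul_one]
  have hinvSet : ∀ x ∈ T, (x : G) ∈ invSet M a b := fun x hx =>
    ⟨hUM x.2, hUodd x x.2, hUa x x.2, congrArg Subtype.val (hσT x hx)⟩
  set C := U ⊓ centralizer (V : Set G) with hCdef
  have hCU : C ≤ U := inf_le_left
  have hσC : ∀ x : U, (x : G) ∈ C → σ x = x := fun x hx => Subtype.ext <| by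
    show b * (x : G) * b⁻¹ = x
    rw [mem_centralizer_iff.mp hx.2 b hbV, mul_inv_cancel_right]
  have hCD : C ≤ coreD V := fun x hx => coreK_inf_centralizer_le V ha ⟨hUK hx.1, hx.2⟩
  -- fixed elements lie in the core of `M`
  have hCO : C ≤ coreO M := by
    intro x hx
    let π : U →* M ⧸ Cfsg.oddCore ↥M :=
      haveI : (Cfsg.oddCore ↥M).Normal := Thompson.sSup_normal (fun _ h => h.1)
      (QuotientGroup.mk' (Cfsg.oddCore ↥M)).comp (Subgroup.inclusion hUM)
    haveI : (Cfsg.oddCore ↥M).Normal := Thompson.sSup_normal (fun _ h => h.1)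
    have hπ : π ⟨x, hx.1⟩ = 1 := by
      refine fixed_mem_of_commute π σ T (fun y hy z hz => ?_) hσT (hcl ▸ mem_top _) (hσC _ hx) ?_
      · obtain ⟨w, hw, hwe⟩ := top.comm a b hpair _ (hinvSet y hy) _ (hinvSet z hz)
        refine commutatorElement_eq_one_iff_commute.mp ?_
        rw [← map_commutatorElement]
        exact (QuotientGroup.eq_one_iff _).mpr (by
          have e : w = Subgroup.inclusion hUM ⁅y, z⁆ := Subtype.ext (hwe.trans (map_commutatorElement U.subtype y z).symm)
          exact e ▸ hw)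
      · rw [← orderOf_coe]; exact hUodd x hx.1
    exact ⟨_, (QuotientGroup.eq_one_iff _).mp hπ, rfl⟩
  -- fixed elements are killed by homomorphisms to commutative groups
  have hkill : ∀ (A : Type u) [CommGroup A] (φ : U →* A) (x : U), (x : G) ∈ C → φ x = 1 :=
    fun A _ φ x hx => fixed_mem_of_commute φ σ T (fun _ _ _ _ => Commute.all _ _) hσT
      (hcl ▸ mem_top _) (hσC x hx) (by rw [← orderOf_coe]; exact hUodd x x.2)
  -- it suffices that `C` is trivial
  suffices hC : C = ⊥ by
    refine le_bot_iff.mp fun x hx => hC ▸ ⟨hx.1, map_subtype_le _ hx.2⟩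
  by_contra hne
  have hCodd : Odd (Nat.card C) := Odd.of_dvd_nat (odd_coreK a) (card_dvd_of_le (hCU.trans hUK))
  haveI : Nontrivial C := (nontrivial_iff_ne_bot C).mpr hne
  haveI := Bender43.solvable_of_odd hCodd
  have hcne : commutator C ≠ ⊤ := (Group.IsSolvable.commutator_lt_top_of_nontrivial C).ne
  obtain ⟨p, hp, hpidx⟩ := Nat.exists_prime_and_dvd
    (show (commutator C).index ≠ 1 from fun h => hcne (index_eq_one.mp h))
  haveI := Fact.mk hp
  have hpC : p ∣ Nat.card C := hpidx.trans (index_dvd_card _)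
  have hpD : p ∣ Nat.card ↥(coreD V ⊓ M) :=
    hpC.trans (card_dvd_of_le (le_inf hCD (hCU.trans hUM)))
  set O := coreO M with hOdef
  set U₁ := U ⊓ O with hU₁def
  have hVO : V ≤ normalizer (O : Set G) := hVM.trans (le_normalizer_coreO M)
  -- the Sylow subgroup
  obtain ⟨R₀⟩ := (inferInstance : Nonempty (Sylow p C))
  set R₀' := (R₀ : Subgroup C).map C.subtype with hR₀'
  have hR₀C : R₀' ≤ C := map_subtype_le _
  have hVR₀ : V ≤ normalizer (R₀' : Set G) := by
    refine le_trans ?_ (centralizer_le_normalizer _)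
    exact le_centralizer_iff.mp (hR₀C.trans inf_le_right)
  obtain ⟨R₁, hR₀R, hVR⟩ := Coprime.exists_invariant_sylow_ge V U₁ (Coprime.le_normalizer_inf hVU hVO)
    (hcop (inf_le_left.trans hUK)) (Or.inl hVsolv) p R₀' (le_inf (hR₀C.trans hCU) (hR₀C.trans hCO))
    (R₀.isPGroup'.map _) hVR₀
  set R := (R₁ : Subgroup U₁).map U₁.subtype with hR
  have hRU₁ : R ≤ U₁ := map_subtype_le _
  have hRp : IsPGroup p R := R₁.isPGroup'.map _
  have hVcR : V ≤ centralizer (R : Set G) :=
    dorm M hMtop hVM hfused p hp hpD R (hRU₁.trans inf_le_right) hRp hVR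
  have hRC : R ≤ C := le_inf (hRU₁.trans inf_le_left) (le_centralizer_iff.mp hVcR)
  obtain ⟨Q₁, hRQ, hVQ⟩ := Coprime.exists_invariant_sylow_ge V U hVU (hcop hUK) (Or.inl hVsolv) p R
    (hRC.trans hCU) hRp hVR
  set Q := (Q₁ : Subgroup U).map U.subtype with hQ
  have hQU : Q ≤ U := map_subtype_le _
  have hQp : IsPGroup p Q := Q₁.isPGroup'.map _
  obtain ⟨hcyc, hZO, -⟩ := hNC G V ctx dorm M a b p hMtop hVM hfused hpair hp hpD Q
    (le_inf (hQU.trans hUK) (hQU.trans hUM)) hQp hVQ
  set Z := ⁅Q, V⁆ with hZdef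
  have hZQ : Z ≤ Q := Coprime.commutator_le_of_le_normalizer hVQ
  have hQO : Q ⊓ O ≤ R := by
    intro x hx
    have hle : R₁.toSubgroup ≤ (Q ⊓ O).subgroupOf U₁ := fun y hy =>
      ⟨hRQ ⟨y, hy, rfl⟩, y.2.2⟩
    have hp' : IsPGroup p ((Q ⊓ O).subgroupOf U₁) :=
      (hQp.to_le inf_le_left).comap_of_injective _ (subtype_injective _)
    have := R₁.is_maximal' hp' hle
    exact ⟨⟨x, hQU hx.1, hx.2⟩, this ▸ (show (x : G) ∈ Q ⊓ O from hx), rfl⟩
  have hQC : Q ⊓ centralizer (V : Set G) ≤ R := fun x hx =>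
    hQO ⟨hx.1, hCO ⟨hQU hx.1, hx.2⟩⟩
  have hRO : R ≤ O := hRU₁.trans inf_le_right
  have hZR : ∀ z ∈ Z, ∀ r ∈ R, z * r = r * z := by
    intro z hz r hr
    have h1 : ⁅z, r⁆ ∈ Z ⊓ O := by
      refine mem_inf.mpr ⟨?_, ?_⟩
      · have := conj_mem_of_mem_normalizer (Coprime.le_normalizer_commutator_left V Q (hRQ hr))
          (inv_mem hz)
        have := mul_mem hz this
        simpa [commutatorElement_def, mul_assoc] using this
      · have := conj_mem_of_mem_normalizer (le_normalizer_coreO M (hUM (hQU (hZQ hz)))) (hRO hr)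
        have := mul_mem this (inv_mem (hRO hr))
        simpa [commutatorElement_def, mul_assoc] using this
    rw [hZO, mem_bot] at h1
    exact commutatorElement_eq_one_iff_mul_comm.mp h1
  have hdec : ∀ x : Q, ∃ r, ∃ hr : r ∈ R, (x : G) * r⁻¹ ∈ Z := by
    intro x
    obtain ⟨z, hz, c, hc, hxc⟩ := Coprime.exists_commutator_mul_centralizer V Q hVQ
      (hcop (hQU.trans hUK)) (Or.inl hVsolv) x x.2
    exact ⟨c, hQC hc, by rw [hxc, mul_inv_cancel_right]; exact hz⟩
  choose r hr hrz using hdec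
  have huniq : ∀ (x : Q) (s : G), s ∈ R → (x : G) * s⁻¹ ∈ Z → r x = s := by
    intro x s hs hz
    have h1 : r x * s⁻¹ ∈ Z := by
      have := Z.mul_mem (Z.inv_mem (hrz x)) hz
      simpa [mul_assoc] using this
    have h2 : r x * s⁻¹ ∈ Z ⊓ O := mem_inf.mpr ⟨h1, mul_mem (hRO (hr x)) (inv_mem (hRO hs))⟩
    rw [hZO, mem_bot] at h2
    exact mul_inv_eq_one.mp h2
  let ρ : Q →* C := MonoidHom.mk' (fun x => ⟨r x, hRC (hr x)⟩) fun x y => Subtype.ext <| by
    refine huniq _ _ (mul_mem (hr x) (hr y)) ?_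
    have hc := hZR _ (hrz y) _ (hr x)
    have := mul_mem (hrz x) (hrz y)
    show ((x * y : Q) : G) * (r x * r y)⁻¹ ∈ Z
    have e : ((x * y : Q) : G) * (r x * r y)⁻¹ = (x : G) * (r x)⁻¹ * ((y : G) * (r y)⁻¹) := by
      rw [Subgroup.coe_mul]
      have h3 : (r x)⁻¹ * ((y : G) * (r y)⁻¹) = (y : G) * (r y)⁻¹ * (r x)⁻¹ :=
        ((Commute.inv_right hc : _) : _).eq.symm
      calc (x : G) * y * (r x * r y)⁻¹ = (x : G) * ((y : G) * (r y)⁻¹ * (r x)⁻¹) := by group
        _ = _ := by rw [← h3]; group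
    rw [e]; exact this
  let ψ : C →* Abelianization C := Abelianization.of
  let H : Subgroup U := Q.subgroupOf U
  let φ : H →* Abelianization C := (ψ.comp ρ).comp
    ((Subgroup.subgroupOfEquivOfLe hQU : H ≃* Q) : H →* Q)
  have hφ : ∀ (h : H) (hR' : ((h : U) : G) ∈ R), φ h = ψ ⟨((h : U) : G), hRC hR'⟩ := by
    intro h hR'
    refine congrArg ψ (Subtype.ext ?_)
    refine huniq _ _ hR' ?_
    show ((h : U) : G) * ((h : U) : G)⁻¹ ∈ Z
    simp
  -- fusion in `U` of the fixed elements
  have hfus : ∀ (g : U) (y : G) (hy : y ∈ R) (hgy : (g : G)⁻¹ * y * g ∈ Q),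
      ∃ hw : (g : G)⁻¹ * y * g ∈ R, ψ ⟨(g : G)⁻¹ * y * g, hRC hw⟩ = ψ ⟨y, hRC hy⟩ := by
    intro g y hy hgy
    set w := (g : G)⁻¹ * y * g with hw
    have hwR : w ∈ R := hQO ⟨hgy,
      conj_mem_of_mem_normalizer' (le_normalizer_coreO M (hUM g.2)) (hRO hy)⟩
    refine ⟨hwR, ?_⟩
    have hwV : ∀ v ∈ V, v * w = w * v := mem_centralizer_iff.mp (hRC hwR).2
    have hyV : ∀ v ∈ V, v * y = y * v := mem_centralizer_iff.mp (hRC hy).2
    set N := U ⊓ centralizer ({w} : Set G) with hN
    have hVN : V ≤ normalizer (N : Set G) :=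
      Coprime.le_normalizer_inf hVU <| Coprime.le_normalizer_of_conj_mem fun v hv x hx => by
        rw [mem_centralizer_singleton_iff] at hx ⊢
        have h1 := hwV v hv
        calc v * x * v⁻¹ * w = v * x * (v⁻¹ * w) := by group
          _ = v * x * (w * v⁻¹) := by rw [Commute.inv_left (show Commute v w from h1)]
          _ = v * (x * w) * v⁻¹ := by group
          _ = v * (w * x) * v⁻¹ := by rw [hx]
          _ = v * w * x * v⁻¹ := by group
          _ = w * v * x * v⁻¹ := by rw [h1]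
          _ = _ := by group
    obtain ⟨n, hn, hgn⟩ := Coprime.exists_fixed_in_coset V N hVN
      (hcop (inf_le_left.trans hUK)) (Or.inl hVsolv) g (fun v hv => by
        refine mem_inf.mpr ⟨mul_mem (inv_mem g.2) (conj_mem_of_mem_normalizer (hVU hv) g.2), ?_⟩
        rw [mem_centralizer_singleton_iff]
        have hy' : y = (g : G) * w * (g : G)⁻¹ := by rw [hw]; group
        calc (g : G)⁻¹ * (v * g * v⁻¹) * w = (g : G)⁻¹ * v * g * (v⁻¹ * w) := by group
          _ = (g : G)⁻¹ * v * g * (w * v⁻¹) := by rw [Commute.inv_left (show Commute v w from hwV v hv)]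
          _ = (g : G)⁻¹ * (v * ((g : G) * w * (g : G)⁻¹)) * g * v⁻¹ := by group
          _ = (g : G)⁻¹ * (y * v) * g * v⁻¹ := by rw [← hy', hyV v hv]
          _ = _ := by rw [hw]; group)
    have hc : (g : G) * n ∈ C := ⟨mul_mem g.2 hn.1, hgn⟩
    have hnw := mem_centralizer_singleton_iff.mp hn.2
    have e : (⟨w, hRC hwR⟩ : C) = (⟨_, hc⟩ : C)⁻¹ * ⟨y, hRC hy⟩ * ⟨_, hc⟩ := Subtype.ext <| by
      show w = ((g : G) * n)⁻¹ * y * ((g : G) * n)
      calc w = n⁻¹ * (n * w) := by group
        _ = n⁻¹ * (w * n) := by rw [hnw]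
        _ = _ := by rw [hw]; group
    rw [e, map_mul, map_mul, map_inv, mul_comm (ψ _)⁻¹, inv_mul_cancel_right]
  -- transfer
  have hRker : R₀.toSubgroup ≤ commutator C := by
    intro x hx
    have hxR : (x : G) ∈ R := hR₀R ⟨x, hx, rfl⟩
    let xU : U := ⟨x, hCU x.2⟩
    have hval : ψ x ^ H.index = 1 := by
      have h0 := hkill _ (MonoidHom.transfer φ) xU x.2
      haveI : Fintype (Quotient (MulAction.orbitRel (zpowers xU) (U ⧸ H))) := Fintype.ofFinite _
      rw [MonoidHom.transfer_eq_prod_quotient_orbitRel_zpowers_quot] at h0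
      rw [index_eq_sum_minimalPeriod H xU, ← Finset.prod_pow_eq_pow_sum, ← h0]
      refine Finset.prod_congr rfl fun q _ => ?_
      set m := Function.minimalPeriod (xU • ·) q.out
      set g := q.out.out
      have hmem : ((g⁻¹ * xU ^ m * g : U) : G) ∈ Q :=
        QuotientGroup.out_conj_pow_minimalPeriod_mem H xU q.out
      simp only [Subgroup.coe_mul, Subgroup.coe_inv, SubmonoidClass.coe_pow] at hmem
      obtain ⟨hw, he⟩ := hfus g ((x : G) ^ m) (pow_mem hxR m) hmem
      rw [hφ _ (by simpa [xU] using hw), ← map_pow]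
      exact he.symm
    obtain ⟨k, hk⟩ := R₀.isPGroup' ⟨x, hx⟩
    have hxk : ψ x ^ p ^ k = 1 := by
      rw [← map_pow]
      have := congrArg Subtype.val hk
      simp only [SubmonoidClass.coe_pow, OneMemClass.coe_one] at this
      rw [this, map_one]
    have hcp : (p ^ k).Coprime H.index := by
      refine Nat.Coprime.pow_left k ((hp.coprime_iff_not_dvd).mpr ?_)
      have : H = Q₁.toSubgroup := by
        show Q.subgroupOf U = _
        rw [hQ]; exact comap_map_eq_self_of_injective (subtype_injective U) _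
      rw [this]
      exact Q₁.not_dvd_index
    have h1 : ψ x = 1 := by
      have := pow_gcd_eq_one.mpr ⟨hxk, hval⟩
      rwa [hcp.gcd_eq_one, pow_one] at this
    exact (Abelianization.ker_of C) ▸ h1
  exact R₀.not_dvd_index (hpidx.trans (index_dvd_of_le hRker))

end Cfsg.Agent.GW66
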