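import Cfsg.Agent.GW66.Basic
import Cfsg.Agent.BGUniq.FittingOf
import Cfsg.Agent.Fus93.Critical
import Cfsg.Agent.Lib.Coprime.Hall
import Cfsg.Agent.Lib.LargeExtraspecial.Basic
import Cfsg.Agent.Lib.PGroup.OmegaSmallClass
import Cfsg.Agent.PF14.Compose

/-!
# `[O(C(a)), V]` meets `O(C(V))` trivially

If some nontrivial `q`-element of `O(C(V))` is centralised by `U = [O(C(a)), V]` the statement is
`FormerStmt`.  Otherwise, for each prime `q` with `q ∣ |O(C(a)) : O(C(V))|`, a critical subgroup of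
`O_q(O(C(a)))` is inverted, so centralised by `U`; hence `U` is nilpotent and meets `O(C(V))`
trivially.
-/

set_option autoImplicit false

namespace Cfsg.Agent.GW66

open Subgroup
open Cfsg.Agent.Coprime (conj_mem_of_mem_normalizer conj_mem_of_mem_normalizer' exists_mul_of_mem_sup)
open scoped commutatorElement

universe u

section Prep

variable {G : Type u} [Group G]

/-- If `V` acts on `R` by `±1` and `K` normalises `R`, then `⁅K, V⁆` centralises `R`. -/
theorem commutator_le_centralizer_of_pm {K V R : Subgroup G}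
    (hKR : K ≤ normalizer (R : Set G))
    (hpm : ∀ v ∈ V, (∀ x ∈ R, v⁻¹ * x * v = x) ∨ ∀ x ∈ R, v⁻¹ * x * v = x⁻¹) :
    ⁅K, V⁆ ≤ centralizer (R : Set G) := by
  refine commutator_le.mpr fun k hk v hv => mem_centralizer_iff.mpr fun x hx => ?_
  have hconj : k⁻¹ * x * k ∈ R := conj_mem_of_mem_normalizer' (hKR hk) hx
  have key : v⁻¹ * k⁻¹ * x * k * v = k⁻¹ * (v⁻¹ * x * v) * k := by
    rcases hpm v hv with h | h
    · rw [h x hx, ← h _ hconj]; group
    · calc v⁻¹ * k⁻¹ * x * k * v = v⁻¹ * (k⁻¹ * x * k) * v := by group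
        _ = (k⁻¹ * x * k)⁻¹ := h _ hconj
        _ = k⁻¹ * x⁻¹ * k := by group
        _ = _ := by rw [h x hx]
  calc x * ⁅k, v⁆ = k * v * (v⁻¹ * k⁻¹ * x * k * v) * k⁻¹ * v⁻¹ := by
        rw [commutatorElement_def]; group
    _ = k * v * (k⁻¹ * (v⁻¹ * x * v) * k) * k⁻¹ * v⁻¹ := by rw [key]
    _ = ⁅k, v⁆ * x := by rw [commutatorElement_def]; group

theorem commutatorElement_mem' {H : Subgroup G} {x y : G} (hx : x ∈ H) (hy : y ∈ H) : ⁅x, y⁆ ∈ H :=
  mul_mem (mul_mem (mul_mem hx hy) (inv_mem hx)) (inv_mem hy)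

variable [Finite G]

/-- A normal subgroup of a solvable group all of whose `q'`-elements centralise the `q`-core, for
each prime `q`, lies in the Fitting subgroup. -/
theorem le_fittingOf_of_qprime_centralize {K U : Subgroup G} (hK : Group.IsSolvable K) (hUK : U ≤ K)
    (hKU : K ≤ normalizer (U : Set G))
    (h : ∀ q : ℕ, q.Prime → ∀ x ∈ U, (orderOf x).Coprime q → ∀ y ∈ BGUniq.core q K, x * y = y * x) :
    U ≤ Cfsg.fittingOf K := by
  classical
  intro x hxU
  refine FG72.mem_of_forall_primePow _ x fun q hq j _ i hi => ?_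
  haveI := Fact.mk hq
  set x' := x ^ i with hx'
  let N : Subgroup G :=
    { carrier := {n | n ∈ U ∧ ∀ r : ℕ, r.Prime → r ≠ q → ∀ y ∈ BGUniq.core r K, n * y = y * n}
      one_mem' := ⟨one_mem U, fun _ _ _ y _ => by rw [one_mul, mul_one]⟩
      mul_mem' := by
        rintro m n ⟨hm, hm'⟩ ⟨hn, hn'⟩
        refine ⟨mul_mem hm hn, fun r hr hrq y hy => ?_⟩
        rw [mul_assoc, hn' r hr hrq y hy, ← mul_assoc, hm' r hr hrq y hy, mul_assoc]
      inv_mem' := by
        rintro m ⟨hm, hm'⟩
        refine ⟨inv_mem hm, fun r hr hrq y hy => ?_⟩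
        exact ((show Commute m y from hm' r hr hrq y hy).inv_left).eq }
  have hNU : N ≤ U := fun n hn => hn.1
  have hNn : K ≤ normalizer (N : Set G) := Coprime.le_normalizer_of_conj_mem fun k hk n hn => by
    refine ⟨conj_mem_of_mem_normalizer (hKU hk) hn.1, fun r hr hrq y hy => ?_⟩
    have := hn.2 r hr hrq _ (conj_mem_of_mem_normalizer' (BGUniq.le_normalizer_core r K hk) hy)
    calc k * n * k⁻¹ * y = k * (n * (k⁻¹ * y * k)) * k⁻¹ := by group
      _ = k * (k⁻¹ * y * k * n) * k⁻¹ := by rw [this]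
      _ = y * (k * n * k⁻¹) := by group
  have hcentral : ∀ z ∈ N, (orderOf z).Coprime q → ∀ n ∈ N, z * n = n * z := by
    intro z hz hzq n hn
    have hzF : z ∈ Cfsg.fittingOf K := by
      refine BGUniq.inf_centralizer_fittingOf_le hK ⟨hUK hz.1, ?_⟩
      have hle : Cfsg.fittingOf K ≤ centralizer ({z} : Set G) :=
        BGUniq.fittingOf_le_of_core_le fun r hr y hy => mem_centralizer_singleton_iff.mpr (by
          by_cases hrq : r = q
          · subst hrq
            exact (h r hr z hz.1 hzq y hy).symm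
          · exact (hz.2 r hr hrq y hy).symm)
      exact mem_centralizer_iff.mpr fun y hy => mem_centralizer_singleton_iff.mp (hle hy)
    refine mem_centralizer_singleton_iff.mp
      (FG72.mem_of_forall_primePow (centralizer ({n} : Set G)) z fun r hr l hl m hm => ?_)
    haveI := Fact.mk hr
    rcases eq_or_ne r q with rfl | hrq
    · rcases Nat.eq_zero_or_pos l with rfl | hl0
      · rw [pow_zero, orderOf_eq_one_iff] at hm
        rw [hm]; exact one_mem _
      · exact absurd (hzq.coprime_dvd_left ((dvd_pow_self r hl0.ne').trans hl))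
          (by rw [Nat.coprime_self]; exact hr.ne_one)
    · exact mem_centralizer_singleton_iff.mpr
        (hn.2 r hr hrq _ (BGUniq.mem_core_of_mem_fittingOf (pow_mem hzF m) hm)).symm
  have hNnil : Group.IsNilpotent N := by
    refine Group.of_quotient_center_nilpotent (IsPGroup.isNilpotent (p := q) ?_)
    intro w
    obtain ⟨⟨n, hn⟩, rfl⟩ := QuotientGroup.mk_surjective w
    obtain ⟨k, m, hm, hord⟩ := Nat.exists_eq_pow_mul_and_not_dvd (orderOf_pos n).ne' q hq.ne_one
    refine ⟨k, ?_⟩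
    rw [← QuotientGroup.mk_pow, QuotientGroup.eq_one_iff, Subgroup.mem_center_iff]
    intro y
    apply Subtype.ext
    show (y : G) * n ^ q ^ k = n ^ q ^ k * (y : G)
    refine (hcentral _ (pow_mem hn _) ?_ y y.2).symm
    rw [orderOf_pow_of_dvd (pow_ne_zero _ hq.ne_zero) (hord ▸ dvd_mul_right _ _), hord,
      Nat.mul_div_cancel_left _ (pow_pos hq.pos k)]
    exact (hq.coprime_iff_not_dvd.mpr hm).symm
  have hxN : x' ∈ N := ⟨pow_mem hxU i, fun r hr hrq y hy =>
    h r hr _ (pow_mem hxU i)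
      (by rw [hi]; exact Nat.Coprime.pow_left j ((Nat.coprime_primes hq hr).mpr hrq.symm)) y hy⟩
  have hle : N.subgroupOf K ≤ Cfsg.fittingSubgroup K :=
    Fitting.le_fitting ((normal_subgroupOf_iff_le_normalizer (hNU.trans hUK)).mpr hNn)
      (Group.nilpotent_of_mulEquiv (subgroupOfEquivOfLe (hNU.trans hUK)).symm)
  exact ⟨⟨x', hUK (hNU hxN)⟩, hle (mem_subgroupOf.mpr hxN), rfl⟩

/-- A normal `q`-subgroup lies in every subgroup of index prime to `q`. -/
theorem core_le_of_not_dvd_relIndex {q : ℕ} [Fact q.Prime] {D K : Subgroup G}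
    (h : ¬ q ∣ D.relIndex K) : BGUniq.core q K ≤ D := by
  let D' : Subgroup K := D.subgroupOf K
  obtain ⟨S⟩ := (inferInstance : Nonempty (Sylow q D'))
  have hidx : ¬ q ∣ ((S : Subgroup D').map D'.subtype).index := by
    rw [index_map_subtype]
    intro hd
    rcases (Fact.out : q.Prime).dvd_mul.mp hd with h' | h'
    · exact S.not_dvd_index h'
    · exact h h'
  let T : Sylow q K := (S.isPGroup'.map D'.subtype).toSylow hidx
  have hT : Cfsg.pCore q K ≤ D' := (Thompson.pCore_le_sylow T).trans (map_subtype_le _)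
  rintro _ ⟨y, hy, rfl⟩
  exact mem_subgroupOf.mp (hT hy)

/-- What is used of a critical subgroup of a `q`-group. -/
theorem exists_critical_in {q : ℕ} [Fact q.Prime] {P : Subgroup G} (hP : IsPGroup q P) :
    ∃ H : Subgroup G, H ≤ P ∧ normalizer (P : Set G) ≤ normalizer (H : Set G) ∧
      P ⊓ centralizer (H : Set G) ≤ H ∧
      ∀ x ∈ H, ∀ y ∈ H, ⁅x, y⁆ ∈ centralizer (H : Set G) := by
  obtain ⟨H, hchar, hC, -, hcomm⟩ := Fus93.exists_critical hP
  haveI := hchar
  refine ⟨H.map P.subtype, map_subtype_le _, Coprime.normalizer_le_normalizer_map P H, ?_, ?_⟩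
  · rintro x ⟨hxP, hxC⟩
    refine ⟨⟨x, hxP⟩, hC (mem_centralizer_iff.mpr fun y hy => Subtype.ext ?_), rfl⟩
    exact mem_centralizer_iff.mp hxC y ⟨y, hy, rfl⟩
  · rintro _ ⟨x, hx, rfl⟩ _ ⟨y, hy, rfl⟩
    refine mem_centralizer_iff.mpr ?_
    rintro _ ⟨w, hw, rfl⟩
    have h1 := hcomm y hy x
    have h2 : ⁅x, y⁆ = y⁻¹ * (x * y * x⁻¹) := by
      have h3 := mem_centralizer_iff.mp h1 y hy
      rw [commutatorElement_def]
      calc x * y * x⁻¹ * y⁻¹ = y * (y⁻¹ * (x * y * x⁻¹)) * y⁻¹ := by group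
        _ = y⁻¹ * (x * y * x⁻¹) := by rw [h3]; group
    rw [← map_commutatorElement, h2]
    exact congrArg Subtype.val (mem_centralizer_iff.mp h1 w hw)

end Prep

/-- `[O(C(a)), V]` meets `O(C(V))` trivially. -/
theorem local_ (hDor : DormantStmt.{u}) (hFC : FusedCentStmt.{u}) (hNC : NegCyclicStmt.{u})
    (hF : FormerStmt.{u}) (hA : AlphaStmt.{u}) (hB : BetaStmt.{u}) : LocalStmt.{u} := by
  intro G _ _ V hc a ha h1
  classical
  have hV := hc.klein
  have hodd := hc.sylow
  have hD : Dormant V := hDor G V hc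
  obtain ⟨b, hp⟩ := exists_pair_of_mem hV ha h1
  set K := coreK a with hKdef
  set D := coreD V with hDdef
  set U := coreU V a with hUdef
  by_cases hex : ∃ (q : ℕ) (f : G), q.Prime ∧ q ∣ D.relIndex K ∧ f ∈ D ∧ f ≠ 1 ∧
      (∃ k : ℕ, orderOf f = q ^ k) ∧ U ≤ centralizer ({f} : Set G)
  · obtain ⟨q, f, hq, hdvd, hf, hf1, hfo, hUf⟩ := hex
    exact hF G V hc hD a q f ha h1 hq hdvd hf hf1 hfo hUf
  have hKV : V ≤ normalizer (K : Set G) := le_normalizer_coreK hV ha
  have hDK : D ≤ K := coreD_le_coreK hV hodd ha h1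
  have hKsol : Group.IsSolvable K := PF14.feitThompson K (odd_card_coreK a)
  have hcop : ∀ Y : Subgroup G, Y ≤ K → (Nat.card V).Coprime (Nat.card Y) := fun Y hY => by
    rw [hV.card_four, show 4 = 2 ^ 2 from rfl]
    exact Nat.Coprime.pow_left 2
      (Nat.coprime_two_left.mpr ((odd_card_coreK a).of_dvd_nat (card_dvd_of_le hY)))
  have hVsol : Group.IsSolvable V :=
    Group.isSolvable_of_comm fun x y => Subtype.ext (klein_comm hV x.2 y.2)
  have hUK : U ≤ K := Coprime.commutator_le_of_le_normalizer hKV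
  have hKU : K ≤ normalizer (U : Set G) := Coprime.le_normalizer_commutator_left V K
  have hVU : V ≤ normalizer (U : Set G) := Coprime.le_normalizer_commutator_right V K
  have hUU : ⁅U, V⁆ = U := Coprime.commutator_commutator_eq V K hKV (hcop K le_rfl) (Or.inl hVsol)
  have hcoreV : ∀ r : ℕ, V ≤ normalizer (BGUniq.core r K : Set G) := fun r =>
    hKV.trans (Coprime.normalizer_le_normalizer_map K (Cfsg.pCore r K))
  have hfixD : ∀ {x : G}, x ∈ K → x * b = b * x → x ∈ D := fun hx hxb =>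
    (mem_coreD_iff_pair hV hodd hp).mpr ⟨hx, hxb⟩
  have hfixV : ∀ {x : G}, x ∈ D → ∀ v ∈ V, v * x = x * v := fun hx v hv =>
    mem_centralizer_iff.mp (le_centralizer_coreD V hx) v hv
  -- the key property of a prime dividing the index
  have hcrit : ∀ q : ℕ, q.Prime → q ∣ D.relIndex K → ∃ H : Subgroup G, H ≤ BGUniq.core q K ∧
      BGUniq.core q K ⊓ centralizer (H : Set G) ≤ H ∧ H ⊓ D = ⊥ ∧
      U ≤ centralizer (H : Set G) ∧ K ≤ normalizer (H : Set G) := by
    intro q hq hdvd
    haveI := Fact.mk hq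
    have hqK : q ∣ Nat.card K := hdvd.trans (relIndex_dvd_card D K)
    have hq2 : q ≠ 2 := fun e => by
      subst e
      exact Nat.not_even_iff_odd.mpr (odd_card_coreK a) (even_iff_two_dvd.mpr hqK)
    set P := BGUniq.core q K with hPdef
    have hPK : P ≤ K := BGUniq.core_le q K
    have hPp : IsPGroup q P := BGUniq.isPGroup_core q K
    obtain ⟨H, hHP, hnorm, hHC, hH2⟩ := exists_critical_in hPp
    have hKH : K ≤ normalizer (H : Set G) := (BGUniq.le_normalizer_core q K).trans hnorm
    have hVH : V ≤ normalizer (H : Set G) := (hcoreV q).trans hnorm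
    have hHD : H ⊓ D = ⊥ := by
      by_contra hne
      -- the elements of order dividing `q`
      have hmul : ∀ x ∈ H, ∀ y ∈ H, x ^ q = 1 → y ^ q = 1 → (x * y) ^ q = 1 := by
        intro x hx y hy hxq hyq
        have hcls : commutator H ≤ Subgroup.center H := by
          rw [commutator_def]
          refine commutator_le.mpr fun u _ w _ => Subgroup.mem_center_iff.mpr fun z => Subtype.ext ?_
          exact mem_centralizer_iff.mp (hH2 u u.2 w w.2) z z.2
        have := PGroup.pow_eq_one_mul_classTwo hcls hq hq2 (a := (⟨x, hx⟩ : H)) (b := ⟨y, hy⟩)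
          (Subtype.ext hxq) (Subtype.ext hyq)
        exact congrArg Subtype.val this
      let C : Subgroup G :=
        { carrier := {x | x ∈ H ∧ x ^ q = 1}
          one_mem' := ⟨one_mem H, one_pow q⟩
          mul_mem' := fun {x y} hx hy => ⟨mul_mem hx.1 hy.1, hmul x hx.1 y hy.1 hx.2 hy.2⟩
          inv_mem' := fun {x} hx => ⟨inv_mem hx.1, by rw [inv_pow, hx.2, inv_one]⟩ }
      have hCH : C ≤ H := fun x hx => hx.1
      have hCK : C ≤ K := hCH.trans (hHP.trans hPK)
      have hCp : IsPGroup q C := hPp.to_le (hCH.trans hHP)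
      have hnC : ∀ {X : Subgroup G}, X ≤ normalizer (H : Set G) → X ≤ normalizer (C : Set G) :=
        fun hX => Coprime.le_normalizer_of_conj_mem fun g hg x hx =>
          ⟨conj_mem_of_mem_normalizer (hX hg) hx.1, by rw [conj_pow, hx.2, mul_one, mul_inv_cancel]⟩
      have hordq : ∀ x ∈ C, x ≠ 1 → orderOf x = q := fun x hx hx1 =>
        orderOf_eq_prime hx.2 hx1
      -- the centre
      let Z : Subgroup G := C ⊓ centralizer (C : Set G)
      have hKZ : K ≤ normalizer (Z : Set G) :=
        Coprime.le_normalizer_inf (hnC hKH) (Coprime.le_normalizer_centralizer (hnC hKH))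
      have hVZ : V ≤ normalizer (Z : Set G) :=
        Coprime.le_normalizer_inf (hnC hVH) (Coprime.le_normalizer_centralizer (hnC hVH))
      have hcomZ : ∀ x ∈ C, ∀ y ∈ C, ⁅x, y⁆ ∈ Z := fun x hx y hy =>
        mem_inf.mpr ⟨commutatorElement_mem' hx hy,
          centralizer_le (fun w (hw : w ∈ C) => hCH hw) (hH2 x (hCH hx) y (hCH hy))⟩
      by_cases hZD : Z ⊓ D = ⊥
      swap
      · have hZab : IsMulCommutative Z :=
          ⟨⟨fun x y => Subtype.ext (mem_centralizer_iff.mp y.2.2 x x.2.1)⟩⟩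
        obtain ⟨f, hf, hf1, hUf⟩ := hA G V hc hD a q Z ha h1 hq hdvd (inf_le_left.trans hCK) hZab
          (fun x hx => hx.1.2) hKZ hVZ hZD
        exact hex ⟨q, f, hq, hdvd, hf.2, hf1, ⟨1, by rw [pow_one, hordq f hf.1.1 hf1]⟩, hUf⟩
      -- an element of `O(C(V))` of order `q`
      obtain ⟨y, hyC, hyD, hy1⟩ : ∃ y, y ∈ C ∧ y ∈ D ∧ y ≠ 1 := by
        obtain ⟨w, hw, hw1⟩ : ∃ w ∈ H ⊓ D, w ≠ 1 := (bot_or_exists_ne_one _).resolve_left hne
        obtain ⟨k, hk⟩ := IsPGroup.iff_orderOf.mp hPp ⟨w, hHP hw.1⟩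
        rw [orderOf_mk] at hk
        obtain ⟨l, rfl⟩ : ∃ l, k = l + 1 := Nat.exists_eq_succ_of_ne_zero fun e => hw1 (by
          rw [e, pow_zero, orderOf_eq_one_iff] at hk; exact hk)
        refine ⟨w ^ q ^ l, ⟨pow_mem hw.1 _, ?_⟩, pow_mem hw.2 _, ?_⟩
        · rw [← pow_mul, ← pow_succ, ← hk, pow_orderOf_eq_one]
        · intro e
          have := orderOf_dvd_of_pow_eq_one e
          rw [hk, Nat.pow_dvd_pow_iff_le_right hq.one_lt] at this
          omega
      -- what the centraliser of such an element gives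
      have hcent : ∀ d, d ∈ C → d ∈ D → d ≠ 1 → Nat.card Z = q ∧
          ∀ x ∈ C, x * d = d * x → ∃ z ∈ Z, ∃ e ∈ C ⊓ D, x = z * e := by
        intro d hdC hdD hd1
        have hfused : Fused (centralizer ({d} : Set G)) V :=
          hFC G V hc hD a q hq ha h1 hdvd d hdD hd1 ⟨1, by rw [pow_one, hordq d hdC hd1]⟩
        set M := centralizer ({d} : Set G) with hMdef
        have hVM : V ≤ M := fun v hv => mem_centralizer_singleton_iff.mpr (hfixV hdD v hv)
        let Y : Subgroup G := C ⊓ M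
        have hqDM : q ∣ Nat.card ↥(D ⊓ M) := by
          rw [← hordq d hdC hd1]
          exact orderOf_dvd_natCard _ ⟨hdD, mem_centralizer_singleton_iff.mpr rfl⟩
        have hVY : V ≤ normalizer (Y : Set G) :=
          Coprime.le_normalizer_inf (hnC hVH) (hVM.trans le_normalizer)
        obtain ⟨hcyc, -, hinv⟩ := hNC G V hc hD M a b q (hc.centralizer_ne_top hd1) hVM hfused hp hq
          hqDM Y (le_inf (inf_le_left.trans hCK) inf_le_right) (hCp.to_le inf_le_left) hVY
        have hWY : ⁅Y, V⁆ ≤ Y := Coprime.commutator_le_of_le_normalizer hVY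
        have hWle : Nat.card ↥(⁅Y, V⁆) ≤ q := by
          haveI := hcyc
          obtain ⟨g, hg⟩ := IsCyclic.exists_generator (α := ↥(⁅Y, V⁆))
          rw [← orderOf_eq_card_of_forall_mem_zpowers hg]
          exact orderOf_le_of_pow_eq_one hq.pos (Subtype.ext (hWY g.2).1.2)
        have hZY : Z ≤ ⁅Y, V⁆ := by
          intro z hz
          have hzM : z ∈ M :=
            mem_centralizer_singleton_iff.mpr (mem_centralizer_iff.mp hz.2 d hdC).symm
          have hbn : b ∈ normalizer (Z : Set G) := hVZ hp.hb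
          have hzinv : b * z * b⁻¹ = z⁻¹ :=
            LargeExtraspecial.inverts_of_fixedPointFree (klein_sq hV hp.hb) hbn (fun k hk hfix => by
              have : k ∈ Z ⊓ D :=
                ⟨hk, hfixD (hCK hk.1) (mul_inv_eq_iff_eq_mul.mp hfix).symm⟩
              rwa [hZD, mem_bot] at this) z hz
          have hz2 : z ^ 2 ∈ ⁅Y, V⁆ := by
            have h := commutator_mem_commutator (show z ∈ Y from ⟨hz.1, hzM⟩) hp.hb
            have e : ⁅z, b⁆ = z ^ 2 := by
              rw [commutatorElement_def,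
                show z * b * z⁻¹ * b⁻¹ = z * (b * z * b⁻¹)⁻¹ by group, hzinv, inv_inv, pow_two]
            exact e ▸ h
          obtain ⟨t, ht⟩ := hq.odd_of_ne_two hq2
          have hz' : z = (z ^ 2) ^ (t + 1) := by
            rw [← pow_mul, show 2 * (t + 1) = q + 1 by omega, pow_succ, hz.1.2, one_mul]
          rw [hz']
          exact pow_mem hz2 _
        have hZle : Nat.card Z ≤ q := (card_le_of_le hZY).trans hWle
        have hZne : Z ≠ ⊥ := fun e => by
          have hdZ : d ∈ Z := ⟨hdC, mem_centralizer_iff.mpr fun w hw => by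
            have h := hcomZ w hw d hdC
            rw [e, mem_bot, commutatorElement_eq_one_iff_mul_comm] at h
            exact h⟩
          rw [e, mem_bot] at hdZ
          exact hd1 hdZ
        have hZq : Nat.card Z = q := by
          obtain ⟨k, hk⟩ := IsPGroup.iff_card.mp (hCp.to_le (inf_le_left : Z ≤ C))
          rcases k with _ | _ | k
          · exact absurd (eq_bot_of_card_eq Z (by rw [hk, pow_zero])) hZne
          · rw [hk, pow_one]
          · rw [hk] at hZle
            exact absurd hZle (not_le.mpr (lt_self_pow₀ hq.one_lt (by omega)))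
        have hZW : Z = ⁅Y, V⁆ := eq_of_le_of_card_ge hZY (hZq ▸ hWle)
        refine ⟨hZq, fun x hx hxd => ?_⟩
        have hxY : x ∈ Y := ⟨hx, mem_centralizer_singleton_iff.mpr hxd⟩
        obtain ⟨z, hz, e, ⟨heY, heV⟩, rfl⟩ := Coprime.exists_commutator_mul_centralizer V Y hVY
          (hcop Y (inf_le_left.trans hCK)) (Or.inl hVsol) x hxY
        exact ⟨z, hZW ▸ hz, e,
          ⟨heY.1, hfixD (hCK heY.1) (mem_centralizer_iff.mp heV b hp.hb).symm⟩, rfl⟩
      obtain ⟨hZq, hsplit⟩ := hcent y hyC hyD hy1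
      -- `C ∩ O(C(V))` is abelian, in fact of order `q`
      have hCDcomm : ∀ x ∈ C ⊓ D, ∀ x' ∈ C ⊓ D, x * x' = x' * x := fun x hx x' hx' => by
        have h : ⁅x, x'⁆ ∈ Z ⊓ D :=
          mem_inf.mpr ⟨hcomZ x hx.1 x' hx'.1, commutatorElement_mem' hx.2 hx'.2⟩
        rwa [hZD, mem_bot, commutatorElement_eq_one_iff_mul_comm] at h
      have hyZ : y ∉ Z := fun h => hy1 (by
        have : y ∈ Z ⊓ D := ⟨h, hyD⟩
        rwa [hZD, mem_bot] at this)
      obtain ⟨w, hwC, hwy⟩ : ∃ w, w ∈ C ∧ w * y ≠ y * w := by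
        by_contra hall
        push Not at hall
        exact hyZ ⟨hyC, mem_centralizer_iff.mpr fun w hw => hall w hw⟩
      have hwd : ∀ d ∈ C ⊓ D, d * w = w * d → d = 1 := by
        intro d hd hdw
        by_contra hd1
        obtain ⟨z, hz, e, he, rfl⟩ := (hcent d hd.1 hd.2 hd1).2 w hwC hdw.symm
        apply hwy
        rw [mul_assoc, hCDcomm e he y ⟨hyC, hyD⟩, ← mul_assoc,
          (mem_centralizer_iff.mp hz.2 y hyC).symm, mul_assoc]
      have hCDle : Nat.card ↥(C ⊓ D) ≤ q := by
        rw [← hZq]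
        refine Nat.card_le_card_of_injective
          (fun d => (⟨⁅w, (d : G)⁆, hcomZ w hwC d d.2.1⟩ : Z)) fun d d' h => ?_
        have h' : w * (d : G) * w⁻¹ * (d : G)⁻¹ = w * (d' : G) * w⁻¹ * (d' : G)⁻¹ :=
          congrArg Subtype.val h
        have h'' : ((d' : G)⁻¹ * d) * w⁻¹ = w⁻¹ * ((d' : G)⁻¹ * d) := by
          calc ((d' : G)⁻¹ * d) * w⁻¹
              = (d' : G)⁻¹ * w⁻¹ * (w * (d : G) * w⁻¹ * (d : G)⁻¹) * d := by group
            _ = (d' : G)⁻¹ * w⁻¹ * (w * (d' : G) * w⁻¹ * (d' : G)⁻¹) * d := by rw [h']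
            _ = w⁻¹ * ((d' : G)⁻¹ * d) := by group
        have h3 := hwd _ (mul_mem (inv_mem d'.2) d.2)
          (by simpa using ((show Commute ((d' : G)⁻¹ * d) w⁻¹ from h'').inv_right).eq)
        exact (Subtype.ext (inv_mul_eq_one.mp h3)).symm
      have hCDq : Nat.card ↥(C ⊓ D) = q := le_antisymm hCDle (by
        rw [← hordq y hyC hy1]
        exact Nat.le_of_dvd Nat.card_pos (orderOf_dvd_natCard _ ⟨hyC, hyD⟩))
      -- the centraliser of `y` in `C`
      let Y : Subgroup G := C ⊓ centralizer ({y} : Set G)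
      have hmemY : ∀ p : Z × ↥(C ⊓ D), (p.1 : G) * (p.2 : G) ∈ Y := fun p =>
        ⟨mul_mem p.1.2.1 p.2.2.1, mem_centralizer_singleton_iff.mpr (by
          rw [mul_assoc, hCDcomm p.2 p.2.2 y ⟨hyC, hyD⟩, ← mul_assoc,
            (mem_centralizer_iff.mp p.1.2.2 y hyC).symm, mul_assoc])⟩
      have hYcard : Nat.card Y = q ^ 2 := by
        rw [pow_two]
        nth_rw 1 [← hZq]
        nth_rw 1 [← hCDq]
        rw [← Nat.card_prod]
        symm
        refine Nat.card_eq_of_bijective (fun p => ⟨_, hmemY p⟩) ⟨fun p p' h => ?_, fun x => ?_⟩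
        · have h' : (p.1 : G) * (p.2 : G) = p'.1 * p'.2 := congrArg Subtype.val h
          have hm : (p'.1 : G)⁻¹ * p.1 ∈ Z ⊓ D := mem_inf.mpr ⟨mul_mem (inv_mem p'.1.2) p.1.2, by
            rw [show (p'.1 : G)⁻¹ * p.1 = p'.2 * (p.2 : G)⁻¹ by
              rw [inv_mul_eq_iff_eq_mul, ← mul_assoc, ← h', mul_inv_cancel_right]]
            exact mul_mem (mem_inf.mp p'.2.2).2 (inv_mem (mem_inf.mp p.2.2).2)⟩
          rw [hZD, mem_bot, inv_mul_eq_one] at hm
          rw [← hm] at h'
          exact Prod.ext (Subtype.ext hm.symm) (Subtype.ext (mul_left_cancel h'))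
        · obtain ⟨z, hz, e, he, hze⟩ := hsplit x x.2.1 (mem_centralizer_singleton_iff.mp x.2.2)
          exact ⟨(⟨z, hz⟩, ⟨e, he⟩), Subtype.ext hze.symm⟩
      have hCcard : Nat.card C = q ^ 3 := by
        have hle : Nat.card C ≤ Nat.card (Z × Y) := by
          let φ : C → Z := fun x => ⟨⁅(x : G), y⁆, hcomZ x x.2 y hyC⟩
          let r : Z → C := fun z => if h : ∃ x, φ x = z then h.choose else 1
          have hr : ∀ x, φ (r (φ x)) = φ x := fun x => by
            have h : ∃ x', φ x' = φ x := ⟨x, rfl⟩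
            simp only [r, dif_pos h]
            exact h.choose_spec
          have hY : ∀ x : C, ((r (φ x) : G))⁻¹ * x ∈ Y := fun x => by
            refine mem_inf.mpr ⟨mul_mem (inv_mem (r (φ x)).2) x.2, mem_centralizer_singleton_iff.mpr ?_⟩
            have h : (r (φ x) : G) * y * (r (φ x) : G)⁻¹ * y⁻¹ = (x : G) * y * (x : G)⁻¹ * y⁻¹ :=
              congrArg Subtype.val (hr x)
            have h' := mul_right_cancel h
            calc (r (φ x) : G)⁻¹ * x * y = (r (φ x) : G)⁻¹ * ((x : G) * y * (x : G)⁻¹) * x := by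
                  group
              _ = (r (φ x) : G)⁻¹ * ((r (φ x) : G) * y * (r (φ x) : G)⁻¹) * x := by rw [h']
              _ = y * ((r (φ x) : G)⁻¹ * x) := by group
          refine Nat.card_le_card_of_injective
            (fun x => (φ x, (⟨_, hY x⟩ : Y))) fun x x' h => ?_
          simp only [Prod.mk.injEq] at h
          have h2 := congrArg Subtype.val h.2
          simp only [h.1] at h2
          exact Subtype.ext (mul_left_cancel h2)
        rw [Nat.card_prod, hZq, hYcard, ← pow_succ'] at hle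
        obtain ⟨k, hk⟩ := IsPGroup.iff_card.mp hCp
        have hlt : Nat.card Y < Nat.card C := lt_of_le_of_ne (card_le_of_le inf_le_left) fun e => by
          have hYC : Y = C := eq_of_le_of_card_ge inf_le_left e.ge
          exact hwy (mem_centralizer_singleton_iff.mp (hYC ▸ hwC : w ∈ Y).2)
        rw [hYcard, hk] at hlt
        rw [hk] at hle ⊢
        have h2 := (Nat.pow_lt_pow_iff_right hq.one_lt).mp hlt
        have h3 : k ≤ 3 := (Nat.pow_le_pow_iff_right hq.one_lt).mp hle
        rw [show k = 3 by omega]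
      refine hB G V hc hD a q C ha h1 hq hdvd hCK hCcard (fun hcm => hwy ?_) (fun x hx => hx.2)
        (hnC hKH) (hnC hVH) hCDq
      exact congrArg Subtype.val (hcm.is_comm.comm (⟨w, hwC⟩ : C) ⟨y, hyC⟩)
    refine ⟨H, hHP, hHC, hHD, ?_, hKH⟩
    refine commutator_le_centralizer_of_pm hKH fun v hv => ?_
    have hinvb : ∀ x ∈ H, b * x * b⁻¹ = x⁻¹ :=
      LargeExtraspecial.inverts_of_fixedPointFree (klein_sq hV hp.hb) (hVH hp.hb) fun k hk hfix => by
        have : k ∈ H ⊓ D := ⟨hk, hfixD (hPK (hHP hk)) (mul_inv_eq_iff_eq_mul.mp hfix).symm⟩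
        rwa [hHD, mem_bot] at this
    have hfixa : ∀ x ∈ H, a * x = x * a := fun x hx =>
      (((mem_coreK_iff hV hodd ha h1).mp (hPK (hHP hx))).2).symm
    rcases klein_cases hV hp hv with rfl | rfl | rfl | rfl
    · exact Or.inl fun x _ => by simp
    · exact Or.inl fun x hx => by
        rw [mul_assoc, ← hfixa x hx, inv_mul_cancel_left]
    · exact Or.inr fun x hx => by
        rw [klein_inv hV hp.hb]
        nth_rw 2 [← klein_inv hV hp.hb]
        exact hinvb x hx
    · exact Or.inr fun x hx => by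
        have h2 : a⁻¹ * x * a = x := by rw [mul_assoc, ← hfixa x hx, inv_mul_cancel_left]
        calc (a * b)⁻¹ * x * (a * b) = b⁻¹ * (a⁻¹ * x * a) * b := by group
          _ = b * x * b⁻¹ := by rw [h2, klein_inv hV hp.hb]
          _ = x⁻¹ := hinvb x hx
  -- primes not dividing the index
  have hsmall : ∀ q : ℕ, q.Prime → ¬ q ∣ D.relIndex K →
      BGUniq.core q K ≤ D ∧ U ≤ centralizer (BGUniq.core q K : Set G) := by
    intro q hq hnd
    haveI := Fact.mk hq
    have hle := core_le_of_not_dvd_relIndex (D := D) (K := K) hnd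
    refine ⟨hle, commutator_le_centralizer_of_pm (BGUniq.le_normalizer_core q K) fun v hv =>
      Or.inl fun x hx => ?_⟩
    rw [mul_assoc, ← hfixV (hle hx) v hv, inv_mul_cancel_left]
  have hUF : U ≤ Cfsg.fittingOf K := by
    refine le_fittingOf_of_qprime_centralize hKsol hUK hKU fun q hq x hx hxq y hy => ?_
    haveI := Fact.mk hq
    by_cases hdvd : q ∣ D.relIndex K
    · obtain ⟨H, hHP, hHC, -, hUH, hKH⟩ := hcrit q hq hdvd
      have hxC := hUH hx
      have hle : zpowers x ≤ centralizer (BGUniq.core q K : Set G) := by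
        refine Coprime.thompson_pxq q H (zpowers x) (BGUniq.core q K)
          ((BGUniq.isPGroup_core q K).to_le hHP) (by rw [Nat.card_zpowers]; exact hxq)
          (BGUniq.isPGroup_core q K) ?_ ((hHP.trans (BGUniq.core_le q K)).trans
            (BGUniq.le_normalizer_core q K))
          (zpowers_le.mpr (BGUniq.le_normalizer_core q K (hUK hx))) ?_
        · exact le_centralizer_iff.mp (zpowers_le.mpr hxC)
        · exact hHC.trans (le_centralizer_iff.mp (zpowers_le.mpr hxC))
      exact (mem_centralizer_iff.mp (hle (mem_zpowers x)) y hy).symm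
    · exact (mem_centralizer_iff.mp ((hsmall q hq hdvd).2 hx) y hy).symm
  refine eq_bot_iff.mpr fun x hx => ?_
  refine FG72.mem_of_forall_primePow ⊥ x fun q hq j _ i hi => ?_
  haveI := Fact.mk hq
  have hx' : x ^ i ∈ U ⊓ D := pow_mem hx i
  have hxP : x ^ i ∈ BGUniq.core q K := BGUniq.mem_core_of_mem_fittingOf (hUF hx'.1) hi
  by_cases hdvd : q ∣ D.relIndex K
  · obtain ⟨H, -, hHC, hHD, hUH, -⟩ := hcrit q hq hdvd
    rw [← hHD]
    exact ⟨hHC ⟨hxP, hUH hx'.1⟩, hx'.2⟩
  · -- `U = ⁅U, V⁆` consists of `q'`-elements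
    obtain ⟨hPD, -⟩ := hsmall q hq hdvd
    set R := BGUniq.opp q K with hR
    have hKR : K ≤ normalizer (R : Set G) := BGUniq.le_normalizer_opp q K
    have hVR : V ≤ normalizer (R : Set G) := hKV.trans (BGUniq.opp_conj q)
    have hUle : U ≤ R := by
      rw [← hUU]
      refine commutator_le.mpr fun u hu v hv => ?_
      have hmem : u ∈ BGUniq.core q K ⊔ R := by
        refine FG72.mem_of_forall_primePow _ u fun r hr l _ m hm => ?_
        haveI := Fact.mk hr
        have hcore := BGUniq.mem_core_of_mem_fittingOf (pow_mem (hUF hu) m) hm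
        rcases eq_or_ne r q with rfl | hrq
        · exact mem_sup_left hcore
        · exact mem_sup_right (BGUniq.core_le_opp hrq K hcore)
      obtain ⟨y, hy, z, hz, rfl⟩ := exists_mul_of_mem_sup
        (N := BGUniq.core q K) (H := R) ((BGUniq.opp_le q K).trans (BGUniq.le_normalizer_core q K)) hmem
      have hvy : v * y⁻¹ = y⁻¹ * v := (hfixV (inv_mem (hPD hy)) v hv)
      have e : ⁅y * z, v⁆ = y * (z * (v * z⁻¹ * v⁻¹)) * y⁻¹ := by
        rw [commutatorElement_def]
        calc y * z * v * (y * z)⁻¹ * v⁻¹ = y * z * v * z⁻¹ * y⁻¹ * v⁻¹ := by group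
          _ = y * z * v * z⁻¹ * (v⁻¹ * (v * y⁻¹)) * v⁻¹ := by group
          _ = y * z * v * z⁻¹ * (v⁻¹ * (y⁻¹ * v)) * v⁻¹ := by rw [hvy]
          _ = _ := by group
      rw [e]
      exact conj_mem_of_mem_normalizer (hKR (BGUniq.core_le q K hy))
        (mul_mem hz (conj_mem_of_mem_normalizer (hVR hv) (inv_mem hz)))
    have hR' := hUle hx'.1
    rw [mem_bot]
    refine orderOf_eq_one_iff.mp (Nat.eq_one_of_dvd_coprimes ?_ (dvd_refl _)
      (orderOf_dvd_natCard R hR'))
    rw [hi]
    exact Nat.Coprime.pow_left j ((BGUniq.opp_coprime q K).symm)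

end Cfsg.Agent.GW66
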