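import Cfsg.Agent.GW66.Defs
import Cfsg.Agent.Lib.Thompson.Cores
import Cfsg.Agent.Lib.LinearGroup.SmallPSL
import Cfsg.Agent.S3322
import Cfsg.Agent.S0265
import Mathlib.GroupTheory.Transfer

/-!
# `KleinStmt` from `LocalStmt` and `CharKillStmt`

A minimal counterexample is simple, so `O(C(V)) = 1`, the centraliser of an involution is
generalised dihedral and S3322 identifies the group.
-/

set_option autoImplicit false
set_option linter.style.haveILetI false
set_option linter.unusedSectionVars false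

namespace Cfsg.Agent.GW66

open Subgroup
open scoped commutatorElement

universe u v

namespace MainAux

section Transport

theorem _root_.Cfsg.Agent.GW66.IsKleinTop.of_mulEquiv {H : Type u} {H' : Type v} [Group H] [Group H'] (e : H ≃* H')
    (h : IsKleinTop H) : IsKleinTop H' := by
  obtain ⟨N, hN, hodd, F, i1, i2, hF, ⟨f⟩⟩ := h
  refine ⟨N.map e.toMonoidHom, hN.map _ e.surjective, ?_, F, i1, i2, hF,
    ⟨(N.equivMapOfInjective e.toMonoidHom e.injective).symm.trans f⟩⟩
  rw [Subgroup.index_map_of_bijective e.bijective]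
  exact hodd

theorem isKleinTop_of_equiv_psl {H : Type u} [Group H] {F : Type} [iF : Field F] [iFF : Fintype F]
    (hF : Fintype.card F % 8 = 3 ∨ Fintype.card F % 8 = 5)
    (e : H ≃* Matrix.ProjectiveSpecialLinearGroup (Fin 2) F) : IsKleinTop H := by
  refine ⟨⊤, Subgroup.normal_top, ?_, F, iF, iFF, hF, ⟨?_⟩⟩
  · rw [Subgroup.index_top]; exact odd_one
  · exact Subgroup.topEquiv.trans e

theorem isKleinTop_quotient_bot {H : Type u} [Group H] (h : Cfsg.oddCore H = ⊥)
    (hk : IsKleinTop (H ⧸ Cfsg.oddCore H)) : IsKleinTop H :=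
  hk.of_mulEquiv ((QuotientGroup.quotientMulEquivOfEq h).trans QuotientGroup.quotientBot)

end Transport

section Klein

variable {G : Type u} [Group G] {V : Subgroup G}

theorem card_klein (hK : IsKleinFour V) : Nat.card V = 4 := hK.card_four

theorem klein_sq (hK : IsKleinFour V) {v : G} (hv : v ∈ V) : v * v = 1 := by
  haveI := hK
  exact congrArg Subtype.val (IsKleinFour.mul_self (⟨v, hv⟩ : V))

theorem klein_comm (hK : IsKleinFour V) {v w : G} (hv : v ∈ V) (hw : w ∈ V) : v * w = w * v := by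
  have h1 : v⁻¹ = v := inv_eq_of_mul_eq_one_right (klein_sq hK hv)
  have h2 : w⁻¹ = w := inv_eq_of_mul_eq_one_right (klein_sq hK hw)
  calc v * w = (v * w)⁻¹ := (inv_eq_of_mul_eq_one_right (klein_sq hK (mul_mem hv hw))).symm
    _ = w * v := by rw [mul_inv_rev, h1, h2]

theorem klein_le_centralizer (hK : IsKleinFour V) : V ≤ centralizer (V : Set G) :=
  fun _ hv => Subgroup.mem_centralizer_iff.2 fun _ hw => klein_comm hK hw hv

theorem klein_cases (hK : IsKleinFour V) {v w x : G} (hv : v ∈ V) (hw : w ∈ V) (hx : x ∈ V)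
    (hv1 : v ≠ 1) (hw1 : w ≠ 1) (hvw : v ≠ w) : x = 1 ∨ x = v ∨ x = w ∨ x = v * w := by
  classical
  haveI := hK
  haveI : Finite V := Nat.finite_of_card_ne_zero (by rw [card_klein hK]; norm_num)
  haveI : Fintype V := Fintype.ofFinite V
  have hu := IsKleinFour.eq_finset_univ (G := V) (x := ⟨v, hv⟩) (y := ⟨w, hw⟩)
    (fun h => hv1 (congrArg Subtype.val h)) (fun h => hw1 (congrArg Subtype.val h))
    (fun h => hvw (congrArg Subtype.val h))
  have := Finset.mem_univ (⟨x, hx⟩ : V)
  rw [← hu] at this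
  simp only [Finset.mem_insert, Finset.mem_singleton, Subtype.ext_iff, Subgroup.coe_mul,
    Subgroup.coe_one] at this
  tauto

theorem klein_exists_ne (hK : IsKleinFour V) (a : G) : ∃ b ∈ V, b ≠ 1 ∧ b ≠ a := by
  by_contra h
  push Not at h
  have hsub : (V : Set G) ⊆ {1, a} := fun x hx => by
    by_cases hx1 : x = 1
    · exact Or.inl hx1
    · exact Or.inr (h x hx hx1)
  have h2 := Set.ncard_le_ncard hsub
  rw [← Nat.card_coe_set_eq, show Nat.card (V : Set G) = Nat.card V from rfl, card_klein hK] at h2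
  have h3 : ({1, a} : Set G).ncard ≤ 2 := (Set.ncard_insert_le _ _).trans (by simp)
  omega

theorem isKleinFour_congr {A : Type*} {B : Type*} [Group A] [Group B] (e : A ≃* B)
    (h : IsKleinFour A) : IsKleinFour B :=
  ⟨(Nat.card_congr e.toEquiv).symm.trans h.card_four,
    (Monoid.exponent_eq_of_mulEquiv e).symm.trans h.exponent_two⟩

variable [Finite G]

/-- The automiser of the four-group has odd order. -/
theorem mem_centralizer_of_sq (hK : IsKleinFour V) (hodd : Odd V.index) {g : G}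
    (hg : g ∈ normalizer (V : Set G)) (h2 : g * g ∈ centralizer (V : Set G)) :
    g ∈ centralizer (V : Set G) := by
  set N := normalizer (V : Set G) with hN
  set C := centralizer (V : Set G) with hC
  have hCN : C ≤ N := fun c hc => Subgroup.mem_normalizer_iff.2 fun y => by
    constructor
    · intro hy
      rw [← Subgroup.mem_centralizer_iff.1 hc y hy, mul_inv_cancel_right]
      exact hy
    · intro hy
      have e : c * y * c⁻¹ * c = c * (c * y * c⁻¹) := Subgroup.mem_centralizer_iff.1 hc _ hy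
      rw [inv_mul_cancel_right] at e
      rw [mul_left_cancel e]
      exact hy
  haveI : (C.subgroupOf N).Normal := ⟨fun c hc z => by
    rw [Subgroup.mem_subgroupOf, hC, Subgroup.mem_centralizer_iff] at hc ⊢
    intro y hy
    have hy' : (z : G)⁻¹ * y * z ∈ V := by
      have := (Subgroup.mem_normalizer_iff.1 (inv_mem z.2) y).1 hy
      rwa [inv_inv] at this
    simp only [Subgroup.coe_mul, Subgroup.coe_inv]
    calc y * ((z : G) * c * (z : G)⁻¹) = z * (((z : G)⁻¹ * y * z) * c) * (z : G)⁻¹ := by group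
      _ = z * ((c : G) * ((z : G)⁻¹ * y * z)) * (z : G)⁻¹ := by rw [hc _ hy']
      _ = (z : G) * c * (z : G)⁻¹ * y := by group⟩
  have hdvd : (C.subgroupOf N).index ∣ V.index := by
    have h1 : C.index ∣ V.index :=
      Dvd.intro_left _ (Subgroup.relIndex_mul_index (klein_le_centralizer hK))
    exact (Dvd.intro _ (Subgroup.relIndex_mul_index hCN)).trans h1
  obtain ⟨j, hj⟩ := Odd.of_dvd_nat hodd hdvd
  have hm := Subgroup.pow_index_mem (C.subgroupOf N) (⟨g, hg⟩ : N)
  rw [hj, Subgroup.mem_subgroupOf] at hm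
  have hm' : (g * g) ^ j * g ∈ C := by
    have e : (g * g) ^ j * g = g ^ (2 * j + 1) := by rw [pow_succ, pow_mul, pow_two]
    rw [e]
    exact hm
  exact (mul_mem_cancel_left (pow_mem h2 j)).1 hm'

/-- An element normalising but not centralising `V` moves every involution of `V`. -/
theorem conj_ne_self (hK : IsKleinFour V) (hodd : Odd V.index) {g : G}
    (hg : g ∈ normalizer (V : Set G)) (hgc : g ∉ centralizer (V : Set G)) {v : G} (hv : v ∈ V)
    (hv1 : v ≠ 1) : g * v * g⁻¹ ≠ v := by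
  intro hfix
  refine hgc (mem_centralizer_of_sq hK hodd hg (Subgroup.mem_centralizer_iff.2 fun w hw => ?_))
  suffices hs : g * (g * w * g⁻¹) * g⁻¹ = w by
    calc w * (g * g) = g * (g * w * g⁻¹) * g⁻¹ * (g * g) := by rw [hs]
      _ = g * g * w := by group
  have hconj : ∀ y ∈ V, g * y * g⁻¹ ∈ V := fun y hy => (Subgroup.mem_normalizer_iff.1 hg y).1 hy
  by_cases hw1 : w = 1
  · subst hw1; group
  by_cases hwv : w = v
  · rw [hwv, hfix, hfix]
  rcases klein_cases hK hv hw (hconj w hw) hv1 hw1 (Ne.symm hwv) with h | h | h | h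
  · exact absurd (conj_eq_one_iff.1 h) hw1
  · exact absurd (mul_left_cancel (mul_right_cancel (h.trans hfix.symm))) hwv
  · rw [h, h]
  · rw [h, show g * (v * w) * g⁻¹ = (g * v * g⁻¹) * (g * w * g⁻¹) by group, hfix, h, ← mul_assoc,
      klein_sq hK hv, one_mul]

/-- A fusing element is transitive on the involutions of `V`. -/
theorem exists_conj_eq (hK : IsKleinFour V) (hodd : Odd V.index)
    (hf : Fused (⊤ : Subgroup G) V) {v w : G} (hv : v ∈ V) (hw : w ∈ V) (hv1 : v ≠ 1)
    (hw1 : w ≠ 1) : ∃ g ∈ normalizer (V : Set G), g * v * g⁻¹ = w := by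
  obtain ⟨g, -, hg, hgc⟩ := hf
  by_cases hvw : v = w
  · exact ⟨1, one_mem _, by rw [hvw]; group⟩
  have hconj : ∀ {x : G}, x ∈ normalizer (V : Set G) → ∀ y ∈ V, x * y * x⁻¹ ∈ V :=
    fun hx y hy => (Subgroup.mem_normalizer_iff.1 hx y).1 hy
  by_cases h1 : g * v * g⁻¹ = w
  · exact ⟨g, hg, h1⟩
  refine ⟨g * g, mul_mem hg hg, ?_⟩
  have hu : g * v * g⁻¹ ∈ V := hconj hg v hv
  have hu1 : g * v * g⁻¹ ≠ 1 := fun h => hv1 (conj_eq_one_iff.1 h)
  have hne : g * v * g⁻¹ ≠ v := conj_ne_self hK hodd hg hgc hv hv1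
  have hu2 : g * v * g⁻¹ = v * w := by
    rcases klein_cases hK hv hw hu hv1 hw1 hvw with h | h | h | h
    · exact absurd h hu1
    · exact absurd h hne
    · exact absurd h h1
    · exact h
  have hne2 : g * g * v * (g * g)⁻¹ ≠ v :=
    conj_ne_self hK hodd (mul_mem hg hg) (fun h => hgc (mem_centralizer_of_sq hK hodd hg h)) hv hv1
  have hmem := hconj (mul_mem hg hg) v hv
  rcases klein_cases hK hv hw hmem hv1 hw1 hvw with h | h | h | h
  · exact absurd (conj_eq_one_iff.1 h) hv1
  · exact absurd h hne2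
  · exact h
  · exfalso
    apply conj_ne_self hK hodd hg hgc hu hu1
    calc g * (g * v * g⁻¹) * g⁻¹ = g * g * v * (g * g)⁻¹ := by group
      _ = g * v * g⁻¹ := h.trans hu2.symm

theorem four_dvd_card (hK : IsKleinFour V) : 4 ∣ Nat.card G :=
  card_klein hK ▸ Subgroup.card_subgroup_dvd_card V

theorem card_mod_eight (hK : IsKleinFour V) (hodd : Odd V.index) : Nat.card G % 8 = 4 := by
  obtain ⟨j, hj⟩ := hodd
  rw [← V.card_mul_index, card_klein hK, hj]
  omega

/-- A normal subgroup of even order contains a non-trivial element of `V`. -/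
theorem exists_mem_of_even (hK : IsKleinFour V) (hodd : Odd V.index) (N : Subgroup G) [N.Normal]
    (h2 : 2 ∣ Nat.card N) : ∃ v ∈ V, v ∈ N ∧ v ≠ 1 := by
  haveI := Fact.mk Nat.prime_two
  obtain ⟨t, ht⟩ := exists_prime_orderOf_dvd_card' (G := N) 2 h2
  have hto : orderOf (t : G) = 2 := by rw [Subgroup.orderOf_coe]; exact ht
  have hV : IsPGroup 2 V := IsPGroup.of_card (n := 2) (by rw [card_klein hK]; norm_num)
  let S : Sylow 2 G := hV.toSylow hodd.not_two_dvd_nat
  obtain ⟨P, hP⟩ := (IsPGroup.of_card (n := 1)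
    (by rw [Nat.card_zpowers, hto, pow_one]) : IsPGroup 2 (zpowers (t : G))).exists_le_sylow
  obtain ⟨g, hg⟩ := MulAction.exists_smul_eq G P S
  refine ⟨g * t * g⁻¹, ?_, ‹N.Normal›.conj_mem _ t.2 g, fun h => ?_⟩
  · have hmem : g * t * g⁻¹ ∈ ((g • P : Sylow 2 G) : Subgroup G) := by
      rw [Sylow.coe_subgroup_smul]
      exact ⟨t, hP (mem_zpowers _), rfl⟩
    rw [hg] at hmem
    exact hmem
  · rw [conj_eq_one_iff.1 h, orderOf_one] at hto
    omega

/-- Burnside's transfer theorem inside a subgroup `M` containing `V`. -/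
theorem burnside_decomp (hK : IsKleinFour V) (hodd : Odd V.index) {M : Subgroup G} (hVM : V ≤ M)
    (hno : ∀ g ∈ M, g ∈ normalizer (V : Set G) → g ∈ centralizer (V : Set G)) :
    ∀ x ∈ M, ∃ k ∈ coreO M, ∃ v ∈ V, x = k * v := by
  haveI := Fact.mk Nat.prime_two
  have hc : Nat.card (V.subgroupOf M) = 4 := by
    rw [Nat.card_congr (Subgroup.subgroupOfEquivOfLe hVM).toEquiv, card_klein hK]
  have hV : IsPGroup 2 (V.subgroupOf M) := IsPGroup.of_card (n := 2) (by rw [hc]; norm_num)
  have hidx : ¬ 2 ∣ (V.subgroupOf M).index := fun h => hodd.not_two_dvd_nat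
    (h.trans (Dvd.intro _ (Subgroup.relIndex_mul_index hVM)))
  let S : Sylow 2 M := hV.toSylow hidx
  have hP : normalizer ((S : Subgroup M) : Set M) ≤ centralizer ((S : Subgroup M) : Set M) := by
    intro g hg
    have hgn : (g : G) ∈ normalizer (V : Set G) := by
      refine Subgroup.mem_normalizer_iff.2 fun y => ⟨fun hy => ?_, fun hy => ?_⟩
      · exact (Subgroup.mem_normalizer_iff.1 hg ⟨y, hVM hy⟩).1 hy
      · have hyM : y ∈ M := by
          have := mul_mem (mul_mem (inv_mem g.2) (hVM hy)) g.2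
          simpa [mul_assoc] using this
        exact (Subgroup.mem_normalizer_iff.1 hg ⟨y, hyM⟩).2 hy
    exact Subgroup.mem_centralizer_iff.2 fun s hs =>
      Subtype.ext (Subgroup.mem_centralizer_iff.1 (hno g g.2 hgn) (s : G) hs)
  have hcomp := MonoidHom.ker_transferSylow_isComplement' S hP
  have hKle : (MonoidHom.transferSylow S hP).ker ≤ Cfsg.pPrimeCore 2 M :=
    Thompson.le_pPrimeCore (MonoidHom.normal_ker _) (Nat.coprime_comm.1
      (Nat.prime_two.coprime_iff_not_dvd.2 (MonoidHom.not_dvd_card_ker_transferSylow S hP)))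
  intro x hx
  obtain ⟨⟨⟨k, hk⟩, ⟨v, hv⟩⟩, hkv⟩ := hcomp.surjective ⟨x, hx⟩
  exact ⟨(k : G), ⟨k, hKle hk, rfl⟩, (v : G), hv, (congrArg Subtype.val hkv).symm⟩

end Klein

section Core

variable {G : Type u} [Group G] [Finite G]

theorem odd_card_coreO (M : Subgroup G) : Odd (Nat.card ↥(coreO M)) :=
  Odd.of_dvd_nat (Nat.coprime_two_right.1 (Thompson.card_pPrimeCore_coprime (p := 2) (G := M)))
    (Subgroup.card_map_dvd _ _)

theorem eq_one_of_odd_of_sq {M : Subgroup G} {x : G} (hx : x ∈ M) (hM : Odd (Nat.card M))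
    (h : x * x = 1) : x = 1 := by
  have h1 : orderOf x ∣ 2 := orderOf_dvd_of_pow_eq_one (by rw [pow_two]; exact h)
  have h2 : orderOf x ∣ Nat.card M := Subgroup.orderOf_dvd_natCard M hx
  refine orderOf_eq_one_iff.1 ?_
  have h3 : Odd (orderOf x) := Odd.of_dvd_nat hM h2
  rcases (Nat.dvd_prime Nat.prime_two).1 h1 with h4 | h4
  · exact h4
  · rw [h4] at h3; exact absurd h3 (by decide)

theorem coreO_eq_bot_of_normal (hO : Cfsg.oddCore G = ⊥) (M : Subgroup G) [M.Normal] :
    coreO M = ⊥ :=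
  le_bot_iff.1 ((Thompson.map_pPrimeCore_normal_le (p := 2) M).trans hO.le)

theorem oddCore_eq_bot_of_normal (hO : Cfsg.oddCore G = ⊥) (M : Subgroup G) [M.Normal] :
    Cfsg.oddCore M = ⊥ :=
  (Subgroup.map_eq_bot_iff_of_injective _ M.subtype_injective).1 (coreO_eq_bot_of_normal hO M)

end Core

section Induction

variable {G : Type u} [Group G] [Finite G] {V : Subgroup G}

theorem fused_subgroupOf {M : Subgroup G} (hVM : V ≤ M) (hf : Fused M V) :
    Fused (⊤ : Subgroup M) (V.subgroupOf M) := by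
  obtain ⟨g, hgM, hg, hgc⟩ := hf
  refine ⟨⟨g, hgM⟩, mem_top _, Subgroup.mem_normalizer_iff.2 fun x =>
    Subgroup.mem_normalizer_iff.1 hg (x : G), fun h => hgc ?_⟩
  exact Subgroup.mem_centralizer_iff.2 fun v hv =>
    congrArg Subtype.val (Subgroup.mem_centralizer_iff.1 h ⟨v, hVM hv⟩ hv)

/-- The hypotheses for a subgroup containing `V`. -/
theorem kleinTop_subgroup
    (ih : ∀ (H : Type u) [Group H] [Finite H], Nat.card H < Nat.card G → ∀ W : Subgroup H,
      IsKleinFour W → Odd W.index → Fused (⊤ : Subgroup H) W → IsKleinTop (H ⧸ Cfsg.oddCore H))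
    (hK : IsKleinFour V) (hodd : Odd V.index) {M : Subgroup G} (hM : M ≠ ⊤) (hVM : V ≤ M)
    (hf : Fused M V) : IsKleinTop (↥M ⧸ Cfsg.oddCore ↥M) := by
  refine ih M ?_ (V.subgroupOf M) (isKleinFour_congr (Subgroup.subgroupOfEquivOfLe hVM).symm hK)
    (Odd.of_dvd_nat hodd (Dvd.intro _ (Subgroup.relIndex_mul_index hVM))) (fused_subgroupOf hVM hf)
  refine lt_of_le_of_ne (Nat.le_of_dvd Nat.card_pos (Subgroup.card_subgroup_dvd_card M)) fun h => hM ?_
  exact Subgroup.eq_top_of_card_eq M h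

/-- Reduction modulo the odd core. -/
theorem kleinTop_quotient
    (ih : ∀ (H : Type u) [Group H] [Finite H], Nat.card H < Nat.card G → ∀ W : Subgroup H,
      IsKleinFour W → Odd W.index → Fused (⊤ : Subgroup H) W → IsKleinTop (H ⧸ Cfsg.oddCore H))
    (hK : IsKleinFour V) (hodd : Odd V.index) (hf : Fused (⊤ : Subgroup G) V)
    (hO : Cfsg.oddCore G ≠ ⊥) : IsKleinTop (G ⧸ Cfsg.oddCore G) := by
  set O := Cfsg.oddCore G with hOdef
  set π := QuotientGroup.mk' O with hπ
  have hcoreodd : Odd (Nat.card O) :=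
    Nat.coprime_two_right.1 (Thompson.card_pPrimeCore_coprime (p := 2) (G := G))
  have hker : ∀ v ∈ V, π v = 1 → v = 1 := fun v hv h =>
    eq_one_of_odd_of_sq ((QuotientGroup.eq_one_iff v).1 h) hcoreodd (klein_sq hK hv)
  have hinj : Function.Injective (π.comp V.subtype) := by
    refine (injective_iff_map_eq_one _).2 fun v hv => Subtype.ext ?_
    exact hker v v.2 hv
  have hWk : IsKleinFour ↥(V.map π) :=
    isKleinFour_congr ((MonoidHom.ofInjective hinj).trans
      (MulEquiv.subgroupCongr (by rw [MonoidHom.range_comp, Subgroup.range_subtype]))) hK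
  have hWodd : Odd (V.map π).index :=
    Odd.of_dvd_nat hodd (V.index_map_dvd (QuotientGroup.mk'_surjective O))
  have hlt : Nat.card (G ⧸ O) < Nat.card G := by
    have h1 := Subgroup.card_eq_card_quotient_mul_card_subgroup O
    have h2 : 1 < Nat.card O := (Subgroup.one_lt_card_iff_ne_bot O).2 hO
    have h3 : 0 < Nat.card (G ⧸ O) := Nat.card_pos
    rw [h1]
    exact lt_mul_of_one_lt_right h3 h2
  have hWf : Fused (⊤ : Subgroup (G ⧸ O)) (V.map π) := by
    obtain ⟨g, -, hg, hgc⟩ := hf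
    refine ⟨π g, mem_top _, Subgroup.le_normalizer_map π ⟨g, hg, rfl⟩, fun h => hgc ?_⟩
    refine Subgroup.mem_centralizer_iff.2 fun v hv => ?_
    have h1 := Subgroup.mem_centralizer_iff.1 h (π v) ⟨v, hv, rfl⟩
    have hw : g * v * g⁻¹ * v⁻¹ ∈ V :=
      mul_mem ((Subgroup.mem_normalizer_iff.1 hg v).1 hv) (inv_mem hv)
    have h2 : g * v * g⁻¹ * v⁻¹ = 1 := hker _ hw (by
      rw [map_mul, map_mul, map_mul, map_inv, map_inv, ← h1]; group)
    rw [mul_inv_eq_one, mul_inv_eq_iff_eq_mul] at h2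
    exact h2.symm
  exact isKleinTop_quotient_bot (Thompson.pPrimeCore_quotient_pPrimeCore)
    (ih (G ⧸ O) hlt _ hWk hWodd hWf)

/-- Without odd core every non-trivial normal subgroup contains `V`. -/
theorem klein_le_normal (hK : IsKleinFour V) (hodd : Odd V.index) (hf : Fused (⊤ : Subgroup G) V)
    (hO : Cfsg.oddCore G = ⊥) (N : Subgroup G) [N.Normal] (hN : N ≠ ⊥) : V ≤ N := by
  have h2 : 2 ∣ Nat.card N := by
    by_contra h
    exact hN (le_bot_iff.1 ((Thompson.le_pPrimeCore (p := 2) ‹N.Normal›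
      (Nat.coprime_two_right.2 (Nat.odd_iff.2 (Nat.two_dvd_ne_zero.1 h)))).trans hO.le))
  obtain ⟨v, hv, hvN, hv1⟩ := exists_mem_of_even hK hodd N h2
  obtain ⟨g, -, hg, hgc⟩ := hf
  have hwN : g * v * g⁻¹ ∈ N := ‹N.Normal›.conj_mem v hvN g
  intro x hx
  rcases klein_cases hK hv ((Subgroup.mem_normalizer_iff.1 hg v).1 hv) hx hv1
    (fun h => hv1 (conj_eq_one_iff.1 h)) (conj_ne_self hK hodd hg hgc hv hv1).symm with
    rfl | rfl | rfl | rfl
  · exact one_mem _
  · exact hvN
  · exact hwN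
  · exact mul_mem hvN hwN

/-- The solvable case. -/
theorem kleinTop_of_normal (hK : IsKleinFour V) (hodd : Odd V.index)
    (hf : Fused (⊤ : Subgroup G) V) (hO : Cfsg.oddCore G = ⊥) [V.Normal] : IsKleinTop G := by
  classical
  haveI := Fact.mk Nat.prime_three
  have hC : ∀ x ∈ centralizer (V : Set G), x ∈ V := fun x hx => by
    obtain ⟨k, hk, v, hv, rfl⟩ :=
      burnside_decomp hK hodd (klein_le_centralizer hK) (fun g hg _ => hg) x hx
    rw [coreO_eq_bot_of_normal hO, Subgroup.mem_bot] at hk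
    rw [hk, one_mul]
    exact hv
  obtain ⟨a, ha, ha1, -⟩ := klein_exists_ne hK 1
  have hnorm : ∀ x : G, x ∈ normalizer (V : Set G) := fun x =>
    (Subgroup.normalizer_eq_top_iff.2 ‹V.Normal›).symm ▸ mem_top x
  let f : G ⧸ V → {v : G // v ∈ V ∧ v ≠ 1} := Quotient.lift
    (fun x : G => (⟨x * a * x⁻¹, ‹V.Normal›.conj_mem a ha x,
      fun h => ha1 (conj_eq_one_iff.1 h)⟩ : {v : G // v ∈ V ∧ v ≠ 1}))
    (fun x y hxy => Subtype.ext (by
      have hv : x⁻¹ * y ∈ V := QuotientGroup.leftRel_apply.1 hxy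
      have e : x⁻¹ * y * a * (x⁻¹ * y)⁻¹ = a := by rw [klein_comm hK hv ha]; group
      calc x * a * x⁻¹ = x * (x⁻¹ * y * a * (x⁻¹ * y)⁻¹) * x⁻¹ := by rw [e]
        _ = y * a * y⁻¹ := by group))
  have hfinj : Function.Injective f := by
    intro p q
    induction p using QuotientGroup.induction_on with | H x => ?_
    induction q using QuotientGroup.induction_on with | H y => ?_
    intro hxy
    have e : x * a * x⁻¹ = y * a * y⁻¹ := congrArg Subtype.val hxy
    apply QuotientGroup.eq.2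
    apply hC
    by_contra hc
    exact conj_ne_self hK hodd (hnorm _) hc ha ha1 (by
      calc x⁻¹ * y * a * (x⁻¹ * y)⁻¹ = x⁻¹ * (y * a * y⁻¹) * x := by group
        _ = a := by rw [← e]; group)
  have h3 : Nat.card {v : G // v ∈ V ∧ v ≠ 1} < 4 := by
    rw [← card_klein hK]
    haveI := Fintype.ofFinite G
    rw [Nat.card_eq_fintype_card, Nat.card_eq_fintype_card]
    exact Fintype.card_lt_of_injective_of_notMem
      (fun v => (⟨v.1, v.2.1⟩ : V)) (fun v w h => Subtype.ext (congrArg Subtype.val h :))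
      (b := 1) (by rintro ⟨v, hv⟩; exact v.2.2 (congrArg Subtype.val hv))
  have hle : V.index < 4 := lt_of_le_of_lt (Nat.card_le_card_of_injective f hfinj) h3
  have hne : V.index ≠ 1 := fun h => by
    obtain ⟨g, -, -, hgc⟩ := hf
    exact hgc (klein_le_centralizer hK ((Subgroup.index_eq_one.1 h).symm ▸ mem_top g))
  have hidx : V.index = 3 := by obtain ⟨j, hj⟩ := hodd; omega
  have hG : Nat.card G = 12 := by rw [← V.card_mul_index, card_klein hK, hidx]
  obtain ⟨x, hx⟩ := exists_prime_orderOf_dvd_card' (G := G) 3 (by rw [hG]; norm_num)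
  haveI := Fintype.ofFinite (G ⧸ zpowers x)
  obtain ⟨e⟩ := LinearGroup.nonempty_mulEquiv_alternating (α := G ⧸ zpowers x) (n := 4)
    (MulAction.toPermHom G _) (by
      rw [← MonoidHom.ker_eq_bot_iff, ← Subgroup.normalCore_eq_ker, ← le_bot_iff, ← hO]
      refine Thompson.le_pPrimeCore inferInstance (Nat.coprime_two_right.2 ?_)
      refine Odd.of_dvd_nat ?_ (Subgroup.card_dvd_of_le (Subgroup.normalCore_le _))
      rw [Nat.card_zpowers, hx]
      decide)
    (by
      rw [← Nat.card_eq_fintype_card]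
      have := (zpowers x).card_mul_index
      rw [Nat.card_zpowers, hx, hG] at this
      show (zpowers x).index = 4
      omega)
    (by rw [hG]; rfl)
  obtain ⟨e3⟩ := LinearGroup.psl_two_small (F := ZMod 3) (Or.inl (Nat.card_zmod 3))
  rw [Nat.card_zmod] at e3
  exact isKleinTop_of_equiv_psl (F := ZMod 3) (Or.inl (by rw [ZMod.card])) (e.trans e3.symm)

/-- A minimal normal subgroup which is proper. -/
theorem kleinTop_of_proper
    (ih : ∀ (H : Type u) [Group H] [Finite H], Nat.card H < Nat.card G → ∀ W : Subgroup H,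
      IsKleinFour W → Odd W.index → Fused (⊤ : Subgroup H) W → IsKleinTop (H ⧸ Cfsg.oddCore H))
    (hK : IsKleinFour V) (hodd : Odd V.index) (hf : Fused (⊤ : Subgroup G) V)
    (hO : Cfsg.oddCore G = ⊥) (hN : normalClosure (V : Set G) ≠ ⊤) : IsKleinTop G := by
  set N := normalClosure (V : Set G) with hNdef
  haveI : N.Normal := Subgroup.normalClosure_normal
  have hVN : V ≤ N := Subgroup.subset_normalClosure
  have hON : Cfsg.oddCore N = ⊥ := oddCore_eq_bot_of_normal hO N
  by_cases hfN : Fused N V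
  · obtain ⟨N₁, hN₁, hodd₁, F, i1, i2, hF, ⟨e⟩⟩ :=
      isKleinTop_quotient_bot hON (kleinTop_subgroup ih hK hodd hN hVN hfN)
    haveI := hN₁
    have hsq : ∀ y : N, (y : G) * y = 1 → y ∈ N₁ := by
      intro y hy
      refine (QuotientGroup.eq_one_iff y).1 ?_
      set z : N ⧸ N₁ := (y : N ⧸ N₁)
      have hz : z * z = 1 := by
        have : y * y = 1 := Subtype.ext hy
        rw [← QuotientGroup.mk_mul, this, QuotientGroup.mk_one]
      refine eq_one_of_odd_of_sq (M := (⊤ : Subgroup (N ⧸ N₁))) (mem_top z) ?_ hz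
      rw [Subgroup.card_top, ← Subgroup.index_eq_card]
      exact hodd₁
    have htop : N₁ = ⊤ := by
      rw [eq_top_iff]
      have hle : N ≤ N₁.map N.subtype := by
        refine (Subgroup.closure_le _).2 ?_
        intro c hc
        obtain ⟨v, hv, hcv⟩ := Group.mem_conjugatesOfSet_iff.1 hc
        obtain ⟨g, rfl⟩ := isConj_iff.1 hcv
        refine ⟨⟨g * v * g⁻¹, ‹N.Normal›.conj_mem v (hVN hv) g⟩, hsq _ ?_, rfl⟩
        show g * v * g⁻¹ * (g * v * g⁻¹) = 1
        rw [show g * v * g⁻¹ * (g * v * g⁻¹) = g * (v * v) * g⁻¹ by group, klein_sq hK hv]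
        group
      intro y _
      obtain ⟨z, hz, hzy⟩ := hle y.2
      rwa [← Subtype.ext hzy]
    refine ⟨N, inferInstance, Odd.of_dvd_nat hodd (Dvd.intro_left _
      (Subgroup.relIndex_mul_index hVN)), F, i1, i2, hF,
      ⟨(Subgroup.topEquiv.symm.trans (MulEquiv.subgroupCongr htop.symm)).trans e⟩⟩
  · have hNV : N = V := by
      refine le_antisymm (fun x hx => ?_) hVN
      obtain ⟨k, hk, v, hv, rfl⟩ := burnside_decomp hK hodd hVN
        (fun g hg hgn => by by_contra h; exact hfN ⟨g, hg, hgn, h⟩) x hx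
      rw [coreO_eq_bot_of_normal hO, Subgroup.mem_bot] at hk
      rw [hk, one_mul]
      exact hv
    haveI : V.Normal := hNV ▸ ‹N.Normal›
    exact kleinTop_of_normal hK hodd hf hO

end Induction

section Recognition

theorem card_field_mod {q : ℕ} {g : ℕ} (hq : Odd q) (hg : g % 8 = 4)
    (h : 2 * g = q * (q ^ 2 - 1)) : q % 8 = 3 ∨ q % 8 = 5 := by
  have h1 : 1 ≤ q ^ 2 := Nat.one_le_pow _ _ hq.pos
  have h2 : q * (q ^ 2 + 15) % 16 = 8 := by
    rw [show q ^ 2 + 15 = q ^ 2 - 1 + 16 by omega, mul_add, ← h]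
    omega
  rw [Nat.mul_mod, Nat.add_mod, Nat.pow_mod] at h2
  have key : ∀ r < 16, r % 2 = 1 → r * ((r ^ 2 % 16 + 15 % 16) % 16) % 16 = 8 →
      r % 8 = 3 ∨ r % 8 = 5 := by decide
  have h4 := key (q % 16) (Nat.mod_lt _ (by norm_num))
    (by rw [Nat.mod_mod_of_dvd _ (by norm_num)]; exact Nat.odd_iff.1 hq) h2
  rwa [Nat.mod_mod_of_dvd _ (by norm_num)] at h4

theorem not_eight_dvd_of_odd {q g : ℕ} (hq : Odd q) (hg : g % 8 = 4)
    (h : g = q * (q ^ 2 - 1)) : False := by
  obtain ⟨k, rfl⟩ := hq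
  obtain ⟨m, hm⟩ := Nat.even_mul_succ_self k
  have h2 : (2 * k + 1) ^ 2 - 1 = 8 * m := by
    have : (2 * k + 1) ^ 2 = 4 * (k * (k + 1)) + 1 := by ring
    omega
  rw [h2, ← mul_assoc, mul_comm _ 8, mul_assoc] at h
  omega

theorem card_field_eq_four {F : Type} [Field F] [Fintype F] (hq : ¬ Odd (Nat.card F))
    (h3 : 3 < Nat.card F) {g : ℕ} (hg : g % 8 = 4)
    (h : g = Nat.card F * (Nat.card F ^ 2 - 1)) : Nat.card F = 4 := by
  obtain ⟨p, n, hp, -, hF⟩ := (isPrimePow_nat_iff _).1 (FiniteField.isPrimePow_card F)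
  rw [Nat.card_eq_fintype_card] at *
  rw [← hF] at hq h h3 ⊢
  obtain rfl : p = 2 := hp.eq_two_or_odd'.resolve_right fun h => hq h.pow
  rcases Nat.lt_or_ge n 3 with hn | hn
  · interval_cases n <;> norm_num at *
  · exfalso
    obtain ⟨m, rfl⟩ : ∃ m, n = 3 + m := ⟨n - 3, by omega⟩
    rw [pow_add, mul_assoc] at h
    omega

theorem isKleinTop_of_projective {G : Type u} [Group G] [Finite G] {F : Type} [Field F] [Fintype F]
    (h8 : Nat.card G % 8 = 4) (h3 : 3 < Fintype.card F)
    (h : Nonempty (G ≃* Matrix.ProjectiveSpecialLinearGroup (Fin 2) F) ∨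
      Nonempty (G ≃* Matrix.ProjGenLinGroup (Fin 2) F)) : IsKleinTop G := by
  have h3' : 3 < Nat.card F := by rwa [Nat.card_eq_fintype_card]
  have hP := LinearGroup.gcd_mul_card_PSL_two (F := F)
  have hpgl : Nat.card (Matrix.ProjGenLinGroup (Fin 2) F) = Nat.card F * (Nat.card F ^ 2 - 1) := by
    rw [S0265.result, LinearGroup.card_SL_two]
  by_cases hq : Odd (Nat.card F)
  · rcases h with ⟨⟨e⟩⟩ | ⟨⟨e⟩⟩
    · have hgcd : Nat.gcd 2 (Nat.card F - 1) = 2 := Nat.gcd_eq_left (by
        obtain ⟨k, hk⟩ := hq; omega)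
      rw [hgcd, ← Nat.card_congr e.toEquiv] at hP
      have := card_field_mod hq h8 hP
      rw [Nat.card_eq_fintype_card] at this
      exact isKleinTop_of_equiv_psl this e
    · rw [← Nat.card_congr e.toEquiv] at hpgl
      exact (not_eight_dvd_of_odd hq h8 hpgl).elim
  · have hgcd : Nat.gcd 2 (Nat.card F - 1) = 1 := (Nat.coprime_two_left (n := Nat.card F - 1)).2 (by
      obtain ⟨k, hk⟩ := Nat.not_odd_iff_even.1 hq
      exact ⟨k - 1, by omega⟩)
    rw [hgcd, one_mul] at hP
    obtain ⟨e⟩ : Nonempty (G ≃* Matrix.ProjectiveSpecialLinearGroup (Fin 2) F) := by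
      rcases h with ⟨⟨e⟩⟩ | ⟨⟨e⟩⟩
      · exact ⟨e⟩
      · haveI : Finite (Matrix.ProjGenLinGroup (Fin 2) F) := Finite.of_equiv G e.toEquiv
        have hinj : Function.Injective
            (Matrix.ProjectiveSpecialLinearGroup.toPGL (n := Fin 2) (R := F)) :=
          Matrix.ProjectiveSpecialLinearGroup.toPGL_injective
        exact ⟨e.trans (MulEquiv.ofBijective _ ((Nat.bijective_iff_injective_and_card _).2
          ⟨hinj, by rw [hP, hpgl]⟩)).symm⟩
    have h4 : Nat.card F = 4 := card_field_eq_four hq h3' h8 (by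
      rw [Nat.card_congr e.toEquiv, hP])
    obtain ⟨e4⟩ := LinearGroup.psl_two_small (F := F) (Or.inr h4)
    rw [h4] at e4
    haveI := Fact.mk (show Nat.Prime 5 by norm_num)
    obtain ⟨e5⟩ := LinearGroup.psl_two_five (F := ZMod 5) (Nat.card_zmod 5)
    exact isKleinTop_of_equiv_psl (F := ZMod 5) (Or.inr (by rw [ZMod.card]))
      ((e.trans e4).trans e5.symm)

end Recognition

section Simple

variable {G : Type u} [Group G] [Finite G] {V : Subgroup G}

/-- A fixed-point-free involution inverts. -/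
theorem inverts_of_fixedPointFree {K : Subgroup G} {b : G} (hb : b * b = 1)
    (hnorm : ∀ x ∈ K, b * x * b ∈ K) (hfree : ∀ x ∈ K, b * x * b = x → x = 1) {x : G}
    (hx : x ∈ K) : b * x * b = x⁻¹ := by
  have hbi : b⁻¹ = b := inv_eq_of_mul_eq_one_right hb
  let f : K → K := fun y => ⟨(y : G)⁻¹ * (b * y * b), mul_mem (inv_mem y.2) (hnorm y y.2)⟩
  have hf : Function.Injective f := by
    intro y z hyz
    have e : (y : G)⁻¹ * (b * y * b) = (z : G)⁻¹ * (b * z * b) := congrArg Subtype.val hyz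
    have h1 : (z : G) * (y : G)⁻¹ = 1 := by
      refine hfree _ (mul_mem z.2 (inv_mem y.2)) ?_
      calc b * ((z : G) * (y : G)⁻¹) * b = (b * z * b) * (b * y * b)⁻¹ := by
            rw [mul_inv_rev, mul_inv_rev, hbi]
            calc b * ((z : G) * (y : G)⁻¹) * b = b * z * 1 * (y : G)⁻¹ * b := by group
              _ = b * z * b * (b * ((y : G)⁻¹ * b)) := by rw [← hb]; group
        _ = (z : G) * ((z : G)⁻¹ * (b * z * b)) * (b * y * b)⁻¹ := by group
        _ = (z : G) * ((y : G)⁻¹ * (b * y * b)) * (b * y * b)⁻¹ := by rw [e]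
        _ = (z : G) * (y : G)⁻¹ := by group
    exact Subtype.ext (mul_inv_eq_one.1 h1).symm
  obtain ⟨y, hy⟩ := (Finite.injective_iff_surjective.1 hf) ⟨x, hx⟩
  have hy' : (y : G)⁻¹ * (b * y * b) = x := congrArg Subtype.val hy
  rw [← hy', mul_inv_rev, inv_inv, mul_inv_rev, mul_inv_rev, hbi]
  calc b * ((y : G)⁻¹ * (b * y * b)) * b = b * (y : G)⁻¹ * b * y * (b * b) := by group
    _ = b * ((y : G)⁻¹ * b) * y := by rw [hb]; group

/-- The simple case. -/
theorem kleinTop_of_simple (hLocal : LocalStmt.{u}) (hChar : CharKillStmt.{u}) (ctx : Ctx V) :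
    IsKleinTop G := by
  have hK := ctx.klein
  have hodd := ctx.sylow
  have hD : coreD V = ⊥ := hChar G V ctx (hLocal G V ctx)
  have hC : ∀ x ∈ centralizer (V : Set G), x ∈ V := fun x hx => by
    obtain ⟨k, hk, v, hv, rfl⟩ :=
      burnside_decomp hK hodd (klein_le_centralizer hK) (fun g hg _ => hg) x hx
    have hk' : k ∈ coreD V := hk
    rw [hD, Subgroup.mem_bot] at hk'
    rw [hk', one_mul]
    exact hv
  obtain ⟨a, ha, ha1, -⟩ := klein_exists_ne hK 1
  have haa := klein_sq hK ha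
  set H := centralizer ({a} : Set G) with hH
  set K := coreK a with hKdef
  have hKO : K = coreO H := rfl
  have hKH : K ≤ H := hKO ▸ Subgroup.map_subtype_le _
  have hKodd : Odd (Nat.card K) := hKO ▸ odd_card_coreO H
  have hcomm : ∀ x ∈ H, a * x = x * a := fun x hx => Subgroup.mem_centralizer_iff.1 hx a rfl
  have hVH : V ≤ H := fun v hv => Subgroup.mem_centralizer_singleton_iff.2 (klein_comm hK hv ha)
  have hKV : ∀ x ∈ K, x ∈ V → x = 1 := fun x hx hxV =>
    eq_one_of_odd_of_sq hx hKodd (klein_sq hK hxV)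
  have hdec : ∀ x ∈ H, ∃ k ∈ K, ∃ v ∈ V, x = k * v := by
    rw [hKO]
    refine burnside_decomp hK hodd hVH fun g hg hgn => ?_
    by_contra hgc
    exact conj_ne_self hK hodd hgn hgc ha ha1 (by rw [← hcomm g hg, mul_inv_cancel_right])
  have hKnorm : ∀ h ∈ H, ∀ x ∈ K, h * x * h⁻¹ ∈ K := by
    intro h hh x hx
    obtain ⟨y, hy, rfl⟩ := hx
    exact ⟨⟨h, hh⟩ * y * ⟨h, hh⟩⁻¹, (Cfsg.pPrimeCore_normal 2 _).conj_mem y hy _, rfl⟩
  have hinv : ∀ b ∈ V, b ≠ 1 → b ≠ a → ∀ x ∈ K, b * x * b = x⁻¹ := by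
    intro b hb hb1 hba x hx
    have hbb := klein_sq hK hb
    have hbi : b⁻¹ = b := inv_eq_of_mul_eq_one_right hbb
    refine inverts_of_fixedPointFree hbb (fun y hy => ?_) (fun y hy hfix => ?_) hx
    · have := hKnorm b (hVH hb) y hy
      rwa [hbi] at this
    · refine hKV y hy (hC y (Subgroup.mem_centralizer_iff.2 fun w hw => ?_))
      have hay : a * y = y * a := hcomm y (hKH hy)
      have hby : b * y = y * b := by
        calc b * y = b * y * (b * b) := by rw [hbb, mul_one]
          _ = y * b := by rw [← mul_assoc, hfix]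
      rcases klein_cases hK ha hb hw ha1 hb1 (Ne.symm hba) with rfl | rfl | rfl | rfl
      · rw [one_mul, mul_one]
      · exact hay
      · exact hby
      · rw [mul_assoc, hby, ← mul_assoc, hay, mul_assoc]
  let A : Subgroup G :=
    { carrier := {x | x ∈ K ∨ x * a ∈ K}
      one_mem' := Or.inl (one_mem K)
      mul_mem' := by
        intro x y hx hy
        have hyH : y ∈ H := by
          rcases hy with hy | hy
          · exact hKH hy
          · exact (mul_mem_cancel_right (hVH ha)).1 (hKH hy)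
        rcases hx with hx | hx <;> rcases hy with hy | hy
        · exact Or.inl (mul_mem hx hy)
        · exact Or.inr (by rw [mul_assoc]; exact mul_mem hx hy)
        · refine Or.inr ?_
          rw [mul_assoc, ← hcomm y hyH, ← mul_assoc]
          exact mul_mem hx hy
        · refine Or.inl ?_
          have e : x * a * (y * a) = x * y := by
            calc x * a * (y * a) = x * (a * y) * a := by group
              _ = x * y * (a * a) := by rw [hcomm y hyH]; group
              _ = x * y := by rw [haa, mul_one]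
          rw [← e]
          exact mul_mem hx hy
      inv_mem' := by
        intro x hx
        rcases hx with hx | hx
        · exact Or.inl (inv_mem hx)
        · refine Or.inr ?_
          have hxH : x ∈ H := (mul_mem_cancel_right (hVH ha)).1 (hKH hx)
          have e : x⁻¹ * a = (x * a)⁻¹ := by
            rw [← hcomm x hxH, mul_inv_rev, inv_eq_of_mul_eq_one_right haa]
          rw [e]
          exact inv_mem hx }
  have hAH' : A ≤ H := by
    rintro x (hx | hx)
    · exact hKH hx
    · exact (mul_mem_cancel_right (hVH ha)).1 (hKH hx)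
  obtain ⟨b, hb, hb1, hba⟩ := klein_exists_ne hK a
  have hAH : A < H := lt_of_le_of_ne hAH' fun h => by
    rcases (h ▸ hVH hb : b ∈ A) with hbK | hbK
    · exact hb1 (hKV b hbK hb)
    · have := hKV _ hbK (mul_mem hb ha)
      exact hba (by rw [mul_eq_one_iff_eq_inv] at this; rwa [inv_eq_of_mul_eq_one_right haa] at this)
  have hDg : ∀ x ∈ H, x ∉ A → x ^ 2 = 1 := by
    intro x hx hxA
    obtain ⟨k, hk, v, hv, rfl⟩ := hdec x hx
    have hv1 : v ≠ 1 := fun h => hxA (Or.inl (by rw [h, mul_one]; exact hk))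
    have hva : v ≠ a := fun h => hxA (Or.inr (by rw [h, mul_assoc, haa, mul_one]; exact hk))
    calc (k * v) ^ 2 = k * (v * k * v) := by rw [pow_two]; group
      _ = 1 := by rw [hinv v hv hv1 hva k hk, mul_inv_cancel]
  have h4 : 4 ∣ Nat.card H := card_klein hK ▸ Subgroup.card_dvd_of_le hVH
  have hCj : ∀ j ∈ H, orderOf j = 2 → (∀ h ∈ H, h * j = j * h) →
      centralizer ({j} : Set G) = H := by
    intro j hj hjo hjc
    have hjV : j ∈ V := hC j (Subgroup.mem_centralizer_iff.2 fun v hv => hjc v (hVH hv))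
    by_cases hja : j = a
    · rw [hja]
    have hj1 : j ≠ 1 := fun h => by rw [h, orderOf_one] at hjo; omega
    have hjj := klein_sq hK hjV
    have hHV : ∀ x ∈ H, x ∈ V := by
      intro x hx
      obtain ⟨k, hk, v, hv, rfl⟩ := hdec x hx
      have hk2 : k * k = 1 := by
        have e := hinv j hjV hj1 hja k hk
        rw [← hjc k (hKH hk), mul_assoc, hjj, mul_one] at e
        exact mul_eq_one_iff_eq_inv.2 e
      rw [eq_one_of_odd_of_sq hk hKodd hk2, one_mul]
      exact hv
    obtain ⟨g, hg, hgj⟩ := exists_conj_eq hK hodd ctx.fused ha hjV ha1 hj1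
    refine le_antisymm (fun x hx => hVH ?_) (fun x hx => ?_)
    · have hxj : j * x = x * j := Subgroup.mem_centralizer_iff.1 hx j rfl
      have hy : g⁻¹ * x * g ∈ H := by
        refine Subgroup.mem_centralizer_singleton_iff.2 ?_
        calc g⁻¹ * x * g * a = g⁻¹ * (x * (g * a * g⁻¹)) * g := by group
          _ = g⁻¹ * ((g * a * g⁻¹) * x) * g := by rw [hgj, hxj]
          _ = a * (g⁻¹ * x * g) := by group
      have := (Subgroup.mem_normalizer_iff.1 hg _).1 (hHV _ hy)
      simpa [mul_assoc] using this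
    · exact Subgroup.mem_centralizer_singleton_iff.2 (klein_comm hK (hHV x hx) hjV)
  haveI := ctx.simple
  have hns : ¬ Group.IsSolvable G := by
    intro hs
    obtain ⟨g, -, -, hgc⟩ := ctx.fused
    exact hgc (Subgroup.mem_centralizer_iff.2 fun v _ =>
      (IsSimpleGroup.comm_iff_isSolvable (G := G)).2 hs v g)
  obtain ⟨N, hN, hNc, F, i1, i2, h3, hF⟩ := S3322.result H A hAH hDg h4 hCj hns
  rcases hN.eq_bot_or_eq_top with hbot | htop
  · refine isKleinTop_of_projective (card_mod_eight hK hodd) h3 ?_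
    let e : G ⧸ N ≃* G := (QuotientGroup.quotientMulEquivOfEq hbot).trans QuotientGroup.quotientBot
    exact hF.imp (fun h => h.map e.symm.trans) (fun h => h.map e.symm.trans)
  · exfalso
    obtain ⟨k, hk⟩ := four_dvd_card hK
    rw [htop, Subgroup.card_top, hk] at hNc
    rcases hNc with ⟨m, hm⟩ | ⟨m, ⟨i, hi⟩, hm⟩ <;> omega

end Simple

end MainAux

open MainAux

/-- Gorenstein–Walter for a four-group. -/
theorem kleinStmt (hLocal : LocalStmt.{u}) (hChar : CharKillStmt.{u}) : KleinStmt.{u} := by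
  suffices h : ∀ (n : ℕ) (G : Type u) [Group G] [Finite G], Nat.card G = n → ∀ V : Subgroup G,
      IsKleinFour V → Odd V.index → Fused (⊤ : Subgroup G) V → IsKleinTop (G ⧸ Cfsg.oddCore G) by
    intro G _ _ V hK hodd hf
    exact h _ G rfl V hK hodd hf
  intro n
  induction n using Nat.strong_induction_on with
  | _ n ihn =>
    intro G _ _ hn V hK hodd hf
    have ih : ∀ (H : Type u) [Group H] [Finite H], Nat.card H < Nat.card G → ∀ W : Subgroup H,
        IsKleinFour W → Odd W.index → Fused (⊤ : Subgroup H) W →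
          IsKleinTop (H ⧸ Cfsg.oddCore H) :=
      fun H _ _ hlt => ihn (Nat.card H) (hn ▸ hlt) H rfl
    by_cases hO : Cfsg.oddCore G = ⊥
    swap
    · exact kleinTop_quotient ih hK hodd hf hO
    suffices hG : IsKleinTop G from
      hG.of_mulEquiv ((QuotientGroup.quotientMulEquivOfEq hO).trans QuotientGroup.quotientBot).symm
    by_cases hN : normalClosure (V : Set G) = ⊤
    swap
    · exact kleinTop_of_proper ih hK hodd hf hO hN
    haveI : Nontrivial G :=
      Finite.one_lt_card_iff_nontrivial.1 (by have := card_mod_eight hK hodd; omega)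
    have hsimple : IsSimpleGroup G := by
      refine ⟨fun M hM => ?_⟩
      haveI := hM
      by_cases hM1 : M = ⊥
      · exact Or.inl hM1
      · refine Or.inr (top_le_iff.1 (hN ▸ ?_))
        exact Subgroup.normalClosure_le_normal (klein_le_normal hK hodd hf hO M hM1)
    exact kleinTop_of_simple hLocal hChar
      ⟨hsimple, hK, hodd, hf, fun M hM hVM hfM => kleinTop_subgroup ih hK hodd hM hVM hfM⟩

end Cfsg.Agent.GW66
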