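import Cfsg.Agent.GW66.Defs

/-!
# Interface between `PSLFacts.lean` and `Quot.lean`
-/

set_option autoImplicit false

namespace Cfsg.Agent.GW66

open Subgroup

universe u

/-- What `Quot.lean` uses of `PSL(2, q)`, `q ≡ 3, 5 (mod 8)`, with a four-group `V`. -/
structure KleinPSL {N : Type u} [Group N] [Finite N] (V : Subgroup N) : Prop where
  /-- `V` is a Sylow `2`-subgroup -/
  sylow : Odd V.index
  /-- `V` is self-centralising -/
  self : centralizer (V : Set N) = V
  /-- `V` is fused -/
  rot : ∃ r ∈ normalizer (V : Set N), r ∉ centralizer (V : Set N)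
  /-- the torus in the centraliser of an involution, with the two order bounds -/
  torus : ∀ a : N, orderOf a = 2 → ∃ T : Subgroup N,
    IsCyclic ↥T ∧ Odd (Nat.card ↥T) ∧
      Nat.card ↥(centralizer ({a} : Set N)) = 4 * Nat.card ↥T ∧
      (∀ x : N, x ∈ T ↔ Odd (orderOf x) ∧ x * a = a * x) ∧
      (3 ≤ Nat.card ↥T →
        24 * Nat.card ↥T ^ 3 < Nat.card N ∧
          6 * Nat.card ↥T ^ 2 + 1 ≤ (centralizer ({a} : Set N)).index)
  /-- a non-trivial element of odd order centralises at most one involution -/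
  ti : ∀ x t t' : N, x ≠ 1 → Odd (orderOf x) → orderOf t = 2 → orderOf t' = 2 →
    x * t = t * x → x * t' = t' * x → t = t'
  /-- few tori meet a subgroup of odd order through a given toral element -/
  borel : ∀ x a : N, x ≠ 1 → Odd (orderOf x) → orderOf a = 2 → x * a = a * x →
    3 * {t : N | orderOf t = 2 ∧ ∃ g : N, g ≠ 1 ∧ Odd (orderOf g) ∧ g * t = t * g ∧
          ∃ L : Subgroup N, Odd (Nat.card ↥L) ∧ Group.IsSolvable ↥L ∧ x ∈ L ∧ g ∈ L}.ncard ≤
      {t : N | orderOf t = 2}.ncard

/-- `PSLFacts.lean` -/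
def PSLFactsStmt : Prop :=
  ∀ (N : Type u) [Group N] [Finite N] (F : Type) [Field F] [Fintype F],
    (Fintype.card F % 8 = 3 ∨ Fintype.card F % 8 = 5) →
      Nonempty (N ≃* Matrix.ProjectiveSpecialLinearGroup (Fin 2) F) →
        ∀ V : Subgroup N, IsKleinFour V → KleinPSL V

end Cfsg.Agent.GW66
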