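import Cfsg.Agent.GW66.QuotModel
import Cfsg.Agent.Lib.Dickson.Tori
import Cfsg.Agent.Lib.Dickson.Maximal
import Cfsg.Agent.Lib.Dickson.Involutions

/-!
# `PSL(2, q)`, `q ≡ 3, 5 (mod 8)`: the tori of involutions and the subgroups of odd order
-/

set_option autoImplicit false
set_option linter.unusedSectionVars false
set_option linter.style.haveILetI false

namespace Cfsg.Agent.GW66.PSL

open Subgroup MulAction OnePoint
open Cfsg.Agent.Dickson
open scoped commutatorElement

attribute [local instance] Cfsg.Agent.PLocalB.lineAction pslLine pslBar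

/-! ## Dihedral groups -/

theorem dihedral_rot {n : ℕ} {y : DihedralGroup n} (hy : Odd (orderOf y)) :
    ∃ i : ZMod n, y = DihedralGroup.r i := by
  rcases y with i | i
  · exact ⟨i, rfl⟩
  · rw [DihedralGroup.orderOf_sr] at hy
    exact absurd hy (by decide)

theorem dihedral_unique {n : ℕ} [NeZero n] {y t t' : DihedralGroup n} (y1 : y ≠ 1)
    (hy : Odd (orderOf y)) (ht : orderOf t = 2) (ht' : orderOf t' = 2) (hc : y * t = t * y)
    (hc' : y * t' = t' * y) : t = t' := by
  obtain ⟨i, rfl⟩ := dihedral_rot hy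
  have key : ∀ u : DihedralGroup n, orderOf u = 2 → DihedralGroup.r i * u = u * DihedralGroup.r i →
      ∃ k : ZMod n, u = DihedralGroup.r k ∧ 2 * k.val = n := by
    intro u hu hcu
    rcases u with k | k
    · refine ⟨k, rfl, ?_⟩
      have h2 : k + k = 0 := by
        have := orderOf_dvd_iff_pow_eq_one.mp hu.dvd
        rw [pow_two, DihedralGroup.r_mul_r, DihedralGroup.one_def, DihedralGroup.r.injEq] at this
        exact this
      have h0 : k.val ≠ 0 := fun e => by
        rw [ZMod.val_eq_zero] at e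
        rw [e, DihedralGroup.r_zero, orderOf_one] at hu
        exact absurd hu (by norm_num)
      have hdvd : n ∣ 2 * k.val := by
        rw [← ZMod.natCast_eq_zero_iff, Nat.cast_mul, ZMod.natCast_zmod_val, Nat.cast_two, two_mul]
        exact h2
      obtain ⟨c, hc⟩ := hdvd
      have := k.val_lt
      rcases c with _ | _ | c
      · omega
      · omega
      · have : n * (c + 1 + 1) = n * c + 2 * n := by ring
        omega
    · exfalso
      rw [DihedralGroup.r_mul_sr, DihedralGroup.sr_mul_r, DihedralGroup.sr.injEq] at hcu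
      have h2 : DihedralGroup.r i ^ 2 = (1 : DihedralGroup n) := by
        rw [pow_two, DihedralGroup.r_mul_r, DihedralGroup.one_def, DihedralGroup.r.injEq]
        linear_combination -hcu
      rcases (Nat.dvd_prime Nat.prime_two).mp (orderOf_dvd_of_pow_eq_one h2) with h | h
      · exact y1 (orderOf_eq_one_iff.mp h)
      · rw [h] at hy
        exact absurd hy (by decide)
  obtain ⟨k, rfl, hk⟩ := key t ht hc
  obtain ⟨k', rfl, hk'⟩ := key t' ht' hc'
  rw [ZMod.val_injective n (by omega : k.val = k'.val)]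

section Dih

variable {G : Type*} [Group G] {N : Subgroup G} {n : ℕ}

theorem torus_comm (e : ↥N ≃* DihedralGroup n) {x y : G} (hx : x ∈ N) (hy : y ∈ N)
    (hxo : Odd (orderOf x)) (hyo : Odd (orderOf y)) : x * y = y * x := by
  have h1 : Odd (orderOf (e ⟨x, hx⟩)) := by rw [MulEquiv.orderOf_eq, Subgroup.orderOf_mk]; exact hxo
  have h2 : Odd (orderOf (e ⟨y, hy⟩)) := by rw [MulEquiv.orderOf_eq, Subgroup.orderOf_mk]; exact hyo
  obtain ⟨i, hi⟩ := dihedral_rot h1
  obtain ⟨j, hj⟩ := dihedral_rot h2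
  have : e (⟨x, hx⟩ * ⟨y, hy⟩) = e (⟨y, hy⟩ * ⟨x, hx⟩) := by
    rw [map_mul, map_mul, hi, hj, DihedralGroup.r_mul_r, DihedralGroup.r_mul_r, add_comm]
  exact congrArg Subtype.val (e.injective this)

/-- The rotations of a dihedral subgroup. -/
theorem torus_cyclic (e : ↥N ≃* DihedralGroup n) :
    ∃ R : Subgroup G, IsCyclic ↥R ∧ ∀ x ∈ N, Odd (orderOf x) → x ∈ R := by
  refine ⟨zpowers ((e.symm (DihedralGroup.r 1) : N) : G), inferInstance, fun x hx ho => ?_⟩
  have h1 : Odd (orderOf (e ⟨x, hx⟩)) := by rw [MulEquiv.orderOf_eq, Subgroup.orderOf_mk]; exact ho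
  obtain ⟨i, hi⟩ := dihedral_rot h1
  refine mem_zpowers_iff.mpr ⟨(i.cast : ℤ), ?_⟩
  rw [← Subgroup.coe_zpow, ← map_zpow, DihedralGroup.r_one_zpow, ZMod.intCast_zmod_cast, ← hi,
    MulEquiv.symm_apply_apply]

end Dih

variable {F : Type} [Field F] [Fintype F]

theorem odd_card (hF : Fintype.card F % 8 = 3 ∨ Fintype.card F % 8 = 5) :
    Fintype.card F % 2 = 1 ∧ Nat.gcd 2 (Fintype.card F - 1) = 2 := by
  refine ⟨by omega, Nat.gcd_eq_left ?_⟩
  omega

theorem char_odd (hF : Fintype.card F % 8 = 3 ∨ Fintype.card F % 8 = 5) (p : ℕ) [Fact p.Prime]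
    [CharP F p] : p ≠ 2 := by
  rintro rfl
  obtain ⟨n, -, hn⟩ := FiniteField.card F 2
  have : 2 ∣ Fintype.card F := hn ▸ dvd_pow_self 2 n.pos.ne'
  omega

theorem coprime_two (hF : Fintype.card F % 8 = 3 ∨ Fintype.card F % 8 = 5) (p : ℕ)
    [hp : Fact p.Prime] [CharP F p] : Nat.Coprime 2 p :=
  (Nat.coprime_primes Nat.prime_two hp.out).mpr (char_odd hF p).symm

/-- The half order of the torus normaliser of an involution. -/
def half (q : ℕ) : ℕ := if q % 8 = 3 then (q + 1) / 4 else (q - 1) / 4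

theorem half_spec {q : ℕ} (hF : q % 8 = 3 ∨ q % 8 = 5) :
    Odd (half q) ∧ (q + 1 = 4 * half q ∨ q = 4 * half q + 1) := by
  unfold half
  split <;> refine ⟨Nat.odd_iff.mpr ?_, ?_⟩ <;> omega

theorem card_psl (hF : Fintype.card F % 8 = 3 ∨ Fintype.card F % 8 = 5) :
    ∃ j, Odd j ∧ Nat.card (PSL2 F) = 4 * half (Fintype.card F) * j ∧
      (Fintype.card F + 1 = 4 * half (Fintype.card F) → j = Fintype.card F * (2 * half (Fintype.card F) - 1)) ∧
      (Fintype.card F = 4 * half (Fintype.card F) + 1 → j = Fintype.card F * (2 * half (Fintype.card F) + 1)) := by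
  obtain ⟨hodd, hd⟩ := odd_card hF
  obtain ⟨hk, hcases⟩ := half_spec hF
  have h := card_psl_eq (F := F)
  rw [hd] at h
  have hk0 := hk.pos
  set k := half (Fintype.card F) with hk_def
  set q := Fintype.card F with hq_def
  rcases hcases with e | e
  · obtain ⟨j, hj⟩ : ∃ j, q = 2 * j + 1 := ⟨(q - 1) / 2, by omega⟩
    refine ⟨q * (2 * k - 1), (Nat.odd_iff.mpr hodd).mul (Nat.odd_iff.mpr (by omega)), ?_,
      fun _ => rfl, fun e' => by omega⟩
    have e1 : q - 1 = 2 * (2 * k - 1) := by omega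
    rw [e1, e] at h
    nlinarith [h]
  · refine ⟨q * (2 * k + 1), (Nat.odd_iff.mpr hodd).mul (Nat.odd_iff.mpr (by omega)), ?_,
      fun e' => by omega, fun _ => rfl⟩
    have e1 : q - 1 = 4 * k := by omega
    have e2 : q + 1 = 2 * (2 * k + 1) := by omega
    rw [e1, e2] at h
    nlinarith [h]

theorem sylow_two (hF : Fintype.card F % 8 = 3 ∨ Fintype.card F % 8 = 5) {V : Subgroup (PSL2 F)}
    (hV : IsKleinFour V) : Odd V.index := by
  obtain ⟨j, hj, hc, -, -⟩ := card_psl hF
  have h := V.card_mul_index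
  rw [hV.card_four, hc, mul_assoc] at h
  rw [Nat.eq_of_mul_eq_mul_left (by norm_num) h]
  exact (half_spec hF).1.mul hj

theorem two_ne_zero' (hF : Fintype.card F % 8 = 3 ∨ Fintype.card F % 8 = 5) : (2 : F) ≠ 0 :=
  SL2Tor.two_ne_zero_of_gcd (odd_card hF).2

theorem conj_invol (hF : Fintype.card F % 8 = 3 ∨ Fintype.card F % 8 = 5) {a t : PSL2 F}
    (ha : orderOf a = 2) (ht : orderOf t = 2) : ∃ g, g * a * g⁻¹ = t :=
  isConj_involutions (two_ne_zero' hF) ha ht

/-- At most one involution commutes with a non-trivial element of odd order. -/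
theorem ti (hF : Fintype.card F % 8 = 3 ∨ Fintype.card F % 8 = 5) {x t t' : PSL2 F} (x1 : x ≠ 1)
    (hx : Odd (orderOf x)) (ht : orderOf t = 2) (ht' : orderOf t' = 2) (hc : x * t = t * x)
    (hc' : x * t' = t' * x) : t = t' := by
  obtain ⟨p, hp⟩ := CharP.exists F
  obtain ⟨f, hpp, -⟩ := FiniteField.card F p
  haveI := Fact.mk hpp
  have hcop : Nat.Coprime (orderOf x) p := by
    rw [Nat.coprime_comm, hpp.coprime_iff_not_dvd]
    intro hdvd
    set y := x ^ (orderOf x / p) with hy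
    have hy' : orderOf y = p := orderOf_pow_orderOf_div (orderOf_pos x).ne' hdvd
    have t1 : t ≠ 1 := fun e => by rw [e, orderOf_one] at ht; exact absurd ht (by norm_num)
    obtain ⟨N, n, hN, -, -, hnorm, -⟩ := torus_of p t1 (by rw [ht]; exact coprime_two hF p)
    have hyN : y ∈ N := hnorm y (by
      have hcy : Commute y t := (show Commute x t from hc).pow_left _
      rw [hcy.eq, mul_inv_cancel_right]
      exact mem_zpowers t)
    have h1 : p ∣ 2 * n := by
      rw [← card_torusNorm hN, ← hy']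
      exact Subgroup.orderOf_dvd_natCard N hyN
    have h2 : p ∣ n := (coprime_two hF p).symm.dvd_of_dvd_mul_left h1
    obtain ⟨-, -, -, hkind⟩ := hN
    have h3 : Nat.Coprime p p := by
      refine coprime_char p (F := F) (hkind.symm.imp (fun e => ?_) fun e => ?_) <;>
        (rw [Nat.div_eq_of_eq_mul_right (Nat.gcd_pos_of_pos_left _ two_pos) e.symm]; exact h2)
    exact hpp.ne_one ((Nat.coprime_self p).mp h3)
  obtain ⟨N, n, hN, hxN, -, hnorm, -⟩ := torus_of p x1 hcop
  obtain ⟨hn2, ⟨e⟩, -, -⟩ := hN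
  haveI : NeZero n := ⟨by omega⟩
  have hmem : ∀ u : PSL2 F, x * u = u * x → u ∈ N := fun u hu => hnorm u (by
    rw [← hu, mul_inv_cancel_right]
    exact mem_zpowers x)
  have := dihedral_unique (y := e ⟨x, hxN⟩) (t := e ⟨t, hmem t hc⟩) (t' := e ⟨t', hmem t' hc'⟩)
    (fun h => x1 (congrArg Subtype.val (e.injective (h.trans (map_one e).symm))))
    (by rw [MulEquiv.orderOf_eq, Subgroup.orderOf_mk]; exact hx)
    (by rw [MulEquiv.orderOf_eq, Subgroup.orderOf_mk]; exact ht)
    (by rw [MulEquiv.orderOf_eq, Subgroup.orderOf_mk]; exact ht')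
    (by rw [← map_mul, ← map_mul]; exact congrArg e (Subtype.ext hc))
    (by rw [← map_mul, ← map_mul]; exact congrArg e (Subtype.ext hc'))
  exact congrArg Subtype.val (e.injective this)

/-- The centraliser of an involution. -/
theorem torus (hF : Fintype.card F % 8 = 3 ∨ Fintype.card F % 8 = 5) {V : Subgroup (PSL2 F)}
    (hV : IsKleinFour V) {a : PSL2 F} (ha : orderOf a = 2) : ∃ T : Subgroup (PSL2 F),
      IsCyclic ↥T ∧ Nat.card ↥T = half (Fintype.card F) ∧
      Nat.card ↥(centralizer ({a} : Set (PSL2 F))) = 4 * Nat.card ↥T ∧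
      ∀ x, x ∈ T ↔ Odd (orderOf x) ∧ x * a = a * x := by
  obtain ⟨hk, hcases⟩ := half_spec hF
  obtain ⟨hodd, hd⟩ := odd_card hF
  set k := half (Fintype.card F) with hk_def
  have hk0 := hk.pos
  obtain ⟨p, hp⟩ := CharP.exists F
  obtain ⟨f, hpp, -⟩ := FiniteField.card F p
  haveI := Fact.mk hpp
  -- a generator of the torus
  obtain ⟨g₀, hg₀⟩ : ∃ g : PSL2 F, orderOf g = 2 * k := by
    rcases hcases with e | e
    · obtain ⟨g, hg⟩ := SL2Tor.exists_psl_orderOf_div (F := F) (Or.inr rfl)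
      exact ⟨g, by rw [hg, hd]; omega⟩
    · obtain ⟨g, hg⟩ := SL2Tor.exists_psl_orderOf_div (F := F) (Or.inl rfl)
      exact ⟨g, by rw [hg, hd]; omega⟩
  have hpk : orderOf (g₀ ^ k) = 2 := by
    rw [orderOf_pow, hg₀, Nat.gcd_eq_right (dvd_mul_left k 2), Nat.mul_div_cancel _ hk0]
  obtain ⟨c, hc⟩ := conj_invol hF hpk ha
  set g := c * g₀ * c⁻¹ with hg
  have hgo : orderOf g = 2 * k := by
    rw [hg, show c * g₀ * c⁻¹ = MulAut.conj c g₀ from rfl, MulEquiv.orderOf_eq, hg₀]
  have hga : g * a = a * g := by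
    rw [← hc, hg]
    calc c * g₀ * c⁻¹ * (c * g₀ ^ k * c⁻¹) = c * (g₀ * g₀ ^ k) * c⁻¹ := by group
      _ = c * (g₀ ^ k * g₀) * c⁻¹ := by rw [(Commute.self_pow g₀ k).eq]
      _ = _ := by group
  set C := centralizer ({a} : Set (PSL2 F)) with hC
  have a1 : a ≠ 1 := fun e => by rw [e, orderOf_one] at ha; exact absurd ha (by norm_num)
  obtain ⟨N, n, hN, -, -, hnorm, -⟩ := torus_of p a1 (by rw [ha]; exact coprime_two hF p)
  have hCN : C ≤ N := fun h hh => hnorm h (by
    rw [mem_centralizer_singleton_iff.mp hh, mul_inv_cancel_right]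
    exact mem_zpowers a)
  have hgC : zpowers g ≤ C := zpowers_le.mpr (mem_centralizer_singleton_iff.mpr hga)
  have hzc : Nat.card (zpowers g) = 2 * k := by rw [Nat.card_zpowers, hgo]
  obtain ⟨hn2, ⟨e⟩, -, hkind⟩ := id hN
  -- a four-group through `a`
  obtain ⟨v₀, hv₀, v1⟩ : ∃ v ∈ V, v ≠ 1 := by
    by_contra hcon
    push Not at hcon
    have := hV.card_four
    rw [(eq_bot_iff_forall V).mpr hcon, card_bot] at this
    omega
  obtain ⟨d, hd'⟩ := conj_invol hF (klein_orderOf hV hv₀ v1) ha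
  set W := V.map (MulAut.conj d).toMonoidHom with hW
  have hW4 : Nat.card W = 4 := by rw [hW, card_map_of_injective (MulEquiv.injective _), hV.card_four]
  have hWC : W ≤ C := by
    rintro _ ⟨v, hv, rfl⟩
    refine mem_centralizer_singleton_iff.mpr ?_
    rw [← hd']
    show MulAut.conj d v * MulAut.conj d v₀ = MulAut.conj d v₀ * MulAut.conj d v
    rw [← map_mul, ← map_mul, klein_comm hV hv hv₀]
  have hnle : ¬ C ≤ zpowers g := fun h => by
    haveI : IsCyclic W := isCyclic_of_injective (inclusion (hWC.trans h)) (inclusion_injective _)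
    haveI : IsCyclic V := isCyclic_of_surjective
      (V.equivMapOfInjective (MulAut.conj d).toMonoidHom (MulAut.conj d).injective).symm.toMonoidHom (MulEquiv.surjective _)
    exact hV.not_isCyclic inferInstance
  -- the order
  have h1 : 2 * k ∣ Nat.card C := hzc ▸ card_dvd_of_le hgC
  have h2 : Nat.card C ∣ 2 * n := card_torusNorm hN ▸ card_dvd_of_le hCN
  have h4 : 4 ∣ Nat.card C := hW4 ▸ card_dvd_of_le hWC
  have hn : n = 2 * k := by
    have heven : Even n := by
      obtain ⟨i, hi⟩ := h4.trans h2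
      exact ⟨i, by omega⟩
    rw [hd] at hkind
    obtain ⟨i, hi⟩ := heven
    rcases hkind with hh | hh <;> rcases hcases with e' | e' <;> omega
  have hcard : Nat.card C = 4 * k := by
    rw [hn] at h2
    obtain ⟨i, hi⟩ := h1
    have hi2 : i ∣ 2 := by
      rw [hi, show 2 * (2 * k) = 2 * k * 2 by ring] at h2
      exact Nat.dvd_of_mul_dvd_mul_left (by omega) h2
    rcases (Nat.dvd_prime Nat.prime_two).mp hi2 with rfl | rfl
    · exact absurd (eq_of_le_of_card_ge hgC (by rw [hzc, hi, mul_one])).ge hnle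
    · omega
  have hT : orderOf (g ^ 2) = k := by
    rw [orderOf_pow, hgo, Nat.gcd_eq_right (dvd_mul_right 2 k), Nat.mul_div_cancel_left _ two_pos]
  refine ⟨zpowers (g ^ 2), inferInstance, by rw [Nat.card_zpowers, hT],
    by rw [hcard, Nat.card_zpowers, hT], fun x => ⟨fun hx => ?_, fun ⟨hxo, hxa⟩ => ?_⟩⟩
  · refine ⟨hk.of_dvd_nat ?_, mem_centralizer_singleton_iff.mp
      (hgC (zpowers_le.mpr (pow_mem (mem_zpowers g) 2) hx))⟩
    exact (Subgroup.orderOf_dvd_natCard _ hx).trans ((Nat.card_zpowers _).trans hT).dvd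
  · have hxC : x ∈ C := mem_centralizer_singleton_iff.mpr hxa
    have hidx : (zpowers g).relIndex C = 2 := by
      have h := ((zpowers g).subgroupOf C).card_mul_index
      rw [Nat.card_congr (subgroupOfEquivOfLe hgC).toEquiv, hzc, hcard] at h
      exact Nat.eq_of_mul_eq_mul_left (show 0 < 2 * k by omega) (h.trans (by ring))
    have hx2 : x ^ 2 ∈ zpowers g := by
      have := Subgroup.sq_mem_of_index_two (show ((zpowers g).subgroupOf C).index = 2 from hidx)
        (⟨x, hxC⟩ : ↥C)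
      exact mem_subgroupOf.mp this
    obtain ⟨l, hl⟩ := hxo
    have hl' : x = (x ^ 2) ^ (l + 1) := by
      rw [← pow_mul, show 2 * (l + 1) = orderOf x + 1 by omega, pow_succ, pow_orderOf_eq_one, one_mul]
    have hxz : x ∈ zpowers g := by rw [hl']; exact pow_mem hx2 _
    obtain ⟨i, hi⟩ := mem_zpowers_iff.mp hxz
    rw [hl', ← hi, ← zpow_natCast (g ^ i) 2, ← zpow_mul, mul_comm, zpow_mul, zpow_natCast]
    exact pow_mem (zpow_mem (mem_zpowers _) i) _

/-- A fixed point of the line has at most one companion. -/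
theorem fix_le_two {x : PSL2 F} (x1 : x ≠ 1) :
    {w : OnePoint F | x • w = w}.ncard ≤ 2 := by
  obtain ⟨a, b, hab⟩ := sharp_bar.fix_two x x1
  refine le_trans (Set.ncard_le_ncard_of_injOn (pointMap (algebraMap F (AlgebraicClosure F)))
    (fun w hw => ?_) ((pointMap_injective _).injOn) (Set.toFinite {a, b}))
    ((Set.ncard_insert_le a {b}).trans (by rw [Set.ncard_singleton]))
  have : x • pointMap (algebraMap F (AlgebraicClosure F)) w =
      pointMap (algebraMap F (AlgebraicClosure F)) w := by rw [bar_smul, show x • w = w from hw]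
  rcases (hab _).mp this with h | h <;> simp [h]

/-- An element of order the characteristic fixes exactly one point. -/
theorem exists_unique_fixed (p : ℕ) [Fact p.Prime] [CharP F p] {z : PSL2 F}
    (hz : orderOf z = p) : ∃ w : OnePoint F, ∀ v, z • v = v ↔ v = w := by
  haveI : CharP (AlgebraicClosure F) p :=
    charP_of_injective_algebraMap (algebraMap F (AlgebraicClosure F)).injective p
  have z1 : z ≠ 1 := fun e => by
    rw [e, orderOf_one] at hz
    exact (Fact.out : p.Prime).ne_one hz.symm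
  obtain ⟨w, hw⟩ := exists_isUni_of_pow_char p
    (x := extend (algebraMap F (AlgebraicClosure F)) z)
    (by rw [← map_pow, ← hz, pow_orderOf_eq_one, map_one])
  obtain ⟨w₀, rfl⟩ := exists_rational_of_isUni _ z1 hw
  rw [isUni_extend_iff] at hw
  exact ⟨w₀, hw.resolve_left z1⟩

/-- An element commuting with two point stabilisers. -/
theorem comm_of_two_fixed {g g' : PSL2 F} {w w' : OnePoint F} (hne : w ≠ w') (h1 : g • w = w)
    (h2 : g • w' = w') (h1' : g' • w = w) (h2' : g' • w' = w') : g * g' = g' * g := by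
  obtain ⟨u, hu⟩ := exists_smul_infty w
  obtain ⟨f, hf⟩ := exists_lam (k := F)
  have hmem : ∀ h : PSL2 F, h • w = w → u * h * u⁻¹ ∈ stabilizer (PSL2 F) (∞ : OnePoint F) := by
    intro h hh
    rw [mem_stabilizer_iff, ← hu, mul_smul, mul_smul, inv_smul_smul, hh]
  set A : stabilizer (PSL2 F) (∞ : OnePoint F) := ⟨_, hmem g h1⟩
  set B : stabilizer (PSL2 F) (∞ : OnePoint F) := ⟨_, hmem g' h1'⟩
  have hone : f ⁅A, B⁆ = 1 := by
    rw [map_commutatorElement, commutatorElement_eq_one_iff_mul_comm, mul_comm]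
  have hval : ((⁅A, B⁆ : stabilizer (PSL2 F) (∞ : OnePoint F)) : PSL2 F) = u * ⁅g, g'⁆ * u⁻¹ := by
    simp only [commutatorElement_def, Subgroup.coe_mul, Subgroup.coe_inv, A, B]
    group
  have huni := (hf ⁅A, B⁆).mp hone
  rw [hval] at huni
  rcases huni with h | h
  · rw [conj_eq_one_iff] at h
    exact commutatorElement_eq_one_iff_mul_comm.mp h
  · exfalso
    have hfix : ⁅g, g'⁆ • w' = w' := by
      have i1 : g⁻¹ • w' = w' := by rw [inv_smul_eq_iff, h2]
      have i2 : g'⁻¹ • w' = w' := by rw [inv_smul_eq_iff, h2']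
      rw [commutatorElement_def, mul_smul, mul_smul, mul_smul, i2, i1, h2', h2]
    have := (h (u • w')).mp (by rw [mul_smul, mul_smul, inv_smul_smul, hfix])
    rw [← hu] at this
    exact hne (smul_left_cancel u this).symm

/-- A non-commutative solvable subgroup of odd order fixes a point of the line. -/
theorem odd_fix (hF : Fintype.card F % 8 = 3 ∨ Fintype.card F % 8 = 5) {L : Subgroup (PSL2 F)}
    (hL : Odd (Nat.card L)) [hs : Group.IsSolvable ↥L] :
    (∀ a ∈ L, ∀ b ∈ L, a * b = b * a) ∨ ∃ w : OnePoint F, ∀ g ∈ L, g • w = w := by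
  classical
  obtain ⟨p, hp⟩ := CharP.exists F
  obtain ⟨f, hpp, -⟩ := FiniteField.card F p
  haveI := Fact.mk hpp
  have hodd : ∀ g ∈ L, Odd (orderOf g) := fun g hg =>
    hL.of_dvd_nat (Subgroup.orderOf_dvd_natCard L hg)
  by_cases htriv : ∀ a ∈ L, ∀ b ∈ L, a * b = b * a
  · exact Or.inl htriv
  -- an abelian normal subgroup
  obtain ⟨n, hn⟩ := hs.1
  have hex : ∃ n, derivedSeries ↥L n = ⊥ := ⟨n, hn⟩
  have h0 := Nat.find_spec hex
  obtain ⟨m, hm⟩ : ∃ m, Nat.find hex = m + 1 := by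
    refine Nat.exists_eq_succ_of_ne_zero fun e => htriv fun a ha b hb => ?_
    rw [e, derivedSeries_zero] at h0
    have ha1 : (⟨a, ha⟩ : ↥L) = 1 := mem_bot.mp (h0 ▸ mem_top _)
    rw [show a = 1 from congrArg Subtype.val ha1, one_mul, mul_one]
  have hDne : derivedSeries ↥L m ≠ ⊥ := Nat.find_min hex (by omega)
  rw [hm, derivedSeries_succ, commutator_eq_bot_iff_le_centralizer] at h0
  obtain ⟨y, hy, y1⟩ : ∃ y ∈ derivedSeries ↥L m, y ≠ 1 := by
    by_contra hcon
    push Not at hcon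
    exact hDne ((eq_bot_iff_forall _).mpr hcon)
  have hDn : (derivedSeries ↥L m).Normal := derivedSeries_normal _ m
  set A := (derivedSeries ↥L m).map L.subtype with hA
  have hAL : A ≤ L := map_subtype_le _
  have hAc : ∀ a ∈ A, ∀ b ∈ A, a * b = b * a := by
    rintro _ ⟨a, ha, rfl⟩ _ ⟨b, hb, rfl⟩
    exact congrArg Subtype.val ((mem_centralizer_iff.mp (h0 ha) b hb).symm)
  have hAn : ∀ h ∈ L, ∀ a ∈ A, h * a * h⁻¹ ∈ A := by
    rintro h hh _ ⟨a, ha, rfl⟩
    exact ⟨⟨h, hh⟩ * a * ⟨h, hh⟩⁻¹, hDn.conj_mem a ha _, rfl⟩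
  have hyA : (y : PSL2 F) ∈ A := ⟨y, hy, rfl⟩
  by_cases hss : ∀ z ∈ A, Nat.Coprime (orderOf z) p
  · -- the normal subgroup lies in a torus
    obtain ⟨N, n, hN, -, -, hnorm, -⟩ :=
      torus_of p (g := (y : PSL2 F)) (fun e => y1 (Subtype.ext e)) (hss _ hyA)
    obtain ⟨-, ⟨e⟩, -, -⟩ := hN
    obtain ⟨R, hR, hRmem⟩ := torus_cyclic e
    have hAR : ∀ z ∈ A, z ∈ R := fun z hz => hRmem z (hnorm z (by
      rw [hAc z hz _ hyA, mul_inv_cancel_right]
      exact mem_zpowers _)) (hodd z (hAL hz))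
    refine Or.inl fun a ha b hb => ?_
    have hLN : ∀ h ∈ L, h ∈ N := fun h hh => hnorm h (by
      have hcy := hAR _ (hAn h hh _ hyA)
      obtain ⟨i, hi⟩ := Quot.exists_pow_of_orderOf_dvd hR
        (x := (⟨_, hcy⟩ : ↥R)) (y := ⟨_, hAR _ hyA⟩) (by
          rw [Subgroup.orderOf_mk, Subgroup.orderOf_mk,
            show h * (y : PSL2 F) * h⁻¹ = MulAut.conj h (y : PSL2 F) from rfl, MulEquiv.orderOf_eq])
      rw [show h * (y : PSL2 F) * h⁻¹ = (y : PSL2 F) ^ i from (congrArg Subtype.val hi).symm]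
      exact pow_mem (mem_zpowers _) i)
    exact torus_comm e (hLN a ha) (hLN b hb) (hodd a ha) (hodd b hb)
  · -- the normal subgroup has a unique fixed point
    push Not at hss
    obtain ⟨z, hzA, hz⟩ := hss
    have hdvd : p ∣ orderOf z := by
      by_contra h
      exact hz (Nat.coprime_comm.mp (hpp.coprime_iff_not_dvd.mpr h))
    set u := z ^ (orderOf z / p) with hu
    have huA : u ∈ A := pow_mem hzA _
    obtain ⟨w, hw⟩ := exists_unique_fixed p
      (z := u) (orderOf_pow_orderOf_div (orderOf_pos z).ne' hdvd)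
    have hAw : ∀ b ∈ A, b • w = w := fun b hb => (hw _).mp (by
      rw [smul_smul, hAc u huA b hb, mul_smul, (hw w).mpr rfl])
    refine Or.inr ⟨w, fun h hh => (hw _).mp ?_⟩
    have h' : (h⁻¹ * u * h) • w = w := hAw _ (by simpa using hAn h⁻¹ (inv_mem hh) u huA)
    rw [mul_smul, mul_smul, inv_smul_eq_iff] at h'
    exact h'

end Cfsg.Agent.GW66.PSL
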