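import Cfsg.Agent.GW66.QuotSetup

/-!
# `TopStmt`: what the induction gives in a fused proper subgroup
-/

set_option autoImplicit false
set_option linter.style.haveILetI false
set_option linter.unusedSectionVars false

namespace Cfsg.Agent.GW66.Quot

open Subgroup
open scoped commutatorElement

universe u

theorem odd_of_map {X H : Type u} [Group X] [Group H] {f : X →* H} (hodd : Odd (Nat.card f.ker))
    {x : X} (h : Odd (orderOf (f x))) : Odd (orderOf x) := by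
  have h1 : x ^ orderOf (f x) ∈ f.ker := by
    rw [MonoidHom.mem_ker, map_pow, pow_orderOf_eq_one]
  refine (h.mul hodd).of_dvd_nat (orderOf_dvd_of_pow_eq_one ?_)
  rw [pow_mul]
  exact orderOf_dvd_iff_pow_eq_one.mp (Subgroup.orderOf_dvd_natCard f.ker h1)

variable {G : Type u} [Group G] [Finite G] {M V : Subgroup G}
variable {H : Type u} [Group H] [Finite H] {f : ↥M →* H} {N : Subgroup H}

theorem Setup.inv_torus (s : Setup M V f N) {a b : G} (hab : Pair V a b) {T : Subgroup H}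
    (hT : ∀ x : H, x ∈ T ↔ x ∈ N ∧ Odd (orderOf x) ∧
      x * f ⟨a, s.le hab.ha⟩ = f ⟨a, s.le hab.ha⟩ * x) {x : G} (hx : x ∈ invSet M a b) :
    f ⟨x, hx.1⟩ ∈ T :=
  (hT _).mpr (s.inv_image hab hx)

theorem Setup.comm (s : Setup M V f N) {a b : G} (hab : Pair V a b) {x : G}
    (hx : x ∈ invSet M a b) {y : G} (hy : y ∈ invSet M a b) : ⁅x, y⁆ ∈ coreO M := by
  obtain ⟨T, hcyc, -, -, hT, -⟩ := s.model.torus (s.mem_map hab.ha) (s.map_ne_one hab.ha hab.a1)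
  have h := mul_comm_of_cyclic hcyc (s.inv_torus hab hT hx) (s.inv_torus hab hT hy)
  rw [← map_mul, ← map_mul] at h
  have := s.coreO_of_eq _ _ h
  rw [commutatorElement_def]
  simpa [mul_assoc] using this

theorem Setup.chain (s : Setup M V f N) {a b : G} (hab : Pair V a b) {p : ℕ} (hp : p.Prime)
    {x : G} (hx : x ∈ invSet M a b) {y : G} (hy : y ∈ invSet M a b)
    (hxp : ∃ i : ℕ, orderOf x = p ^ i) (hyp : ∃ j : ℕ, orderOf y = p ^ j) :
    (∃ n : ℕ, x * (y ^ n)⁻¹ ∈ coreO M) ∨ ∃ n : ℕ, y * (x ^ n)⁻¹ ∈ coreO M := by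
  obtain ⟨T, hcyc, -, -, hT, -⟩ := s.model.torus (s.mem_map hab.ha) (s.map_ne_one hab.ha hab.a1)
  have ford : ∀ {z : G} (hz : z ∈ M), (∃ i : ℕ, orderOf z = p ^ i) →
      ∃ i : ℕ, orderOf (f ⟨z, hz⟩) = p ^ i := fun {z} hz ⟨i, hi⟩ => by
    have h1 : orderOf (f ⟨z, hz⟩) ∣ p ^ i :=
      (orderOf_map_dvd f ⟨z, hz⟩).trans (by rw [← orderOf_coe]; exact hi.dvd)
    obtain ⟨j, -, hj⟩ := (Nat.dvd_prime_pow hp).mp h1
    exact ⟨j, hj⟩
  have key : ∀ {x y : G} (hx : x ∈ M) (hy : y ∈ M), f ⟨x, hx⟩ ∈ T → f ⟨y, hy⟩ ∈ T →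
      orderOf (f ⟨x, hx⟩) ∣ orderOf (f ⟨y, hy⟩) → ∃ n : ℕ, x * (y ^ n)⁻¹ ∈ coreO M := by
    intro x y hx hy hxT hyT hd
    obtain ⟨n, hn⟩ := exists_pow_of_orderOf_dvd hcyc (x := ⟨_, hxT⟩) (y := ⟨_, hyT⟩)
      (by rw [← orderOf_coe, ← orderOf_coe]; exact hd)
    refine ⟨n, s.coreO_of_eq hx (pow_mem hy n) ?_⟩
    rw [show (⟨y ^ n, pow_mem hy n⟩ : ↥M) = ⟨y, hy⟩ ^ n from rfl, map_pow]
    exact (congrArg Subtype.val hn).symm
  obtain ⟨i, hi⟩ := ford hx.1 hxp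
  obtain ⟨j, hj⟩ := ford hy.1 hyp
  rcases le_total i j with h | h
  · exact Or.inl (key hx.1 hy.1 (s.inv_torus hab hT hx) (s.inv_torus hab hT hy)
      (by rw [hi, hj]; exact pow_dvd_pow p h))
  · exact Or.inr (key hy.1 hx.1 (s.inv_torus hab hT hy) (s.inv_torus hab hT hx)
      (by rw [hi, hj]; exact pow_dvd_pow p h))

theorem Setup.twoInv (s : Setup M V f N) {a b : G} (hab : Pair V a b) {x : G}
    (hx : x ∈ invSet M a b) {y : G} (hy : y ∈ invSet M b a) (hxy : x * y = y * x) :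
    x ∈ coreO M ∨ y ∈ coreO M := by
  rw [or_iff_not_imp_left]
  intro hxO
  obtain ⟨hxN, hxo, hxa⟩ := s.inv_image hab hx
  obtain ⟨-, hyo, -⟩ := s.inv_image hab.symm hy
  set X := f ⟨x, hx.1⟩
  set Y := f ⟨y, hy.1⟩
  set A := f ⟨a, s.le hab.ha⟩
  have hX1 : X ≠ 1 := fun h => hxO ((s.ker _).mp h)
  have hXY : X * Y = Y * X := by
    show f _ * f _ = f _ * f _
    rw [← map_mul, ← map_mul]
    exact congrArg f (Subtype.ext hxy)
  have hinv : A * Y * A⁻¹ = Y⁻¹ := by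
    show f _ * f _ * (f _)⁻¹ = (f _)⁻¹
    rw [← map_inv, ← map_inv, ← map_mul, ← map_mul]
    exact congrArg f (Subtype.ext hy.2.2.2)
  have hA := s.map_two hab.ha hab.a1
  have hA' : orderOf (Y * A * Y⁻¹) = 2 := by
    rw [show Y * A * Y⁻¹ = MulAut.conj Y A from rfl, MulEquiv.orderOf_eq]
    exact hA
  have hc : X * (Y * A * Y⁻¹) = Y * A * Y⁻¹ * X :=
    (((show Commute X Y from hXY).mul_right (show Commute X A from hxa)).mul_right
      (show Commute X Y from hXY).inv_right).eq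
  have he := s.model.ti hxN hX1 hxo hA hA' hxa hc
  have h2 : A * Y * A⁻¹ = Y := by
    rw [mul_inv_eq_iff_eq_mul]
    exact eq_mul_inv_iff_mul_eq.mp he
  have h3 : Y ^ 2 = 1 := by
    rw [pow_two]
    nth_rewrite 2 [← h2]
    rw [hinv, mul_inv_cancel]
  refine (s.ker ⟨y, hy.1⟩).mp ?_
  show Y = 1
  rcases (Nat.dvd_prime Nat.prime_two).mp (orderOf_dvd_of_pow_eq_one h3) with h | h
  · exact orderOf_eq_one_iff.mp h
  · rw [h] at hyo
    exact absurd hyo (by decide)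

theorem Setup.fix (s : Setup M V f N) {a b : G} (hab : Pair V a b) {w : G}
    (hw : w ∈ invSet M a b) {y : G} (hy : y ∈ M ⊓ centralizer (V : Set G)) :
    b * ⁅y, w⁆ * b⁻¹ * ⁅y, w⁆ ∈ coreO M := by
  obtain ⟨hyM, hyc⟩ := mem_inf.mp hy
  have hya : Commute y a := (mem_centralizer_iff.mp hyc a hab.ha).symm
  have hyb : Commute y b := (mem_centralizer_iff.mp hyc b hab.hb).symm
  have hconj : b * (y * w * y⁻¹) * b⁻¹ = y * (b * w * b⁻¹) * y⁻¹ :=
    calc b * (y * w * y⁻¹) * b⁻¹ = (b * y) * w * (b * y)⁻¹ := by group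
      _ = (y * b) * w * (y * b)⁻¹ := by rw [hyb.eq]
      _ = y * (b * w * b⁻¹) * y⁻¹ := by group
  have hu : y * w * y⁻¹ ∈ invSet M a b := by
    refine ⟨mul_mem (mul_mem hyM hw.1) (inv_mem hyM), ?_, ?_, ?_⟩
    · rw [show y * w * y⁻¹ = MulAut.conj y w from rfl, MulEquiv.orderOf_eq]
      exact hw.2.1
    · exact ((hya.mul_left (show Commute w a from hw.2.2.1)).mul_left hya.inv_left).eq
    · rw [hconj, hw.2.2.2]
      group
  obtain ⟨T, hcyc, -, -, hT, -⟩ := s.model.torus (s.mem_map hab.ha) (s.map_ne_one hab.ha hab.a1)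
  have h1 := mul_comm_of_cyclic hcyc (s.inv_torus hab hT hu) (s.inv_torus hab hT hw)
  rw [← map_mul, ← map_mul] at h1
  have hb : b * ⁅y, w⁆ * b⁻¹ * ⁅y, w⁆ = (y * w * y⁻¹)⁻¹ * w * (y * w * y⁻¹) * w⁻¹ := by
    rw [commutatorElement_def,
      show b * (y * w * y⁻¹ * w⁻¹) * b⁻¹ = (b * (y * w * y⁻¹) * b⁻¹) * (b * w * b⁻¹)⁻¹ by group,
      hconj, hw.2.2.2]
    group
  refine (hb ▸ ?_)
  have hu' : y * w * y⁻¹ ∈ M := hu.1
  have hm : (y * w * y⁻¹)⁻¹ * w * (y * w * y⁻¹) ∈ M :=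
    mul_mem (mul_mem (inv_mem hu') hw.1) hu'
  refine s.coreO_of_eq hm hw.1 ?_
  rw [show (⟨_, hm⟩ : ↥M) = (⟨_, hu'⟩ : ↥M)⁻¹ * (⟨w, hw.1⟩ * ⟨_, hu'⟩) from
    Subtype.ext (mul_assoc _ _ _), map_mul, map_inv]
  have h1' : f (⟨w, hw.1⟩ * ⟨_, hu'⟩) = f ⟨_, hu'⟩ * f ⟨w, hw.1⟩ := by
    rw [← map_mul]; exact h1.symm
  rw [h1', inv_mul_cancel_left]

/-- `|C_M(a)|` against `|O(C(a)) ∩ M|`. -/
theorem Setup.card_coreK (s : Setup M V f N) {a : G} (ha : a ∈ V) :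
    4 * Nat.card ↥(coreK a ⊓ M) ≤ Nat.card ↥(centralizer ({⟨a, s.le ha⟩} : Set ↥M)) := by
  have hmem : ∀ u : ↥(coreK a ⊓ M) × ↥V,
      (⟨(u.1 : G) * u.2, mul_mem u.1.2.2 (s.le u.2.2)⟩ : ↥M) ∈
        centralizer ({⟨a, s.le ha⟩} : Set ↥M) := fun u =>
    mem_centralizer_singleton_iff.mpr (Subtype.ext
      ((show Commute (u.1 : G) a from mem_centralizer_singleton_iff.mp (coreO_le _ u.1.2.1)).mul_left
        (show Commute (u.2 : G) a from klein_comm s.klein u.2.2 ha)).eq)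
  have := Nat.card_le_card_of_injective
    (fun u : ↥(coreK a ⊓ M) × ↥V =>
      (⟨_, hmem u⟩ : ↥(centralizer ({⟨a, s.le ha⟩} : Set ↥M)))) (by
      rintro ⟨k, v⟩ ⟨k', v'⟩ he
      have he' : (k : G) * v = k' * v' :=
        congrArg (fun z : ↥(centralizer ({⟨a, s.le ha⟩} : Set ↥M)) => ((z : ↥M) : G)) he
      have h1 : (k' : G)⁻¹ * k ∈ coreK a := mul_mem (inv_mem k'.2.1) k.2.1
      have h2 : (k' : G)⁻¹ * k ∈ V := by
        rw [show (k' : G)⁻¹ * k = (k' : G)⁻¹ * ((k : G) * v) * (v : G)⁻¹ by group, he',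
          inv_mul_cancel_left]
        exact mul_mem v'.2 (inv_mem v.2)
      have h3 : (k' : G)⁻¹ * k = 1 := by
        by_contra h3
        have := (odd_card_coreK a).of_dvd_nat (Subgroup.orderOf_dvd_natCard _ h1)
        rw [klein_orderOf s.klein h2 h3] at this
        exact absurd this (by decide)
      have h4 : (k : G) = k' := (inv_mul_eq_one.mp h3).symm
      refine Prod.ext (Subtype.ext h4) (Subtype.ext ?_)
      rw [h4] at he'
      exact mul_left_cancel he')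
  rw [Nat.card_prod, s.klein.card_four, mul_comm] at this
  exact this

/-- `|C_M(V)|` against `|O(C(V)) ∩ M|`. -/
theorem Setup.card_coreD (s : Setup M V f N) :
    Nat.card ↥(centralizer (V.subgroupOf M : Set ↥M)) ≤ 4 * Nat.card ↥(coreD V ⊓ M) := by
  have hdec : ∀ z : ↥(centralizer (V.subgroupOf M : Set ↥M)),
      ∃ u : ↥(coreD V ⊓ M) × ↥V, ((z : ↥M) : G) = u.1 * u.2 := fun z => by
    have hzc : ((z : ↥M) : G) ∈ centralizer (V : Set G) := mem_centralizer_iff.mpr fun v hv =>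
      congrArg Subtype.val (mem_centralizer_iff.mp z.2 ⟨v, s.le hv⟩ (mem_subgroupOf.mpr hv))
    obtain ⟨k, hk, v, hv, e⟩ := unfused_decomp s.klein s.sylow (le_centralizer_self s.klein)
      (fun ⟨_, hg, _, hgc⟩ => hgc hg) hzc
    have hkM : k ∈ M := by
      rw [show k = ((z : ↥M) : G) * v⁻¹ by rw [e]; group]
      exact mul_mem z.1.2 (inv_mem (s.le hv))
    exact ⟨(⟨k, hk, hkM⟩, ⟨v, hv⟩), e⟩
  choose g hg using hdec
  have := Nat.card_le_card_of_injective g fun z w he =>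
    Subtype.ext (Subtype.ext (by rw [hg, hg, he]))
  rw [Nat.card_prod, s.klein.card_four, mul_comm] at this
  exact this

theorem arith {A B x o h ow oa cA cW k cXa cXW : ℕ} (h1 : 4 * A ≤ cXa) (h2 : cXW ≤ 4 * B)
    (h3 : cXa ≤ oa * cA) (h4 : ow * cW ≤ cXW) (h5 : cA = cW * k) (h6 : o * ow ^ 2 = oa ^ 3)
    (h7 : x = o * h) (h8 : 24 * cW * k ^ 3 < 4 * h) (ho : 0 < o) (how : 0 < ow) (hcW : 0 < cW) :
    24 * A ^ 3 < x * B ^ 2 := by
  subst h5 h7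
  refine Nat.lt_of_mul_lt_mul_left (a := 64) ?_
  have e1 : (4 * A) ^ 3 ≤ (oa * (cW * k)) ^ 3 := Nat.pow_le_pow_left (h1.trans h3) 3
  have e2 : (ow * cW) ^ 2 ≤ (4 * B) ^ 2 := Nat.pow_le_pow_left (h4.trans h2) 2
  calc 64 * (24 * A ^ 3) = 24 * (4 * A) ^ 3 := by ring
    _ ≤ 24 * (oa * (cW * k)) ^ 3 := Nat.mul_le_mul_left 24 e1
    _ = o * (ow * cW) ^ 2 * (24 * cW * k ^ 3) := by
        rw [mul_pow oa, ← h6]; ring
    _ < o * (ow * cW) ^ 2 * (4 * h) :=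
        Nat.mul_lt_mul_of_pos_left h8 (Nat.mul_pos ho (pow_pos (Nat.mul_pos how hcW) 2))
    _ ≤ o * (4 * B) ^ 2 * (4 * h) := Nat.mul_le_mul_right _ (Nat.mul_le_mul_left o e2)
    _ = 64 * (o * h * B ^ 2) := by ring

theorem Setup.order (s : Setup M V f N) {a b : G} (hab : Pair V a b) {k : ℕ}
    (hk : Nat.card ↥(centralizer ({f ⟨a, s.le hab.ha⟩} : Set H)) =
      Nat.card ↥(centralizer ((V.subgroupOf M).map f : Set H)) * k)
    (hb : 24 * Nat.card ↥(centralizer ((V.subgroupOf M).map f : Set H)) * k ^ 3 <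
      4 * Nat.card H) :
    24 * Nat.card ↥(coreK a ⊓ M) ^ 3 < Nat.card M * Nat.card ↥(coreD V ⊓ M) ^ 2 := by
  obtain ⟨r, hr, hr'⟩ := s.exists_rot
  have hab' : Pair (V.subgroupOf M) (⟨a, s.le hab.ha⟩ : ↥M) ⟨b, s.le hab.hb⟩ :=
    ⟨hab.ha, hab.hb, fun e => hab.a1 (congrArg Subtype.val e),
      fun e => hab.b1 (congrArg Subtype.val e), fun e => hab.ne (congrArg Subtype.val e)⟩
  have hx : Nat.card M = Nat.card ↥f.ker * Nat.card H := by
    rw [← f.ker.card_mul_index, index_ker, MonoidHom.range_eq_top.mpr s.surj, card_top]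
  exact arith (s.card_coreK hab.ha) s.card_coreD (card_cent_le f _)
    (card_cent_four f s.surj s.odd_ker s.klein_sub s.idx_sub) hk
    (bw f s.odd_ker s.klein_sub s.idx_sub hr hr' hab') hx hb Nat.card_pos Nat.card_pos Nat.card_pos

theorem Setup.count (s : Setup M V f N) {a b : G} (hab : Pair V a b) {p j : ℕ} (hp : p.Prime)
    (hj : 1 ≤ j) (hp2 : p ≠ 2)
    (hex : ∃ x ∈ invSet M a b, orderOf x = p ^ j ∧ x ^ p ^ (j - 1) ∉ coreO M) :
    24 * Nat.card ↥(coreK a ⊓ M) ^ 3 < Nat.card M * Nat.card ↥(coreD V ⊓ M) ^ 2 ∧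
      ∀ S : Set G, (∀ z ∈ S, ∃ x ∈ invSet M a b, x ∉ coreO M ∧ z ∈ M ∧ z * x⁻¹ ∈ coreO M) →
        6 * (p ^ j) ^ 2 * S.ncard ≤ {g : G | ∃ m ∈ M, ∃ z ∈ S, m * z * m⁻¹ = g}.ncard := by
  obtain ⟨T, hcyc, -, hcard, hT, hbd⟩ :=
    s.model.torus (s.mem_map hab.ha) (s.map_ne_one hab.ha hab.a1)
  obtain ⟨x, hx, hxo, hxO⟩ := hex
  have hxT := s.inv_torus hab hT hx
  have ho : orderOf (f ⟨x, hx.1⟩) = p ^ j := by
    obtain ⟨i, hi, hi'⟩ := (Nat.dvd_prime_pow hp).mp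
      ((orderOf_map_dvd f ⟨x, hx.1⟩).trans (by rw [← orderOf_coe]; exact hxo.dvd))
    rcases Nat.lt_or_ge i j with hlt | hge
    · refine absurd ((s.ker (⟨x, hx.1⟩ ^ p ^ (j - 1))).mp ?_) hxO
      rw [map_pow, ← orderOf_dvd_iff_pow_eq_one, hi']
      exact pow_dvd_pow p (by omega)
    · rw [hi', le_antisymm hi hge]
  have hle : p ^ j ≤ Nat.card T :=
    Nat.le_of_dvd Nat.card_pos (ho ▸ Subgroup.orderOf_dvd_natCard T hxT)
  have h3 : 3 ≤ Nat.card T := by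
    have h1 : p ≤ p ^ j := Nat.le_self_pow (by omega) p
    have h2 := hp.two_le
    omega
  obtain ⟨hb1, hb2⟩ := hbd h3
  refine ⟨s.order hab hcard hb1, fun S hS => ?_⟩
  obtain ⟨m, hm⟩ := s.moves hab.ha hab.a1
  have hSt : S ⊆ toral M f N ⟨a, s.le hab.ha⟩ := fun z hz => by
    obtain ⟨w, hw, hwO, hzM, hzw⟩ := hS z hz
    have e := s.eq_of_coreO hzM hw.1 hzw
    obtain ⟨hN, hodd, hc⟩ := s.inv_image hab hw
    exact ⟨hzM, e ▸ hN, e ▸ fun h => hwO ((s.ker _).mp h), e ▸ hodd, e ▸ hc⟩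
  have himg := s.injOn hab.ha hm (P := {t : H | orderOf t = 2}) (fun t ht => ht) hSt
  calc 6 * (p ^ j) ^ 2 * S.ncard ≤ {t : H | orderOf t = 2}.ncard * S.ncard := by
        refine Nat.mul_le_mul_right _ (le_trans ?_ hb2)
        have := Nat.pow_le_pow_left hle 2
        omega
    _ ≤ _ := by
        rw [← himg]
        refine Set.ncard_le_ncard ?_ (Set.toFinite _)
        rintro _ ⟨⟨t, z⟩, ⟨-, hz⟩, rfl⟩
        exact ⟨_, (m t).2, z, hz, rfl⟩

/-- A solvable subgroup without four-groups gives an odd subgroup of `N`. -/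
theorem Setup.odd_image (s : Setup M V f N) {L : Subgroup G} (hLM : L ≤ M)
    (hsol : Group.IsSolvable ↥L) (hno : ∀ W : Subgroup G, W ≤ L → ¬ IsKleinFour W) :
    ∃ L' : Subgroup H, L' ≤ N ∧ Odd (Nat.card ↥L') ∧ Group.IsSolvable ↥L' ∧
      ∀ g : G, ∀ hg : g ∈ L, Odd (orderOf g) → f ⟨g, hLM hg⟩ ∈ N → f ⟨g, hLM hg⟩ ∈ L' := by
  haveI : Fact (Nat.Prime 2) := ⟨Nat.prime_two⟩
  haveI := hsol
  have h4 : ¬ 4 ∣ Nat.card L := by
    intro hd
    obtain ⟨K, hK⟩ := Sylow.exists_subgroup_card_pow_prime (G := ↥L) 2 (n := 2) (by simpa using hd)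
    let K' : Subgroup G := K.map L.subtype
    have hK'4 : Nat.card K' = 2 ^ 2 := (card_map_of_injective L.subtype_injective).trans hK
    have hK'2 : IsPGroup 2 K' := IsPGroup.of_card hK'4
    obtain ⟨P, hP⟩ := hK'2.exists_le_sylow
    let Q : Sylow 2 G := (isPGroup_of_klein s.klein).toSylow (not_two_dvd_index s.sylow)
    obtain ⟨g, hg⟩ := MulAction.exists_smul_eq G P Q
    have hsub : K'.map (MulAut.conj g).toMonoidHom ≤ V := by
      rintro _ ⟨z, hz, rfl⟩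
      have h1 : g * z * g⁻¹ ∈ ((g • P : Sylow 2 G) : Subgroup G) := ⟨z, hP hz, rfl⟩
      rw [hg] at h1
      exact h1
    have heq : K'.map (MulAut.conj g).toMonoidHom = V :=
      eq_of_le_of_card_ge hsub (by
        rw [card_map_of_injective (MulEquiv.injective _), hK'4, s.klein.card_four]; norm_num)
    let e : ↥K' ≃* ↥V := (K'.equivMapOfInjective _ (MulEquiv.injective _)).trans
      (MulEquiv.subgroupCongr heq)
    exact hno K' (map_subtype_le K)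
      ⟨by rw [hK'4]; norm_num, (Monoid.exponent_eq_of_mulEquiv e).trans s.klein.exponent_two⟩
  obtain ⟨O, hO, hOmem⟩ := exists_odd_subgroup h4
  let φ : ↥L →* H := f.comp (inclusion hLM)
  let L' : Subgroup H := O.map φ ⊓ N
  haveI : Group.IsSolvable ↥O := inferInstance
  haveI h1 : Group.IsSolvable ↥(O.map φ) :=
    Group.isSolvable_of_surjective (φ.subgroupMap_surjective O)
  refine ⟨L', inf_le_right, (hO.of_dvd_nat (card_map_dvd O φ)).of_dvd_nat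
    (card_dvd_of_le inf_le_left), ?_, fun g hg ho hN => ⟨⟨⟨g, hg⟩, hOmem _ ?_, rfl⟩, hN⟩⟩
  · exact Group.isSolvable_of_isSolvable_injective (inclusion_injective
      (inf_le_left : L' ≤ O.map φ))
  · rw [← orderOf_coe]; exact ho

theorem Setup.borel (s : Setup M V f N) {a b : G} (hab : Pair V a b) {p : ℕ} {S : Set G}
    (hS : ∀ z ∈ S, ∃ x ∈ invSet M a b,
      x ^ p ∈ coreO M ∧ x ∉ coreO M ∧ z ∈ M ∧ z * x⁻¹ ∈ coreO M) :
    ∀ x' ∈ {g : G | ∃ m ∈ M, ∃ z ∈ S, m * z * m⁻¹ = g},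
      3 * {g : G | (∃ m ∈ M, ∃ z ∈ S, m * z * m⁻¹ = g) ∧ ∃ L : Subgroup G, L ≤ M ∧
            Group.IsSolvable L ∧ (∀ W : Subgroup G, W ≤ L → ¬ IsKleinFour W) ∧
            x' ∈ L ∧ g ∈ L}.ncard ≤
        {g : G | ∃ m ∈ M, ∃ z ∈ S, m * z * m⁻¹ = g}.ncard := by
  intro x' hx'
  set Ω := {g : G | ∃ m ∈ M, ∃ z ∈ S, m * z * m⁻¹ = g} with hΩ
  set A := f ⟨a, s.le hab.ha⟩ with hA
  have hAo : orderOf A = 2 := s.map_two hab.ha hab.a1
  -- every element of `Ω` is toral for a conjugate of `A`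
  have hcl : ∀ g ∈ Ω, Odd (orderOf g) ∧ ∃ hg : g ∈ M, f ⟨g, hg⟩ ∈ N ∧ f ⟨g, hg⟩ ≠ 1 ∧
      Odd (orderOf (f ⟨g, hg⟩)) ∧
      ∃ t, orderOf t = 2 ∧ f ⟨g, hg⟩ * t = t * f ⟨g, hg⟩ := by
    rintro g ⟨m, hm, z, hz, rfl⟩
    obtain ⟨w, hw, -, hwO, hzM, hzw⟩ := hS z hz
    have e := s.eq_of_coreO hzM hw.1 hzw
    obtain ⟨hN, hodd, hc⟩ := s.inv_image hab hw
    rw [← e] at hN hodd hc
    have hzo : Odd (orderOf z) := by
      rw [show z = ((⟨z, hzM⟩ : ↥M) : G) from rfl, orderOf_coe]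
      exact odd_of_map s.odd_ker hodd
    have h1 : f ⟨z, hzM⟩ ≠ 1 := fun h => hwO ((s.ker _).mp (e ▸ h))
    refine ⟨by rw [show m * z * m⁻¹ = MulAut.conj m z from rfl, MulEquiv.orderOf_eq]; exact hzo,
      mul_mem (mul_mem hm hzM) (inv_mem hm), ?_⟩
    have ef : f ⟨m * z * m⁻¹, mul_mem (mul_mem hm hzM) (inv_mem hm)⟩ =
        MulAut.conj (f ⟨m, hm⟩) (f ⟨z, hzM⟩) := by
      rw [MulAut.conj_apply, ← map_inv, ← map_mul, ← map_mul]
      rfl
    rw [ef]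
    exact ⟨s.model.normal.conj_mem _ hN _, by rwa [Ne, EmbeddingLike.map_eq_one_iff],
      by rwa [MulEquiv.orderOf_eq], MulAut.conj (f ⟨m, hm⟩) A, by rwa [MulEquiv.orderOf_eq],
      by rw [← map_mul (MulAut.conj (f ⟨m, hm⟩)), ← map_mul (MulAut.conj (f ⟨m, hm⟩)), hA, hc]⟩
  obtain ⟨hx'o, hx'M, hx'N, hx'1, hx'odd, t₀, ht₀, hct₀⟩ := hcl x' hx'
  obtain ⟨mv, hmv⟩ := s.moves hab.ha hab.a1
  let ΩA : Set G := Ω ∩ toral M f N ⟨a, s.le hab.ha⟩
  let e : H × G → G := fun u => (mv u.1 : G) * u.2 * (mv u.1 : G)⁻¹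
  -- moving an element of `Ω` to the torus of `A`
  have hback : ∀ g ∈ Ω, ∀ hg : g ∈ M, ∀ t, orderOf t = 2 → f ⟨g, hg⟩ * t = t * f ⟨g, hg⟩ →
      g ∈ e '' (({t} : Set H) ×ˢ ΩA) := by
    intro g hgΩ hg t ht hct
    obtain ⟨-, hg', hN, h1, hodd, -⟩ := hcl g hgΩ
    refine ⟨(t, (mv t : G)⁻¹ * g * (mv t : G)), ⟨rfl, ⟨?_, ?_⟩⟩, by simp only [e]; group⟩
    · obtain ⟨m, hm, z, hz, rfl⟩ := hgΩ
      exact ⟨(mv t : G)⁻¹ * m, mul_mem (inv_mem (mv t).2) hm, z, hz, by group⟩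
    · refine ⟨mul_mem (mul_mem (inv_mem (mv t).2) hg) (mv t).2, ?_⟩
      have ef : f ⟨(mv t : G)⁻¹ * g * (mv t : G), mul_mem (mul_mem (inv_mem (mv t).2) hg) (mv t).2⟩ =
          (MulAut.conj (f (mv t))).symm (f ⟨g, hg⟩) := by
        rw [MulAut.conj_symm_apply, ← map_inv, ← map_mul, ← map_mul]
        rfl
      have eA : (MulAut.conj (f (mv t))).symm t = A := by
        rw [MulEquiv.symm_apply_eq, MulAut.conj_apply]
        exact (hmv t ht).symm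
      rw [ef]
      refine ⟨?_, by rwa [Ne, EmbeddingLike.map_eq_one_iff], by rwa [MulEquiv.orderOf_eq], ?_⟩
      · rw [MulAut.conj_symm_apply]
        simpa using s.model.normal.conj_mem _ hN (f (mv t))⁻¹
      · rw [← hA, ← eA, ← map_mul (MulAut.conj (f (mv t))).symm,
          ← map_mul (MulAut.conj (f (mv t))).symm, hct]
  have himg : ∀ P : Set H, (∀ t ∈ P, orderOf t = 2) → (e '' P ×ˢ ΩA).ncard = P.ncard * ΩA.ncard :=
    fun P hP => s.injOn hab.ha hmv hP Set.inter_subset_right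
  set B := badSet N (f ⟨x', hx'M⟩) with hB
  have hbad : {g : G | (∃ m ∈ M, ∃ z ∈ S, m * z * m⁻¹ = g) ∧ ∃ L : Subgroup G, L ≤ M ∧
      Group.IsSolvable L ∧ (∀ W : Subgroup G, W ≤ L → ¬ IsKleinFour W) ∧
      x' ∈ L ∧ g ∈ L} ⊆ e '' B ×ˢ ΩA := by
    rintro g ⟨hgΩ, L, hLM, hsol, hno, hxL, hgL⟩
    obtain ⟨hgo, hg, hN, h1, hodd, t, ht, hct⟩ := hcl g hgΩ
    obtain ⟨L', hL'N, hL'o, hL's, hL'mem⟩ := s.odd_image hLM hsol hno
    have htB : t ∈ B := ⟨ht, f ⟨g, hg⟩, hN, h1, hodd, hct, L', hL'N, hL'o, hL's,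
      hL'mem x' hxL hx'o hx'N, hL'mem g hgL hgo hN⟩
    refine Set.image_mono (Set.prod_mono ?_ subset_rfl) (hback g hgΩ hg t ht hct)
    exact Set.singleton_subset_iff.mpr htB
  have hall : e '' {t : H | orderOf t = 2} ×ˢ ΩA ⊆ Ω := by
    rintro _ ⟨⟨t, z⟩, ⟨-, ⟨m, hm, w, hw, rfl⟩, -⟩, rfl⟩
    exact ⟨(mv t : G) * m, mul_mem (mv t).2 hm, w, hw, by simp only [e]; group⟩
  calc _ ≤ 3 * (e '' B ×ˢ ΩA).ncard :=
        Nat.mul_le_mul_left 3 (Set.ncard_le_ncard hbad (Set.toFinite _))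
    _ = 3 * B.ncard * ΩA.ncard := by rw [himg B fun t ht => ht.1, mul_assoc]
    _ ≤ {t : H | orderOf t = 2}.ncard * ΩA.ncard :=
        Nat.mul_le_mul_right _ (s.model.borel hx'N hx'1 hx'odd ht₀ hct₀)
    _ = (e '' {t : H | orderOf t = 2} ×ˢ ΩA).ncard := (himg _ fun t ht => ht).symm
    _ ≤ _ := Set.ncard_le_ncard hall (Set.toFinite _)

end Cfsg.Agent.GW66.Quot

namespace Cfsg.Agent.GW66

universe u

/-- The facts about `PSL(2, q)` transported to every fused proper subgroup. -/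
theorem top_of_facts (hP : PSLFactsStmt.{u}) : TopStmt.{u} := by
  intro G _ _ V hc M hMt hVM hfus
  obtain ⟨N, s⟩ := Quot.exists_setup hP hc hMt hVM hfus
  exact
    { comm := fun a b hab x hx y hy => s.comm hab hx hy
      chain := fun a b hab p hp x hx y hy => s.chain hab hp hx hy
      twoInv := fun a b hab x hx y hy => s.twoInv hab hx hy
      fix := fun a b hab w hw y hy _ => s.fix hab hw hy
      count := fun a b hab p j hp hj hp2 hex => s.count hab hp hj hp2 hex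
      borel := fun a b hab p _ _ S hS => s.borel hab hS }

end Cfsg.Agent.GW66
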