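import Cfsg.Agent.GW66.Basic
import Cfsg.Agent.Lib.Thompson.Cores
import Mathlib.GroupTheory.Transfer
import Mathlib.GroupTheory.Sylow
import Mathlib.Tactic.Group

/-!
# A four-group as Sylow `2`-subgroup: elementary lemmas for `Quot.lean`
-/

set_option autoImplicit false
set_option linter.style.haveILetI false
set_option linter.unusedSectionVars false

namespace Cfsg.Agent.GW66.Quot

open Subgroup

universe u

variable {G : Type u} [Group G] {V : Subgroup G}

variable [Finite G]

theorem not_two_dvd_index (hidx : Odd V.index) : ¬ 2 ∣ V.index := fun h => by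
  obtain ⟨m, hm⟩ := hidx
  omega

theorem isPGroup_of_klein (hV : IsKleinFour V) : IsPGroup 2 V :=
  IsPGroup.of_card (n := 2) (by rw [hV.card_four]; norm_num)

/-- A fusing element is transitive on the three involutions. -/
theorem rot_trans (hV : IsKleinFour V) (hidx : Odd V.index) {r : G}
    (hr : r ∈ normalizer (V : Set G)) (hr' : r ∉ centralizer (V : Set G)) {a b : G} (ha : a ∈ V)
    (a1 : a ≠ 1) (hb : b ∈ V) (b1 : b ≠ 1) : ∃ i : ℕ, r ^ i * a * (r ^ i)⁻¹ = b := by
  rcases fusing_orbit hV hidx hr hr' ha a1 hb b1 with h | h | h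
  · exact ⟨0, by simp [h]⟩
  · exact ⟨1, by simp [h]⟩
  · exact ⟨2, by rw [pow_two, mul_inv_rev, h]; group⟩

/-- Every involution is conjugate to every involution of `V` if `V` is fused. -/
theorem invol_conj (hV : IsKleinFour V) (hidx : Odd V.index) {r : G}
    (hr : r ∈ normalizer (V : Set G)) (hr' : r ∉ centralizer (V : Set G)) {a : G} (ha : a ∈ V)
    (a1 : a ≠ 1) {t : G} (ht : orderOf t = 2) : ∃ g : G, g * a * g⁻¹ = t := by
  haveI : Fact (Nat.Prime 2) := ⟨Nat.prime_two⟩
  have hz : IsPGroup 2 (zpowers t) := IsPGroup.of_card (n := 1) (by rw [Nat.card_zpowers, ht]; rfl)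
  obtain ⟨P, hP⟩ := hz.exists_le_sylow
  let Q : Sylow 2 G := (isPGroup_of_klein hV).toSylow (not_two_dvd_index hidx)
  obtain ⟨g, hg⟩ := MulAction.exists_smul_eq G P Q
  have hgt : g * t * g⁻¹ ∈ V := by
    have h1 : g * t * g⁻¹ ∈ ((g • P : Sylow 2 G) : Subgroup G) :=
      ⟨t, hP (mem_zpowers t), rfl⟩
    rw [hg] at h1
    exact h1
  have t1 : g * t * g⁻¹ ≠ 1 := fun h => by
    rw [conj_eq_one_iff] at h
    rw [h, orderOf_one] at ht
    exact absurd ht (by norm_num)
  obtain ⟨i, hi⟩ := rot_trans hV hidx hr hr' ha a1 hgt t1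
  refine ⟨g⁻¹ * r ^ i, ?_⟩
  rw [show g⁻¹ * r ^ i * a * (g⁻¹ * r ^ i)⁻¹ = g⁻¹ * (r ^ i * a * (r ^ i)⁻¹) * g by group, hi]
  group

/-- In a group of order not divisible by four the elements of odd order form a subgroup. -/
theorem exists_odd_subgroup {J : Type*} [Group J] [Finite J] (h4 : ¬ 4 ∣ Nat.card J) :
    ∃ O : Subgroup J, Odd (Nat.card O) ∧ ∀ x : J, Odd (orderOf x) → x ∈ O := by
  by_cases h2 : 2 ∣ Nat.card J
  swap
  · refine ⟨⊤, ?_, fun x _ => mem_top x⟩
    rw [card_top, Nat.odd_iff]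
    omega
  haveI : Fact (Nat.Prime 2) := ⟨Nat.prime_two⟩
  obtain ⟨P⟩ : Nonempty (Sylow 2 J) := inferInstance
  have hP2 : Nat.card P = 2 := by
    obtain ⟨k, hk⟩ := P.2.exists_card_eq
    have hd : Nat.card P ∣ Nat.card J := card_subgroup_dvd_card _
    rcases k with _ | _ | k
    · exact absurd (P.dvd_card_of_dvd_card h2) (by rw [hk]; norm_num)
    · simpa using hk
    · exact absurd ((show 4 ∣ 2 ^ (k + 2) from pow_dvd_pow 2 (by omega : 2 ≤ k + 2)).trans
        (hk ▸ hd)) h4
  have hcyc : IsCyclic P := isCyclic_of_prime_card hP2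
  have hmin : (Nat.card J).minFac = 2 := (Nat.minFac_eq_two_iff _).mpr h2
  set f := MonoidHom.transferSylow P (hcyc.normalizer_le_centralizer hmin) with hf
  refine ⟨f.ker, Nat.not_even_iff_odd.mp fun he =>
    MonoidHom.not_dvd_card_ker_transferSylow P _ (even_iff_two_dvd.mp he), fun x hx => ?_⟩
  rw [MonoidHom.mem_ker]
  by_contra hne
  have h1 : orderOf (f x) ∣ 2 := (orderOf_dvd_natCard (f x)).trans hP2.dvd
  rcases (Nat.dvd_prime Nat.prime_two).mp h1 with h | h
  · exact hne (orderOf_eq_one_iff.mp h)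
  · have : 2 ∣ orderOf x := h ▸ orderOf_map_dvd f x
    rw [Nat.odd_iff] at hx
    omega

/-- The order of a subgroup covering the quotient by a normal subgroup. -/
theorem card_mul_of_sup_eq_top {K N : Subgroup G} [N.Normal] (h : K ⊔ N = ⊤) :
    Nat.card K * Nat.card N = Nat.card G * Nat.card ↥(K ⊓ N) := by
  have h1 : N.relIndex K = N.index := by
    rw [← relIndex_sup_right, h, relIndex_top_right]
  have h2 : Nat.card (N.subgroupOf K) = Nat.card ↥(K ⊓ N) := by
    rw [← inf_subgroupOf_left, Nat.card_congr (subgroupOfEquivOfLe inf_le_left).toEquiv]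
  have h3 := (N.subgroupOf K).card_mul_index
  rw [← relIndex, h1, h2] at h3
  rw [← h3, ← N.card_mul_index]
  ring

end Cfsg.Agent.GW66.Quot
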