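import Cfsg.Agent.GW66.QuotModel
import Cfsg.Agent.SmallCent88.OddAct

/-!
# A surjection with kernel of odd order: centralisers and the Brauer–Wielandt formula
-/

set_option autoImplicit false
set_option linter.style.haveILetI false
set_option linter.unusedSectionVars false

namespace Cfsg.Agent.GW66.Quot

open Subgroup

universe u

variable {X H : Type u} [Group X] [Finite X] [Group H] [Finite H]

theorem orderOf_map_odd (f : X →* H) {x : X} (hx : Odd (orderOf x)) : Odd (orderOf (f x)) :=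
  hx.of_dvd_nat (orderOf_map_dvd f x)

theorem card_eq_ker_mul_map (f : X →* H) (K : Subgroup X) :
    Nat.card K = Nat.card ↥(f.ker ⊓ K) * Nat.card ↥(K.map f) := by
  have h1 : Nat.card (f.ker.subgroupOf K) = Nat.card ↥(f.ker ⊓ K) := by
    rw [← inf_subgroupOf_right, Nat.card_congr (subgroupOfEquivOfLe inf_le_right).toEquiv]
  have h2 : (f.ker.subgroupOf K).index = Nat.card ↥(K.map f) := by
    rw [show f.ker.subgroupOf K = (f.comp K.subtype).ker from MonoidHom.comap_ker f K.subtype,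
      index_ker, MonoidHom.range_comp, range_subtype]
  rw [← (f.ker.subgroupOf K).card_mul_index, h1, h2]

theorem card_cent_le (f : X →* H) (a : X) :
    Nat.card ↥(centralizer ({a} : Set X)) ≤
      Nat.card ↥(f.ker ⊓ centralizer ({a} : Set X)) * Nat.card ↥(centralizer ({f a} : Set H)) := by
  rw [card_eq_ker_mul_map f (centralizer ({a} : Set X))]
  refine Nat.mul_le_mul_left _ (card_le_of_le ?_)
  rintro _ ⟨y, hy, rfl⟩
  exact mem_centralizer_singleton_iff.mpr
    (by rw [← map_mul, ← map_mul, mem_centralizer_singleton_iff.mp hy])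

theorem eq_one_of_ker {f : X →* H} (hodd : Odd (Nat.card f.ker)) {W : Subgroup X}
    (hW : IsKleinFour W) {u : X} (hu : u ∈ W) (hu' : u ∈ f.ker) : u = 1 := by
  by_contra h1
  have h2 := klein_orderOf hW hu h1
  have := hodd.of_dvd_nat (Subgroup.orderOf_dvd_natCard f.ker hu')
  rw [h2] at this
  exact absurd this (by decide)

theorem injOn_four {f : X →* H} (hodd : Odd (Nat.card f.ker)) {W : Subgroup X} (hW : IsKleinFour W)
    {u v : X} (hu : u ∈ W) (hv : v ∈ W) (h : f u = f v) : u = v := by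
  have := eq_one_of_ker hodd hW (mul_mem hu (inv_mem hv))
    (by rw [MonoidHom.mem_ker, map_mul, map_inv, h, mul_inv_cancel])
  rwa [mul_inv_eq_one] at this

/-- Centralisers of the four-group map onto each other. -/
theorem card_cent_four (f : X →* H) (hf : Function.Surjective f) (hodd : Odd (Nat.card f.ker))
    {W : Subgroup X} (hW : IsKleinFour W) (hidx : Odd W.index) :
    Nat.card ↥(f.ker ⊓ centralizer (W : Set X)) * Nat.card ↥(centralizer (W.map f : Set H)) ≤
      Nat.card ↥(centralizer (W : Set X)) := by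
  haveI : Fact (Nat.Prime 2) := ⟨Nat.prime_two⟩
  rw [card_eq_ker_mul_map f (centralizer (W : Set X))]
  refine Nat.mul_le_mul_left _ (card_le_of_le fun h hh => ?_)
  obtain ⟨x, rfl⟩ := hf h
  let J : Subgroup X := f.ker ⊔ W
  let W' : Subgroup X := W.map (MulAut.conj x).toMonoidHom
  have hW' : W' ≤ J := by
    rintro _ ⟨w, hw, rfl⟩
    have hk : x * w * x⁻¹ * w⁻¹ ∈ f.ker := by
      rw [MonoidHom.mem_ker, map_mul, map_mul, map_mul, map_inv, map_inv,
        ← mem_centralizer_iff.mp hh (f w) ⟨w, hw, rfl⟩, mul_inv_cancel_right, mul_inv_cancel]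
    have := mul_mem (mem_sup_left hk : _ ∈ J) (mem_sup_right hw)
    simpa [inv_mul_cancel_right] using this
  have hW'2 : IsPGroup 2 W' := (isPGroup_of_klein hW).map _
  have hidx' : Odd W'.index := by
    rw [show W' = W.map (MulAut.conj x).toMonoidHom from rfl,
      index_map_of_bijective (MulEquiv.bijective _)]
    exact hidx
  have hsyl : ∀ U : Subgroup X, U ≤ J → Odd U.index → ¬ 2 ∣ (U.subgroupOf J).index :=
    fun U hUJ hU => by
      have : Odd (U.relIndex J) := Nat.Odd.of_mul_left ((relIndex_mul_index hUJ).symm ▸ hU)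
      rw [← even_iff_two_dvd]
      exact Nat.not_even_iff_odd.mpr this
  let P : Sylow 2 ↥J :=
    ((isPGroup_of_klein hW).of_equiv (subgroupOfEquivOfLe le_sup_right).symm).toSylow
      (hsyl W le_sup_right hidx)
  let Q : Sylow 2 ↥J := (hW'2.of_equiv (subgroupOfEquivOfLe hW').symm).toSylow
      (hsyl W' hW' hidx')
  obtain ⟨j, hj⟩ := MulAction.exists_smul_eq ↥J Q P
  obtain ⟨o, ho, w, hw, how⟩ := mem_sup_of_normal_left.mp (inv_mem j.2)
  -- `j` moves `x W x⁻¹` onto `W`
  have hmove : ∀ v ∈ W, (j : X) * (x * v * x⁻¹) * (j : X)⁻¹ ∈ W := fun v hv => by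
    have h1 : j * ⟨x * v * x⁻¹, hW' ⟨v, hv, rfl⟩⟩ * j⁻¹ ∈ ((j • Q : Sylow 2 ↥J) : Subgroup ↥J) :=
      ⟨⟨x * v * x⁻¹, hW' ⟨v, hv, rfl⟩⟩, mem_subgroupOf.mpr ⟨v, hv, rfl⟩, rfl⟩
    rw [hj] at h1
    exact mem_subgroupOf.mp h1
  have hfo : f (o⁻¹ * x) = f x := by
    rw [map_mul, map_inv, MonoidHom.mem_ker.mp ho, inv_one, one_mul]
  refine ⟨o⁻¹ * x, mem_centralizer_iff.mpr fun v hv => ?_, hfo⟩
  have hj' : (j : X) = w⁻¹ * o⁻¹ := by rw [← mul_inv_rev, how, inv_inv]
  have h1 : o⁻¹ * x * v * (o⁻¹ * x)⁻¹ ∈ W := by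
    have := mul_mem (mul_mem hw (hmove v hv)) (inv_mem hw)
    rw [hj'] at this
    convert this using 1
    group
  have h2 : o⁻¹ * x * v * (o⁻¹ * x)⁻¹ = v := injOn_four hodd hW h1 hv (by
    rw [map_mul f (o⁻¹ * x * v), map_inv f (o⁻¹ * x), map_mul f (o⁻¹ * x), hfo,
      ← mem_centralizer_iff.mp hh (f v) ⟨v, hv, rfl⟩, mul_inv_cancel_right])
  exact (mul_inv_eq_iff_eq_mul.mp h2).symm

/-- The Brauer–Wielandt formula in the kernel, for a fused four-group. -/
theorem bw (f : X →* H) (hodd : Odd (Nat.card f.ker))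
    {W : Subgroup X} (hW : IsKleinFour W) (hidx : Odd W.index) {r : X}
    (hr : r ∈ normalizer (W : Set X)) (hr' : r ∉ centralizer (W : Set X)) {a b : X}
    (hab : Pair W a b) :
    Nat.card ↥f.ker * Nat.card ↥(f.ker ⊓ centralizer (W : Set X)) ^ 2 =
      Nat.card ↥(f.ker ⊓ centralizer ({a} : Set X)) ^ 3 := by
  have hinv : ∀ u ∈ W, SmallCent88.OddInv f.ker u := fun u hu =>
    ⟨fun x hx => hodd.of_dvd_nat (Subgroup.orderOf_dvd_natCard f.ker hx), klein_sq hW hu,
      fun x hx => by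
        have := (MonoidHom.normal_ker f).conj_mem x hx u
        rwa [klein_inv hW hu] at this⟩
  have h := (hinv a hab.ha).card_formula (hinv b hab.hb) (klein_comm hW hab.ha hab.hb)
  have hfix : SmallCent88.fixIn (SmallCent88.fixIn f.ker a) b =
      f.ker ⊓ centralizer (W : Set X) := by
    ext x
    rw [SmallCent88.mem_fixIn, SmallCent88.mem_fixIn, mem_inf, mem_centralizer_iff]
    constructor
    · rintro ⟨⟨hx, h1⟩, h2⟩
      refine ⟨hx, fun y hy => ?_⟩
      rcases klein_cases hW hab hy with rfl | rfl | rfl | rfl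
      · rw [one_mul, mul_one]
      · exact h1.symm
      · exact h2.symm
      · exact ((show Commute x a from h1).mul_right (show Commute x b from h2)).eq.symm
    · rintro ⟨hx, hc⟩
      exact ⟨⟨hx, (hc a hab.ha).symm⟩, (hc b hab.hb).symm⟩
  have heq : ∀ u ∈ W, u ≠ 1 → Nat.card ↥(SmallCent88.fixIn f.ker u) =
      Nat.card ↥(f.ker ⊓ centralizer ({a} : Set X)) := by
    intro u hu u1
    obtain ⟨i, hi⟩ := rot_trans hW hidx hr hr' hab.ha hab.a1 hu u1
    have hmap : (f.ker ⊓ centralizer ({a} : Set X)).map (MulAut.conj (r ^ i)).toMonoidHom =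
        SmallCent88.fixIn f.ker u := by
      ext y
      rw [SmallCent88.mem_fixIn, mem_map]
      constructor
      · rintro ⟨z, ⟨hz, hza⟩, rfl⟩
        refine ⟨(MonoidHom.normal_ker f).conj_mem z hz _, ?_⟩
        rw [← hi]
        show MulAut.conj (r ^ i) z * MulAut.conj (r ^ i) a = MulAut.conj (r ^ i) a * MulAut.conj (r ^ i) z
        rw [← map_mul, mem_centralizer_singleton_iff.mp hza, map_mul]
      · rintro ⟨hy, hyu⟩
        refine ⟨(MulAut.conj (r ^ i)).symm y, ⟨?_, ?_⟩, (MulAut.conj (r ^ i)).apply_symm_apply y⟩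
        · show (r ^ i)⁻¹ * y * r ^ i ∈ f.ker
          simpa using (MonoidHom.normal_ker f).conj_mem y hy (r ^ i)⁻¹
        · refine mem_centralizer_singleton_iff.mpr ((MulAut.conj (r ^ i)).injective ?_)
          rw [map_mul, map_mul, MulEquiv.apply_symm_apply, MulAut.conj_apply, hi, hyu]
    rw [← hmap, card_map_of_injective (MulEquiv.injective _)]
  rw [hfix, heq a hab.ha hab.a1, heq b hab.hb hab.b1,
    heq (a * b) (mul_mem hab.ha hab.hb) (hab.third hW).b1] at h
  rw [h]
  ring

end Cfsg.Agent.GW66.Quot
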