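import Cfsg.Agent.GW66.QuotLib
import Cfsg.Agent.GW66.PSLDefs
import Mathlib.GroupTheory.SpecificGroups.Cyclic
import Mathlib.Data.Set.Card

/-!
# The quotient by the odd core: transport of the facts about `PSL(2, q)`
-/

set_option autoImplicit false
set_option linter.style.haveILetI false
set_option linter.unusedSectionVars false

namespace Cfsg.Agent.GW66.Quot

open Subgroup

universe u

/-- A group with a normal subgroup of odd index carrying the facts about `PSL(2, q)`. -/
structure Model {H : Type u} [Group H] [Finite H] (W N : Subgroup H) : Prop where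
  klein : IsKleinFour W
  idx : Odd W.index
  normal : N.Normal
  nidx : Odd N.index
  le : W ≤ N
  psl : KleinPSL (W.subgroupOf N)

variable {H : Type u} [Group H] [Finite H] {W N : Subgroup H}

theorem Model.mem_of_sq (h : Model W N) {t : H} (ht : t * t = 1) : t ∈ N := by
  haveI := h.normal
  obtain ⟨m, hm⟩ := h.nidx
  have h1 := N.pow_index_mem t
  rwa [hm, pow_succ, pow_mul, pow_two, ht, one_pow, one_mul] at h1

theorem Model.mem_of_orderOf_two (h : Model W N) {t : H} (ht : orderOf t = 2) : t ∈ N :=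
  h.mem_of_sq (by rw [← pow_two, ← ht, pow_orderOf_eq_one])

theorem Model.mem_of_inverted (h : Model W N) {b x : H} (hb : b ∈ W) (hx : Odd (orderOf x))
    (hinv : b * x * b⁻¹ = x⁻¹) : x ∈ N := by
  haveI := h.normal
  have h1 : b * (x * b⁻¹ * x⁻¹) ∈ N :=
    mul_mem (h.le hb) (Normal.conj_mem h.normal _ (inv_mem (h.le hb)) x)
  have h2 : x ^ 2 ∈ N := by
    rw [show b * (x * b⁻¹ * x⁻¹) = b * x * b⁻¹ * x⁻¹ by group, hinv, ← mul_inv_rev, ← pow_two] at h1
    exact inv_mem_iff.mp h1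
  obtain ⟨l, hl⟩ := hx
  have : x = (x ^ 2) ^ (l + 1) := by
    rw [← pow_mul, show 2 * (l + 1) = orderOf x + 1 by omega, pow_succ, pow_orderOf_eq_one, one_mul]
  rw [this]
  exact pow_mem h2 _

theorem Model.exists_rot (h : Model W N) :
    ∃ r ∈ N, r ∈ normalizer (W : Set H) ∧ r ∉ centralizer (W : Set H) := by
  obtain ⟨r, hr, hr'⟩ := h.psl.rot
  refine ⟨r, r.2, mem_normalizer_iff.mpr fun y => ⟨fun hy => ?_, fun hy => ?_⟩, fun hc => hr' ?_⟩
  · exact mem_subgroupOf.mp ((mem_normalizer_iff.mp hr ⟨y, h.le hy⟩).mp (mem_subgroupOf.mpr hy))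
  · have hyN : y ∈ N := by
      have := mul_mem (mul_mem (inv_mem r.2) (h.le hy)) r.2
      rwa [show ((r : H))⁻¹ * ((r : H) * y * (r : H)⁻¹) * r = y by group] at this
    exact mem_subgroupOf.mp ((mem_normalizer_iff.mp hr ⟨y, hyN⟩).mpr (mem_subgroupOf.mpr hy))
  · rw [mem_centralizer_iff]
    intro y hy
    exact Subtype.ext (mem_centralizer_iff.mp hc y hy)

theorem Model.conj_invol (h : Model W N) {a : H} (ha : a ∈ W) (a1 : a ≠ 1) {t : H}
    (ht : orderOf t = 2) : ∃ g : H, g * a * g⁻¹ = t := by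
  obtain ⟨r, -, hr, hr'⟩ := h.exists_rot
  exact invol_conj h.klein h.idx hr hr' ha a1 ht

theorem Model.sup_cent (h : Model W N) : centralizer (W : Set H) ⊔ N = ⊤ := by
  haveI := h.normal
  haveI : Fact (Nat.Prime 2) := ⟨Nat.prime_two⟩
  obtain ⟨r, hrN, hr, hr'⟩ := h.exists_rot
  obtain ⟨a, ha, a1⟩ : ∃ a ∈ W, a ≠ 1 := by
    by_contra hcon
    push Not at hcon
    have := h.klein.card_four
    rw [(eq_bot_iff_forall W).mpr hcon, card_bot] at this
    omega
  have hP : IsPGroup 2 ↥(W.subgroupOf N) :=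
    (isPGroup_of_klein h.klein).of_equiv (subgroupOfEquivOfLe h.le).symm
  let P : Sylow 2 ↥N := hP.toSylow (not_two_dvd_index h.psl.sylow)
  have hPW : (P : Subgroup ↥N).map N.subtype = W :=
    (subgroupOf_map_subtype W N).trans (inf_eq_left.mpr h.le)
  have hF := Sylow.normalizer_sup_eq_top P
  rw [hPW] at hF
  rw [eq_top_iff, ← hF, sup_le_iff]
  refine ⟨fun g hg => ?_, le_sup_right⟩
  have hga : g * a * g⁻¹ ∈ W := (mem_normalizer_iff.mp hg a).mp ha
  obtain ⟨i, hi⟩ := rot_trans h.klein h.idx hr hr' ha a1 hga fun e => a1 (conj_eq_one_iff.mp e)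
  have hc : (r ^ i)⁻¹ * g ∈ centralizer (W : Set H) := by
    refine centralizes_of_fix h.klein h.idx (mul_mem (inv_mem (pow_mem hr i)) hg) ha a1
      (mul_inv_eq_iff_eq_mul.mp ?_)
    rw [show (r ^ i)⁻¹ * g * a * ((r ^ i)⁻¹ * g)⁻¹ = (r ^ i)⁻¹ * (g * a * g⁻¹) * r ^ i by group,
      ← hi]
    group
  rw [show g = (r ^ i) * ((r ^ i)⁻¹ * g) by group]
  exact mul_mem (mem_sup_right (pow_mem hrN i)) (mem_sup_left hc)

/-- The torus of an involution of `W`, in the big group. -/
theorem Model.torus (h : Model W N) {a : H} (ha : a ∈ W) (a1 : a ≠ 1) : ∃ T : Subgroup H,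
    IsCyclic ↥T ∧ Odd (Nat.card ↥T) ∧
      Nat.card ↥(centralizer ({a} : Set H)) = Nat.card ↥(centralizer (W : Set H)) * Nat.card ↥T ∧
      (∀ x : H, x ∈ T ↔ x ∈ N ∧ Odd (orderOf x) ∧ x * a = a * x) ∧
      (3 ≤ Nat.card ↥T →
        24 * Nat.card ↥(centralizer (W : Set H)) * Nat.card ↥T ^ 3 < 4 * Nat.card H ∧
          6 * Nat.card ↥T ^ 2 + 1 ≤ {t : H | orderOf t = 2}.ncard) := by
  haveI := h.normal
  have h2 := klein_orderOf h.klein ha a1
  obtain ⟨T, hcyc, hodd, hcard, hmem, hbd⟩ :=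
    h.psl.torus ⟨a, h.le ha⟩ (by rw [← orderOf_coe]; exact h2)
  have hT : Nat.card ↥(T.map N.subtype) = Nat.card ↥T :=
    card_map_of_injective N.subtype_injective
  -- centralisers in the two groups
  have hN : (centralizer ({⟨a, h.le ha⟩} : Set ↥N)).map N.subtype =
      centralizer ({a} : Set H) ⊓ N := by
    ext y
    rw [mem_map, mem_inf]
    constructor
    · rintro ⟨z, hz, rfl⟩
      exact ⟨mem_centralizer_singleton_iff.mpr
        (congrArg Subtype.val (mem_centralizer_singleton_iff.mp hz)), z.2⟩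
    · rintro ⟨hy, hyN⟩
      exact ⟨⟨y, hyN⟩, mem_centralizer_singleton_iff.mpr
        (Subtype.ext (mem_centralizer_singleton_iff.mp hy)), rfl⟩
  have hWN : centralizer (W : Set H) ⊓ N = W := by
    refine le_antisymm (fun y hy => ?_) (le_inf (le_centralizer_self h.klein) h.le)
    have hy' : (⟨y, hy.2⟩ : ↥N) ∈ centralizer (W.subgroupOf N : Set ↥N) :=
      mem_centralizer_iff.mpr fun z hz => Subtype.ext (mem_centralizer_iff.mp hy.1 z hz)
    rw [h.psl.self] at hy'
    exact hy'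
  have e1 := card_mul_of_sup_eq_top h.sup_cent
  rw [hWN, h.klein.card_four] at e1
  have hle : centralizer (W : Set H) ≤ centralizer ({a} : Set H) :=
    centralizer_le (Set.singleton_subset_iff.mpr ha)
  have e2 := card_mul_of_sup_eq_top
    (eq_top_iff.mpr (h.sup_cent ▸ sup_le_sup_right hle N) : centralizer ({a} : Set H) ⊔ N = ⊤)
  rw [← hN, card_map_of_injective N.subtype_injective, hcard] at e2
  refine ⟨T.map N.subtype,
    (by
      haveI := hcyc
      exact isCyclic_of_surjective (T.equivMapOfInjective _ N.subtype_injective).toMonoidHom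
        (MulEquiv.surjective _)), by rw [hT]; exact hodd, ?_, fun x => ?_, fun h3 => ?_⟩
  · rw [hT]
    refine Nat.eq_of_mul_eq_mul_right (Nat.card_pos : 0 < Nat.card N) ?_
    rw [e2, mul_right_comm, e1]
    ring
  · rw [mem_map]
    constructor
    · rintro ⟨z, hz, rfl⟩
      obtain ⟨ho, hc⟩ := (hmem z).mp hz
      exact ⟨z.2, by rw [subtype_apply, orderOf_coe]; exact ho, congrArg Subtype.val hc⟩
    · rintro ⟨hxN, ho, hc⟩
      exact ⟨⟨x, hxN⟩, (hmem _).mpr ⟨by rw [← orderOf_coe]; exact ho, Subtype.ext hc⟩, rfl⟩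
  · rw [hT] at h3 ⊢
    obtain ⟨hb1, hb2⟩ := hbd h3
    refine ⟨?_, hb2.trans ?_⟩
    · refine Nat.lt_of_mul_lt_mul_right (a := Nat.card N) ?_
      calc 24 * Nat.card ↥(centralizer (W : Set H)) * Nat.card T ^ 3 * Nat.card N
          = 4 * Nat.card H * (24 * Nat.card T ^ 3) := by
            rw [show 24 * Nat.card ↥(centralizer (W : Set H)) * Nat.card T ^ 3 * Nat.card N =
              24 * Nat.card T ^ 3 * (Nat.card ↥(centralizer (W : Set H)) * Nat.card N) by ring, e1]
            ring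
        _ < 4 * Nat.card H * Nat.card N :=
            Nat.mul_lt_mul_of_pos_left hb1 (Nat.mul_pos (by norm_num) Nat.card_pos)
    · -- the conjugates of `a`
      rw [← Nat.card_coe_set_eq]
      have hconj : ∀ n : ↥N, orderOf ((n : H) * a * (n : H)⁻¹) = 2 := fun n => by
        rw [← h2]; exact MulEquiv.orderOf_eq (MulAut.conj (n : H)) a
      let e : (↥N ⧸ centralizer ({(⟨a, h.le ha⟩ : ↥N)} : Set ↥N)) → ↥({t : H | orderOf t = 2}) :=
        fun q => ⟨((q.out : ↥N) : H) * a * ((q.out : ↥N) : H)⁻¹, hconj q.out⟩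
      refine Nat.card_le_card_of_injective e ?_
      intro q q' he
      have he' : ((q.out : ↥N) : H) * a * ((q.out : ↥N) : H)⁻¹ =
          ((q'.out : ↥N) : H) * a * ((q'.out : ↥N) : H)⁻¹ := congrArg Subtype.val he
      rw [← Quotient.out_eq q, ← Quotient.out_eq q']
      refine QuotientGroup.eq.mpr (mem_centralizer_singleton_iff.mpr (Subtype.ext ?_))
      show ((q.out : ↥N) : H)⁻¹ * (q'.out : ↥N) * a = a * (((q.out : ↥N) : H)⁻¹ * (q'.out : ↥N))
      calc ((q.out : ↥N) : H)⁻¹ * (q'.out : ↥N) * a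
          = ((q.out : ↥N) : H)⁻¹ * (((q'.out : ↥N) : H) * a * ((q'.out : ↥N) : H)⁻¹) *
              (q'.out : ↥N) := by group
        _ = _ := by rw [← he']; group

theorem Model.ti (h : Model W N) {x t t' : H} (hxN : x ∈ N) (x1 : x ≠ 1)
    (hx : Odd (orderOf x)) (ht : orderOf t = 2) (ht' : orderOf t' = 2) (hc : x * t = t * x)
    (hc' : x * t' = t' * x) : t = t' :=
  congrArg Subtype.val (h.psl.ti ⟨x, hxN⟩ ⟨t, h.mem_of_orderOf_two ht⟩
    ⟨t', h.mem_of_orderOf_two ht'⟩ (fun e => x1 (congrArg Subtype.val e))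
    (by rw [← orderOf_coe]; exact hx) (by rw [← orderOf_coe]; exact ht)
    (by rw [← orderOf_coe]; exact ht') (Subtype.ext hc) (Subtype.ext hc'))

/-- The involutions whose torus meets a subgroup of odd order through `x`. -/
def badSet (N : Subgroup H) (x : H) : Set H :=
  {t : H | orderOf t = 2 ∧ ∃ g ∈ N, g ≠ 1 ∧ Odd (orderOf g) ∧ g * t = t * g ∧
    ∃ L : Subgroup H, L ≤ N ∧ Odd (Nat.card ↥L) ∧ Group.IsSolvable ↥L ∧ x ∈ L ∧ g ∈ L}

theorem Model.borel (h : Model W N) {x a : H} (hxN : x ∈ N) (x1 : x ≠ 1) (hx : Odd (orderOf x))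
    (ha : orderOf a = 2) (hc : x * a = a * x) :
    3 * (badSet N x).ncard ≤ {t : H | orderOf t = 2}.ncard := by
  have hb := h.psl.borel ⟨x, hxN⟩ ⟨a, h.mem_of_orderOf_two ha⟩
    (fun e => x1 (congrArg Subtype.val e)) (by rw [← orderOf_coe]; exact hx)
    (by rw [← orderOf_coe]; exact ha) (Subtype.ext hc)
  have hinv : {t : H | orderOf t = 2} = Subtype.val '' {t : ↥N | orderOf t = 2} := by
    ext t
    constructor
    · exact fun ht => ⟨⟨t, h.mem_of_orderOf_two ht⟩, by
        show orderOf _ = 2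
        rw [← orderOf_coe]; exact ht, rfl⟩
    · rintro ⟨t, ht, rfl⟩
      show orderOf _ = 2
      rw [orderOf_coe]; exact ht
  rw [hinv, Set.ncard_image_of_injective _ Subtype.val_injective]
  refine le_trans (Nat.mul_le_mul_left 3 ?_) hb
  rw [← Set.ncard_image_of_injective _ (Subtype.val_injective (p := (· ∈ N)))]
  refine Set.ncard_le_ncard (fun t ht => ?_) (Set.toFinite _)
  obtain ⟨ht2, g, hgN, g1, hgo, hgt, L, hLN, hLodd, hLs, hxL, hgL⟩ := ht
  haveI := hLs
  refine ⟨⟨t, h.mem_of_orderOf_two ht2⟩, ⟨by rw [← orderOf_coe]; exact ht2, ⟨g, hgN⟩,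
    fun e => g1 (congrArg Subtype.val e), by rw [← orderOf_coe]; exact hgo, Subtype.ext hgt,
    L.subgroupOf N, ?_, ?_, hxL, hgL⟩, rfl⟩
  · rw [Nat.card_congr (subgroupOfEquivOfLe hLN).toEquiv]; exact hLodd
  · exact solvable_of_surjective (f := (subgroupOfEquivOfLe hLN).symm.toMonoidHom)
      (MulEquiv.surjective _)

/-- In a finite cyclic group an element is a power of any element of a multiple order. -/
theorem exists_pow_of_orderOf_dvd {T : Type*} [Group T] [Finite T] (hT : IsCyclic T) {x y : T}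
    (h : orderOf x ∣ orderOf y) : ∃ n : ℕ, y ^ n = x := by
  classical
  haveI := Fintype.ofFinite T
  have hle : Nat.card {z : T // z ^ orderOf y = 1} ≤ Nat.card (zpowers y) := by
    rw [Nat.card_zpowers, Nat.card_eq_fintype_card, Fintype.card_subtype]
    exact IsCyclic.card_pow_eq_one_le (orderOf_pos y)
  let e : zpowers y → {z : T // z ^ orderOf y = 1} := fun z =>
    ⟨z, orderOf_dvd_iff_pow_eq_one.mp ((Subgroup.orderOf_dvd_natCard (zpowers y) z.2).trans (Nat.card_zpowers y).dvd)⟩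
  have hinj : Function.Injective e := fun z w he => by
    have h' := congrArg Subtype.val he
    exact Subtype.ext h'
  obtain ⟨z, hz⟩ := (hinj.bijective_of_nat_card_le hle).2 ⟨x, orderOf_dvd_iff_pow_eq_one.mp h⟩
  obtain ⟨n, hn⟩ := mem_powers_iff_mem_zpowers.mpr z.2
  exact ⟨n, hn.trans (congrArg Subtype.val hz)⟩

theorem mul_comm_of_cyclic {T : Subgroup H} (hT : IsCyclic ↥T) {x y : H} (hx : x ∈ T)
    (hy : y ∈ T) : x * y = y * x := by
  obtain ⟨g, hg⟩ := hT.exists_generator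
  obtain ⟨i, hi⟩ := hg ⟨x, hx⟩
  obtain ⟨j, hj⟩ := hg ⟨y, hy⟩
  have : (g ^ i) * (g ^ j) = (g ^ j) * (g ^ i) := by rw [← zpow_add, ← zpow_add, add_comm]
  simp only at hi hj
  rw [hi, hj] at this
  exact congrArg Subtype.val this

end Cfsg.Agent.GW66.Quot
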