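import Cfsg.Agent.GW66.QuotLift

/-!
# Setup for `Quot.lean`: the quotient map of a fused proper subgroup
-/

set_option autoImplicit false
set_option linter.style.haveILetI false
set_option linter.unusedSectionVars false

namespace Cfsg.Agent.GW66.Quot

open Subgroup

universe u

/-- A fused subgroup `M` with its quotient by the odd core. -/
structure Setup {G : Type u} [Group G] [Finite G] (M V : Subgroup G) {H : Type u} [Group H]
    [Finite H] (f : ↥M →* H) (N : Subgroup H) : Prop where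
  klein : IsKleinFour V
  sylow : Odd V.index
  le : V ≤ M
  fused : Fused M V
  surj : Function.Surjective f
  ker : ∀ x : ↥M, f x = 1 ↔ (x : G) ∈ coreO M
  model : Model ((V.subgroupOf M).map f) N

variable {G : Type u} [Group G] [Finite G] {M V : Subgroup G}

theorem exists_setup (hP : PSLFactsStmt.{u}) (hc : Ctx V) (hMt : M ≠ ⊤) (hVM : V ≤ M)
    (hfus : Fused M V) :
    ∃ N : Subgroup (↥M ⧸ Cfsg.oddCore ↥M),
      Setup M V (QuotientGroup.mk' (Cfsg.oddCore ↥M)) N := by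
  obtain ⟨N, hN, hNi, F, _, _, hF, hiso⟩ := hc.ind M hMt hVM hfus
  haveI := hN
  set f := QuotientGroup.mk' (Cfsg.oddCore ↥M) with hf
  have hker : ∀ x : ↥M, f x = 1 ↔ (x : G) ∈ coreO M := fun x => by
    rw [hf, QuotientGroup.mk'_apply, QuotientGroup.eq_one_iff, coreO]
    constructor
    · exact fun h => ⟨x, h, rfl⟩
    · rintro ⟨y, hy, hyx⟩
      rwa [← Subtype.ext hyx]
  have hodd : Odd (Nat.card f.ker) := by
    rw [hf, QuotientGroup.ker_mk']
    exact Nat.coprime_two_right.mp Thompson.card_pPrimeCore_coprime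
  -- the image of `V`
  have e0 : ↥(V.subgroupOf M) ≃* ↥V := subgroupOfEquivOfLe hVM
  have hW : IsKleinFour ↥(V.subgroupOf M) :=
    ⟨(Nat.card_congr e0.toEquiv).trans hc.klein.card_four,
      (Monoid.exponent_eq_of_mulEquiv e0).trans hc.klein.exponent_two⟩
  have hinj : Function.Injective (f.subgroupMap (V.subgroupOf M)) := fun u v he =>
    Subtype.ext (injOn_four hodd hW u.2 v.2 (congrArg Subtype.val he))
  have e1 : ↥(V.subgroupOf M) ≃* ↥((V.subgroupOf M).map f) :=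
    MulEquiv.ofBijective _ ⟨hinj, MonoidHom.subgroupMap_surjective _ _⟩
  have hW' : IsKleinFour ↥((V.subgroupOf M).map f) :=
    ⟨(Nat.card_congr e1.toEquiv).symm.trans hW.card_four,
      (Monoid.exponent_eq_of_mulEquiv e1).symm.trans hW.exponent_two⟩
  have hidx0 : Odd (V.subgroupOf M).index :=
    (Nat.Odd.of_mul_left ((relIndex_mul_index hVM).symm ▸ hc.sylow) : Odd (V.relIndex M))
  have hidx : Odd ((V.subgroupOf M).map f).index :=
    hidx0.of_dvd_nat (index_map_dvd _ (QuotientGroup.mk'_surjective _))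
  -- `N` contains it
  have hle : (V.subgroupOf M).map f ≤ N := fun t ht => by
    obtain ⟨m, hm⟩ := hNi
    have h1 := N.pow_index_mem t
    rwa [hm, pow_succ, pow_mul, pow_two, klein_sq hW' ht, one_pow, one_mul] at h1
  have hW'' : IsKleinFour ↥(((V.subgroupOf M).map f).subgroupOf N) :=
    ⟨(Nat.card_congr (subgroupOfEquivOfLe hle).toEquiv).trans hW'.card_four,
      (Monoid.exponent_eq_of_mulEquiv (subgroupOfEquivOfLe hle)).trans hW'.exponent_two⟩
  exact ⟨N, hc.klein, hc.sylow, hVM, hfus, QuotientGroup.mk'_surjective _, hker,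
    ⟨hW', hidx, hN, hNi, hle, hP ↥N F hF hiso _ hW''⟩⟩

variable {H : Type u} [Group H] [Finite H] {f : ↥M →* H} {N : Subgroup H}

theorem Setup.mem_ker (s : Setup M V f N) {x : ↥M} : x ∈ f.ker ↔ (x : G) ∈ coreO M :=
  MonoidHom.mem_ker.trans (s.ker x)

theorem Setup.ker_eq (s : Setup M V f N) : f.ker = (coreO M).subgroupOf M :=
  Subgroup.ext fun _ => s.mem_ker

theorem Setup.odd_ker (s : Setup M V f N) : Odd (Nat.card f.ker) := by
  rw [s.ker_eq, Nat.card_congr (subgroupOfEquivOfLe (coreO_le M)).toEquiv]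
  exact odd_card_coreO M

theorem Setup.klein_sub (s : Setup M V f N) : IsKleinFour ↥(V.subgroupOf M) :=
  ⟨(Nat.card_congr (subgroupOfEquivOfLe s.le).toEquiv).trans s.klein.card_four,
    (Monoid.exponent_eq_of_mulEquiv (subgroupOfEquivOfLe s.le)).trans s.klein.exponent_two⟩

theorem Setup.idx_sub (s : Setup M V f N) : Odd (V.subgroupOf M).index :=
  (Nat.Odd.of_mul_left ((relIndex_mul_index s.le).symm ▸ s.sylow) : Odd (V.relIndex M))

theorem Setup.mem_map (s : Setup M V f N) {a : G} (ha : a ∈ V) :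
    f ⟨a, s.le ha⟩ ∈ (V.subgroupOf M).map f := ⟨⟨a, s.le ha⟩, ha, rfl⟩

theorem Setup.map_ne_one (s : Setup M V f N) {a : G} (ha : a ∈ V) (a1 : a ≠ 1) :
    f ⟨a, s.le ha⟩ ≠ 1 := fun h =>
  a1 (congrArg Subtype.val (eq_one_of_ker s.odd_ker s.klein_sub (u := ⟨a, s.le ha⟩) ha
    (MonoidHom.mem_ker.mpr h)))

theorem Setup.map_two (s : Setup M V f N) {a : G} (ha : a ∈ V) (a1 : a ≠ 1) :
    orderOf (f ⟨a, s.le ha⟩) = 2 :=
  klein_orderOf s.model.klein (s.mem_map ha) (s.map_ne_one ha a1)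

theorem Setup.exists_rot (s : Setup M V f N) :
    ∃ r : ↥M, r ∈ normalizer (V.subgroupOf M : Set ↥M) ∧
      r ∉ centralizer (V.subgroupOf M : Set ↥M) := by
  obtain ⟨g, hgM, hg, hg'⟩ := s.fused
  refine ⟨⟨g, hgM⟩, mem_normalizer_iff.mpr fun y => ?_, fun h => hg' ?_⟩
  · simp only [mem_subgroupOf, Subgroup.coe_mul, Subgroup.coe_inv]
    exact mem_normalizer_iff.mp hg y
  · exact mem_centralizer_iff.mpr fun v hv =>
      congrArg Subtype.val (mem_centralizer_iff.mp h ⟨v, s.le hv⟩ (mem_subgroupOf.mpr hv))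

theorem Setup.eq_of_coreO (s : Setup M V f N) {g x : G} (hg : g ∈ M) (hx : x ∈ M)
    (h : g * x⁻¹ ∈ coreO M) : f ⟨g, hg⟩ = f ⟨x, hx⟩ := by
  have := (s.ker (⟨g, hg⟩ * ⟨x, hx⟩⁻¹)).mpr h
  rwa [map_mul, map_inv, mul_inv_eq_one] at this

theorem Setup.coreO_of_eq (s : Setup M V f N) {g x : G} (hg : g ∈ M) (hx : x ∈ M)
    (h : f ⟨g, hg⟩ = f ⟨x, hx⟩) : g * x⁻¹ ∈ coreO M :=
  (s.ker (⟨g, hg⟩ * ⟨x, hx⟩⁻¹)).mp (by rw [map_mul, map_inv, h, mul_inv_cancel])

/-- The image of an inverted element lies in `N`, commutes with the image of `a`, is of odd order. -/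
theorem Setup.inv_image (s : Setup M V f N) {a b x : G} (hab : Pair V a b)
    (hx : x ∈ invSet M a b) :
    f ⟨x, hx.1⟩ ∈ N ∧ Odd (orderOf (f ⟨x, hx.1⟩)) ∧
      f ⟨x, hx.1⟩ * f ⟨a, s.le hab.ha⟩ = f ⟨a, s.le hab.ha⟩ * f ⟨x, hx.1⟩ := by
  have ho : Odd (orderOf (f ⟨x, hx.1⟩)) := orderOf_map_odd f (by
    rw [← orderOf_coe]; exact hx.2.1)
  refine ⟨s.model.mem_of_inverted (s.mem_map hab.hb) ho ?_, ho, ?_⟩
  · rw [← map_inv, ← map_mul, ← map_mul, ← map_inv]
    exact congrArg f (Subtype.ext hx.2.2.2)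
  · rw [← map_mul, ← map_mul]
    exact congrArg f (Subtype.ext hx.2.2.1)

/-- Conjugates under coset representatives of the involutions: injectivity. -/
theorem Setup.moves (s : Setup M V f N) {a : G} (ha : a ∈ V) (a1 : a ≠ 1) :
    ∃ m : H → ↥M, ∀ t : H, orderOf t = 2 →
      f (m t) * f ⟨a, s.le ha⟩ * (f (m t))⁻¹ = t := by
  classical
  have : ∀ t : H, ∃ x : ↥M, orderOf t = 2 → f x * f ⟨a, s.le ha⟩ * (f x)⁻¹ = t := fun t => by
    by_cases ht : orderOf t = 2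
    · obtain ⟨g, hg⟩ := s.model.conj_invol (s.mem_map ha) (s.map_ne_one ha a1) ht
      obtain ⟨x, rfl⟩ := s.surj g
      exact ⟨x, fun _ => hg⟩
    · exact ⟨1, fun h => absurd h ht⟩
  choose m hm using this
  exact ⟨m, hm⟩

/-- Elements of `M` whose image is non-trivial, of odd order, in `N` and commutes with `a`. -/
def toral (M : Subgroup G) {H : Type u} [Group H] (f : ↥M →* H) (N : Subgroup H) (a : ↥M) :
    Set G :=
  {g | ∃ hg : g ∈ M, f ⟨g, hg⟩ ∈ N ∧ f ⟨g, hg⟩ ≠ 1 ∧ Odd (orderOf (f ⟨g, hg⟩)) ∧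
    f ⟨g, hg⟩ * f a = f a * f ⟨g, hg⟩}

theorem Setup.injOn (s : Setup M V f N) {a : G} (ha : a ∈ V) {m : H → ↥M}
    (hm : ∀ t : H, orderOf t = 2 → f (m t) * f ⟨a, s.le ha⟩ * (f (m t))⁻¹ = t) {P : Set H}
    (hP : ∀ t ∈ P, orderOf t = 2) {S : Set G} (hS : S ⊆ toral M f N ⟨a, s.le ha⟩) :
    ((fun u : H × G => (m u.1 : G) * u.2 * (m u.1 : G)⁻¹) '' P ×ˢ S).ncard =
      P.ncard * S.ncard := by
  rw [Set.InjOn.ncard_image, Set.ncard_prod]
  rintro ⟨t, g⟩ ⟨ht, hg⟩ ⟨t', g'⟩ ⟨ht', hg'⟩ he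
  dsimp only at ht hg ht' hg' he
  obtain ⟨hgM, hN, h1, ho, hc⟩ := hS hg
  obtain ⟨hgM', hN', -, -, hc'⟩ := hS hg'
  have hf : f (m t) * f ⟨g, hgM⟩ * (f (m t))⁻¹ = f (m t') * f ⟨g', hgM'⟩ * (f (m t'))⁻¹ := by
    rw [← map_inv, ← map_inv, ← map_mul, ← map_mul, ← map_mul, ← map_mul]
    exact congrArg f (Subtype.ext he)
  have key : ∀ {t : H}, orderOf t = 2 → ∀ {u : H}, u * f ⟨a, s.le ha⟩ = f ⟨a, s.le ha⟩ * u →
      f (m t) * u * (f (m t))⁻¹ * t = t * (f (m t) * u * (f (m t))⁻¹) := fun {t} ht {u} hu => by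
    have h' : MulAut.conj (f (m t)) u * MulAut.conj (f (m t)) (f ⟨a, s.le ha⟩) =
        MulAut.conj (f (m t)) (f ⟨a, s.le ha⟩) * MulAut.conj (f (m t)) u := by
      rw [← map_mul, hu, map_mul]
    simp only [MulAut.conj_apply, hm _ ht] at h'
    exact h'
  have k1 := key (hP t ht) hc
  have k2 := key (hP t' ht') hc'
  rw [← hf] at k2
  have := s.model.ti (s.model.normal.conj_mem _ hN _) (fun e => h1 (conj_eq_one_iff.mp e))
    (by
      rw [show f (m t) * f ⟨g, hgM⟩ * (f (m t))⁻¹ = MulAut.conj (f (m t)) (f ⟨g, hgM⟩) from rfl,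
        MulEquiv.orderOf_eq]
      exact ho)
    (hP t ht) (hP t' ht') k1 k2
  subst this
  exact Prod.ext rfl (mul_left_cancel (mul_right_cancel he))

end Cfsg.Agent.GW66.Quot
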