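import Cfsg.Agent.GW66.Main
import Cfsg.Agent.GW66.Quot
import Cfsg.Agent.GW66.Alpha
import Cfsg.Agent.GW66.Base
import Cfsg.Agent.GW66.Beta
import Cfsg.Agent.GW66.CharHalf
import Cfsg.Agent.GW66.Cons
import Cfsg.Agent.GW66.Dormant
import Cfsg.Agent.GW66.Former
import Cfsg.Agent.GW66.Local

/-!
# Wiring: `KleinStmt` from the facts on `PSL(2, q)`, the strongly embedded case and separation
-/

set_option autoImplicit false

namespace Cfsg.Agent.GW66

universe u

theorem klein_of_facts (hP : PSLFactsStmt.{u}) (hSE : SEKillStmt.{u}) (hSep : SepStmt.{u}) :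
    KleinStmt.{u} :=
  have hTop := top_of_facts hP
  have hNC := negCyclic hTop
  kleinStmt
    (local_ (dormant hTop (base hTop hSE)) fusedCent hNC (former hTop fusedCent hNC)
      (alpha hTop fusedCent hNC orderStmt) (beta hTop fusedCent hNC orderStmt))
    (charKill_of_sep hSep hSE)

end Cfsg.Agent.GW66
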